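import Cfsg.Agent.Lib.L43Three.Defs

/-!
# The assembly of the pieces of statement S3373
-/

set_option autoImplicit false
set_option maxRecDepth 100000

namespace CfsgLib.L43Three

open Subgroup

universe u

theorem zL_comm (a b c d e : ZMod 3) : zL * qel a b c d e = qel a b c d e * zL := by
  rw [zL, qel, qel, ← map_mul, ← map_mul]
  refine congrArg mk (Subtype.ext ?_)
  simp only [Matrix.SpecialLinearGroup.coe_mul]
  ext i j
  fin_cases i <;> fin_cases j <;> simp [qS, qM, Matrix.mul_apply, Fin.sum_univ_four] <;> ring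

theorem qS_cube (a b c d e : ZMod 3) : qS a b c d e * qS a b c d e * qS a b c d e = 1 := by
  apply Subtype.ext
  simp only [Matrix.SpecialLinearGroup.coe_mul, Matrix.SpecialLinearGroup.coe_one]
  revert a b c d e
  decide +kernel

variable {G : Type u} [Group G]

theorem Full.conj_mem (X : Full G) {g : G} {x : L4} (hx : IsConj zL x)
    (hg : g * X.ι x * g⁻¹ ∈ X.ι.range) : g ∈ X.ι.range := by
  obtain ⟨y, hy⟩ := hg
  obtain ⟨h, hh⟩ := isConj_iff.1 hx
  subst hh
  obtain ⟨k, hk⟩ := isConj_iff.1 (X.fus y (isConj_iff.2 ⟨g * X.ι h, by rw [hy, map_mul, map_mul, map_inv]; group⟩))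
  rw [← hk] at hy
  have hc : (X.ι k)⁻¹ * g * X.ι h ∈ centralizer ({X.ι zL} : Set G) := by
    rw [mem_centralizer_singleton_iff]
    rw [map_mul, map_mul, map_inv, map_mul, map_mul, map_inv] at hy
    calc (X.ι k)⁻¹ * g * X.ι h * X.ι zL
        = (X.ι k)⁻¹ * (g * (X.ι h * X.ι zL * (X.ι h)⁻¹) * g⁻¹) * g * X.ι h := by group
      _ = X.ι zL * ((X.ι k)⁻¹ * g * X.ι h) := by rw [← hy]; group
  obtain ⟨c, hc'⟩ := X.cent_z hc
  refine ⟨k * c * h⁻¹, ?_⟩
  rw [map_mul, map_mul, map_inv, hc']; group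

theorem Full.strong (X : Full G) (hM : StmtModelThree)
    (hj : centralizer ({X.ι j3L} : Set G) ≤ X.ι.range)
    (hw : centralizer ({X.ι wpL} : Set G) ≤ X.ι.range ∧ centralizer ({X.ι wmL} : Set G) ≤ X.ι.range) :
    Strong X := by
  have h1 : ∀ x : L4, orderOf x = 3 → centralizer ({X.ι x} : Set G) ≤ X.ι.range ∧
      ∃ z', IsConj zL z' ∧ z' * x = x * z' := by
    intro x hx
    have key : ∀ r : L4, IsConj r x → centralizer ({X.ι r} : Set G) ≤ X.ι.range → zL * r = r * zL →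
        centralizer ({X.ι x} : Set G) ≤ X.ι.range ∧ ∃ z', IsConj zL z' ∧ z' * x = x * z' := by
      intro r hr hc hz
      obtain ⟨h, rfl⟩ := isConj_iff.1 hr
      refine ⟨fun g hg => ?_, h * zL * h⁻¹, isConj_iff.2 ⟨h, rfl⟩, ?_⟩
      · have hm : (X.ι h)⁻¹ * g * X.ι h ∈ centralizer ({X.ι r} : Set G) := by
          rw [mem_centralizer_singleton_iff] at hg ⊢
          rw [map_mul, map_mul, map_inv] at hg
          calc (X.ι h)⁻¹ * g * X.ι h * X.ι r
              = (X.ι h)⁻¹ * (g * (X.ι h * X.ι r * (X.ι h)⁻¹)) * X.ι h := by group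
            _ = X.ι r * ((X.ι h)⁻¹ * g * X.ι h) := by rw [hg]; group
        obtain ⟨c, hc'⟩ := hc hm
        exact ⟨h * c * h⁻¹, by rw [map_mul, map_mul, map_inv, hc']; group⟩
      · calc h * zL * h⁻¹ * (h * r * h⁻¹) = h * (zL * r) * h⁻¹ := by group
          _ = h * r * h⁻¹ * (h * zL * h⁻¹) := by rw [hz]; group
    rcases hM.1 x hx with h | h | h | h
    · exact key zL h X.cent_z rfl
    · exact key wpL h hw.1 (zL_comm _ _ _ _ _)
    · exact key wmL h hw.2 (zL_comm _ _ _ _ _)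
    · exact key j3L h hj (zL_comm _ _ _ _ _)
  refine ⟨fun x hx => (h1 x hx).1, fun g x hx hg => ?_⟩
  obtain ⟨y, hy⟩ := hg
  obtain ⟨-, z', hz, hzx⟩ := h1 x hx
  refine X.conj_mem hz ((h1 y ?_).1 ?_)
  · have e : orderOf (g * X.ι x * g⁻¹) = 3 := by
      rw [show g * X.ι x * g⁻¹ = MulAut.conj g (X.ι x) from rfl, MulEquiv.orderOf_eq,
        orderOf_injective X.ι X.inj, hx]
    rw [← hy, orderOf_injective X.ι X.inj] at e
    exact e
  · rw [mem_centralizer_singleton_iff, hy]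
    have : X.ι z' * X.ι x = X.ι x * X.ι z' := by rw [← map_mul, ← map_mul, hzx]
    calc g * X.ι z' * g⁻¹ * (g * X.ι x * g⁻¹) = g * (X.ι z' * X.ι x) * g⁻¹ := by group
      _ = g * X.ι x * g⁻¹ * (g * X.ι z' * g⁻¹) := by rw [this]; group

/-- From the pieces to the recognition. -/
theorem main_of (hPre : StmtPre.{u}) (hBase : StmtBase.{u}) (hCases : StmtCases.{u})
    (hDual : StmtDual.{u}) (hPres : StmtPresent.{u}) (hM : StmtModelThree) (hPM : StmtParModel)
    (hCA : StmtCentA.{u}) (hEA : StmtEndA.{u}) (hJ : StmtCentJ3.{u}) (hW : StmtCentW.{u})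
    (hI : StmtCentI.{u}) (hCM : StmtCensusModel) (hCen : StmtCensus.{u}) [Finite G]
    (S : Sylow 3 G) (Z : Subgroup G) (hZ : Z = (S : Subgroup G) ⊓ centralizer ((S : Subgroup G) : Set G))
    (C : Subgroup G) (hCZ : C = centralizer (Z : Set G))
    (Q : Subgroup G) (hQ : Q = (Cfsg.pCore 3 C).map C.subtype)
    (hQex : Cfsg.IsExtraspecial 3 Q) (hQcard : Nat.card Q = 3 ^ 5) (hQexp : ∀ a ∈ Q, a ^ 3 = 1)
    (hCQ : centralizer (Q : Set G) ≤ Q)
    (hZQ : ∃ x : G, Z.map (MulAut.conj x).toMonoidHom ≤ Q ∧ Z.map (MulAut.conj x).toMonoidHom ≠ Z)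
    (K : Subgroup G) (hK : K = ((Cfsg.pResidual 2 (C ⧸ Cfsg.pCore 3 C)).comap (QuotientGroup.mk' (Cfsg.pCore 3 C))).map C.subtype)
    (r : ℕ) (A : Fin (r + 1) → Subgroup G) (hA0 : A 0 = Z) (hAr : A (Fin.last r) = Q)
    (hmono : ∀ i : Fin r, A i.castSucc < A i.succ)
    (hinv : ∀ i : Fin (r + 1), ∀ k ∈ K, ∀ a ∈ A i, k * a * k⁻¹ ∈ A i)
    (hmax : ∀ i : Fin r, ∀ B : Subgroup G, A i.castSucc < B → B < A i.succ → ∃ k ∈ K, ∃ b ∈ B, k * b * k⁻¹ ∉ B)
    (e : C ⧸ Cfsg.pCore 3 C ≃* Matrix.SpecialLinearGroup (Fin 2) (ZMod 3))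
    (htwo : ∃ i j : Fin r, i ≠ j ∧ (∃ k ∈ K, ∃ a ∈ A i.succ, k * a * k⁻¹ * a⁻¹ ∉ A i.castSucc) ∧ (∃ k ∈ K, ∃ a ∈ A j.succ, k * a * k⁻¹ * a⁻¹ ∉ A j.castSucc) ∧
      ∀ l : Fin r, (∃ k ∈ K, ∃ a ∈ A l.succ, k * a * k⁻¹ * a⁻¹ ∉ A l.castSucc) → l = i ∨ l = j) :
    Nonempty (G ≃* L4) ∨
    ∃ (R : Subgroup L4), IsCoatom R ∧ Nat.card (Cfsg.pCore 3 R) = 27 ∧
      Nonempty (R ⧸ Cfsg.pCore 3 R ≃* Matrix.SpecialLinearGroup (Fin 3) (ZMod 3)) ∧ Nonempty (G ≃* R) := by
  obtain ⟨W⟩ := hPre S Z hZ C hCZ Q hQ hQex hQcard hQexp hCQ hZQ K hK r A hA0 hAr hmono hinv hmax e htwo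
  obtain ⟨B⟩ := hBase W
  rcases hCases B with hA | hD
  · obtain ⟨h1, h2, h3⟩ := hCA B hA
    have htop := hEA B hA h1 h2 h3
    exact Or.inr ⟨P, hPM.1, hPM.2.1, hPM.2.2,
      ⟨(MulEquiv.ofBijective B.ι ⟨B.inj, MonoidHom.range_eq_top.1 htop⟩).symm⟩⟩
  · left
    obtain ⟨ι', hι', hag⟩ := hDual B hD
    obtain ⟨ι, hι, hext⟩ := hPres B ι' hι' hag
    have hle : B.ι.range ≤ ι.range := by rintro _ ⟨x, rfl⟩; exact ⟨x, hext x⟩
    have hz : ι zL = B.ι zP := hext zP
    let X : Full G :=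
      { ι := ι
        inj := hι
        sylow := B.sylow
        cent_z := fun g hg => hle (B.norm_z (by
          rw [hz] at hg
          refine centralizer_le_normalizer _ (mem_centralizer_iff.2 fun y hy => ?_)
          obtain ⟨n, rfl⟩ := mem_zpowers_iff.1 hy
          exact ((Commute.symm (mem_centralizer_singleton_iff.1 hg)).zpow_left n).eq))
        fus := fun x hx => by
          have h3 : orderOf x = 3 := by
            obtain ⟨g, hg⟩ := isConj_iff.1 hx
            rw [← orderOf_injective ι hι x, ← hg, show g * ι zL * g⁻¹ = MulAut.conj g (ι zL) from rfl,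
              MulEquiv.orderOf_eq, orderOf_injective ι hι]
            refine orderOf_eq_prime ?_ ?_
            · rw [pow_three, ← mul_assoc, zL, qel, ← map_mul, ← map_mul, qS_cube, map_one]
            · intro h
              have := (QuotientGroup.eq_one_iff _).1 h
              rw [Subgroup.mem_center_iff] at this
              have e := congrArg Subtype.val (this (qS 1 0 0 0 0 * i0S))
              revert e
              decide +kernel
          have no : ∀ a b c d e, IsConj (qel a b c d e) x → (a = 0 ∧ b = 0) ∨ (d = 0 ∧ e = 0) := by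
            intro a b c d e h
            refine B.fusQ a b c d e ?_
            rw [← hz, ← hext (qP a b c d e)]
            exact hx.trans (ι.map_isConj h).symm
          rcases hM.1 x h3 with h | h | h | h
          · exact h
          · exact absurd (no _ _ _ _ _ h) (by decide +kernel)
          · exact absurd (no _ _ _ _ _ h) (by decide +kernel)
          · exact absurd (no _ _ _ _ _ h) (by decide +kernel) }
    have hS := X.strong hM (hJ X) (hW hM X (hJ X))
    obtain ⟨hI1, hI2⟩ := hI hM X hS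
    have htop := hCen hCM ι hι hI1 hI2
    exact ⟨(MulEquiv.ofBijective ι ⟨hι, MonoidHom.range_eq_top.1 htop⟩).symm⟩

end CfsgLib.L43Three
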