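import Cfsg.Agent.Lib.L43Three.BaseHom

/-!
# The parabolic subgroup inside `G` (S3373, seat Base)
-/

set_option autoImplicit false
set_option maxRecDepth 100000
set_option linter.style.haveILetI false

namespace CfsgLib.L43Three.BaseProof

open Matrix hiding mul_inv_rev

universe u

/-- The stabilizer of the first vector. -/
def PF : Subgroup S4 where
  carrier := {g | g.1 *ᵥ e0 = e0}
  one_mem' := by simp
  mul_mem' := fun {a b} ha hb => by
    simp only [Set.mem_ofPred_eq, Matrix.SpecialLinearGroup.coe_mul, ← Matrix.mulVec_mulVec] at *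
    rw [hb, ha]
  inv_mem' := fun {a} ha => by
    simp only [Set.mem_ofPred_eq] at *
    conv_lhs => rw [← ha]
    rw [Matrix.mulVec_mulVec, ← Matrix.SpecialLinearGroup.coe_mul, inv_mul_cancel,
      Matrix.SpecialLinearGroup.coe_one, Matrix.one_mulVec]

/-- The negative of a matrix of degree four. -/
def neg4 (g : S4) : S4 :=
  ⟨-g.1, by rw [Matrix.det_neg, g.2, Fintype.card_fin, mul_one]; decide⟩

theorem mk_neg4 (g : S4) : mk (neg4 g) = mk g := by
  refine (QuotientGroup.mk'_eq_mk' _).2 ⟨neg4 1, ?_, ?_⟩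
  · refine Matrix.SpecialLinearGroup.mem_center_iff.2 ⟨-1, by decide, ?_⟩
    show Matrix.scalar (Fin 4) (-1 : ZMod 3) = -(1 : Matrix (Fin 4) (Fin 4) (ZMod 3))
    rw [map_neg, map_one]
  · refine Subtype.ext ?_
    show -g.1 * -(1 : Matrix (Fin 4) (Fin 4) (ZMod 3)) = g.1
    simp

theorem mk_eq {g g' : S4} (h : mk g = mk g') : g'.1 = g.1 ∨ g'.1 = -g.1 := by
  have hc : g⁻¹ * g' ∈ Subgroup.center S4 := QuotientGroup.eq.1 h
  obtain ⟨r, hr, hr'⟩ := Matrix.SpecialLinearGroup.mem_center_iff.1 hc
  have h2 : r = 1 ∨ r = -1 := by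
    have key : ∀ t : ZMod 3, t ^ 4 = 1 → t = 1 ∨ t = -1 := by decide
    exact key r (by simpa using hr)
  have h3 : g'.1 = g.1 * (g⁻¹ * g' : S4).1 := by
    rw [← Matrix.SpecialLinearGroup.coe_mul, mul_inv_cancel_left]
  rw [← hr'] at h3
  rcases h2 with rfl | rfl
  · exact Or.inl (by simpa using h3)
  · refine Or.inr ?_
    rw [h3, map_neg, map_one, Matrix.mul_neg, Matrix.mul_one]

theorem col0 (g : PF) (i : Fin 4) : g.1.1 i 0 = e0 i := by
  have h : g.1.1 *ᵥ e0 = e0 := g.2
  rw [← congrFun h i]
  simp [e0, Matrix.mulVec, dotProduct, Fin.sum_univ_four]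

theorem e0_succ : ∀ i : Fin 3, e0 i.succ = 0 := by decide

theorem e0_zero : e0 0 = 1 := rfl

theorem mk_inj_PF {g g' : PF} (h : mk g.1 = mk g'.1) : g.1.1 = g'.1.1 := by
  rcases mk_eq h with h' | h'
  · exact h'.symm
  · have h0 := congrFun (congrFun h' 0) 0
    rw [Matrix.neg_apply, col0, col0] at h0
    exact absurd h0 (by decide)

/-- The projection of the vector stabilizer. -/
def toP : PF →* P where
  toFun g := ⟨mk g.1, g.1, Or.inl g.2, rfl⟩
  map_one' := Subtype.ext (map_one mk)
  map_mul' g g' := Subtype.ext (map_mul mk g.1 g'.1)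

theorem toP_bijective : Function.Bijective toP := by
  refine ⟨fun g g' h => Subtype.ext (Subtype.ext (mk_inj_PF (congrArg Subtype.val h))), ?_⟩
  rintro ⟨_, g, hg | hg, rfl⟩
  · exact ⟨⟨g, hg⟩, rfl⟩
  · refine ⟨⟨neg4 g, ?_⟩, Subtype.ext (mk_neg4 g)⟩
    show (-g.1) *ᵥ e0 = e0
    rw [Matrix.neg_mulVec, hg, neg_neg]

/-- The first row. -/
def row (g : PF) : V := fun j => g.1.1 0 j.succ

/-- The lower block. -/
def block (g : PF) : S3 :=
  ⟨g.1.1.submatrix Fin.succ Fin.succ, by
    have h := g.1.2
    rw [Matrix.det_succ_column_zero, Fin.sum_univ_four, col0, col0, col0, col0] at h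
    simpa [e0] using h⟩

theorem block_mul (g g' : PF) : block (g * g') = block g * block g' := by
  refine Subtype.ext (Matrix.ext fun i j => ?_)
  show (g.1 * g'.1 : S4).1 i.succ j.succ = ((block g).1 * (block g').1) i j
  simp [block, Matrix.mul_apply, Fin.sum_univ_succ (n := 3), col0, e0_succ]

theorem row_mul (g g' : PF) : row (g * g') = row g' + (block g').1ᵀ *ᵥ row g := by
  funext j
  simp [row, block, Matrix.mul_apply, Matrix.mulVec, dotProduct, Fin.sum_univ_succ (n := 3), col0,
    e0_zero, mul_comm]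

/-- The block matrix with given first row and lower block. -/
def mkPF (r : V) (A : S3) : PF :=
  ⟨⟨Matrix.of fun i j => (Fin.cases (Fin.cases 1 r j) (fun i' => Fin.cases 0 (A.1 i') j) i :
      ZMod 3), by
    rw [Matrix.det_succ_column_zero, Fin.sum_univ_succ]
    simp [Matrix.submatrix]
    exact A.2⟩, by
    show _ *ᵥ e0 = e0
    funext i
    refine Fin.cases ?_ (fun i' => ?_) i <;>
      simp [e0_zero, e0_succ, Matrix.mulVec, dotProduct, Fin.sum_univ_succ (n := 3)]⟩

theorem row_mkPF (r : V) (A : S3) : row (mkPF r A) = r := by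
  funext j
  simp [row, mkPF]

theorem block_mkPF (r : V) (A : S3) : block (mkPF r A) = A := by
  refine Subtype.ext (Matrix.ext fun i j => ?_)
  simp [block, mkPF]

theorem PF_ext {g g' : PF} (hr : row g = row g') (hA : block g = block g') : g = g' := by
  refine Subtype.ext (Subtype.ext (Matrix.ext fun i j => ?_))
  refine Fin.cases ?_ (fun j' => ?_) j
  · rw [col0, col0]
  · refine Fin.cases ?_ (fun i' => ?_) i
    · exact congrFun hr j'
    · exact congrFun (congrFun (congrArg Subtype.val hA) i') j'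

theorem flipInv_mul (A B : S3) : flipInv (A * B) = flipInv A * flipInv B := by
  refine Subtype.ext ?_
  show (A * B)⁻¹.1ᵀ = A⁻¹.1ᵀ * B⁻¹.1ᵀ
  rw [mul_inv_rev, Matrix.SpecialLinearGroup.coe_mul, Matrix.transpose_mul]

theorem flipInv_one : flipInv 1 = 1 := by
  refine Subtype.ext ?_
  simp [flipInv]

theorem flipInv_inv (A : S3) : (flipInv A)⁻¹ = flipInv A⁻¹ :=
  inv_eq_of_mul_eq_one_right (by rw [← flipInv_mul, mul_inv_cancel, flipInv_one])

theorem flipInv_flipInv (A : S3) : flipInv (flipInv A) = A := by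
  refine Subtype.ext ?_
  show (flipInv A)⁻¹.1ᵀ = A.1
  rw [flipInv_inv]
  simp [flipInv]

/-- The elements of `Q` in the vector stabilizer. -/
def qF (a b c d e : ZMod 3) : PF :=
  ⟨qS a b c d e, by
    show _ = _
    ext i
    fin_cases i <;> simp [qS, qM, e0, Matrix.mulVec, dotProduct, Fin.sum_univ_four]⟩

theorem row_qF (a b c d e : ZMod 3) : row (qF a b c d e) = ![a, b, c] := by
  funext i
  fin_cases i <;> rfl

theorem flipInv_block_qF (a b c d e : ZMod 3) :
    (flipInv (block (qF a b c d e))).1 = !![1, 0, 0; 0, 1, 0; -d, -e, 1] := by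
  have h : (block (qF a b c d e))⁻¹ =
      (⟨!![1, 0, -d; 0, 1, -e; 0, 0, 1], by simp [Matrix.det_fin_three]⟩ : S3) := by
    refine inv_eq_of_mul_eq_one_right (Subtype.ext ?_)
    show (block (qF a b c d e)).1 * !![1, 0, -d; 0, 1, -e; 0, 0, 1] = 1
    ext i j
    fin_cases i <;> fin_cases j <;>
      simp [block, qF, qS, qM, Matrix.mul_apply, Fin.sum_univ_three]
  show (block (qF a b c d e))⁻¹.1ᵀ = _
  rw [h]
  ext i j
  fin_cases i <;> fin_cases j <;> rfl

/-- The three elements of order four in the vector stabilizer. -/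
def leviF (k : Fin 3) : PF := ⟨⟨(levi k).1, levi_det k⟩, (levi_mul k).2.1⟩

theorem leviF_conj (k : Fin 3) (a b c d e : ZMod 3) :
    leviF k * qF a b c d e * (leviF k)⁻¹ =
      qF (leviAct a b d e k).1 (leviAct a b d e k).2.1 c (leviAct a b d e k).2.2.1
        (leviAct a b d e k).2.2.2 := by
  rw [mul_inv_eq_iff_eq_mul]
  refine Subtype.ext (Subtype.ext ?_)
  show (levi k).1 * qM a b c d e = qM _ _ c _ _ * (levi k).1
  ext i j
  fin_cases k <;> fin_cases i <;> fin_cases j <;>
    simp [levi, leviAct, qM, Matrix.mul_apply, Fin.sum_univ_four] <;>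
    ring_nf <;> simp [show (3 : ZMod 3) = 0 from by decide,
      show (4 : ZMod 3) = 1 from by decide, show (6 : ZMod 3) = 0 from by decide]

variable {G : Type u} [Group G] [Finite G] (R : Pre G)

/-- The map of the vector stabilizer into `G`. -/
def homPF (k : S3 →* G) (hk : ∀ A, Acts R (k A) A) : PF →* G :=
  MonoidHom.mk' (fun g => k (flipInv (block g)) * R.v (row g)) fun g g' => by
    have hi : (flipInv (block g'))⁻¹.1 *ᵥ row g = (block g').1ᵀ *ᵥ row g := by
      rw [flipInv_inv]
      simp [flipInv]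
    have h := (hk (flipInv (block g'))).inv.move (row g)
    rw [hi] at h
    rw [block_mul, flipInv_mul, map_mul, row_mul, add_comm, R.v_add]
    calc k (flipInv (block g)) * k (flipInv (block g')) *
          (R.v ((block g').1ᵀ *ᵥ row g) * R.v (row g'))
        = k (flipInv (block g)) * k (flipInv (block g')) *
          (R.v ((block g').1ᵀ *ᵥ row g) * (k (flipInv (block g')))⁻¹) *
          k (flipInv (block g')) * R.v (row g') := by group
      _ = k (flipInv (block g)) * R.v (row g) * (k (flipInv (block g')) * R.v (row g')) := by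
        rw [← h]; group

theorem qF_mul (a b c d e a' b' c' d' e' : ZMod 3) :
    qF a b c d e * qF a' b' c' d' e' =
      qF (a + a') (b + b') (c + c' + (a * d' + b * e')) (d + d') (e + e') :=
  Subtype.ext (Subtype.ext (qM_mul _ _ _ _ _ _ _ _ _ _))

include R in
theorem exists_base : Nonempty (Base G) := by
  obtain ⟨k, hk⟩ := exists_hom R
  set φ := homPF R k hk with hφdef
  have hφ : ∀ g : PF, φ g = k (flipInv (block g)) * R.v (row g) := fun _ => rfl
  have hφA : ∀ g : PF, Acts R (φ g) (flipInv (block g)) := fun g => by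
    simpa [hφ] using (hk _).mul (acts_v (row g))
  have hinj : Function.Injective φ := by
    refine (injective_iff_map_eq_one φ).2 fun g hg => ?_
    have h1 : flipInv (block g) = 1 := (hφA g).unique (hg ▸ Acts.one)
    have h2 : block g = 1 := by rw [← flipInv_flipInv (block g), h1, flipInv_one]
    rw [hφ, h1, map_one, one_mul, ← v_zero R] at hg
    refine PF_ext ?_ ?_
    · rw [R.v_inj hg]; funext j; exact (Matrix.one_apply_ne (Fin.succ_ne_zero j).symm).symm
    · rw [h2]; refine (Subtype.ext ?_).symm; ext i j; simp [block, Matrix.one_apply]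
  let e : PF ≃* P := MulEquiv.ofBijective toP toP_bijective
  let ι : P →* G := φ.comp e.symm.toMonoidHom
  have hι : ∀ g : PF, ι (e g) = φ g := fun g => by simp [ι]
  have hιq : ∀ a b c d e', ι (qP a b c d e') = φ (qF a b c d e') := fun a b c d e' => by
    rw [← hι]; rfl
  have hz : φ (qF 0 0 1 0 0) = R.v ![0, 0, 1] := by
    have : flipInv (block (qF 0 0 1 0 0)) = 1 := by
      refine Subtype.ext ?_
      rw [flipInv_block_qF]
      decide
    rw [hφ, row_qF, this, map_one, one_mul]
  have hιz : ι zP = R.v ![0, 0, 1] := (hιq 0 0 1 0 0).trans hz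
  refine ⟨⟨ι, hinj.comp e.symm.injective, ?_, R.sylow, ?_⟩⟩
  · rw [hιz]
    refine R.norm_z.trans fun n hn => ?_
    obtain ⟨A, hA⟩ := R.mon n hn
    obtain ⟨x, hx⟩ := exists_v_mul (A := A) hA (hk A)
    refine ⟨e (mkPF (A⁻¹.1 *ᵥ x) (flipInv A)), ?_⟩
    rw [hι, hφ, block_mkPF, row_mkPF, flipInv_flipInv, (hk A).move, Matrix.mulVec_mulVec,
      ← Matrix.SpecialLinearGroup.coe_mul, mul_inv_cancel, Matrix.SpecialLinearGroup.coe_one,
      Matrix.one_mulVec, hx]
  · intro a b c d e' hconj
    rw [hιz, hιq] at hconj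
    by_contra hne
    push Not at hne
    have hab : a ≠ 0 ∨ b ≠ 0 := by
      by_contra h
      push Not at h
      exact hne.1 h.1 h.2
    have hde : d ≠ 0 ∨ e' ≠ 0 := by
      by_contra h
      push Not at h
      exact hne.2 h.1 h.2
    set q := qF a b c d e' with hq
    have hA : (flipInv (block q)).1 = !![1, 0, 0; 0, 1, 0; -d, -e', 1] :=
      flipInv_block_qF a b c d e'
    have hxQ : φ q ∈ R.Q := mem_Q (hφA q) ⟨_, _, hA⟩
    have hxD : φ q ∉ R.D := fun h => by
      obtain ⟨x, hx⟩ := (R.mem_D _).1 h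
      have h1 := (hφA q).unique (hx ▸ acts_v x)
      rw [h1, Matrix.SpecialLinearGroup.coe_one] at hA
      have h2 := congrFun (congrFun hA 2) 0
      have h3 := congrFun (congrFun hA 2) 1
      simp at h2 h3
      rcases hde with h | h
      · exact h h2
      · exact h h3
    obtain ⟨i, hi⟩ := commute_witness a b d e' hab hde
    have hcen : φ (leviF i) ∈ Subgroup.centralizer ({R.v ![0, 0, 1]} : Set G) := by
      rw [Subgroup.mem_centralizer_singleton_iff, ← hz, ← map_mul, ← map_mul,
        show leviF i * qF 0 0 1 0 0 = qF 0 0 1 0 0 * leviF i from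
          Subtype.ext (Subtype.ext (levi_mul i).2.2)]
    have h := R.fusQ _ hxQ hxD hconj _ hcen
    rw [← map_inv, ← map_mul, ← map_mul, leviF_conj, ← map_mul, ← map_mul] at h
    have h' := congrArg (fun g : PF => g.1.1 0 3) (hinj h)
    simp only [hq, qF_mul] at h'
    refine hi ?_
    have h4 : c + c + ((leviAct a b d e' i).1 * d + (leviAct a b d e' i).2.1 * e') =
        c + c + (a * (leviAct a b d e' i).2.2.1 + b * (leviAct a b d e' i).2.2.2) := h'
    exact add_left_cancel h4

end BaseProof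

universe u

/-- The normalizer of `D` is the parabolic subgroup. -/
theorem base : StmtBase.{u} := fun R => BaseProof.exists_base R

end CfsgLib.L43Three
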