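import Cfsg.Agent.Lib.L43Three.BaseSplit

/-!
# The action of `SL₃(3)` on `D` lifts (S3373, seat Base)
-/

set_option autoImplicit false
set_option linter.style.haveILetI false

namespace CfsgLib.L43Three.BaseProof

open Matrix hiding mul_inv_rev

universe u

variable {G : Type u} [Group G] [Finite G] (R : Pre G)

theorem triple_inj : ∀ i j k i' j' k' : Fin 3,
    mW ^ i.val * mS ^ j.val * mU ^ k.val = mW ^ i'.val * mS ^ j'.val * mU ^ k'.val →
      i = i' ∧ j = j' ∧ k = k' := by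
  decide +kernel

theorem acts_pow {g : G} {A : S3} (h : Acts R g A) : ∀ n : ℕ, Acts R (g ^ n) (A ^ n)
  | 0 => by rw [pow_zero, pow_zero]; exact Acts.one
  | n + 1 => by rw [pow_succ, pow_succ]; exact (acts_pow h n).mul h

/-- A subgroup of order `27` meeting `D` trivially. -/
theorem exists_small_complement :
    ∃ A : Subgroup G, A ≤ Subgroup.normalizer (R.D : Set G) ∧ Nat.card A = 27 ∧ A ⊓ R.D = ⊥ := by
  obtain ⟨u, w, s, hu, hw, hs, hu3, hw3, hs3, huw, hus, hws⟩ := exists_heisenberg R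
  have hu3' : u ^ 3 = 1 := by rw [pow_succ, pow_two, hu3]
  have hw3' : w ^ 3 = 1 := by rw [pow_succ, pow_two, hw3]
  have hs3' : s ^ 3 = 1 := by rw [pow_succ, pow_two, hs3]
  have cus : Commute u s := hus
  have cws : Commute w s := hws
  have move : ∀ k i : ℕ, u ^ k * w ^ i = s ^ (k * i) * w ^ i * u ^ k := by
    intro k
    induction k with
    | zero => intro i; simp
    | succ k ih =>
      intro i
      have one : ∀ i : ℕ, u * w ^ i = s ^ i * w ^ i * u := by
        intro i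
        induction i with
        | zero => simp
        | succ i ih =>
          calc u * w ^ (i + 1) = u * w ^ i * w := by rw [pow_succ, mul_assoc]
            _ = s ^ i * w ^ i * (u * w) := by rw [ih, mul_assoc]
            _ = s ^ i * (w ^ i * s) * w * u := by rw [huw]; simp only [mul_assoc]
            _ = s ^ (i + 1) * w ^ (i + 1) * u := by
              rw [(cws.pow_left i).eq, pow_succ s, pow_succ w]; simp only [mul_assoc]
      calc u ^ (k + 1) * w ^ i = u * (u ^ k * w ^ i) := by rw [pow_succ', mul_assoc]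
        _ = u * s ^ (k * i) * w ^ i * u ^ k := by rw [ih]; simp only [mul_assoc]
        _ = s ^ (k * i) * (u * w ^ i) * u ^ k := by
          rw [(cus.pow_right (k * i)).eq]; simp only [mul_assoc]
        _ = s ^ ((k + 1) * i) * w ^ i * u ^ (k + 1) := by
          rw [one, Nat.succ_mul, pow_add, pow_succ' u]; simp only [mul_assoc]
  set f : ℕ → ℕ → ℕ → G := fun i j k => w ^ i * s ^ j * u ^ k with hf
  have fmul : ∀ i j k i' j' k', f i j k * f i' j' k' = f (i + i') (j + k * i' + j') (k + k') := by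
    intro i j k i' j' k'
    calc f i j k * f i' j' k'
        = w ^ i * s ^ j * (u ^ k * w ^ i') * s ^ j' * u ^ k' := by simp only [hf, mul_assoc]
      _ = w ^ i * (s ^ (j + k * i') * w ^ i') * (u ^ k * s ^ j') * u ^ k' := by
        rw [move, pow_add]; simp only [mul_assoc]
      _ = _ := by
        rw [((cws.pow_pow i' (j + k * i')).symm).eq, (cus.pow_pow k j').eq, hf]
        simp only [pow_add, mul_assoc]
  have facts : ∀ i j k, f i j k = f (i % 3) (j % 3) (k % 3) := fun i j k => by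
    simp only [hf]
    rw [pow_eq_pow_mod i hw3', pow_eq_pow_mod j hs3', pow_eq_pow_mod k hu3']
  let A : Subgroup G :=
    { carrier := {g | ∃ i j k, f i j k = g}
      one_mem' := ⟨0, 0, 0, by simp [hf]⟩
      mul_mem' := by
        rintro _ _ ⟨i, j, k, rfl⟩ ⟨i', j', k', rfl⟩
        exact ⟨_, _, _, (fmul i j k i' j' k').symm⟩
      inv_mem' := by
        rintro _ ⟨i, j, k, rfl⟩
        refine ⟨0 + 2 * i, 2 * j + 2 * k * (2 * i) + 0, 2 * k + 0, ?_⟩
        rw [← fmul]
        symm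
        refine inv_eq_of_mul_eq_one_left ?_
        have h2 : ∀ {g : G}, g ^ 3 = 1 → ∀ n : ℕ, g ^ (2 * n) * g ^ n = 1 := fun hg n => by
          rw [← pow_add, show 2 * n + n = 3 * n by ring, pow_mul, hg, one_pow]
        calc f 0 (2 * j) (2 * k) * f (2 * i) 0 0 * f i j k
            = s ^ (2 * j) * (u ^ (2 * k) * ((w ^ (2 * i) * w ^ i) * s ^ j)) * u ^ k := by
              simp only [hf, pow_zero, one_mul, mul_one, mul_assoc]
          _ = s ^ (2 * j) * (u ^ (2 * k) * s ^ j) * u ^ k := by rw [h2 hw3', one_mul]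
          _ = (s ^ (2 * j) * s ^ j) * (u ^ (2 * k) * u ^ k) := by
              rw [(cus.pow_pow (2 * k) j).eq]; simp only [mul_assoc]
          _ = 1 := by rw [h2 hs3', h2 hu3', one_mul] }
  have hact : ∀ i j k, Acts R (f i j k) (mW ^ i * mS ^ j * mU ^ k) := fun i j k =>
    ((acts_pow R hw i).mul (acts_pow R hs j)).mul (acts_pow R hu k)
  refine ⟨A, ?_, ?_, ?_⟩
  · rintro _ ⟨i, j, k, rfl⟩
    exact (hact i j k).mem_normalizer
  · have hb : Function.Bijective
        (fun t : Fin 3 × Fin 3 × Fin 3 => (⟨f t.1 t.2.1 t.2.2, _, _, _, rfl⟩ : A)) := by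
      refine ⟨fun t t' h => ?_, ?_⟩
      · have h' : f t.1 t.2.1 t.2.2 = f t'.1 t'.2.1 t'.2.2 := congrArg Subtype.val h
        obtain ⟨h1, h2, h3⟩ := triple_inj _ _ _ _ _ _ ((hact _ _ _).unique (h' ▸ hact _ _ _))
        exact Prod.ext h1.symm (Prod.ext h2.symm h3.symm)
      · rintro ⟨_, i, j, k, rfl⟩
        exact ⟨(⟨i % 3, Nat.mod_lt _ (by norm_num)⟩, ⟨j % 3, Nat.mod_lt _ (by norm_num)⟩,
          ⟨k % 3, Nat.mod_lt _ (by norm_num)⟩), Subtype.ext (facts i j k).symm⟩
    rw [← Nat.card_eq_of_bijective _ hb]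
    simp
  · rw [Subgroup.eq_bot_iff_forall]
    intro g hg
    obtain ⟨⟨i, j, k, rfl⟩, hD⟩ := Subgroup.mem_inf.1 hg
    obtain ⟨x, hx⟩ := (R.mem_D _).1 hD
    rw [facts] at hx ⊢
    have h := (hact _ _ _).unique (hx ▸ acts_v x)
    obtain ⟨h1, h2, h3⟩ := hom_facts ⟨i % 3, Nat.mod_lt _ (by norm_num)⟩
      ⟨j % 3, Nat.mod_lt _ (by norm_num)⟩ ⟨k % 3, Nat.mod_lt _ (by norm_num)⟩ h
    simp only [Fin.ext_iff, Fin.val_zero] at h1 h2 h3
    simp [hf, h1, h2, h3]

/-- A complement of `D` in its normalizer. -/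
theorem exists_complement :
    ∃ H : Subgroup G, H ⊓ R.D = ⊥ ∧
      ∀ g ∈ Subgroup.normalizer (R.D : Set G), ∃ d ∈ R.D, ∃ h ∈ H, g = d * h := by
  obtain ⟨A, hAN, hA, hAD⟩ := exists_small_complement R
  set N := Subgroup.normalizer (R.D : Set G) with hN
  have hDN : R.D ≤ N := Subgroup.le_normalizer
  set D' := R.D.subgroupOf N with hD'
  set A' := A.subgroupOf N with hA'
  haveI : D'.Normal := by rw [hD', hN]; exact Subgroup.normal_in_normalizer
  haveI : IsMulCommutative D' := ⟨⟨fun a b => by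
    obtain ⟨x, hx⟩ := (R.mem_D _).1 (Subgroup.mem_subgroupOf.1 a.2)
    obtain ⟨y, hy⟩ := (R.mem_D _).1 (Subgroup.mem_subgroupOf.1 b.2)
    refine Subtype.ext (Subtype.ext ?_)
    show ((a : N) : G) * ((b : N) : G) = ((b : N) : G) * ((a : N) : G)
    rw [← hx, ← hy, ← R.v_add, ← R.v_add, add_comm]⟩⟩
  have hcA : Nat.card A' = 27 := by
    rw [hA', Nat.card_congr (Subgroup.subgroupOfEquivOfLe hAN).toEquiv, hA]
  have hcD : Nat.card D' = 27 := by
    rw [hD', Nat.card_congr (Subgroup.subgroupOfEquivOfLe hDN).toEquiv, card_D R]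
  have hAD' : A' ⊓ D' = ⊥ := by
    rw [Subgroup.eq_bot_iff_forall]
    intro x hx
    have : (x : G) ∈ A ⊓ R.D := hx
    rw [hAD, Subgroup.mem_bot] at this
    exact Subtype.ext this
  have hU : Nat.card (D' ⊔ A' : Subgroup N) = 729 := by
    have h := Subgroup.relIndex_mul_relIndex ⊥ D' (D' ⊔ A') bot_le le_sup_left
    rw [Subgroup.relIndex_bot_left, Subgroup.relIndex_bot_left, sup_comm,
      Subgroup.relIndex_sup_right, ← Subgroup.inf_relIndex_right, inf_comm, hAD',
      Subgroup.relIndex_bot_left, hcA, hcD] at h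
    rw [sup_comm]
    omega
  have hcop : (Nat.card D').Coprime (D' ⊔ A').index := by
    rw [hcD, show 27 = 3 ^ 3 by norm_num, Nat.coprime_pow_left_iff (by norm_num),
      Nat.prime_three.coprime_iff_not_dvd]
    intro h3
    refine R.sylow (dvd_trans ?_ (Subgroup.card_subgroup_dvd_card N))
    have h := Subgroup.card_mul_index (D' ⊔ A')
    rw [← h, hU]
    exact dvd_trans (by norm_num) (Nat.mul_dvd_mul_left 729 h3)
  obtain ⟨H, hH⟩ :=
    CfsgLib.Coprime.gaschutz_exists D' (D' ⊔ A') le_sup_left hcop A' le_sup_right hAD' rfl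
  refine ⟨H.map N.subtype, ?_, fun g hg => ?_⟩
  · rw [Subgroup.eq_bot_iff_forall]
    intro x hx
    obtain ⟨⟨y, hy, rfl⟩, hxD⟩ := Subgroup.mem_inf.1 hx
    have : y ∈ D' ⊓ H := ⟨hxD, hy⟩
    rw [hH.disjoint.eq_bot, Subgroup.mem_bot] at this
    rw [this, map_one]
  · obtain ⟨⟨d, h⟩, hdh⟩ := hH.2 (⟨g, hg⟩ : N)
    exact ⟨_, d.2, _, ⟨_, h.2, rfl⟩, (congrArg Subtype.val hdh).symm⟩

/-- The action of `SL₃(3)` lifts to a homomorphism. -/
theorem exists_hom : ∃ k : S3 →* G, ∀ A, Acts R (k A) A := by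
  obtain ⟨H, hHD, hHN⟩ := exists_complement R
  have hex : ∀ A : S3, ∃ h ∈ H, Acts R h A := fun A => by
    obtain ⟨g, hg'⟩ := R.act A
    have hg : Acts R g A := hg'
    obtain ⟨d, hd, h, hh, rfl⟩ := hHN g hg.mem_normalizer
    obtain ⟨x, rfl⟩ := (R.mem_D d).1 hd
    refine ⟨h, hh, ?_⟩
    have := (acts_v x).inv.mul hg
    rwa [inv_mul_cancel_left, inv_one, one_mul] at this
  choose k hkH hk using hex
  refine ⟨MonoidHom.mk' k fun A B => ?_, fun A => hk A⟩
  obtain ⟨x, hx⟩ := exists_v_mul (hk (A * B)) ((hk A).mul (hk B))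
  have h2 : R.v x ∈ H ⊓ R.D := by
    refine ⟨?_, v_mem R x⟩
    have h1 := mul_mem (hkH (A * B)) (inv_mem (mul_mem (hkH A) (hkH B)))
    rwa [hx, mul_inv_cancel_right] at h1
  rw [hHD, Subgroup.mem_bot] at h2
  rw [hx, h2, one_mul]

end CfsgLib.L43Three.BaseProof
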