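import Cfsg.Agent.Lib.L43Three.Defs

/-!
# Finite facts for the normalizer of `D` (S3373, seat Base)
-/

set_option autoImplicit false
set_option maxRecDepth 100000
set_option synthInstance.maxSize 512

namespace CfsgLib.L43Three.BaseProof

open Matrix

/-- Coordinates of `D`. -/
abbrev V : Type := Fin 3 → ZMod 3

/-- `x ↦ x + x₀ e₁`. -/
def mU : S3 := ⟨!![1, 0, 0; 1, 1, 0; 0, 0, 1], by decide +kernel⟩
/-- `x ↦ x + x₁ e₂`. -/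
def mW : S3 := ⟨!![1, 0, 0; 0, 1, 0; 0, 1, 1], by decide +kernel⟩
/-- `x ↦ x - x₀ e₂`. -/
def mS : S3 := ⟨!![1, 0, 0; 0, 1, 0; 2, 0, 1], by decide +kernel⟩
/-- `diag (-1, -1, 1)` -/
def mH : S3 := ⟨!![2, 0, 0; 0, 2, 0; 0, 0, 1], by decide +kernel⟩
/-- `diag (-1, 1, -1)` -/
def mT : S3 := ⟨!![2, 0, 0; 0, 1, 0; 0, 0, 2], by decide +kernel⟩
/-- An element of order four fixing `e₂`. -/
def mJ : S3 := ⟨!![0, 2, 0; 1, 0, 0; 0, 0, 1], by decide +kernel⟩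
/-- The inverse of `mJ`. -/
def mJ' : S3 := ⟨!![0, 1, 0; 2, 0, 0; 0, 0, 1], by decide +kernel⟩
/-- A permutation carrying `mU` into the translations at `e₂`. -/
def mP : S3 := ⟨!![1, 0, 0; 0, 0, 2; 0, 1, 0], by decide +kernel⟩

/-- The translations at `e₂`. -/
def IsU (A : Matrix (Fin 3) (Fin 3) (ZMod 3)) : Prop :=
  ∃ r s : ZMod 3, A = !![1, 0, 0; 0, 1, 0; r, s, 1]

theorem translation_mulVec : ∀ r s : ZMod 3, ∀ i : Fin 3, ∀ a b c : ZMod 3,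
    (!![1, 0, 0; 0, 1, 0; r, s, 1] *ᵥ ![a, b, c]) i = ![a, b, r * a + s * b + c] i := by
  decide +kernel

theorem stab_forms : ∀ a b c d r s : ZMod 3,
    let A : Matrix (Fin 3) (Fin 3) (ZMod 3) := !![a, b, 0; c, d, 0; r, s, 1]
    A * A * A = 1 → A * (mJ.1 * A * mJ'.1) = (mJ.1 * A * mJ'.1) * A →
      a = 1 ∧ b = 0 ∧ c = 0 ∧ d = 1 := by
  decide +kernel

theorem named_facts : mJ * mJ' = 1 ∧ mJ' * mJ = 1 ∧ mU * mU * mU = 1 ∧ mW * mW * mW = 1 ∧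
    mU * mW * mU * mU * mW * mW = mS ∧ mS * mS * mS = 1 ∧ mU * mS = mS * mU ∧ mW * mS = mS * mW ∧
    mH * mH = 1 ∧ mT * mT = 1 ∧
    mT * mU * mT = mU * mU ∧ mT * mW * mT = mW * mW ∧ mH * mU * mH = mU ∧
    mH * mW * mH = mW * mW ∧ mJ.1 *ᵥ ![0, 0, 1] = ![0, 0, 1] ∧ mU.1 *ᵥ ![0, 0, 1] = ![0, 0, 1] ∧
    mH.1 *ᵥ ![0, 0, 1] = ![0, 0, 1] := by
  decide +kernel

theorem named_isU : IsU mW.1 ∧ IsU mS.1 ∧ IsU (mP * mU * mP⁻¹ : S3).1 :=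
  ⟨⟨0, 1, rfl⟩, ⟨2, 0, rfl⟩, ⟨1, 0, by decide +kernel⟩⟩

theorem hom_facts : ∀ i j k : Fin 3, mW ^ i.val * mS ^ j.val * mU ^ k.val = 1 →
    i = 0 ∧ j = 0 ∧ k = 0 := by
  decide +kernel

/-- The inverse transpose. -/
def flipInv (A : S3) : S3 :=
  ⟨(A⁻¹).1ᵀ, by rw [Matrix.det_transpose]; exact (A⁻¹).2⟩

/-- Three elements of order four in the Levi factor fixing `x₁₄`, with their inverses. -/
def levi : Fin 3 → Matrix (Fin 4) (Fin 4) (ZMod 3) × Matrix (Fin 4) (Fin 4) (ZMod 3) :=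
  ![(!![1, 0, 0, 0; 0, 0, 2, 0; 0, 1, 0, 0; 0, 0, 0, 1],
      !![1, 0, 0, 0; 0, 0, 1, 0; 0, 2, 0, 0; 0, 0, 0, 1]),
    (!![1, 0, 0, 0; 0, 1, 1, 0; 0, 1, 2, 0; 0, 0, 0, 1],
      !![1, 0, 0, 0; 0, 2, 2, 0; 0, 2, 1, 0; 0, 0, 0, 1]),
    (!![1, 0, 0, 0; 0, 2, 1, 0; 0, 1, 1, 0; 0, 0, 0, 1],
      !![1, 0, 0, 0; 0, 1, 2, 0; 0, 2, 2, 0; 0, 0, 0, 1])]

theorem levi_mul : ∀ k, (levi k).1 * (levi k).2 = 1 ∧ (levi k).1 *ᵥ e0 = e0 ∧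
    (levi k).1 * qM 0 0 1 0 0 = qM 0 0 1 0 0 * (levi k).1 := by
  decide +kernel

theorem levi_det : ∀ k, (levi k).1.det = 1 := by
  intro k
  fin_cases k <;> simp [levi, Matrix.det_succ_row_zero, Fin.sum_univ_succ] <;> decide

/-- The images of the coordinates of `Q` under the three elements. -/
def leviAct (a b d e : ZMod 3) : Fin 3 → ZMod 3 × ZMod 3 × ZMod 3 × ZMod 3 :=
  ![(2 * b, a, 2 * e, d), (2 * a + 2 * b, 2 * a + b, d + e, d + 2 * e),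
    (a + 2 * b, 2 * a + 2 * b, 2 * d + e, d + e)]

theorem qM_mul (a b c d e a' b' c' d' e' : ZMod 3) :
    qM a b c d e * qM a' b' c' d' e' =
      qM (a + a') (b + b') (c + c' + (a * d' + b * e')) (d + d') (e + e') := by
  ext i j
  fin_cases i <;> fin_cases j <;>
    simp [qM, Matrix.mul_apply, Fin.sum_univ_four] <;> ring

theorem commute_witness : ∀ a b d e : ZMod 3, (a ≠ 0 ∨ b ≠ 0) → (d ≠ 0 ∨ e ≠ 0) →
    ∃ k, (leviAct a b d e k).1 * d + (leviAct a b d e k).2.1 * e ≠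
      a * (leviAct a b d e k).2.2.1 + b * (leviAct a b d e k).2.2.2 := by
  decide +kernel

end CfsgLib.L43Three.BaseProof
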