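import Cfsg.Agent.Lib.L43Three.BaseModel
import Cfsg.Agent.Lib.Coprime.Gaschutz

/-!
# A complement of `D` in its normalizer (S3373, seat Base)

Lifts of transvections have order three; computing with the images of two diagonal involutions gives
a complement in a Sylow subgroup, and Gaschütz's theorem gives one in the normalizer.
-/

set_option autoImplicit false
set_option linter.style.haveILetI false
set_option linter.unusedSectionVars false

namespace CfsgLib.L43Three.BaseProof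

open Matrix hiding mul_inv_rev

universe u

variable {G : Type u} [Group G] [Finite G] (R : Pre G)

/-- `g` induces `A` on `D`. -/
def Acts (g : G) (A : S3) : Prop := ∀ x : V, g * R.v x * g⁻¹ = R.v (A.1 *ᵥ x)

theorem v_zero : R.v 0 = 1 := by
  have h := R.v_add 0 0
  rw [add_zero] at h
  exact left_eq_mul.1 h

theorem v_neg (x : V) : R.v (-x) = (R.v x)⁻¹ := by
  refine eq_inv_of_mul_eq_one_left ?_
  rw [← R.v_add, neg_add_cancel, v_zero]

theorem v_mul (x : V) (g : G) (y : V) : R.v x * (R.v y * g) = R.v (x + y) * g := by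
  rw [← mul_assoc, ← R.v_add]

theorem v_mem (x : V) : R.v x ∈ R.D := (R.mem_D _).2 ⟨x, rfl⟩

theorem card_D : Nat.card R.D = 27 := by
  rw [← Nat.card_congr (Equiv.ofBijective (fun x : V => (⟨R.v x, v_mem R x⟩ : R.D))
    ⟨fun x y h => R.v_inj (congrArg Subtype.val h), fun d => by
      obtain ⟨x, hx⟩ := (R.mem_D d.1).1 d.2
      exact ⟨x, Subtype.ext hx⟩⟩)]
  simp [Nat.card_eq_fintype_card]

variable {R}

namespace Acts

theorem move {g : G} {A : S3} (h : Acts R g A) (x : V) : g * R.v x = R.v (A.1 *ᵥ x) * g := by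
  rw [← h x, inv_mul_cancel_right]

theorem move' {g : G} {A : S3} (h : Acts R g A) (x : V) (r : G) :
    g * (R.v x * r) = R.v (A.1 *ᵥ x) * (g * r) := by
  rw [← mul_assoc, h.move, mul_assoc]

theorem one : Acts R 1 1 := fun x => by simp

theorem mul {g k : G} {A B : S3} (hg : Acts R g A) (hk : Acts R k B) :
    Acts R (g * k) (A * B) := fun x => by
  rw [show g * k * R.v x * (g * k)⁻¹ = g * (k * R.v x * k⁻¹) * g⁻¹ by group, hk, hg,
    Matrix.SpecialLinearGroup.coe_mul, ← Matrix.mulVec_mulVec]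

theorem inv {g : G} {A : S3} (hg : Acts R g A) : Acts R g⁻¹ A⁻¹ := fun x => by
  have h := hg ((A⁻¹).1 *ᵥ x)
  rw [Matrix.mulVec_mulVec, ← Matrix.SpecialLinearGroup.coe_mul, mul_inv_cancel,
    Matrix.SpecialLinearGroup.coe_one, Matrix.one_mulVec] at h
  rw [← h]
  group

theorem unique {g : G} {A B : S3} (hA : Acts R g A) (hB : Acts R g B) : A = B := by
  refine Subtype.ext (Matrix.ext_iff_mulVec.2 fun x => R.v_inj ?_)
  rw [← hA x, ← hB x]

theorem mem_normalizer {g : G} {A : S3} (hg : Acts R g A) :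
    g ∈ Subgroup.normalizer (R.D : Set G) := by
  rw [Subgroup.mem_normalizer_iff]
  intro d
  constructor
  · intro hd
    obtain ⟨x, rfl⟩ := (R.mem_D d).1 hd
    rw [hg x]
    exact v_mem R _
  · intro hd
    obtain ⟨x, hx⟩ := (R.mem_D _).1 hd
    have h := hg.inv x
    rw [hx] at h
    rw [show g⁻¹ * (g * d * g⁻¹) * g⁻¹⁻¹ = d by group] at h
    exact (R.mem_D _).2 ⟨_, h.symm⟩

end Acts

theorem acts_v (x : V) : Acts R (R.v x) 1 := fun y => by
  rw [← R.v_add, ← v_neg, ← R.v_add]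
  simp

theorem exists_v {g : G} (hg : Acts R g 1) : ∃ x, R.v x = g := by
  refine (R.mem_D g).1 ?_
  rw [← R.cent_D, Subgroup.mem_centralizer_iff]
  intro d hd
  obtain ⟨x, rfl⟩ := (R.mem_D d).1 hd
  have h := hg.move x
  rw [Matrix.SpecialLinearGroup.coe_one, Matrix.one_mulVec] at h
  exact h.symm

/-- Two elements with the same action differ by an element of `D`. -/
theorem exists_v_mul {g k : G} {A : S3} (hg : Acts R g A) (hk : Acts R k A) :
    ∃ x, g = R.v x * k := by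
  have h := hg.mul hk.inv
  rw [mul_inv_cancel] at h
  obtain ⟨x, hx⟩ := exists_v h
  exact ⟨x, by rw [hx, inv_mul_cancel_right]⟩

theorem cent_le_normalizer {g : G}
    (hg : g ∈ Subgroup.centralizer ({R.v ![0, 0, 1]} : Set G)) :
    g ∈ Subgroup.normalizer (R.D : Set G) := by
  refine R.norm_z (Subgroup.centralizer_le_normalizer _ ?_)
  rwa [Subgroup.zpowers_eq_closure, Subgroup.centralizer_closure]

theorem mem_cent {g : G} {A : S3} (hg : Acts R g A) (hA : A.1 *ᵥ ![0, 0, 1] = ![0, 0, 1]) :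
    g ∈ Subgroup.centralizer ({R.v ![0, 0, 1]} : Set G) := by
  rw [Subgroup.mem_centralizer_singleton_iff, hg.move, hA]

theorem D_le_Q' (x : V) : R.v x ∈ R.Q := R.D_le_Q (v_mem R x)

/-- `Q / D` is abelian. -/
theorem commutator_mem_D {x y : G} (hx : x ∈ R.Q) (hy : y ∈ R.Q) :
    x * y * x⁻¹ * y⁻¹ ∈ R.D := by
  haveI := Fact.mk Nat.prime_three
  haveI : (R.D.subgroupOf R.Q).Normal := ⟨fun n hn g => by
    rw [Subgroup.mem_subgroupOf] at hn ⊢
    exact (Subgroup.mem_normalizer_iff.1 (cent_le_normalizer (R.Q_le g.2)) _).1 hn⟩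
  have hc : Nat.card (R.Q ⧸ R.D.subgroupOf R.Q) = 3 ^ 2 := by
    have h1 := Subgroup.card_eq_card_quotient_mul_card_subgroup (R.D.subgroupOf R.Q)
    rw [Nat.card_congr (Subgroup.subgroupOfEquivOfLe R.D_le_Q).toEquiv, R.card_Q, card_D R] at h1
    omega
  have hcomm : ∀ a b : R.Q ⧸ R.D.subgroupOf R.Q, a * b = b * a := by
    haveI := IsPGroup.isMulCommutative_of_card_eq_prime_sq hc
    exact fun a b => mul_comm' a b
  have h := hcomm (⟨x, hx⟩ : R.Q) (⟨y, hy⟩ : R.Q)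
  rw [← QuotientGroup.mk_mul, ← QuotientGroup.mk_mul, QuotientGroup.eq,
    Subgroup.mem_subgroupOf] at h
  push_cast at h
  have h2 := (Subgroup.mem_normalizer_iff.1 (cent_le_normalizer (R.Q_le (mul_mem hy hx))) _).1
    (inv_mem h)
  have e : x * y * x⁻¹ * y⁻¹ = y * x * ((x * y)⁻¹ * (y * x))⁻¹ * (y * x)⁻¹ := by group
  rw [e]
  exact h2

theorem third_column {A : S3} (h : A.1 *ᵥ ![0, 0, 1] = ![0, 0, 1]) :
    A.1 = !![A.1 0 0, A.1 0 1, 0; A.1 1 0, A.1 1 1, 0; A.1 2 0, A.1 2 1, 1] := by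
  have h2 : ∀ i, A.1 i 2 = (![0, 0, 1] : V) i := fun i => by
    have := congrFun h i
    simpa [Matrix.mulVec, dotProduct, Fin.sum_univ_three] using this
  ext i j
  fin_cases j <;> fin_cases i <;> simp [h2]

theorem isU_of_mem {x : G} (hx : x ∈ R.Q) : ∃ A : S3, IsU A.1 ∧ Acts R x A := by
  obtain ⟨A, hA⟩ := R.mon x (cent_le_normalizer (R.Q_le hx))
  have hA' : Acts R x A := hA
  refine ⟨A, ?_, hA'⟩
  have hz : A.1 *ᵥ ![0, 0, 1] = ![0, 0, 1] := R.v_inj (by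
    rw [← hA ![0, 0, 1]]
    rw [(Subgroup.mem_centralizer_singleton_iff.1 (R.Q_le hx)), mul_inv_cancel_right])
  have hcube : A * A * A = 1 := ((hA'.mul hA').mul hA').unique (by
    rw [show x * x * x = x ^ 3 by rw [pow_succ, pow_two], R.Q_cube x hx]
    exact Acts.one)
  obtain ⟨g, hg⟩ := R.act mJ
  have hg' : Acts R g mJ := hg
  have hgc := mem_cent hg' named_facts.2.2.2.2.2.2.2.2.2.2.2.2.2.2.1
  have hy : g * x * g⁻¹ ∈ R.Q :=
    (Subgroup.mem_normalizer_iff.1 (R.Q_normal hgc) x).1 hx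
  have hJ' : mJ⁻¹ = mJ' := inv_eq_of_mul_eq_one_right named_facts.1
  have hAy := (hg'.mul hA').mul hg'.inv
  rw [hJ'] at hAy
  obtain ⟨k, hk⟩ := (R.mem_D _).1 (commutator_mem_D hx hy)
  have hcom : A * (mJ * A * mJ') = mJ * A * mJ' * A := by
    refine (hA'.mul hAy).unique ?_
    have h := (acts_v k).mul (hAy.mul hA')
    rw [one_mul, hk] at h
    convert h using 1
    group
  have e1 := congrArg Subtype.val hcube
  have e2 := congrArg Subtype.val hcom
  simp only [Matrix.SpecialLinearGroup.coe_mul, Matrix.SpecialLinearGroup.coe_one] at e1 e2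
  rw [third_column hz] at e1 e2
  obtain ⟨h1, h2, h3, h4⟩ := stab_forms _ _ _ _ _ _ e1 e2
  exact ⟨A.1 2 0, A.1 2 1, by
    conv_lhs => rw [third_column hz]
    rw [h1, h2, h3, h4]⟩

theorem eq_of_isU {A B : S3} (r s : ZMod 3) (hA : A.1 = !![1, 0, 0; 0, 1, 0; r, s, 1])
    (hB : B.1 = !![1, 0, 0; 0, 1, 0; r, s, 1]) : A = B := Subtype.ext (hA.trans hB.symm)

theorem mem_Q {g : G} {A : S3} (hg : Acts R g A) (hA : IsU A.1) : g ∈ R.Q := by
  classical
  choose M hMU hM using fun q : R.Q => isU_of_mem q.2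
  choose r s hrs using hMU
  suffices hsurj : Function.Surjective fun q : R.Q => (r q, s q) by
    obtain ⟨a, b, hab⟩ := hA
    obtain ⟨q, hq⟩ := hsurj (a, b)
    simp only [Prod.mk.injEq] at hq
    have hqA : Acts R q A := by
      rw [eq_of_isU a b hab (hq.1 ▸ hq.2 ▸ hrs q)]
      exact hM q
    obtain ⟨x, rfl⟩ := exists_v_mul hg hqA
    exact mul_mem (D_le_Q' x) q.2
  intro p
  by_contra hp
  let f : R.Q → {c : ZMod 3 × ZMod 3 // c ≠ p} := fun q => ⟨(r q, s q), fun h => hp ⟨q, h⟩⟩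
  have hval : ∀ q : R.Q, ∃ x : V, (q : G) = R.v x * (Function.invFun f (f q) : R.Q) := by
    intro q
    have h := congrArg Subtype.val (Function.invFun_eq (f := f) (b := f q) ⟨q, rfl⟩)
    have h1 : r (Function.invFun f (f q)) = r q := congrArg Prod.fst h
    have h2 : s (Function.invFun f (f q)) = s q := congrArg Prod.snd h
    refine exists_v_mul (hM q) ?_
    rw [eq_of_isU (r q) (s q) (hrs q) ((hrs (Function.invFun f (f q))).trans (by rw [h1, h2]))]
    exact hM _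
  choose x hx using hval
  have hle := Nat.card_le_card_of_injective (fun q => (f q, x q)) fun q q' h => by
    simp only [Prod.mk.injEq] at h
    exact Subtype.ext (by rw [hx q, hx q', h.2, h.1])
  rw [R.card_Q, Nat.card_prod, Nat.card_eq_fintype_card, Nat.card_eq_fintype_card,
    Fintype.card_subtype_compl, Fintype.card_prod, Fintype.card_subtype_eq, ZMod.card,
    Fintype.card_fun, ZMod.card, Fintype.card_fin] at hle
  norm_num at hle

theorem cube_Q {g : G} (h : g ∈ R.Q) : g * g * g = 1 := by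
  rw [show g * g * g = g ^ 3 by rw [pow_succ, pow_two], R.Q_cube g h]

theorem z_fixed_two (x : V) : (mH.1 *ᵥ x) 0 = -x 0 ∧ (mH.1 *ᵥ x) 1 = -x 1 ∧
    (mH.1 *ᵥ x) 2 = x 2 := by
  simp [mH, Matrix.mulVec, dotProduct, Fin.sum_univ_three,
    show (2 : ZMod 3) = -1 from by decide]

theorem mT_apply (x : V) : (mT.1 *ᵥ x) 0 = -x 0 ∧ (mT.1 *ᵥ x) 1 = x 1 ∧
    (mT.1 *ᵥ x) 2 = -x 2 := by
  simp [mT, Matrix.mulVec, dotProduct, Fin.sum_univ_three,
    show (2 : ZMod 3) = -1 from by decide]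

theorem mU_apply (x : V) : (mU.1 *ᵥ x) 0 = x 0 ∧ (mU.1 *ᵥ x) 1 = x 0 + x 1 ∧
    (mU.1 *ᵥ x) 2 = x 2 := by
  simp [mU, Matrix.mulVec, dotProduct, Fin.sum_univ_three]

theorem mW_apply (x : V) : (mW.1 *ᵥ x) 0 = x 0 ∧ (mW.1 *ᵥ x) 1 = x 1 ∧
    (mW.1 *ᵥ x) 2 = x 1 + x 2 := by
  simp [mW, Matrix.mulVec, dotProduct, Fin.sum_univ_three]

theorem mS_apply (x : V) : (mS.1 *ᵥ x) 0 = x 0 ∧ (mS.1 *ᵥ x) 1 = x 1 ∧
    (mS.1 *ᵥ x) 2 = x 2 - x 0 := by
  refine ⟨?_, ?_, ?_⟩ <;>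
    simp [mS, Matrix.mulVec, dotProduct, Fin.sum_univ_three, show (2 : ZMod 3) = -1 from by decide]
  ring

theorem isU_apply {A : S3} (hA : IsU A.1) (x : V) :
    (A.1 *ᵥ x) 0 = x 0 ∧ (A.1 *ᵥ x) 1 = x 1 := by
  obtain ⟨r, s, h⟩ := hA
  rw [h]
  simp [Matrix.mulVec, dotProduct, Fin.sum_univ_three]

theorem isU_inv {A : S3} (hA : IsU A.1) : IsU (A⁻¹ : S3).1 := by
  obtain ⟨r, s, h⟩ := hA
  refine ⟨-r, -s, ?_⟩
  have : A * ⟨!![1, 0, 0; 0, 1, 0; -r, -s, 1], by simp [Matrix.det_fin_three]⟩ = 1 := by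
    refine Subtype.ext ?_
    show A.1 * !![1, 0, 0; 0, 1, 0; -r, -s, 1] = 1
    rw [h]
    ext i j
    fin_cases i <;> fin_cases j <;> simp [Matrix.mul_apply, Fin.sum_univ_three]
  rw [inv_eq_of_mul_eq_one_right this]

theorem zmod_three_double : ∀ a : ZMod 3, a = -a → a = 0 := by decide

/-- Commutators in `Q` lie in `⟨z⟩`. -/
theorem commutator_z {x y : G} (hx : x ∈ R.Q) (hy : y ∈ R.Q) :
    ∃ k : V, k 0 = 0 ∧ k 1 = 0 ∧ x * y * x⁻¹ * y⁻¹ = R.v k := by
  obtain ⟨k, hk⟩ := (R.mem_D _).1 (commutator_mem_D hx hy)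
  obtain ⟨h, hh⟩ := R.act mH
  have hh' : Acts R h mH := hh
  have flip : ∀ {q : G}, q ∈ R.Q → ∃ A : S3, IsU A.1 ∧ Acts R q A ∧
      ∃ a : V, h * q * h⁻¹ = R.v a * q⁻¹ := by
    intro q hq
    obtain ⟨A, hA, hAq⟩ := isU_of_mem hq
    refine ⟨A, hA, hAq, exists_v_mul ?_ hAq.inv⟩
    have hH : mH * A * mH⁻¹ = A⁻¹ := by
      rw [inv_eq_of_mul_eq_one_right named_facts.2.2.2.2.2.2.2.2.1]
      refine (inv_eq_of_mul_eq_one_right ?_).symm
      obtain ⟨r, s, hr⟩ := hA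
      refine Subtype.ext ?_
      simp only [Matrix.SpecialLinearGroup.coe_mul, Matrix.SpecialLinearGroup.coe_one, hr]
      have : ∀ r s : ZMod 3, (!![1, 0, 0; 0, 1, 0; r, s, 1] : Matrix (Fin 3) (Fin 3) (ZMod 3)) *
          (mH.1 * !![1, 0, 0; 0, 1, 0; r, s, 1] * mH.1) = 1 := by decide +kernel
      exact this r s
    rw [← hH]
    exact (hh'.mul hAq).mul hh'.inv
  obtain ⟨X, hXU, hX, a, ha⟩ := flip hx
  obtain ⟨Y, hYU, hY, b, hb⟩ := flip hy
  have key : R.v (mH.1 *ᵥ k) = R.v (a + X⁻¹.1 *ᵥ b + (Y * X)⁻¹.1 *ᵥ k +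
      Y⁻¹.1 *ᵥ (-a) + -b) := by
    rw [← hh' k]
    calc h * R.v k * h⁻¹ = (h * x * h⁻¹) * (h * y * h⁻¹) * (h * x * h⁻¹)⁻¹ *
          (h * y * h⁻¹)⁻¹ := by rw [hk]; group
      _ = R.v a * (x⁻¹ * R.v b * x⁻¹⁻¹) * ((y * x)⁻¹ * R.v k * (y * x)⁻¹⁻¹) *
          (y⁻¹ * R.v (-a) * y⁻¹⁻¹) * R.v (-b) := by
        rw [ha, hb, v_neg, v_neg, hk]; group
      _ = _ := by
        rw [hX.inv, (hY.mul hX).inv, hY.inv, ← R.v_add, ← R.v_add, ← R.v_add, ← R.v_add]
  have e := R.v_inj key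
  refine ⟨k, ?_, ?_, hk.symm⟩
  · have e0 := congrFun e 0
    simp only [Pi.add_apply, Pi.neg_apply, (z_fixed_two k).1, mul_inv_rev,
      Matrix.SpecialLinearGroup.coe_mul, ← Matrix.mulVec_mulVec,
      (isU_apply (isU_inv hXU) _).1, (isU_apply (isU_inv hYU) _).1] at e0
    exact zmod_three_double _ (by linear_combination -e0)
  · have e1 := congrFun e 1
    simp only [Pi.add_apply, Pi.neg_apply, (z_fixed_two k).2.1, mul_inv_rev,
      Matrix.SpecialLinearGroup.coe_mul, ← Matrix.mulVec_mulVec,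
      (isU_apply (isU_inv hXU) _).2, (isU_apply (isU_inv hYU) _).2] at e1
    exact zmod_three_double _ (by linear_combination -e1)

variable (R)

/-- Lifts of the three root elements forming a complement of `D`. -/
theorem exists_heisenberg : ∃ u w s : G, Acts R u mU ∧ Acts R w mW ∧ Acts R s mS ∧
    u * u * u = 1 ∧ w * w * w = 1 ∧ s * s * s = 1 ∧
    u * w = s * w * u ∧ u * s = s * u ∧ w * s = s * w := by
  obtain ⟨-, -, hU3, hW3, hcomm, hS3, hUS, hWS, hH2, hT2, hTU, hTW, hHU, hHW, -, hUz, hHz⟩ :=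
    named_facts
  obtain ⟨hWU, hSU, hPU⟩ := named_isU
  obtain ⟨g, hg'⟩ := R.act mT
  obtain ⟨h, hh'⟩ := R.act mH
  have hg : Acts R g mT := hg'
  have hh : Acts R h mH := hh'
  have hTi : mT⁻¹ = mT := inv_eq_of_mul_eq_one_right hT2
  have hHi : mH⁻¹ = mH := inv_eq_of_mul_eq_one_right hH2
  have hUi : mU⁻¹ = mU * mU := inv_eq_of_mul_eq_one_right (by rw [← mul_assoc, hU3])
  have hWi : mW⁻¹ = mW * mW := inv_eq_of_mul_eq_one_right (by rw [← mul_assoc, hW3])
  -- lifts of `mU` have order three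
  have cubeU : ∀ q : G, Acts R q mU → q * q * q = 1 := by
    intro q hq
    obtain ⟨gp, hgp'⟩ := R.act mP
    have hgp : Acts R gp mP := hgp'
    have hc := cube_Q (mem_Q ((hgp.mul hq).mul hgp.inv) hPU)
    calc q * q * q = gp⁻¹ * (gp * q * gp⁻¹ * (gp * q * gp⁻¹) * (gp * q * gp⁻¹)) * gp := by group
      _ = 1 := by rw [hc]; group
  -- a lift `u` adapted to `h`
  obtain ⟨u, hu, a, hau, ha0⟩ : ∃ u, Acts R u mU ∧ ∃ a : V, h * u * h⁻¹ = R.v a * u ∧ a 0 = 0 := by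
    obtain ⟨u₀, hu₀'⟩ := R.act mU
    have hu₀ : Acts R u₀ mU := hu₀'
    obtain ⟨a, ha⟩ : ∃ a, h * u₀ * h⁻¹ = R.v a * u₀ := exists_v_mul (by
      have := (hh.mul hu₀).mul hh.inv
      rwa [hHi, hHU] at this) hu₀
    set p : V := ![-a 0, 0, 0] with hp
    refine ⟨R.v p * u₀, by simpa using (acts_v p).mul hu₀, mH.1 *ᵥ p + a + -p, ?_, ?_⟩
    · rw [show h * (R.v p * u₀) * h⁻¹ = (h * R.v p * h⁻¹) * (h * u₀ * h⁻¹) by group, hh p, ha,
        v_mul, v_mul]
      congr 2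
      abel
    · simp only [Pi.add_apply, Pi.neg_apply, (z_fixed_two p).1]
      simp [hp]
      have : ∀ t : ZMod 3, t + t + t = 0 := by decide
      exact this _
  have hu3 := cubeU u hu
  obtain ⟨w, hw'⟩ := R.act mW
  have hw : Acts R w mW := hw'
  have hwQ := mem_Q hw hWU
  have hw3 := cube_Q hwQ
  set s := u * w * u⁻¹ * w⁻¹ with hsdef
  have hs : Acts R s mS := by
    have := ((hu.mul hw).mul hu.inv).mul hw.inv
    rw [hUi, hWi] at this
    simp only [← mul_assoc] at this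
    rwa [hcomm] at this
  have hsQ := mem_Q hs hSU
  have hs3 := cube_Q hsQ
  have hsi : s⁻¹ = s * s := inv_eq_of_mul_eq_one_right (by rw [← mul_assoc, hs3])
  have hui : u⁻¹ = u * u := inv_eq_of_mul_eq_one_right (by rw [← mul_assoc, hu3])
  have huQ : ∀ q ∈ R.Q, u * q * u⁻¹ ∈ R.Q := fun q hq =>
    (Subgroup.mem_normalizer_iff.1 (R.Q_normal (mem_cent hu hUz)) q).1 hq
  -- `u s u⁻¹ = v d · s`
  obtain ⟨d, hd⟩ : ∃ d, u * s * u⁻¹ = R.v d * s := exists_v_mul (by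
    have := (hu.mul hs).mul hu.inv
    rwa [hUS, mul_inv_cancel_right] at this) hs
  have huw : u * w * u⁻¹ = s * w := by rw [hsdef]; group
  have hu2w : u * u * w * (u * u)⁻¹ = R.v d * (s * (s * w)) := by
    rw [show u * u * w * (u * u)⁻¹ = u * (u * w * u⁻¹) * u⁻¹ by group, huw,
      show u * (s * w) * u⁻¹ = (u * s * u⁻¹) * (u * w * u⁻¹) by group, hd, huw]
    group
  have hd0 : d 0 = 0 := by
    have h1 : R.v (mU.1 *ᵥ d + d + mS.1 *ᵥ d) * w = w := by
      calc R.v (mU.1 *ᵥ d + d + mS.1 *ᵥ d) * w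
          = R.v (mU.1 *ᵥ d + d + mS.1 *ᵥ d) * (s * s * s * w) := by rw [hs3, one_mul]
        _ = R.v (mU.1 *ᵥ d) * (R.v d * (s * (R.v d * (s * (s * w))))) := by
          rw [hs.move', v_mul, v_mul, R.v_add, R.v_add]
          simp only [mul_assoc]
        _ = (u * R.v d * u⁻¹) * ((u * s * u⁻¹) * ((u * s * u⁻¹) * (u * w * u⁻¹))) := by
          rw [hu d, hd, huw]; simp only [mul_assoc]
        _ = u * (R.v d * (s * (s * w))) * u⁻¹ := by group
        _ = (u * u * u) * w * (u * u * u)⁻¹ := by rw [← hu2w]; group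
        _ = w := by rw [hu3]; group
    have h2 := congrFun (R.v_inj ((mul_eq_right.1 h1).trans (v_zero R).symm)) 1
    simp only [Pi.add_apply, (mU_apply d).2.1, (mS_apply d).2.1, Pi.zero_apply] at h2
    have h3 : ∀ a b : ZMod 3, a + b + b + b = 0 → a = 0 := by decide
    exact h3 _ (d 1) h2
  obtain ⟨e', he0', he1', he'⟩ := commutator_z (inv_mem hwQ) hsQ
  have hews : w⁻¹ * s * w = R.v e' * s := by rw [← he']; group
  -- the second involution
  obtain ⟨b, hb⟩ : ∃ b, g * w * g⁻¹ = R.v b * w⁻¹ := exists_v_mul (by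
    have := (hg.mul hw).mul hg.inv
    rwa [hTi, hTW, ← hWi] at this) hw.inv
  obtain ⟨a', hau'⟩ : ∃ a', g * u * g⁻¹ = R.v a' * u⁻¹ := exists_v_mul (by
    have := (hg.mul hu).mul hg.inv
    rwa [hTi, hTU, ← hUi] at this) hu.inv
  obtain ⟨δ, hδ⟩ := exists_v (g := g * g) (by rw [← hT2]; exact hg.mul hg)
  have hsq : ∀ {q : G} {A : S3}, Acts R q A →
      g * g * q * (g * g)⁻¹ = R.v (δ + A.1 *ᵥ (-δ)) * q := by
    intro q A hq
    rw [← hδ, ← v_neg, mul_assoc, hq.move, v_mul]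
  have hb0 : b 0 = 0 := by
    have h1 : R.v (mT.1 *ᵥ b + mW.1 *ᵥ (-b)) * w = R.v (δ + mW.1 *ᵥ (-δ)) * w := by
      rw [← hsq hw, show g * g * w * (g * g)⁻¹ = g * (g * w * g⁻¹) * g⁻¹ by group, hb,
        show g * (R.v b * w⁻¹) * g⁻¹ = (g * R.v b * g⁻¹) * (g * w * g⁻¹)⁻¹ by group, hg b, hb,
        mul_inv_rev, inv_inv, ← v_neg, hw.move, v_mul]
    have h2 := congrFun (R.v_inj (mul_right_cancel h1)) 0
    simp only [Pi.add_apply, (mT_apply b).1, (mW_apply _).1, Pi.neg_apply] at h2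
    exact zmod_three_double _ (by linear_combination -h2)
  have hu2w' : u⁻¹ * w * u = R.v d * (s * (s * w)) := by
    rw [← hu2w, ← hui, inv_inv]
  obtain ⟨m, hm, hm0, hm1⟩ : ∃ m : V, g * s * g⁻¹ = R.v m * s ∧ m 0 = 0 ∧ m 1 = -d 1 := by
    refine ⟨a' + mU⁻¹.1 *ᵥ b + mW⁻¹.1 *ᵥ (mS.1 *ᵥ (-d + -a')) + e' + mS.1 *ᵥ (-b),
      ?_, ?_, ?_⟩
    · calc g * s * g⁻¹ = (g * u * g⁻¹) * (g * w * g⁻¹) * (g * u * g⁻¹)⁻¹ * (g * w * g⁻¹)⁻¹ := by
            rw [hsdef]; group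
        _ = R.v a' * ((u⁻¹ * R.v b * u⁻¹⁻¹) *
            ((u⁻¹ * w * u)⁻¹ * (R.v (-a') * (w * R.v (-b))))) := by
          rw [hau', hb, v_neg, v_neg]; group
        _ = R.v a' * (R.v (mU⁻¹.1 *ᵥ b) *
            (w⁻¹ * (s * (R.v (-d) * (R.v (-a') * (w * R.v (-b))))))) := by
          rw [hu.inv b, hu2w', v_neg R d]
          have hs3' : ∀ X : G, s * (s * (s * X)) = X := fun X => by
            rw [← mul_assoc, ← mul_assoc, hs3, one_mul]
          simp only [mul_inv_rev, hsi, mul_assoc, hs3']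
        _ = _ := by
          rw [v_mul R (-d), hs.move', hw.inv.move', v_mul, v_mul,
            show w⁻¹ * (s * (w * R.v (-b))) = (w⁻¹ * s * w) * R.v (-b) by group, hews,
            mul_assoc, hs.move, v_mul, v_mul]
    all_goals
      simp only [Pi.add_apply, Pi.neg_apply, hUi, hWi, Matrix.SpecialLinearGroup.coe_mul,
        ← Matrix.mulVec_mulVec, (mU_apply _).1, (mU_apply _).2.1, (mW_apply _).1,
        (mW_apply _).2.1, (mS_apply _).1, (mS_apply _).2.1, he0', he1', hb0, hd0]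
      ring
  have hd1 : d 1 = 0 := by
    have h1 : R.v (mT.1 *ᵥ m + m) * s = R.v (δ + mS.1 *ᵥ (-δ)) * s := by
      rw [← hsq hs, show g * g * s * (g * g)⁻¹ = g * (g * s * g⁻¹) * g⁻¹ by group, hm,
        show g * (R.v m * s) * g⁻¹ = (g * R.v m * g⁻¹) * (g * s * g⁻¹) by group, hg m, hm, v_mul]
    have h2 := congrFun (R.v_inj (mul_right_cancel h1)) 1
    simp only [Pi.add_apply, (mT_apply m).2.1, (mS_apply _).2.1, Pi.neg_apply, hm1] at h2
    exact zmod_three_double _ (by linear_combination -h2)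
  -- the first involution
  obtain ⟨b', hb'⟩ : ∃ b', h * w * h⁻¹ = R.v b' * w⁻¹ := exists_v_mul (by
    have := (hh.mul hw).mul hh.inv
    rwa [hHi, hHW, ← hWi] at this) hw.inv
  obtain ⟨ε, hε⟩ := exists_v (g := h * h) (by rw [← hH2]; exact hh.mul hh)
  have hb0' : b' 0 = 0 := by
    have h1 : R.v (mH.1 *ᵥ b' + mW.1 *ᵥ (-b')) * w = R.v (ε + mW.1 *ᵥ (-ε)) * w := by
      calc R.v (mH.1 *ᵥ b' + mW.1 *ᵥ (-b')) * w
          = (h * R.v b' * h⁻¹) * (h * w * h⁻¹)⁻¹ := by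
            rw [hh b', hb', mul_inv_rev, inv_inv, ← v_neg, hw.move, v_mul]
        _ = h * (R.v b' * w⁻¹) * h⁻¹ := by group
        _ = (h * h) * w * (h * h)⁻¹ := by rw [← hb']; group
        _ = _ := by rw [← hε, ← v_neg, mul_assoc, hw.move, v_mul]
    have h2 := congrFun (R.v_inj (mul_right_cancel h1)) 0
    simp only [Pi.add_apply, (z_fixed_two b').1, (mW_apply _).1, Pi.neg_apply] at h2
    exact zmod_three_double _ (by linear_combination -h2)
  obtain ⟨e'', he0'', he1'', he''⟩ := commutator_z (inv_mem hwQ) (inv_mem hsQ)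
  have hews' : w⁻¹ * s⁻¹ * w = R.v e'' * s⁻¹ := by rw [← he'']; group
  obtain ⟨n, hn, hn0, hn1⟩ : ∃ n : V, h * s * h⁻¹ = R.v n * s⁻¹ ∧ n 0 = 0 ∧ n 1 = 0 := by
    refine ⟨a + mU.1 *ᵥ b' + mW⁻¹.1 *ᵥ (mS⁻¹.1 *ᵥ (-a)) + e'' + mS⁻¹.1 *ᵥ (-b'), ?_, ?_, ?_⟩
    · calc h * s * h⁻¹ = (h * u * h⁻¹) * (h * w * h⁻¹) * (h * u * h⁻¹)⁻¹ * (h * w * h⁻¹)⁻¹ := by
            rw [hsdef]; group
        _ = R.v a * ((u * R.v b' * u⁻¹) *
            ((u * w * u⁻¹)⁻¹ * (R.v (-a) * (w * R.v (-b'))))) := by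
          rw [hau, hb', v_neg, v_neg]; group
        _ = R.v a * (R.v (mU.1 *ᵥ b') * (w⁻¹ * (s⁻¹ * (R.v (-a) * (w * R.v (-b')))))) := by
          rw [hu b', huw]; simp only [mul_inv_rev, mul_assoc]
        _ = _ := by
          rw [hs.inv.move', hw.inv.move', v_mul, v_mul,
            show w⁻¹ * (s⁻¹ * (w * R.v (-b'))) = (w⁻¹ * s⁻¹ * w) * R.v (-b') by group, hews',
            mul_assoc, hs.inv.move, v_mul, v_mul]
    all_goals
      have hSi : mS⁻¹ = mS * mS := inv_eq_of_mul_eq_one_right (by rw [← mul_assoc, hS3])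
      simp only [Pi.add_apply, Pi.neg_apply, hWi, hSi, Matrix.SpecialLinearGroup.coe_mul,
        ← Matrix.mulVec_mulVec, (mU_apply _).1, (mU_apply _).2.1, (mW_apply _).1,
        (mW_apply _).2.1, (mS_apply _).1, (mS_apply _).2.1, he0'', he1'', hb0', ha0]
      ring
  have hd2 : d 2 = 0 := by
    have h1 : R.v (mH.1 *ᵥ d + n) * s⁻¹ = R.v (a + mU.1 *ᵥ n + mS⁻¹.1 *ᵥ (-d + -a)) * s⁻¹ := by
      calc R.v (mH.1 *ᵥ d + n) * s⁻¹ = (h * R.v d * h⁻¹) * (h * s * h⁻¹) := by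
            rw [hh d, hn, v_mul]
        _ = h * (R.v d * s) * h⁻¹ := by group
        _ = (h * u * h⁻¹) * (h * s * h⁻¹) * (h * u * h⁻¹)⁻¹ := by rw [← hd]; group
        _ = R.v a * ((u * R.v n * u⁻¹) * ((u * s * u⁻¹)⁻¹ * R.v (-a))) := by
          rw [hau, hn, v_neg]; group
        _ = _ := by
          rw [hu n, hd, mul_inv_rev, ← v_neg, mul_assoc, ← R.v_add, hs.inv.move, v_mul, v_mul]
    have h2 := congrFun (R.v_inj (mul_right_cancel h1)) 2
    have hSi : mS⁻¹ = mS * mS := inv_eq_of_mul_eq_one_right (by rw [← mul_assoc, hS3])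
    simp only [Pi.add_apply, (z_fixed_two d).2.2, (mU_apply _).2.2, hSi,
      Matrix.SpecialLinearGroup.coe_mul, ← Matrix.mulVec_mulVec, (mS_apply _).2.2,
      (mS_apply _).1, Pi.neg_apply, ha0, hd0] at h2
    exact zmod_three_double _ (by linear_combination h2)
  have hus : u * s = s * u := by
    have hd' : d = 0 := by
      funext i
      fin_cases i
      exacts [hd0, hd1, hd2]
    rw [hd', v_zero, one_mul] at hd
    exact mul_inv_eq_iff_eq_mul.1 hd
  -- adjust `w`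
  obtain ⟨k, hk0, hk1, hk⟩ := commutator_z hwQ hsQ
  set cv : V := ![k 2, 0, 0] with hcv
  set t : V := mU.1 *ᵥ cv + mS.1 *ᵥ (-cv) with ht
  have htU : mU.1 *ᵥ t = t := by
    funext i
    fin_cases i <;>
      simp [ht, hcv, mU, mS, Matrix.mulVec, dotProduct, Fin.sum_univ_three]
  refine ⟨u, R.v cv * w, R.v t * s, hu, by simpa using (acts_v cv).mul hw,
    by simpa using (acts_v t).mul hs, hu3, cube_Q (mul_mem (D_le_Q' cv) hwQ),
    cube_Q (mul_mem (D_le_Q' t) hsQ), ?_, ?_, ?_⟩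
  · calc u * (R.v cv * w) = R.v (mU.1 *ᵥ cv) * ((u * w * u⁻¹) * u) := by rw [hu.move']; group
      _ = R.v (mU.1 *ᵥ cv) * (s * (w * u)) := by rw [huw, mul_assoc]
      _ = R.v t * s * (R.v cv * w) * u := by
        rw [ht, mul_assoc (R.v _ * s), mul_assoc (R.v _), mul_assoc (R.v cv), hs.move', v_mul,
          add_assoc, ← Matrix.mulVec_add, neg_add_cancel, Matrix.mulVec_zero, add_zero]
  · rw [hu.move', htU, hus, ← mul_assoc]
  · have hws : w * s = R.v k * (s * w) := by rw [← hk]; group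
    rw [mul_assoc (R.v cv), hw.move', v_mul, hws, v_mul, mul_assoc (R.v t), hs.move', v_mul]
    congr 2
    funext i
    fin_cases i <;>
      simp [ht, hcv, mU, mS, mW, dotProduct, Fin.sum_univ_three, hk0, hk1] <;> ring

end CfsgLib.L43Three.BaseProof
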