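import Cfsg.Agent.Lib.L43Three.Defs
import Cfsg.Agent.Lib.Transfer.Fusion

/-!
# The two cases (statement S3373)

If no conjugate of `z` lies in `D2` outside `⟨z⟩`, the class of `z` meets `Q` in `D1` only.  A
conjugate `x` outside is of Jordan type three; moving `x` to `z` carries the translates of `x` by
`⟨z, x₂₄⟩`, all in the class, onto elements of `Q`, which is impossible.
-/

set_option autoImplicit false
set_option maxRecDepth 100000
set_option linter.unusedSectionVars false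

namespace CfsgLib.L43Three.Cases

open Subgroup

universe u

/-- The upper unitriangular matrices. -/
def uM (k a b c d e : ZMod 3) : Matrix (Fin 4) (Fin 4) (ZMod 3) :=
  !![1, a, b, c; 0, 1, k, d; 0, 0, 1, e; 0, 0, 0, 1]

theorem det_uM (k a b c d e : ZMod 3) : (uM k a b c d e).det = 1 := by
  rw [Matrix.det_of_isUpperTriangular]
  · simp [uM, Fin.prod_univ_four]
  · intro i j h
    fin_cases i <;> fin_cases j <;> first | rfl | exact absurd h (by decide)

/-- The upper unitriangular elements of `SL₄(3)`. -/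
def uS (k a b c d e : ZMod 3) : S4 := ⟨uM k a b c d e, det_uM k a b c d e⟩

theorem uS_mul (k a b c d e k' a' b' c' d' e' : ZMod 3) :
    uS k a b c d e * uS k' a' b' c' d' e' =
      uS (k + k') (a + a') (b' + a * k' + b) (c' + a * d' + b * e' + c) (d' + k * e' + d) (e + e') := by
  apply Subtype.ext
  simp only [Matrix.SpecialLinearGroup.coe_mul]
  ext i j
  fin_cases i <;> fin_cases j <;> simp [uS, uM, Matrix.mul_apply, Fin.sum_univ_four] <;> ring

theorem uS_zero : uS 0 0 0 0 0 0 = 1 := by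
  apply Subtype.ext
  simp only [Matrix.SpecialLinearGroup.coe_one]
  ext i j
  fin_cases i <;> fin_cases j <;> simp [uS, uM]

theorem uS_mem (k a b c d e : ZMod 3) : uS k a b c d e ∈ PS := by
  refine Or.inl ?_
  ext i
  fin_cases i <;> simp [uS, uM, e0, Matrix.mulVec, dotProduct, Fin.sum_univ_four]

/-- The upper unitriangular elements of `P`. -/
def uP (k a b c d e : ZMod 3) : P := ⟨mk (uS k a b c d e), ⟨_, uS_mem k a b c d e, rfl⟩⟩

theorem uP_mul (k a b c d e k' a' b' c' d' e' : ZMod 3) :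
    uP k a b c d e * uP k' a' b' c' d' e' =
      uP (k + k') (a + a') (b' + a * k' + b) (c' + a * d' + b * e' + c) (d' + k * e' + d) (e + e') := by
  apply Subtype.ext
  show mk (uS k a b c d e) * mk (uS k' a' b' c' d' e') = mk _
  rw [← map_mul, uS_mul]

theorem uP_zero : uP 0 0 0 0 0 0 = 1 := by
  apply Subtype.ext
  show mk (uS 0 0 0 0 0 0) = 1
  rw [uS_zero, map_one]

theorem uP_inv (k a b c d e : ZMod 3) :
    (uP k a b c d e)⁻¹ = uP (-k) (-a) (-b + a * k) (-c + a * d + b * e - a * k * e) (-d + k * e) (-e) := by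
  refine inv_eq_of_mul_eq_one_right ?_
  rw [uP_mul, ← uP_zero]
  congr 1 <;> ring

theorem uP_inj {k a b c d e k' a' b' c' d' e' : ZMod 3}
    (h : uP k a b c d e = uP k' a' b' c' d' e') :
    k = k' ∧ a = a' ∧ b = b' ∧ c = c' ∧ d = d' ∧ e = e' := by
  have h1 : (uP k a b c d e)⁻¹ * uP k' a' b' c' d' e' = 1 := by rw [h, inv_mul_cancel]
  rw [uP_inv, uP_mul] at h1
  have h2 := (QuotientGroup.eq_one_iff _).1 (congrArg Subtype.val h1)
  obtain ⟨r, -, hr⟩ := Matrix.SpecialLinearGroup.mem_center_iff.1 h2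
  have key : ∀ i j : Fin 4, i ≠ j → ∀ K A B C D E : ZMod 3,
      Matrix.scalar (Fin 4) r = (uS K A B C D E).1 → (uS K A B C D E).1 i j = 0 := by
    intro i j hij K A B C D E e'
    rw [← e']
    simp [Matrix.scalar_apply, hij]
  have ea := key 0 1 (by decide) _ _ _ _ _ _ hr
  have eb := key 0 2 (by decide) _ _ _ _ _ _ hr
  have ec := key 0 3 (by decide) _ _ _ _ _ _ hr
  have ek := key 1 2 (by decide) _ _ _ _ _ _ hr
  have ed := key 1 3 (by decide) _ _ _ _ _ _ hr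
  have ee := key 2 3 (by decide) _ _ _ _ _ _ hr
  simp [uS, uM] at ea eb ec ek ed ee
  have e1 : k = k' := by linear_combination -ek
  have e2 : a = a' := by linear_combination -ea
  have e3 : e = e' := by linear_combination -ee
  subst e1 e2 e3
  refine ⟨rfl, rfl, ?_, ?_, ?_, rfl⟩
  · linear_combination -eb
  · have hb : b = b' := by linear_combination -eb
    have hd : d = d' := by linear_combination -ed
    subst hb hd
    linear_combination -ec
  · linear_combination -ed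

theorem uP_q (a b c d e : ZMod 3) : uP 0 a b c d e = qP a b c d e := rfl

theorem zP_eq : zP = uP 0 0 0 1 0 0 := rfl

theorem zP_comm (k a b c d e : ZMod 3) : zP * uP k a b c d e = uP k a b c d e * zP := by
  rw [zP_eq, uP_mul, uP_mul]
  congr 1 <;> ring

theorem uP_cube (k a b c d e : ZMod 3) :
    uP k a b c d e ^ 3 = uP 0 0 0 (a * k * e) 0 0 := by
  rw [pow_succ, pow_two, uP_mul, uP_mul]
  have key : ∀ k a b c d e : ZMod 3, k + k + k = 0 ∧ b + (a + a) * k + (b + a * k + b) = 0 ∧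
      c + (a + a) * d + (b + a * k + b) * e + (c + a * d + b * e + c) = a * k * e ∧
      d + (k + k) * e + (d + k * e + d) = 0 := by decide +kernel
  obtain ⟨h1, h2, h3, h4⟩ := key k a b c d e
  congr 1
  · exact (key a a a a a a).1
  · exact (key e e e e e e).1

/-- The unitriangular subgroup of `P`. -/
def U : Subgroup P where
  carrier := {x | ∃ k a b c d e, x = uP k a b c d e}
  one_mem' := ⟨0, 0, 0, 0, 0, 0, uP_zero.symm⟩
  mul_mem' := by
    rintro _ _ ⟨k, a, b, c, d, e, rfl⟩ ⟨k', a', b', c', d', e', rfl⟩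
    exact ⟨_, _, _, _, _, _, uP_mul ..⟩
  inv_mem' := by
    rintro _ ⟨k, a, b, c, d, e, rfl⟩
    exact ⟨_, _, _, _, _, _, uP_inv ..⟩

theorem card_U : Nat.card U = 3 ^ 6 := by
  let f : ZMod 3 × ZMod 3 × ZMod 3 × ZMod 3 × ZMod 3 × ZMod 3 → U := fun p =>
    ⟨uP p.1 p.2.1 p.2.2.1 p.2.2.2.1 p.2.2.2.2.1 p.2.2.2.2.2, _, _, _, _, _, _, rfl⟩
  have hf : Function.Bijective f := by
    refine ⟨fun p q h => ?_, ?_⟩
    · obtain ⟨h1, h2, h3, h4, h5, h6⟩ := uP_inj (congrArg Subtype.val h)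
      exact Prod.ext h1 (Prod.ext h2 (Prod.ext h3 (Prod.ext h4 (Prod.ext h5 h6))))
    · rintro ⟨_, k, a, b, c, d, e, rfl⟩
      exact ⟨(k, a, b, c, d, e), rfl⟩
  rw [← Nat.card_congr (Equiv.ofBijective f hf)]
  simp

/-- `x₄₂ᵏ x₄₃ˡ` -/
def lM (k l : ZMod 3) : Matrix (Fin 4) (Fin 4) (ZMod 3) :=
  !![1, 0, 0, 0; 0, 1, 0, 0; 0, 0, 1, 0; 0, k, l, 1]

theorem det_lM : ∀ k l : ZMod 3, (lM k l).det = 1 := by decide +kernel

theorem lM_mem : ∀ k l : ZMod 3, (⟨lM k l, det_lM k l⟩ : S4) ∈ PS := fun k l => by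
  refine Or.inl ?_
  ext i
  fin_cases i <;> simp [lM, e0, Matrix.mulVec, dotProduct, Fin.sum_univ_four]

/-- `x₄₂ᵏ x₄₃ˡ` in `P`. -/
def lP (k l : ZMod 3) : P := ⟨mk ⟨lM k l, det_lM k l⟩, ⟨_, lM_mem k l, rfl⟩⟩

theorem lP_rel : ∀ α β γ : ZMod 3, γ ≠ 0 →
    uM 0 α β γ 0 0 * lM (-α * γ) (-β * γ) = lM (-α * γ) (-β * γ) * uM 0 0 0 γ 0 0 := by
  decide +kernel

/-- `diag (1, -1, 1, -1)` -/
def hS : S4 := ⟨Matrix.diagonal ![1, -1, 1, -1], by rw [Matrix.det_diagonal]; decide +kernel⟩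

theorem hS_mem : hS ∈ PS := Or.inl (by decide +kernel)

theorem hS_rel : uM 0 0 0 2 0 0 * hS.1 = hS.1 * uM 0 0 0 1 0 0 := by decide +kernel

/-- The permutation of the last two coordinates with a sign. -/
def wS : S4 := ⟨!![1, 0, 0, 0; 0, 1, 0, 0; 0, 0, 0, 1; 0, 0, -1, 0], by decide +kernel⟩

theorem wS_mem : wS ∈ PS := Or.inl (by decide +kernel)

theorem wS_rel : ∀ k a b c : ZMod 3,
    uM 0 a c (-b) (-k) 0 * wS.1 = wS.1 * uM k a b c 0 0 := by decide +kernel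

theorem isConj_of_rel {A B : S4} {H : S4} (hH : H ∈ PS) (hA : A ∈ PS) (hB : B ∈ PS)
    (h : A.1 * H.1 = H.1 * B.1) :
    IsConj (⟨mk B, ⟨_, hB, rfl⟩⟩ : P) (⟨mk A, ⟨_, hA, rfl⟩⟩ : P) := by
  refine isConj_iff.2 ⟨⟨mk H, ⟨_, hH, rfl⟩⟩, Subtype.ext ?_⟩
  show mk H * mk B * (mk H)⁻¹ = mk A
  have e : A * H = H * B := Subtype.ext (by
    simp only [Matrix.SpecialLinearGroup.coe_mul]; exact h)
  rw [← map_mul, ← e, map_mul, mul_inv_cancel_right]

/-- `P` is transitive on `D1#`. -/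
theorem conj_D1 {a b c : ZMod 3} (h : a ≠ 0 ∨ b ≠ 0 ∨ c ≠ 0) : IsConj zP (uP 0 a b c 0 0) := by
  have hpos : ∀ α β γ : ZMod 3, γ ≠ 0 → IsConj zP (uP 0 α β γ 0 0) := by
    intro α β γ hγ
    refine IsConj.trans ?_ (isConj_of_rel (H := ⟨lM _ _, det_lM _ _⟩) (A := uS 0 α β γ 0 0)
      (B := uS 0 0 0 γ 0 0) (lM_mem _ _) (uS_mem ..) (uS_mem ..) (lP_rel α β γ hγ))
    rcases (show ∀ g : ZMod 3, g ≠ 0 → g = 1 ∨ g = 2 by decide +kernel) γ hγ with rfl | rfl
    · exact IsConj.refl _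
    · exact isConj_of_rel (A := uS 0 0 0 2 0 0) (B := uS 0 0 0 1 0 0) hS_mem (uS_mem ..)
        (uS_mem ..) hS_rel
  obtain ⟨d, e, hde⟩ : ∃ d e : ZMod 3, c - a * d - b * e ≠ 0 :=
    (by decide +kernel : ∀ a b c : ZMod 3, (a ≠ 0 ∨ b ≠ 0 ∨ c ≠ 0) →
      ∃ d e : ZMod 3, c - a * d - b * e ≠ 0) a b c h
  refine (hpos a b _ hde).trans (IsConj.symm (isConj_iff.2 ⟨uP 0 0 0 0 d e, ?_⟩))
  rw [uP_inv, uP_mul, uP_mul]
  congr 1 <;> ring

/-- With the last entry of `e` zero one conjugates into `Q`. -/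
theorem conj_e_zero {k a b c d : ZMod 3} (hk : k ≠ 0) :
    ∃ c' : ZMod 3, IsConj (uP k a b c d 0) (uP 0 a c' (-b) (-k) 0) := by
  refine ⟨c - b * (d * k), IsConj.trans (isConj_iff.2 ⟨uP 0 0 0 0 0 (d * k), ?_⟩)
    (isConj_of_rel (A := uS 0 a (c - b * (d * k)) (-b) (-k) 0)
      (B := uS k a b (c - b * (d * k)) 0 0) wS_mem (uS_mem ..) (uS_mem ..) (wS_rel ..))⟩
  rw [uP_inv, uP_mul, uP_mul]
  have key : ∀ k d : ZMod 3, k ≠ 0 → d - k * (d * k) = 0 := by decide +kernel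
  have := key k d hk
  show uP _ _ _ _ _ _ = uP k a b (c - b * (d * k)) 0 0
  congr 1 <;> first | ring1 | linear_combination this

/-- The translates of an element of Jordan type three by `⟨z, x₂₄⟩`. -/
theorem conj_shift {k b c d e c' d' : ZMod 3} (hk : k ≠ 0) (he : e ≠ 0) :
    IsConj (uP k 0 b c d e) (uP k 0 b c' d' e) := by
  have key : ∀ k b c d e c' d' : ZMod 3, k ≠ 0 → e ≠ 0 →
      d - k * ((d - d') * k) = d' ∧
      c - b * ((d - d') * k) + (c' - (c - b * ((d - d') * k))) * e * e = c' := by decide +kernel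
  obtain ⟨h1, h2⟩ := key k b c d e c' d' hk he
  refine IsConj.trans (b := uP k 0 b (c - b * ((d - d') * k)) d' e)
    (isConj_iff.2 ⟨uP 0 0 0 0 0 ((d - d') * k), ?_⟩)
    (isConj_iff.2 ⟨uP 0 0 ((c' - (c - b * ((d - d') * k))) * e) 0 0 0, ?_⟩)
  · rw [uP_inv, uP_mul, uP_mul]
    congr 1 <;> first | ring1 | linear_combination h1
  · rw [uP_inv, uP_mul, uP_mul]
    congr 1 <;> first | ring1 | linear_combination h2

/-- An element of Jordan type three is not a transvection. -/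
theorem not_conj_bad {k b c d e : ZMod 3} (hk : k ≠ 0) (he : e ≠ 0) :
    ¬ IsConj zP (uP k 0 b c d e) := by
  intro h
  obtain ⟨⟨p, ⟨H, hH, rfl⟩⟩, hp⟩ := isConj_iff.1 h
  have h1 : mk (H * uS 0 0 0 1 0 0 * H⁻¹) = mk (uS k 0 b c d e) := by
    rw [map_mul, map_mul, map_inv]
    exact congrArg Subtype.val hp
  set Z := H * uS 0 0 0 1 0 0 * H⁻¹ with hZ
  have h2 : Z⁻¹ * uS k 0 b c d e ∈ Subgroup.center S4 := QuotientGroup.eq.1 h1
  obtain ⟨r, -, hr⟩ := Matrix.SpecialLinearGroup.mem_center_iff.1 h2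
  have h3 : (uS k 0 b c d e).1 = Z.1 * Matrix.scalar (Fin 4) r := by
    rw [hr, ← Matrix.SpecialLinearGroup.coe_mul, mul_inv_cancel_left]
  have hHi : H.1 * (H⁻¹).1 = 1 := by
    rw [← Matrix.SpecialLinearGroup.coe_mul, mul_inv_cancel, Matrix.SpecialLinearGroup.coe_one]
  have hHi' : (H⁻¹).1 * H.1 = 1 := by
    rw [← Matrix.SpecialLinearGroup.coe_mul, inv_mul_cancel, Matrix.SpecialLinearGroup.coe_one]
  have hZ' : Z.1 = H.1 * uM 0 0 0 1 0 0 * (H⁻¹).1 := by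
    rw [hZ, Matrix.SpecialLinearGroup.coe_mul, Matrix.SpecialLinearGroup.coe_mul]; rfl
  have htr : r = 1 := by
    have t1 : Matrix.trace (uS k 0 b c d e).1 = Matrix.trace (uM 0 0 0 1 0 0) * r := by
      rw [h3, Matrix.scalar_apply, ← Matrix.smul_one_eq_diagonal, Matrix.mul_smul, mul_one,
        Matrix.trace_smul, hZ', Matrix.trace_mul_cycle, hHi', one_mul, smul_eq_mul, mul_comm]
    have t2 : ∀ k' a' b' c' d' e' : ZMod 3, Matrix.trace (uM k' a' b' c' d' e') = 1 := by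
      intro k' a' b' c' d' e'
      simp [Matrix.trace, uM, Fin.sum_univ_four]
      decide
    have t3 : Matrix.trace (uS k 0 b c d e).1 = 1 := t2 ..
    rw [t3, t2, one_mul] at t1
    exact t1.symm
  rw [htr, map_one, mul_one] at h3
  have h4 : ((uS k 0 b c d e).1 - 1) * ((uS k 0 b c d e).1 - 1) = 0 := by
    have hz : (uM 0 0 0 1 0 0 - 1) * (uM 0 0 0 1 0 0 - 1) = 0 := by decide +kernel
    have e1 : (uS k 0 b c d e).1 - 1 = H.1 * (uM 0 0 0 1 0 0 - 1) * (H⁻¹).1 := by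
      rw [h3, hZ', mul_sub, sub_mul, mul_one, hHi]
    rw [e1]
    calc H.1 * (uM 0 0 0 1 0 0 - 1) * (H⁻¹).1 * (H.1 * (uM 0 0 0 1 0 0 - 1) * (H⁻¹).1)
        = H.1 * (uM 0 0 0 1 0 0 - 1) * ((H⁻¹).1 * H.1) * (uM 0 0 0 1 0 0 - 1) * (H⁻¹).1 := by
          simp only [mul_assoc]
      _ = H.1 * ((uM 0 0 0 1 0 0 - 1) * (uM 0 0 0 1 0 0 - 1)) * (H⁻¹).1 := by
          rw [hHi', mul_one]; simp only [mul_assoc]
      _ = 0 := by rw [hz, mul_zero, zero_mul]
  have h5 := congrFun (congrFun h4 1) 3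
  simp [uS, uM, Matrix.mul_apply, Fin.sum_univ_four] at h5
  exact h5.elim hk he

variable {G : Type u} [Group G] [Finite G] (B : Base G)

/-- The class of `z`. -/
def Cls (x : P) : Prop := IsConj (B.ι zP) (B.ι x)

variable {B}

theorem cls_conj {x y : P} (h : Cls B x) (hxy : IsConj x y) : Cls B y :=
  IsConj.trans h (B.ι.map_isConj hxy)

theorem cls_Q (hD : ¬ HasD2 B) {a b c d e : ZMod 3} (h : Cls B (uP 0 a b c d e)) :
    d = 0 ∧ e = 0 := by
  rw [uP_q] at h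
  by_contra hne
  rcases B.fusQ a b c d e h with ⟨rfl, rfl⟩ | h'
  · exact hD ⟨c, d, e, not_and_or.1 hne, h⟩
  · exact hne h'

theorem z_cube : zP ^ 3 = 1 := by
  rw [zP_eq, uP_cube, ← uP_zero]
  congr 1

theorem z_ne : zP ≠ 1 := by
  rw [zP_eq, ← uP_zero]
  intro h
  exact one_ne_zero (uP_inj h).2.2.2.1

theorem cls_cube {x : P} (h : Cls B x) : x ^ 3 = 1 := by
  apply B.inj
  obtain ⟨g, hg⟩ := isConj_iff.1 h
  rw [map_pow, map_one, ← hg, conj_pow, ← map_pow, z_cube, map_one, mul_one, mul_inv_cancel]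

theorem cls_ne {x : P} (h : Cls B x) : x ≠ 1 := by
  intro hx
  obtain ⟨g, hg⟩ := isConj_iff.1 h
  rw [hx, map_one, conj_eq_one_iff, ← map_one B.ι] at hg
  exact z_ne (B.inj hg)

/-- A conjugate of `z` in `Q` is one in `P`. -/
theorem conj_of_k_zero (hD : ¬ HasD2 B) {a b c d e : ZMod 3} (h : Cls B (uP 0 a b c d e)) :
    IsConj zP (uP 0 a b c d e) := by
  obtain ⟨rfl, rfl⟩ := cls_Q hD h
  refine conj_D1 ?_
  by_contra hn
  push Not at hn
  obtain ⟨rfl, rfl, rfl⟩ := hn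
  exact cls_ne h uP_zero

/-- An element fixing `z` lies in the image. -/
theorem mem_range {w : G} (h : w * B.ι zP = B.ι zP * w) : ∃ p : P, B.ι p = w := by
  refine B.norm_z (centralizer_le_normalizer _ (mem_centralizer_iff.2 fun y hy => ?_))
  obtain ⟨n, rfl⟩ := mem_zpowers_iff.1 hy
  exact ((show Commute w (B.ι zP) from h).zpow_right n).symm.eq

theorem k_pow {K A Bb C D E : ZMod 3} (n : ℕ) :
    ∃ a b c d e, uP K A Bb C D E ^ n = uP ((n : ZMod 3) * K) a b c d e := by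
  induction n with
  | zero => exact ⟨0, 0, 0, 0, 0, by rw [pow_zero, Nat.cast_zero, zero_mul, uP_zero]⟩
  | succ n ih =>
    obtain ⟨a, b, c, d, e, he⟩ := ih
    rw [pow_succ, he, uP_mul,
      show ((n + 1 : ℕ) : ZMod 3) * K = (n : ZMod 3) * K + K by push_cast; ring]
    exact ⟨_, _, _, _, _, rfl⟩

theorem t_pow (n : ℕ) : uP 0 0 0 0 1 0 * zP ^ n = uP 0 0 0 (n : ZMod 3) 1 0 := by
  induction n with
  | zero => rw [pow_zero, mul_one, Nat.cast_zero]
  | succ n ih =>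
    rw [pow_succ, ← mul_assoc, ih, zP_eq, uP_mul]
    congr 1 <;> (push_cast; ring)

theorem kill : ∀ s w : ZMod 3, w ≠ 0 → ∃ n : Fin 3, s + (n.val : ZMod 3) * w = 0 := by decide +kernel

/-- Jordan type three does not occur in the class. -/
theorem no_bad (hD : ¬ HasD2 B) {k b c d e : ZMod 3} (hk : k ≠ 0) (he : e ≠ 0)
    (h : Cls B (uP k 0 b c d e)) : False := by
  have : Fact (Nat.Prime 3) := ⟨Nat.prime_three⟩
  set x := uP k 0 b c d e with hx
  set t := uP 0 0 0 0 1 0 with ht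
  obtain ⟨g, hg⟩ := isConj_iff.1 h.symm
  have hxz : x * zP = zP * x := (zP_comm ..).symm
  have hxt : x * t = t * x := by rw [hx, ht, uP_mul, uP_mul]; congr 1 <;> ring
  have hpre : ∀ w : P, x * w = w * x → ∃ w' : P, g * B.ι w * g⁻¹ = B.ι w' ∧ w' * zP = zP * w' := by
    intro w hw
    have h1 : g * B.ι w * g⁻¹ * B.ι zP = B.ι zP * (g * B.ι w * g⁻¹) := by
      rw [← hg]
      calc g * B.ι w * g⁻¹ * (g * B.ι x * g⁻¹) = g * (B.ι w * B.ι x) * g⁻¹ := by group
        _ = g * (B.ι x * B.ι w) * g⁻¹ := by rw [← map_mul, ← hw, map_mul]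
        _ = _ := by group
    obtain ⟨w', hw'⟩ := mem_range h1
    refine ⟨w', hw'.symm, B.inj ?_⟩
    rw [map_mul, map_mul, hw', h1]
  obtain ⟨y₀, hy₀, hy₀z⟩ := hpre zP hxz
  obtain ⟨s₀, hs₀, hs₀z⟩ := hpre t hxt
  -- move the two images into `U`
  have hy₀3 : y₀ ^ 3 = 1 := B.inj (by
    rw [map_pow, map_one, ← hy₀, conj_pow, ← map_pow, z_cube, map_one, mul_one, mul_inv_cancel])
  have hs₀3 : s₀ ^ 3 = 1 := B.inj (by
    rw [map_pow, map_one, ← hs₀, conj_pow, ← map_pow, ht, uP_cube,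
      show uP 0 0 0 ((0 : ZMod 3) * 0 * 0) 0 0 = 1 by rw [← uP_zero]; congr 1,
      map_one, mul_one, mul_inv_cancel])
  have hcomm : y₀ * s₀ = s₀ * y₀ := B.inj (by
    rw [map_mul, map_mul, ← hy₀, ← hs₀]
    have e0' : B.ι zP * B.ι t = B.ι t * B.ι zP := by rw [← map_mul, ← map_mul, ht, zP_comm]
    calc g * B.ι zP * g⁻¹ * (g * B.ι t * g⁻¹) = g * (B.ι zP * B.ι t) * g⁻¹ := by group
      _ = g * (B.ι t * B.ι zP) * g⁻¹ := by rw [e0']
      _ = _ := by group)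
  have hp : ∀ w : P, w ^ 3 = 1 → IsPGroup 3 (zpowers w) := fun w hw z => by
    obtain ⟨i, hi⟩ := mem_zpowers_iff.1 z.2
    refine ⟨1, Subtype.ext ?_⟩
    rw [SubmonoidClass.coe_pow, ← hi, pow_one, ← zpow_natCast, ← zpow_mul, mul_comm, zpow_mul,
      zpow_natCast, hw, one_zpow]
    rfl
  have hK : U ≤ centralizer ({zP} : Set P) := by
    rintro _ ⟨k', a', b', c', d', e', rfl⟩
    exact mem_centralizer_singleton_iff.2 (zP_comm ..).symm
  have hnd : ¬ 3 ∣ U.index := fun hd => B.sylow (by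
    refine dvd_trans ?_ (Subgroup.card_dvd_of_injective B.ι B.inj)
    rw [← U.card_mul_index, card_U, pow_succ]
    exact mul_dvd_mul_left _ hd)
  obtain ⟨m, hm, hmU⟩ := Transfer.exists_conj_le_of_isPGroup (p := 3)
    (K := centralizer ({zP} : Set P)) (U := U) (V := zpowers y₀ ⊔ zpowers s₀)
    (IsPGroup.of_card (n := 6) card_U) hK
    (fun hd => hnd (hd.trans ⟨_, (relIndex_mul_index hK).symm⟩))
    ((hp y₀ hy₀3).to_sup_of_normal_right' (hp s₀ hs₀3) (by
      refine (zpowers_le.2 ?_).trans (centralizer_le_normalizer _)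
      refine mem_centralizer_iff.2 fun w hw => ?_
      obtain ⟨i, rfl⟩ := mem_zpowers_iff.1 hw
      exact ((show Commute y₀ s₀ from hcomm).zpow_right i).symm.eq))
    (sup_le (zpowers_le.2 (mem_centralizer_singleton_iff.2 hy₀z))
      (zpowers_le.2 (mem_centralizer_singleton_iff.2 hs₀z)))
  set g' := (B.ι m)⁻¹ * g with hg'def
  have hg'x : g' * B.ι x * g'⁻¹ = B.ι zP := by
    have hmz : m * zP = zP * m := mem_centralizer_singleton_iff.1 hm
    calc g' * B.ι x * g'⁻¹ = (B.ι m)⁻¹ * (g * B.ι x * g⁻¹) * B.ι m := by rw [hg'def]; group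
      _ = (B.ι m)⁻¹ * (B.ι zP * B.ι m) := by rw [hg]; group
      _ = B.ι zP := by rw [← map_mul, ← hmz, map_mul, inv_mul_cancel_left]
  have himg : ∀ w w' : P, g * B.ι w * g⁻¹ = B.ι w' → g' * B.ι w * g'⁻¹ = B.ι (m⁻¹ * w' * m) := by
    intro w w' hw
    rw [map_mul, map_mul, map_inv, ← hw, hg'def]; group
  have hyU := hmU y₀ (mem_sup_left (mem_zpowers _))
  have hsU := hmU s₀ (mem_sup_right (mem_zpowers _))
  obtain ⟨K, A, Bb, C, D, E, hy⟩ := hyU
  obtain ⟨Ks, As, Bs, Cs, Ds, Es, hs⟩ := hsU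
  have hgy := himg _ _ hy₀
  have hgs := himg _ _ hs₀
  rw [hy] at hgy
  rw [hs] at hgs
  -- the image of `z` lies outside `Q`
  have hK0 : K ≠ 0 := by
    rintro rfl
    have hcls : Cls B (uP 0 A Bb C D E) := isConj_iff.2 ⟨g', hgy⟩
    obtain ⟨p, hp'⟩ := isConj_iff.1 (conj_of_k_zero hD hcls).symm
    obtain ⟨q, hq⟩ := mem_range (w := B.ι p * g') (by
      rw [← mul_inv_eq_iff_eq_mul]
      calc B.ι p * g' * B.ι zP * (B.ι p * g')⁻¹ = B.ι p * (g' * B.ι zP * g'⁻¹) * (B.ι p)⁻¹ := by group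
        _ = B.ι zP := by rw [hgy, ← map_inv, ← map_mul, ← map_mul, hp'])
    refine not_conj_bad (b := b) (c := c) (d := d) hk he (isConj_iff.2 ⟨q⁻¹ * p, B.inj ?_⟩)
    rw [map_mul, map_mul, map_inv, map_mul, map_inv, hq, ← hg'x, hx]
    group
  obtain ⟨n, hn⟩ : ∃ n : ℕ, Ks + (n : ZMod 3) * K = 0 := by
    obtain ⟨n, hn⟩ := kill Ks K hK0
    exact ⟨n.val, hn⟩
  obtain ⟨A1, B1, C1, D1, E1, hpow⟩ := k_pow (K := K) (A := A) (Bb := Bb) (C := C) (D := D) (E := E) n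
  have himg2 : g' * B.ι (uP 0 0 0 (n : ZMod 3) 1 0) * g'⁻¹ =
      B.ι (uP Ks As Bs Cs Ds Es * uP K A Bb C D E ^ n) := by
    rw [← t_pow, map_mul, map_mul, map_pow, map_pow, ← hgs, ← hgy, conj_pow, ← ht]; group
  rw [hpow, uP_mul, hn] at himg2
  generalize As + A1 = A2, B1 + As * ((n : ZMod 3) * K) + Bs = B2,
    C1 + As * D1 + Bs * E1 + Cs = C2, D1 + Ks * E1 + Ds = D2, Es + E1 = E2 at himg2
  have hnot : ¬ (D2 = 0 ∧ E2 = 0) := by
    rintro ⟨rfl, rfl⟩
    have h0 : A2 ≠ 0 ∨ B2 ≠ 0 ∨ C2 ≠ 0 := by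
      by_contra hz
      push Not at hz
      obtain ⟨rfl, rfl, rfl⟩ := hz
      rw [uP_zero, map_one, conj_eq_one_iff, ← map_one B.ι, ← uP_zero] at himg2
      exact one_ne_zero (uP_inj (B.inj himg2)).2.2.2.2.1
    have hcls : Cls B (uP 0 0 0 (n : ZMod 3) 1 0) :=
      (B.ι.map_isConj (conj_D1 h0)).trans (isConj_iff.2 ⟨g', himg2⟩).symm
    exact one_ne_zero (cls_Q hD hcls).1
  have hcls2 : Cls B (uP 0 A2 B2 (C2 + 1) D2 E2) := by
    refine (cls_conj h (conj_shift (c' := c + (n : ZMod 3)) (d' := d + 1) hk he)).trans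
      (isConj_iff.2 ⟨g', ?_⟩)
    have e1 : uP k 0 b (c + (n : ZMod 3)) (d + 1) e = x * uP 0 0 0 (n : ZMod 3) 1 0 := by
      rw [hx, uP_mul]; congr 1 <;> ring
    have e2 : uP 0 A2 B2 (C2 + 1) D2 E2 = zP * uP 0 A2 B2 C2 D2 E2 := by
      rw [zP_eq, uP_mul]; congr 1 <;> ring
    rw [e1, e2, map_mul, map_mul, ← himg2, ← hg'x]; group
  exact hnot (cls_Q hD hcls2)

end CfsgLib.L43Three.Cases

namespace CfsgLib.L43Three

universe u

open Cases in
theorem cases : StmtCases.{u} := by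
  intro G _ _ B
  by_cases hD : HasD2 B
  · exact Or.inr hD
  refine Or.inl fun x hx => ?_
  have : Fact (Nat.Prime 3) := ⟨Nat.prime_three⟩
  have h3 := cls_cube hx
  obtain ⟨m, -, hmU⟩ := Transfer.exists_conj_le_of_isPGroup (p := 3) (K := (⊤ : Subgroup P))
    (U := U) (V := Subgroup.zpowers x) (IsPGroup.of_card (n := 6) card_U) le_top
    (by
      rw [Subgroup.relIndex_top_right]
      exact fun hd => B.sylow (by
        refine dvd_trans ?_ (Subgroup.card_dvd_of_injective B.ι B.inj)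
        rw [← U.card_mul_index, card_U, pow_succ]
        exact mul_dvd_mul_left _ hd))
    (fun z => by
      obtain ⟨i, hi⟩ := Subgroup.mem_zpowers_iff.1 z.2
      refine ⟨1, Subtype.ext ?_⟩
      rw [SubmonoidClass.coe_pow, ← hi, pow_one, ← zpow_natCast, ← zpow_mul, mul_comm, zpow_mul,
        zpow_natCast, h3, one_zpow]
      rfl)
    le_top
  have hconj : IsConj x (m⁻¹ * x * m) := isConj_iff.2 ⟨m⁻¹, by rw [inv_inv]⟩
  obtain ⟨k, a, b, c, d, e, hu⟩ := hmU x (Subgroup.mem_zpowers _)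
  rw [hu] at hconj
  have hcls := cls_conj hx hconj
  refine IsConj.trans ?_ hconj.symm
  rcases eq_or_ne k 0 with rfl | hk
  · exact conj_of_k_zero hD hcls
  rcases eq_or_ne e 0 with rfl | he
  · obtain ⟨c', hc'⟩ := conj_e_zero (a := a) (b := b) (c := c) (d := d) hk
    exact (conj_of_k_zero hD (cls_conj hcls hc')).trans hc'.symm
  have ha : a = 0 := by
    have h := cls_cube hcls
    rw [uP_cube, ← uP_zero] at h
    rcases mul_eq_zero.1 (uP_inj h).2.2.2.1 with h' | h'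
    · exact (mul_eq_zero.1 h').resolve_right hk
    · exact absurd h' he
  subst ha
  exact (no_bad hD hk he hcls).elim

end CfsgLib.L43Three
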