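import Cfsg.Agent.Lib.L43Three.Defs
import Cfsg.Agent.Lib.Fusion.WholeGroupSylow

/-!
# The census (piece Census of S3373)
-/

set_option autoImplicit false
set_option maxRecDepth 100000

namespace CfsgLib.L43Three

open Subgroup

universe u

/-- Piece 14. -/
theorem census : StmtCensus.{u} := by
  rintro ⟨hsq, -, T, hcentT, hsylT, hcrit⟩ G _ _ ι hinj hcent hfus
  refine CfsgLib.Fusion.WholeGroup.eq_top_of_sylow (z := ι i0L) (S := T.map ι)
    (by rw [← map_mul, hsq, map_one]) hcent ?_ ?_ ?_ ?_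
  · rintro _ ⟨y, rfl⟩ hy
    obtain ⟨c, hc⟩ := isConj_iff.1 (hfus y hy)
    exact ⟨ι c, ⟨c, rfl⟩, by rw [← hc, map_mul, map_mul, map_inv]⟩
  · rintro _ ⟨t, ht, rfl⟩
    rw [← map_mul, hcentT t ht, map_mul]
  · intro J hJ hJ2
    obtain ⟨h, hh⟩ := hsylT (J.comap ι) (hJ2.comap_of_injective ι hinj)
    refine ⟨ι h, ⟨h, rfl⟩, fun a ha => ?_⟩
    obtain ⟨y, rfl⟩ := hJ ha
    exact ⟨_, hh y ha, by rw [map_mul, map_mul, map_inv]⟩
  · intro J hJT hJH hJ2 hab hfree
    set K := J.comap ι with hK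
    have hKT : K ≤ T := fun k hk => by
      obtain ⟨t, ht, e⟩ := hJT hk
      exact hinj e ▸ ht
    have hJK : K.map ι = J := map_comap_eq_self hJH
    rcases hcrit K hKT (fun c hc d hd => hinj (by rw [map_mul, map_mul]; exact hab _ hc _ hd))
      (fun k hk e => hfree _ hk (ι.map_isConj e)) with ⟨k, h1, h2, h3, h4⟩ | hb
    · left
      refine ⟨ι k, ⟨k, rfl⟩, h1, fun a ha => ?_, by rw [← map_mul]; exact h3, fun a ha => ?_⟩
      · obtain ⟨y, rfl⟩ := hJH ha
        rw [← map_mul, h2 y ha, map_mul]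
      · obtain ⟨y, rfl⟩ := hJH ha
        rw [← map_mul]
        exact fun e => h4 y ha (hfus _ e)
    · right
      intro L hL hodd
      have hLr : L ≤ ι.range := fun l hl => (hL hl).1
      have hcard : Nat.card (L.comap ι) = Nat.card L := by
        rw [← card_map_of_injective hinj, map_comap_eq_self hLr]
      have hKc : Nat.card K = Nat.card J := by
        rw [← card_map_of_injective hinj, hJK]
      have := hb (L.comap ι) (fun l hl => mem_centralizer_iff.2 fun k hk => hinj (by
        rw [map_mul, map_mul]; exact mem_centralizer_iff.1 (hL hl).2 _ hk)) (hcard ▸ hodd)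
      rw [hcard, hKc] at this
      refine lt_of_lt_of_le this (Nat.card_le_card_of_injective (fun x => ⟨ι x.1, ?_⟩) ?_)
      · refine ⟨⟨⟨x.1, rfl⟩, mem_centralizer_iff.2 fun a ha => ?_⟩, x.2.2.1,
          by rw [← map_mul]; exact x.2.2.2⟩
        obtain ⟨y, rfl⟩ := hJH ha
        rw [← map_mul, mem_centralizer_iff.1 x.2.1 y ha, map_mul]
      · intro a b e
        exact Subtype.ext (hinj (congrArg Subtype.val e :))

end CfsgLib.L43Three
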