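import Cfsg.Agent.Lib.L43Three.CensusEval

/-!
# Checks of the census (S3373, seat CensusModel)
-/

set_option autoImplicit false
set_option maxRecDepth 100000

namespace CfsgLib.L43Three.CensusM

theorem checkB : rowsOK 64 64 = true := by
  rw [← rowsF_eq]
  decide +kernel

end CfsgLib.L43Three.CensusM
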