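import Cfsg.Agent.Lib.L43Three.CensusDefs

/-!
# Checks of the census (S3373, seat CensusModel): the large certificate, in parts
-/

set_option autoImplicit false
set_option maxRecDepth 100000
set_option Elab.async false

namespace CfsgLib.L43Three.CensusM

theorem count3 : ((List.range' 2187 729).filter (valid (certL.getD 3 default))).length = 324 := by
  decide +kernel

theorem noFifteen3 : (List.range' 2187 729).all (fun w =>
    !valid (certL.getD 3 default) w || !fifteen (cand (certL.getD 3 default) w)) = true := by
  decide +kernel

theorem count4 : ((List.range' 2916 729).filter (valid (certL.getD 3 default))).length = 324 := by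
  decide +kernel

theorem noFifteen4 : (List.range' 2916 729).all (fun w =>
    !valid (certL.getD 3 default) w || !fifteen (cand (certL.getD 3 default) w)) = true := by
  decide +kernel

theorem count5 : ((List.range' 3645 729).filter (valid (certL.getD 3 default))).length = 324 := by
  decide +kernel

theorem noFifteen5 : (List.range' 3645 729).all (fun w =>
    !valid (certL.getD 3 default) w || !fifteen (cand (certL.getD 3 default) w)) = true := by
  decide +kernel

end CfsgLib.L43Three.CensusM
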