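import Cfsg.Agent.Lib.L43Three.CensusCheckD1
import Cfsg.Agent.Lib.L43Three.CensusCheckD2
import Cfsg.Agent.Lib.L43Three.CensusCheckD3

/-!
# Checks of the census (S3373, seat CensusModel): the large certificate
-/

set_option autoImplicit false
set_option maxRecDepth 100000

namespace CfsgLib.L43Three.CensusM

theorem range_parts : List.range 6561 = List.range' 0 729 ++ List.range' 729 729 ++
    List.range' 1458 729 ++ List.range' 2187 729 ++ List.range' 2916 729 ++ List.range' 3645 729 ++
    List.range' 4374 729 ++ List.range' 5103 729 ++ List.range' 5832 729 := by
  decide +kernel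

theorem checkCertLast : (certL.drop 3).all certOK = true := by
  have e : certL.drop 3 = [certL.getD 3 default] := rfl
  have hm : 3 ^ (4 * (certL.getD 3 default).m) = 6561 := by decide +kernel
  rw [e, List.all_cons, List.all_nil, Bool.and_true]
  simp only [certOK, Bool.and_eq_true, hm, range_parts]
  refine ⟨⟨⟨⟨⟨⟨⟨⟨⟨⟨?_, ?_⟩, ?_⟩, ?_⟩, ?_⟩, ?_⟩, ?_⟩, ?_⟩, ?_⟩, ?_⟩, ?_⟩
  case refine_6 =>
    rw [List.filter_append, List.filter_append, List.filter_append, List.filter_append,
      List.filter_append, List.filter_append, List.filter_append, List.filter_append,
      List.length_append, List.length_append, List.length_append, List.length_append,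
      List.length_append, List.length_append, List.length_append, List.length_append,
      count0, count1, count2, count3, count4, count5, count6, count7, count8]
    decide +kernel
  case refine_11 =>
    rw [Bool.or_eq_true]
    right
    simp only [List.all_append, noFifteen0, noFifteen1, noFifteen2, noFifteen3, noFifteen4, noFifteen5, noFifteen6, noFifteen7, noFifteen8, Bool.and_self]
  all_goals decide +kernel

end CfsgLib.L43Three.CensusM
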