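import Cfsg.Agent.Lib.L43Three.Defs

/-!
# Codes of matrices over the field of three elements (S3373, seat CensusModel)

A `4 × 4` matrix is coded in base three, the entry `(i, j)` being the digit `4 i + j`.
-/

set_option autoImplicit false
set_option maxRecDepth 100000

namespace CfsgLib.L43Three.CensusM

open Matrix

/-- A list of digits as a number. -/
def pk : List ℕ → ℕ
  | [] => 0
  | d :: l => d + 3 * pk l

/-- A digit. -/
def dg (c k : ℕ) : ℕ := c / 3 ^ k % 3

/-- The code with given digits. -/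
def enc (n : ℕ) (f : ℕ → ℕ) : ℕ := pk ((List.range n).map fun k => f k % 3)

theorem dg_lt (c k : ℕ) : dg c k < 3 := Nat.mod_lt _ (by norm_num)

theorem pk_lt : ∀ l : List ℕ, (∀ d ∈ l, d < 3) → pk l < 3 ^ l.length
  | [], _ => by simp [pk]
  | d :: l, h => by
    have h1 := h d List.mem_cons_self
    have h2 := pk_lt l fun e he => h e (List.mem_cons_of_mem _ he)
    rw [List.length_cons, pow_succ', pk]
    omega

theorem dg_pk : ∀ (l : List ℕ) (k : ℕ), (∀ d ∈ l, d < 3) → dg (pk l) k = l.getD k 0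
  | [], k, _ => by simp [pk, dg]
  | d :: l, 0, h => by
    have := h d List.mem_cons_self
    simp [pk, dg]
    omega
  | d :: l, k + 1, h => by
    have h1 := h d List.mem_cons_self
    rw [List.getD_cons_succ, ← dg_pk l k fun e he => h e (List.mem_cons_of_mem _ he), dg, dg,
      pow_succ', ← Nat.div_div_eq_div_mul, pk, show (d + 3 * pk l) / 3 = pk l by omega]

theorem enc_lt (n : ℕ) (f : ℕ → ℕ) : enc n f < 3 ^ n := by
  refine (pk_lt _ ?_).trans_eq (by rw [List.length_map, List.length_range])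
  intro d hd
  obtain ⟨k, -, rfl⟩ := List.mem_map.1 hd
  exact Nat.mod_lt _ (by norm_num)

theorem dg_enc {n k : ℕ} (f : ℕ → ℕ) (h : k < n) : dg (enc n f) k = f k % 3 := by
  rw [enc, dg_pk _ _ fun d hd => by
    obtain ⟨i, -, rfl⟩ := List.mem_map.1 hd
    exact Nat.mod_lt _ (by norm_num)]
  rw [List.getD_eq_getElem _ _ (by simpa using h)]
  simp

/-- The matrix of a code. -/
def dec (c : ℕ) : Matrix (Fin 4) (Fin 4) (ZMod 3) :=
  Matrix.of fun i j => (dg c (4 * i.val + j.val) : ZMod 3)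

/-- The vectors of a code. -/
def dv (v s : ℕ) : Fin 4 → ZMod 3 := fun l => (dg v (4 * s + l.val) : ZMod 3)

theorem dec_enc (f : ℕ → ℕ) (i j : Fin 4) :
    dec (enc 16 f) i j = (f (4 * i.val + j.val) : ZMod 3) := by
  show (dg (enc 16 f) (4 * i.val + j.val) : ZMod 3) = _
  rw [dg_enc f (by have := i.2; have := j.2; omega), ZMod.natCast_mod]

/-- The product. -/
def mm (a b : ℕ) : ℕ := enc 16 fun k =>
  dg a (4 * (k / 4)) * dg b (k % 4) + dg a (4 * (k / 4) + 1) * dg b (4 + k % 4) +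
    dg a (4 * (k / 4) + 2) * dg b (8 + k % 4) + dg a (4 * (k / 4) + 3) * dg b (12 + k % 4)

theorem idx (i j : Fin 4) : (4 * i.val + j.val) / 4 = i.val ∧ (4 * i.val + j.val) % 4 = j.val := by
  have := i.2; have := j.2; omega

theorem dec_mm (a b : ℕ) : dec (mm a b) = dec a * dec b := by
  ext i j
  rw [mm, dec_enc, Matrix.mul_apply, Fin.sum_univ_four, (idx i j).1, (idx i j).2]
  push_cast
  simp [dec]

/-- The opposite. -/
def ng (a : ℕ) : ℕ := enc 16 fun k => 2 * dg a k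

theorem dec_ng (a : ℕ) : dec (ng a) = -dec a := by
  ext i j
  have h : ∀ x : ZMod 3, 2 * x = -x := by decide
  rw [ng, dec_enc, Matrix.neg_apply]
  push_cast
  exact h _

/-- The code of a matrix. -/
def code (M : Matrix (Fin 4) (Fin 4) (ZMod 3)) : ℕ :=
  enc 16 fun k => (M ⟨k / 4 % 4, Nat.mod_lt _ (by norm_num)⟩ ⟨k % 4, Nat.mod_lt _ (by norm_num)⟩).val

theorem dec_code (M : Matrix (Fin 4) (Fin 4) (ZMod 3)) : dec (code M) = M := by
  ext i j
  rw [code, dec_enc]
  simp only [(idx i j).1, (idx i j).2, Nat.mod_eq_of_lt i.2, Fin.eta]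
  exact ZMod.natCast_zmod_val _

/-- A code without further digits. -/
def canon (c : ℕ) : Bool := Nat.beq (enc 16 (dg c)) c

theorem canon_enc (f : ℕ → ℕ) : canon (enc 16 f) = true := by
  refine Nat.beq_eq.mpr (congrArg pk (List.map_congr_left fun k hk => ?_))
  rw [dg_enc f (List.mem_range.1 hk), Nat.mod_mod]

theorem dec_inj {a b : ℕ} (ha : canon a = true) (hb : canon b = true) (h : dec a = dec b) : a = b := by
  rw [← Nat.beq_eq.mp ha, ← Nat.beq_eq.mp hb]
  refine congrArg pk (List.map_congr_left fun k hk => ?_)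
  have hk := List.mem_range.1 hk
  have := congrFun (congrFun h ⟨k / 4, by omega⟩) ⟨k % 4, by omega⟩
  change (dg a (4 * (k / 4) + k % 4) : ZMod 3) = (dg b (4 * (k / 4) + k % 4) : ZMod 3) at this
  rw [Nat.div_add_mod, ZMod.natCast_eq_natCast_iff'] at this
  exact this

theorem det_four {R : Type*} [CommRing R] (M : Matrix (Fin 4) (Fin 4) R) : M.det =
    (M 0 0 * M 1 1 - M 0 1 * M 1 0) * (M 2 2 * M 3 3 - M 2 3 * M 3 2) -
    (M 0 0 * M 1 2 - M 0 2 * M 1 0) * (M 2 1 * M 3 3 - M 2 3 * M 3 1) +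
    (M 0 0 * M 1 3 - M 0 3 * M 1 0) * (M 2 1 * M 3 2 - M 2 2 * M 3 1) +
    (M 0 1 * M 1 2 - M 0 2 * M 1 1) * (M 2 0 * M 3 3 - M 2 3 * M 3 0) -
    (M 0 1 * M 1 3 - M 0 3 * M 1 1) * (M 2 0 * M 3 2 - M 2 2 * M 3 0) +
    (M 0 2 * M 1 3 - M 0 3 * M 1 2) * (M 2 0 * M 3 1 - M 2 1 * M 3 0) := by
  simp [Matrix.det_succ_row_zero, Fin.sum_univ_succ, Fin.succAbove]
  ring

/-- The minor of two rows, as a number congruent to it. -/
def minor (c r i j : ℕ) : ℕ :=
  dg c (4 * r + i) * dg c (4 * r + 4 + j) + 2 * (dg c (4 * r + j) * dg c (4 * r + 4 + i))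

/-- The determinant. -/
def dt (c : ℕ) : ℕ :=
  (minor c 0 0 1 * minor c 2 2 3 + 2 * (minor c 0 0 2 * minor c 2 1 3) +
    minor c 0 0 3 * minor c 2 1 2 + minor c 0 1 2 * minor c 2 0 3 +
    2 * (minor c 0 1 3 * minor c 2 0 2) + minor c 0 2 3 * minor c 2 0 1) % 3

theorem dt_eq (c : ℕ) : (dt c : ZMod 3) = (dec c).det := by
  have h2 : (2 : ZMod 3) = -1 := by decide
  rw [det_four, dt, ZMod.natCast_mod]
  simp only [minor]
  push_cast
  rw [h2]
  simp only [dec, Matrix.of_apply, Fin.val_zero, Fin.val_one, Fin.val_two,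
    show ((3 : Fin 4) : ℕ) = 3 from rfl]
  ring

theorem dt_one {c : ℕ} : Nat.beq (dt c) 1 = true ↔ (dec c).det = 1 := by
  rw [Nat.beq_eq, ← dt_eq, show (1 : ZMod 3) = ((1 : ℕ) : ZMod 3) from Nat.cast_one.symm,
    ZMod.natCast_eq_natCast_iff']
  have : dt c % 3 = dt c := Nat.mod_mod _ _
  rw [this]

/-- The identity. -/
def oneC : ℕ := 14408200

theorem dec_one : dec oneC = 1 := by decide +kernel

/-- The code of an element of `SL₄(3)`. -/
def ok (c : ℕ) : Bool := canon c && Nat.beq (dt c) 1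

theorem ok_iff {c : ℕ} : ok c = true ↔ canon c = true ∧ (dec c).det = 1 := by
  rw [ok, Bool.and_eq_true, dt_one]

/-- The element of `SL₄(3)` with a given code. -/
def el (c : ℕ) : S4 := if h : (dec c).det = 1 then ⟨dec c, h⟩ else 1

/-- The element of `PSL₄(3)` with a given code. -/
def pl (c : ℕ) : L4 := mk (el c)

theorem coe_el {c : ℕ} (h : ok c = true) : (el c : Matrix (Fin 4) (Fin 4) (ZMod 3)) = dec c := by
  have e : el c = (⟨dec c, (ok_iff.1 h).2⟩ : S4) := dif_pos _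
  rw [e]

theorem ok_mm {a b : ℕ} (ha : ok a = true) (hb : ok b = true) : ok (mm a b) = true :=
  ok_iff.2 ⟨canon_enc _, by rw [dec_mm, det_mul, (ok_iff.1 ha).2, (ok_iff.1 hb).2, mul_one]⟩

theorem el_mm {a b : ℕ} (ha : ok a = true) (hb : ok b = true) : el (mm a b) = el a * el b := by
  apply Subtype.ext
  rw [coe_el (ok_mm ha hb), Matrix.SpecialLinearGroup.coe_mul, coe_el ha, coe_el hb, dec_mm]

theorem pl_mm {a b : ℕ} (ha : ok a = true) (hb : ok b = true) : pl (mm a b) = pl a * pl b := by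
  rw [pl, el_mm ha hb, map_mul]; rfl

theorem ok_one : ok oneC = true := by decide +kernel

theorem el_one : el oneC = 1 := Subtype.ext ((coe_el ok_one).trans dec_one)

theorem pl_one : pl oneC = 1 := by rw [pl, el_one, map_one]

theorem ok_ng {a : ℕ} (ha : ok a = true) : ok (ng a) = true :=
  ok_iff.2 ⟨canon_enc _, by rw [dec_ng, det_neg, (ok_iff.1 ha).2]; decide⟩

theorem exists_el (g : S4) : ∃ c, ok c = true ∧ el c = g := by
  have h : ok (code g.1) = true := ok_iff.2 ⟨canon_enc _, by rw [dec_code]; exact g.2⟩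
  exact ⟨code g.1, h, Subtype.ext ((coe_el h).trans (dec_code _))⟩

theorem mk_eq {g h : S4} : mk g = mk h ↔ (h : Matrix (Fin 4) (Fin 4) (ZMod 3)) = g.1 ∨
    (h : Matrix (Fin 4) (Fin 4) (ZMod 3)) = -g.1 := by
  rw [mk, QuotientGroup.mk'_apply, QuotientGroup.mk'_apply, QuotientGroup.eq,
    Matrix.SpecialLinearGroup.mem_center_iff]
  have e : (h : Matrix (Fin 4) (Fin 4) (ZMod 3)) = g.1 * (g⁻¹ * h).1 := by
    rw [← Matrix.SpecialLinearGroup.coe_mul, mul_inv_cancel_left]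
  constructor
  · rintro ⟨r, hr, hs⟩
    have hr' : ∀ r : ZMod 3, r ^ 4 = 1 → r = 1 ∨ r = -1 := by decide
    rw [Fintype.card_fin] at hr
    rcases hr' r hr with rfl | rfl
    · left; rw [e, ← hs, map_one, mul_one]
    · right; rw [e, ← hs, map_neg, map_one, mul_neg, mul_one]
  · intro hh
    have hi : (g⁻¹).1 * g.1 = 1 := by
      rw [← Matrix.SpecialLinearGroup.coe_mul, inv_mul_cancel, Matrix.SpecialLinearGroup.coe_one]
    rcases hh with hh | hh
    · exact ⟨1, one_pow _, by rw [map_one, Matrix.SpecialLinearGroup.coe_mul, hh, hi]⟩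
    · exact ⟨-1, by rw [Fintype.card_fin]; decide,
        by rw [map_neg, map_one, Matrix.SpecialLinearGroup.coe_mul, hh, mul_neg, hi]⟩

/-- The smaller of the two codes of an element of `PSL₄(3)`. -/
def nk (c : ℕ) : ℕ := if Nat.ble c (ng c) then c else ng c

theorem ng_ng {a : ℕ} (ha : canon a = true) : ng (ng a) = a :=
  dec_inj (canon_enc _) ha (by rw [dec_ng, dec_ng, neg_neg])

theorem nk_cases (c : ℕ) : nk c = c ∨ nk c = ng c := by
  unfold nk; split <;> simp

theorem ok_nk {a : ℕ} (ha : ok a = true) : ok (nk a) = true := by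
  rcases nk_cases a with h | h <;> rw [h]
  exacts [ha, ok_ng ha]

theorem pl_eq {a b : ℕ} (ha : ok a = true) (hb : ok b = true) :
    pl a = pl b ↔ b = a ∨ b = ng a := by
  rw [pl, pl, mk_eq, coe_el ha, coe_el hb]
  constructor
  · rintro (h | h)
    · exact Or.inl (dec_inj (ok_iff.1 hb).1 (ok_iff.1 ha).1 h)
    · exact Or.inr (dec_inj (ok_iff.1 hb).1 (canon_enc _) (by rw [h]; exact (dec_ng a).symm))
  · intro h
    rcases h with h | h
    · exact Or.inl (congrArg dec h)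
    · exact Or.inr ((congrArg dec h).trans (dec_ng a))

theorem pl_nk {a : ℕ} (ha : ok a = true) : pl (nk a) = pl a := by
  refine ((pl_eq ha (ok_nk ha)).2 ?_).symm
  exact nk_cases a

theorem nk_eq_of_pl {a b : ℕ} (ha : ok a = true) (hb : ok b = true) (h : pl a = pl b) :
    nk a = nk b := by
  rcases (pl_eq ha hb).1 h with h | h
  · rw [h]
  · rw [h]
    unfold nk
    rw [ng_ng (ok_iff.1 ha).1]
    by_cases h1 : a ≤ ng a <;> by_cases h2 : ng a ≤ a
    · simp [Nat.ble_eq, h1, h2]; omega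
    · simp [Nat.ble_eq, h1, h2]
    · simp [Nat.ble_eq, h1, h2]
    · omega

theorem exists_pl (x : L4) : ∃ c, ok c = true ∧ pl c = x := by
  obtain ⟨g, rfl⟩ := QuotientGroup.mk'_surjective _ x
  obtain ⟨c, hc, rfl⟩ := exists_el g
  exact ⟨c, hc, rfl⟩

/-- The columns `W v` for the listed pairs of a code `W` and a choice of vector. -/
def nmat (C : List (ℕ × ℕ)) (v : ℕ) : ℕ := enc 16 fun k =>
  dg (C.getD (k % 4) (0, 0)).1 (4 * (k / 4)) * dg v (4 * (C.getD (k % 4) (0, 0)).2) +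
  dg (C.getD (k % 4) (0, 0)).1 (4 * (k / 4) + 1) * dg v (4 * (C.getD (k % 4) (0, 0)).2 + 1) +
  dg (C.getD (k % 4) (0, 0)).1 (4 * (k / 4) + 2) * dg v (4 * (C.getD (k % 4) (0, 0)).2 + 2) +
  dg (C.getD (k % 4) (0, 0)).1 (4 * (k / 4) + 3) * dg v (4 * (C.getD (k % 4) (0, 0)).2 + 3)

/-- The images of `m` vectors. -/
def vmul (m g v : ℕ) : ℕ := enc (4 * m) fun k =>
  dg g (4 * (k % 4)) * dg v (4 * (k / 4)) + dg g (4 * (k % 4) + 1) * dg v (4 * (k / 4) + 1) +
  dg g (4 * (k % 4) + 2) * dg v (4 * (k / 4) + 2) + dg g (4 * (k % 4) + 3) * dg v (4 * (k / 4) + 3)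

theorem vmul_eq {m s : ℕ} (g v : ℕ) (hs : s < m) : dv (vmul m g v) s = dec g *ᵥ dv v s := by
  funext i
  have := i.2
  show (dg (vmul m g v) (4 * s + i.val) : ZMod 3) = _
  rw [vmul, dg_enc _ (by omega), ZMod.natCast_mod, show (4 * s + i.val) % 4 = i.val by omega,
    show (4 * s + i.val) / 4 = s by omega, Matrix.mulVec, dotProduct, Fin.sum_univ_four]
  push_cast
  rfl

theorem nmat_apply (C : List (ℕ × ℕ)) (v : ℕ) (i j : Fin 4) :
    dec (nmat C v) i j =
      (dec (C.getD j.val (0, 0)).1 *ᵥ dv v (C.getD j.val (0, 0)).2) i := by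
  rw [nmat, dec_enc, (idx i j).1, (idx i j).2, Matrix.mulVec, dotProduct, Fin.sum_univ_four]
  push_cast
  rfl

theorem dec_mul_nmat {m g : ℕ} (C : List (ℕ × ℕ)) (v : ℕ) (hm : ∀ p ∈ C, p.2 < m)
    (hlen : C.length = 4) (hcomm : ∀ p ∈ C, dec g * dec p.1 = dec p.1 * dec g) :
    dec g * dec (nmat C v) = dec (nmat C (vmul m g v)) := by
  ext i j
  have hp : C.getD j.val (0, 0) ∈ C := by
    rw [List.getD_eq_getElem _ _ (by rw [hlen]; exact j.2)]
    exact List.getElem_mem _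
  rw [nmat_apply, Matrix.mul_apply,
    show ∑ l, dec g i l * dec (nmat C v) l j =
      (dec g *ᵥ (dec (C.getD j.val (0, 0)).1 *ᵥ dv v (C.getD j.val (0, 0)).2)) i from
      by simp only [nmat_apply, Matrix.mulVec, dotProduct],
    vmul_eq g v (hm _ hp), Matrix.mulVec_mulVec, hcomm _ hp, ← Matrix.mulVec_mulVec]

end CfsgLib.L43Three.CensusM
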