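import Cfsg.Agent.Lib.L43Three.CensusData

/-!
# The checks of the census (S3373, seat CensusModel)
-/

set_option autoImplicit false
set_option maxRecDepth 100000

namespace CfsgLib.L43Three.CensusM

/-- Membership. -/
def memN (a : ℕ) : List ℕ → Bool
  | [] => false
  | b :: l => Nat.beq a b || memN a l

theorem memN_iff {a : ℕ} : ∀ {l : List ℕ}, memN a l = true ↔ a ∈ l
  | [] => by simp [memN]
  | b :: l => by rw [memN, Bool.or_eq_true, memN_iff, List.mem_cons, Nat.beq_eq]

/-- No repetition. -/
def nodupN : List ℕ → Bool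
  | [] => true
  | b :: l => !memN b l && nodupN l

theorem nodupN_iff : ∀ {l : List ℕ}, nodupN l = true → l.Nodup
  | [], _ => List.nodup_nil
  | b :: l, h => by
    simp only [nodupN, Bool.and_eq_true, Bool.not_eq_true'] at h
    exact List.nodup_cons.2 ⟨fun hm => Bool.noConfusion ((memN_iff.2 hm).symm.trans h.1),
      nodupN_iff h.2⟩

/-- An element of the Sylow two-subgroup. -/
def tn (a : ℕ) : ℕ := TL.getD a 0

/-- The product of indices. -/
def tm (a b : ℕ) : ℕ := rowL.getD a 0 / 128 ^ b % 128

/-- The table is right on these rows. -/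
def rowsOK (a0 n : ℕ) : Bool :=
  (List.range n).all fun a => (List.range 128).all fun b =>
    Nat.beq (nk (mm (tn (a0 + a)) (tn b))) (tn (tm (a0 + a) b))

/-- The code of `i₀`. -/
def i0C : ℕ := tn i0X

/-- A conjugate of `i₀`. -/
def isBad (a : ℕ) : Bool := memN a (badL.map Prod.fst)

/-- The list is as expected. -/
def baseOK : Bool :=
  Nat.beq TL.length 128 && nodupN TL && TL.all (fun c => ok c && Nat.beq (nk c) c) &&
  Nat.beq (nk oneC) (tn oneX) && Nat.blt oneX 128 && Nat.blt i0X 128 &&
  (List.range 128).all (fun a => Nat.beq (tm a i0X) (tm i0X a)) &&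
  badL.all (fun p => ok p.2 && Nat.beq (mm p.2 i0C) (mm (tn p.1) p.2)) &&
  (List.range 128).all (fun a => !Nat.beq (mm (tn a) (tn a)) oneC || Nat.beq a oneX || isBad a)

/-- The elements of a subgroup. -/
def els (i : ℕ) : List ℕ := nodeL.getD i []

/-- The subgroups are subgroups, and the family is closed. -/
def nodeOK (i : ℕ) : Bool :=
  memN oneX (els i) && nodupN (els i) && (els i).all (fun a => Nat.blt a 128 && !isBad a) &&
  (els i).all (fun a => (els i).all fun b => memN (tm a b) (els i)) &&
  (List.range 128).all fun k =>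
    memN k (els i) || !(els i).all (fun a => Nat.beq (tm k a) (tm a k)) ||
      !memN (tm k k) (els i) || (els i).any (fun a => isBad (tm k a)) ||
      (List.range nodeL.length).any fun j =>
        memN k (els j) && (els i).all (fun a => memN a (els j)) &&
          Nat.ble (els j).length (2 * (els i).length)

/-- The action on a subgroup. -/
def actOK (i : ℕ) : Bool :=
  let p := actL.getD i (0, 0)
  if Nat.beq p.1 0 then
    Nat.blt p.2 128 && !memN p.2 (els i) && (els i).all (fun a => Nat.beq (tm p.2 a) (tm a p.2)) &&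
      memN (tm p.2 p.2) (els i) && (els i).all (fun a => !isBad (tm p.2 a))
  else
    let r := els (certL.getD (p.1 - 1) default).node
    ok p.2 && Nat.blt (p.1 - 1) certL.length &&
    r.all (fun a => (els i).any fun b => Nat.beq (nk (mm p.2 (tn a))) (nk (mm (tn b) p.2))) &&
    (els i).all (fun b => r.any fun a => Nat.beq (nk (mm p.2 (tn a))) (nk (mm (tn b) p.2)))

/-- The root is trivial and everything is checked. -/
def treeOK : Bool :=
  Nat.beq nodeL.length 91 && Nat.beq (els 0).length 1 &&
    (List.range 91).all fun i => nodeOK i && actOK i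

/-- The candidate for the centralizer with given images. -/
def cand (c : Cert) (w : ℕ) : ℕ := mm (nmat c.cols w) c.vi

/-- A candidate in the centralizer. -/
def valid (c : Cert) (w : ℕ) : Bool :=
  Nat.beq (dt (cand c w)) 1 &&
    (els c.node).all (fun a => Nat.beq (mm (cand c w) (tn a)) (mm (tn a) (cand c w))) &&
    Nat.beq (vmul c.m (cand c w) c.v) w

/-- Order fifteen. -/
def fifteen (g : ℕ) : Bool :=
  let g2 := mm g g
  let g3 := mm g2 g
  let g5 := mm g3 g2
  Nat.beq (mm (mm g5 g5) g5) oneC && !Nat.beq g5 oneC && !Nat.beq g3 oneC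

/-- A certificate. -/
def certOK (c : Cert) : Bool :=
  Nat.blt c.node 91 && Nat.beq (els c.node).length 4 &&
  Nat.beq (mm (nmat c.cols c.v) c.vi) oneC && Nat.beq c.cols.length 4 &&
  c.cols.all (fun p => Nat.blt p.2 c.m &&
    (Nat.beq p.1 oneC || memN p.1 ((els c.node).map tn))) &&
  Nat.beq ((List.range (3 ^ (4 * c.m))).filter (valid c)).length c.n &&
  Nat.beq (c.o * 2 ^ (Nat.log 2 (c.n / c.o))) c.n &&
  (List.range (c.o + 1)).all (fun d =>
    !Nat.beq (c.o % d) 0 || Nat.beq d 45 || Nat.blt (d * 4) c.wl.length) &&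
  nodupN c.wl &&
  c.wl.all (fun x => ok x && Nat.beq (nk x) x &&
    (els c.node).all (fun a => Nat.beq (nk (mm x (tn a))) (nk (mm (tn a) x))) &&
    memN (nk (mm x x)) ((els c.node).map tn) && !memN x ((els c.node).map tn)) &&
  (Nat.blt c.o 45 || (List.range (3 ^ (4 * c.m))).all (fun w => !valid c w || !fifteen (cand c w)))

end CfsgLib.L43Three.CensusM
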