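import Cfsg.Agent.Lib.L43Three.CensusDefs

/-!
# The checks of the census with every value evaluated once (S3373)

This keeps the kernel's memory small.
-/

set_option autoImplicit false
set_option maxRecDepth 100000

namespace CfsgLib.L43Three.CensusM

/-- Evaluate a number, then continue. -/
def fD {α : Type} (n : ℕ) (k : ℕ → α) : α :=
  Nat.rec (motive := fun _ => α) (k 0) (fun m _ => k (m + 1)) n

theorem fD_eq {α : Type} (n : ℕ) (k : ℕ → α) : fD n k = k n := by cases n <;> rfl

/-- A valid candidate, evaluated once. -/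
def validF (c : Cert) (w : ℕ) : Bool :=
  fD (nmat c.cols w) fun N => fD (mm N c.vi) fun x => Nat.beq (dt x) 1 &&
    (els c.node).all (fun a => fD (tn a) fun t => Nat.beq (mm x t) (mm t x)) &&
    Nat.beq (vmul c.m x c.v) w

theorem validF_eq (c : Cert) (w : ℕ) : validF c w = valid c w := by
  simp [validF, valid, cand, fD_eq]

/-- Order fifteen, evaluated once. -/
def fifteenF (g : ℕ) : Bool :=
  fD (mm g g) fun g2 => fD (mm g2 g) fun g3 => fD (mm g3 g2) fun g5 =>
    Nat.beq (mm (mm g5 g5) g5) oneC && !Nat.beq g5 oneC && !Nat.beq g3 oneC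

theorem fifteenF_eq (g : ℕ) : fifteenF g = fifteen g := by
  simp [fifteenF, fifteen, fD_eq]

/-- The check of a certificate, evaluated once. -/
def certF (c : Cert) : Bool :=
  Nat.blt c.node 91 && Nat.beq (els c.node).length 4 &&
  Nat.beq (mm (nmat c.cols c.v) c.vi) oneC && Nat.beq c.cols.length 4 &&
  c.cols.all (fun p => Nat.blt p.2 c.m &&
    (Nat.beq p.1 oneC || memN p.1 ((els c.node).map tn))) &&
  Nat.beq ((List.range (3 ^ (4 * c.m))).filter (validF c)).length c.n &&
  Nat.beq (c.o * 2 ^ (Nat.log 2 (c.n / c.o))) c.n &&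
  (List.range (c.o + 1)).all (fun d =>
    !Nat.beq (c.o % d) 0 || Nat.beq d 45 || Nat.blt (d * 4) c.wl.length) &&
  nodupN c.wl &&
  c.wl.all (fun x => ok x && Nat.beq (nk x) x &&
    (els c.node).all (fun a => fD (tn a) fun t =>
      fD (mm x t) fun p => fD (mm t x) fun q => Nat.beq (nk p) (nk q)) &&
    fD (mm x x) (fun s => memN (nk s) ((els c.node).map tn)) &&
    !memN x ((els c.node).map tn)) &&
  (Nat.blt c.o 45 ||
    (List.range (3 ^ (4 * c.m))).all (fun w => !validF c w || fD (cand c w) fun g => !fifteenF g))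

theorem certF_eq (c : Cert) : certF c = certOK c := by
  simp [certF, certOK, fD_eq, fifteenF_eq, funext (validF_eq c)]

/-- The rows, every product evaluated once. -/
def rowsF (a0 n : ℕ) : Bool :=
  (List.range n).all fun a => fD (a0 + a) fun i => fD (tn i) fun s =>
    (List.range 128).all fun b => fD (tn b) fun t => fD (mm s t) fun p =>
      Nat.beq (nk p) (tn (tm i b))

theorem rowsF_eq (a0 n : ℕ) : rowsF a0 n = rowsOK a0 n := by
  simp [rowsF, rowsOK, fD_eq]

end CfsgLib.L43Three.CensusM
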