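import Cfsg.Agent.Lib.L43Three.CensusCheckA
import Cfsg.Agent.Lib.L43Three.CensusCheckB
import Cfsg.Agent.Lib.L43Three.CensusCheckC
import Cfsg.Agent.Lib.L43Three.CensusCheckD
import Cfsg.Agent.Lib.L43Three.CensusCheckE
import Cfsg.Agent.Lib.DFour.CensusCrit
import Cfsg.Agent.Lib.Classical.Order

/-!
# What the census needs from `PSL₄(3)` (S3373, seat CensusModel)
-/

set_option autoImplicit false
set_option maxRecDepth 100000

namespace CfsgLib.L43Three.CensusM

open Subgroup Matrix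
open CfsgLib.DFour.Census (Clean Ext OddBound NodeFam cjS mem_cjS cjS_inv_cjS oddBound_cj)

theorem vmul_lt (m g v : ℕ) : vmul m g v < 3 ^ (4 * m) := by
  unfold vmul
  exact enc_lt _ _

theorem canon_mm (a b : ℕ) : canon (mm a b) = true := by
  unfold mm
  exact canon_enc _

theorem canon_cand (c : Cert) (w : ℕ) : canon (cand c w) = true := by
  unfold cand
  exact canon_mm _ _

theorem card_L4 : Nat.card L4 = 6065280 := by
  rw [CfsgLib.Classical.card_PSL_fin 4 (by norm_num), CfsgLib.Classical.card_SL_fin',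
    Nat.card_zmod]
  norm_num [Finset.prod_range_succ]

theorem base_ok : TL.length = 128 ∧ TL.Nodup ∧ (∀ c ∈ TL, ok c = true ∧ nk c = c) ∧
    nk oneC = tn oneX ∧ oneX < 128 ∧ i0X < 128 ∧
    (∀ a < 128, tm a i0X = tm i0X a) ∧
    (∀ p ∈ badL, ok p.2 = true ∧ mm p.2 i0C = mm (tn p.1) p.2) ∧
    ∀ a < 128, mm (tn a) (tn a) = oneC → a ≠ oneX → isBad a = true := by
  have h := checkBase
  simp only [baseOK, Bool.and_eq_true, Nat.beq_eq, Nat.blt_eq, List.all_eq_true, List.mem_range,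
    Bool.or_eq_true, Bool.not_eq_true', and_assoc] at h
  obtain ⟨h1, h2, h3, h4, h5, h6, h7, h8, h9⟩ := h
  refine ⟨h1, nodupN_iff h2, h3, h4, h5, h6, h7, h8, fun a ha e hne => ?_⟩
  rcases h9 a ha with (h | h) | h
  · exact Bool.noConfusion ((Nat.beq_eq.mpr e).symm.trans h)
  · exact absurd h hne
  · exact h

theorem tn_mem {a : ℕ} (ha : a < 128) : tn a ∈ TL := by
  rw [tn, List.getD_eq_getElem _ _ (by rw [base_ok.1]; exact ha)]
  exact List.getElem_mem _

theorem ok_tn {a : ℕ} (ha : a < 128) : ok (tn a) = true := (base_ok.2.2.1 _ (tn_mem ha)).1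

theorem nk_tn {a : ℕ} (ha : a < 128) : nk (tn a) = tn a := (base_ok.2.2.1 _ (tn_mem ha)).2

theorem tn_inj {a b : ℕ} (ha : a < 128) (hb : b < 128) (h : tn a = tn b) : a = b := by
  rw [tn, tn, List.getD_eq_getElem _ _ (by rw [base_ok.1]; exact ha),
    List.getD_eq_getElem _ _ (by rw [base_ok.1]; exact hb)] at h
  exact base_ok.2.1.getElem_inj_iff.1 h

/-- The element with a given index. -/
def tE (a : ℕ) : L4 := pl (tn a)

theorem tE_inj {a b : ℕ} (ha : a < 128) (hb : b < 128) (h : tE a = tE b) : a = b :=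
  tn_inj ha hb (by rw [← nk_tn ha, ← nk_tn hb]; exact nk_eq_of_pl (ok_tn ha) (ok_tn hb) h)

theorem tm_lt (a b : ℕ) : tm a b < 128 := Nat.mod_lt _ (by norm_num)

theorem tE_mul {a b : ℕ} (ha : a < 128) (hb : b < 128) : tE (tm a b) = tE a * tE b := by
  have key : nk (mm (tn a) (tn b)) = tn (tm a b) := by
    have get : ∀ a0 n, rowsOK a0 n = true → a0 ≤ a → a < a0 + n →
        nk (mm (tn a) (tn b)) = tn (tm a b) := fun a0 n h h1 h2 => by
      have := List.all_eq_true.1 (List.all_eq_true.1 h (a - a0) (List.mem_range.2 (by omega))) b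
        (List.mem_range.2 hb)
      rw [Nat.add_sub_cancel' h1] at this
      exact Nat.beq_eq.mp this
    rcases Nat.lt_or_ge a 64 with h | h
    exacts [get 0 64 checkA (Nat.zero_le _) (by omega), get 64 64 checkB h (by omega)]
  rw [tE, tE, tE, ← key, pl_nk (ok_mm (ok_tn ha) (ok_tn hb)), pl_mm (ok_tn ha) (ok_tn hb)]

theorem tE_one : tE oneX = 1 := by
  rw [tE, ← base_ok.2.2.2.1, pl_nk ok_one, pl_one]

/-- A list of indices closed under the product, as a subgroup. -/
theorem inv_mem_of_closed {l : List ℕ} (hone : oneX ∈ l) (hlt : ∀ a ∈ l, a < 128)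
    (hmul : ∀ a ∈ l, ∀ b ∈ l, tm a b ∈ l) {a : ℕ} (ha : a ∈ l) : ∃ b ∈ l, tE b = (tE a)⁻¹ := by
  have hp : ∀ n, ∃ b ∈ l, tE b = tE a ^ n := by
    intro n
    induction n with
    | zero => exact ⟨oneX, hone, by rw [pow_zero, tE_one]⟩
    | succ n ih =>
      obtain ⟨b, hb, e⟩ := ih
      exact ⟨_, hmul b hb a ha, by rw [tE_mul (hlt b hb) (hlt a ha), e, pow_succ]⟩
  obtain ⟨b, hb, e⟩ := hp (orderOf (tE a) - 1)
  refine ⟨b, hb, e.trans (inv_eq_of_mul_eq_one_right ?_).symm⟩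
  rw [← pow_succ', Nat.sub_add_cancel (orderOf_pos (tE a)), pow_orderOf_eq_one]

/-- The Sylow two-subgroup. -/
def T : Subgroup L4 where
  carrier := {x | ∃ a < 128, tE a = x}
  one_mem' := ⟨oneX, base_ok.2.2.2.2.1, tE_one⟩
  mul_mem' := by
    rintro _ _ ⟨a, ha, rfl⟩ ⟨b, hb, rfl⟩
    exact ⟨_, tm_lt a b, tE_mul ha hb⟩
  inv_mem' := by
    rintro _ ⟨a, ha, rfl⟩
    obtain ⟨b, hb, e⟩ := inv_mem_of_closed (l := List.range 128)
      (List.mem_range.2 base_ok.2.2.2.2.1) (fun a ha => List.mem_range.1 ha)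
      (fun a _ b _ => List.mem_range.2 (tm_lt a b)) (List.mem_range.2 ha)
    exact ⟨b, List.mem_range.1 hb, e⟩

theorem card_T : Nat.card T = 128 := by
  rw [← Nat.card_fin 128]
  refine (Nat.card_congr (Equiv.ofBijective (fun a : Fin 128 => (⟨tE a, a, a.2, rfl⟩ : T))
    ⟨fun a b e => Fin.ext (tE_inj a.2 b.2 (congrArg Subtype.val e)), ?_⟩)).symm
  rintro ⟨_, a, ha, rfl⟩
  exact ⟨⟨a, ha⟩, rfl⟩

theorem T_two : IsPGroup 2 T := IsPGroup.of_card (n := 7) (by rw [card_T]; norm_num)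

theorem sylow_conj (K : Subgroup L4) (hK : IsPGroup 2 K) : ∃ h : L4, ∀ k ∈ K, h * k * h⁻¹ ∈ T := by
  haveI : Fact (Nat.Prime 2) := ⟨Nat.prime_two⟩
  obtain ⟨P, hP⟩ := T_two.exists_le_sylow
  have hPT : (P : Subgroup L4) = T := by
    refine (eq_of_le_of_card_ge hP ?_).symm
    obtain ⟨m, hm⟩ := IsPGroup.iff_card.1 P.isPGroup'
    rw [card_T, hm, show (128 : ℕ) = 2 ^ 7 from rfl]
    refine Nat.pow_le_pow_right (by norm_num) ?_
    by_contra h
    have h8 : 2 ^ 8 ∣ Nat.card L4 :=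
      (pow_dvd_pow 2 (show 8 ≤ m by omega)).trans (hm ▸ card_subgroup_dvd_card _)
    rw [card_L4] at h8
    norm_num at h8
  obtain ⟨Q, hQ⟩ := hK.exists_le_sylow
  obtain ⟨h, hh⟩ := MulAction.exists_smul_eq L4 Q P
  refine ⟨h, fun k hk => ?_⟩
  rw [← hPT, ← hh, Sylow.coe_subgroup_smul]
  have := Subgroup.smul_mem_pointwise_smul k (MulAut.conj h) _ (hQ hk)
  rwa [MulAut.smul_def, MulAut.conj_apply] at this

theorem i0L_eq : i0L = tE i0X := by
  have h : nk (code i0S.1) = tn i0X := by decide +kernel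
  have hok : ok (code i0S.1) = true := ok_iff.2 ⟨canon_enc _, by rw [dec_code]; exact i0S.2⟩
  rw [tE, ← h, pl_nk hok, pl]
  exact congrArg mk (Subtype.ext (by rw [coe_el hok, dec_code]))

theorem i0L_ne : i0L ≠ 1 := fun h => by
  rw [i0L_eq, ← tE_one] at h
  exact absurd (tE_inj base_ok.2.2.2.2.2.1 base_ok.2.2.2.2.1 h) (by decide)

theorem el_sq_of_isConj {a : ℕ} (ha : ok a = true) (h : IsConj i0L (pl a)) :
    mm a a = oneC := by
  obtain ⟨x, hx⟩ := isConj_iff.1 h
  obtain ⟨g, rfl⟩ := QuotientGroup.mk'_surjective _ x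
  change mk g * mk i0S * (mk g)⁻¹ = mk (el a) at hx
  rw [← map_inv, ← map_mul, ← map_mul] at hx
  have hi : i0S * i0S = 1 := Subtype.ext (by
    rw [Matrix.SpecialLinearGroup.coe_mul, Matrix.SpecialLinearGroup.coe_one]; decide +kernel)
  have hc : g * i0S * g⁻¹ * (g * i0S * g⁻¹) = 1 := by
    rw [show g * i0S * g⁻¹ * (g * i0S * g⁻¹) = g * (i0S * i0S) * g⁻¹ by group, hi, mul_one,
      mul_inv_cancel]
  have hm := congrArg Subtype.val hc
  rw [Matrix.SpecialLinearGroup.coe_mul, Matrix.SpecialLinearGroup.coe_one] at hm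
  refine dec_inj (canon_mm _ _) (ok_iff.1 ok_one).1 ?_
  rw [dec_mm, dec_one]
  rcases mk_eq.1 hx with e | e <;> rw [coe_el ha] at e <;> rw [e]
  · exact hm
  · rw [neg_mul_neg]; exact hm

theorem isConj_iff_bad {a : ℕ} (ha : a < 128) : IsConj i0L (tE a) ↔ isBad a = true := by
  constructor
  · intro h
    refine base_ok.2.2.2.2.2.2.2.2 a ha (el_sq_of_isConj (ok_tn ha) h) ?_
    rintro rfl
    rw [tE_one] at h
    exact i0L_ne (isConj_one_left.1 h)
  · intro h
    obtain ⟨p, hp, rfl⟩ := List.mem_map.1 (memN_iff.1 h)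
    obtain ⟨hok, e⟩ := base_ok.2.2.2.2.2.2.2.1 p hp
    refine isConj_iff.2 ⟨pl p.2, ?_⟩
    rw [i0L_eq, tE, tE, mul_inv_eq_iff_eq_mul, ← pl_mm hok (ok_tn base_ok.2.2.2.2.2.1),
      ← pl_mm (ok_tn ha) hok]
    exact congrArg pl e

theorem tree_ok : nodeL.length = 91 ∧ (els 0).length = 1 ∧
    ∀ i < 91, nodeOK i = true ∧ actOK i = true := by
  have h := checkTree
  simp only [treeOK, Bool.and_eq_true, Nat.beq_eq, List.all_eq_true, List.mem_range, and_assoc] at h
  exact h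

theorem node_ok {i : ℕ} (hi : i < 91) : oneX ∈ els i ∧ (els i).Nodup ∧
    (∀ a ∈ els i, a < 128 ∧ isBad a = false) ∧ ∀ a ∈ els i, ∀ b ∈ els i, tm a b ∈ els i := by
  have h := (tree_ok.2.2 i hi).1
  simp only [nodeOK, Bool.and_eq_true, memN_iff, List.all_eq_true, Nat.blt_eq, Bool.not_eq_true',
    and_assoc] at h
  exact ⟨h.1, nodupN_iff h.2.1, h.2.2.1, h.2.2.2.1⟩

/-- A listed subgroup. -/
def node (i : Fin 91) : Subgroup L4 where
  carrier := {x | ∃ a ∈ els i, tE a = x}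
  one_mem' := ⟨oneX, (node_ok i.2).1, tE_one⟩
  mul_mem' := by
    rintro _ _ ⟨a, ha, rfl⟩ ⟨b, hb, rfl⟩
    exact ⟨_, (node_ok i.2).2.2.2 a ha b hb,
      tE_mul ((node_ok i.2).2.2.1 a ha).1 ((node_ok i.2).2.2.1 b hb).1⟩
  inv_mem' := by
    rintro _ ⟨a, ha, rfl⟩
    exact inv_mem_of_closed (node_ok i.2).1 (fun a ha => ((node_ok i.2).2.2.1 a ha).1)
      (node_ok i.2).2.2.2 ha

theorem tE_mem_node {i : Fin 91} {a : ℕ} (ha : a < 128) : tE a ∈ node i ↔ a ∈ els i :=
  ⟨fun ⟨_, hb, e⟩ => tE_inj ((node_ok i.2).2.2.1 _ hb).1 ha e ▸ hb, fun h => ⟨a, h, rfl⟩⟩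

theorem card_node (i : Fin 91) : Nat.card (node i) = (els i).length := by
  classical
  rw [← List.toFinset_card_of_nodup (node_ok i.2).2.1, ← Nat.card_eq_finsetCard]
  refine (Nat.card_congr (Equiv.ofBijective (fun a : (els i).toFinset =>
    (⟨tE a.1, a.1, List.mem_toFinset.1 a.2, rfl⟩ : node i)) ⟨fun a b e => ?_, ?_⟩)).symm
  · exact Subtype.ext (tE_inj ((node_ok i.2).2.2.1 _ (List.mem_toFinset.1 a.2)).1
      ((node_ok i.2).2.2.1 _ (List.mem_toFinset.1 b.2)).1 (congrArg Subtype.val e :))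
  · rintro ⟨_, a, ha, rfl⟩
    exact ⟨⟨a, List.mem_toFinset.2 ha⟩, rfl⟩

theorem nodeFam : NodeFam i0L T node := by
  refine ⟨fun i => ?_, ⟨⟨0, by norm_num⟩, Subgroup.eq_bot_of_card_eq _
    (by rw [card_node]; exact tree_ok.2.1)⟩, ?_⟩
  · rintro _ ⟨a, ha, rfl⟩
    exact ⟨a, ((node_ok i.2).2.2.1 a ha).1, rfl⟩
  rintro i _ ⟨k, hk, rfl⟩ he
  have h := (tree_ok.2.2 _ i.2).1
  simp only [nodeOK, Bool.and_eq_true, List.all_eq_true, List.mem_range, and_assoc] at h
  have h' := h.2.2.2.2 k hk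
  simp only [Bool.or_eq_true, Bool.not_eq_true', memN_iff, List.any_eq_true, Bool.and_eq_true,
    List.all_eq_true, List.mem_range, Nat.ble_eq] at h'
  have hlt := fun a (ha : a ∈ els i) => ((node_ok i.2).2.2.1 a ha).1
  rcases h' with (((h' | h') | h') | h') | h'
  · exact absurd ((tE_mem_node hk).2 h') he.notMem
  · obtain ⟨a, ha, hne⟩ : ∃ a ∈ els i, tm k a ≠ tm a k := by
      by_contra hall
      push Not at hall
      exact Bool.noConfusion ((List.all_eq_true.2 fun a ha => Nat.beq_eq.mpr (hall a ha)).symm.trans h')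
    refine absurd (tE_inj (tm_lt _ _) (tm_lt _ _) ?_) hne
    rw [tE_mul hk (hlt a ha), tE_mul (hlt a ha) hk]
    exact he.comm _ ⟨a, ha, rfl⟩
  · have := he.sq
    rw [← tE_mul hk hk, tE_mem_node (tm_lt _ _), ← memN_iff, h'] at this
    exact absurd this (by simp)
  · obtain ⟨a, ha, hb⟩ := h'
    refine absurd ((isConj_iff_bad (tm_lt k a)).2 hb) ?_
    rw [tE_mul hk (hlt a ha)]
    exact he.free _ ⟨a, ha, rfl⟩
  · obtain ⟨j, hj, ⟨hkj, hsub⟩, hlen⟩ := h'
    rw [tree_ok.1] at hj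
    refine ⟨⟨j, hj⟩, 1, one_mem _, ?_, ?_, ?_⟩
    · rintro _ ⟨a, ha, rfl⟩
      rw [one_mul, inv_one, mul_one]
      exact ⟨a, hsub a ha, rfl⟩
    · rw [one_mul, inv_one, mul_one]
      exact ⟨k, hkj, rfl⟩
    · rw [card_node, card_node]; exact hlen

/-- A group of order forty five has an element of order fifteen. -/
theorem exists_fifteen {H : Type*} [Group H] [Finite H] (h : Nat.card H = 45) :
    ∃ x : H, x ^ 15 = 1 ∧ x ^ 5 ≠ 1 ∧ x ^ 3 ≠ 1 := by
  classical
  haveI : Fact (Nat.Prime 5) := ⟨Nat.prime_five⟩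
  haveI : Fact (Nat.Prime 3) := ⟨Nat.prime_three⟩
  obtain ⟨y, hy⟩ := exists_prime_orderOf_dvd_card' (G := H) 5 (by rw [h]; norm_num)
  obtain ⟨x, hx⟩ := exists_prime_orderOf_dvd_card' (G := H) 3 (by rw [h]; norm_num)
  have hy5 : y ^ 5 = 1 := hy ▸ pow_orderOf_eq_one y
  have hx3 : x ^ 3 = 1 := hx ▸ pow_orderOf_eq_one x
  have hp : IsPGroup 5 (zpowers y) := IsPGroup.of_card (n := 1) (by rw [Nat.card_zpowers, hy, pow_one])
  obtain ⟨P, hP⟩ := hp.exists_le_sylow
  have hPy : zpowers y = (P : Subgroup H) := by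
    refine eq_of_le_of_card_ge hP ?_
    obtain ⟨m, hm⟩ := IsPGroup.iff_card.1 P.isPGroup'
    rw [Nat.card_zpowers, hy, hm]
    rcases m with _ | _ | m
    · norm_num
    · norm_num
    · have h25 : 5 ^ 2 ∣ 45 := h ▸ (pow_dvd_pow 5 (show 2 ≤ m + 2 by omega)).trans
        (hm ▸ card_subgroup_dvd_card (P : Subgroup H))
      norm_num at h25
  have hn : Nat.card (Sylow 5 H) = 1 := by
    have h1 := P.card_dvd_index
    have h2 := card_sylow_modEq_one 5 H
    have h9 : (P : Subgroup H).index = 9 := by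
      have := (P : Subgroup H).card_mul_index
      rw [← hPy, Nat.card_zpowers, hy, h] at this
      rw [← hPy]
      omega
    rw [h9] at h1
    have h3 : Nat.card (Sylow 5 H) ≤ 9 := Nat.le_of_dvd (by norm_num) h1
    rw [Nat.ModEq] at h2
    interval_cases (Nat.card (Sylow 5 H)) <;> norm_num at *
  haveI : Subsingleton (Sylow 5 H) := (Nat.card_eq_one_iff_unique.1 hn).1
  haveI : (P : Subgroup H).Normal := Sylow.normal_of_subsingleton P
  have hc : x * y * x⁻¹ ∈ zpowers y := hPy ▸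
    Subgroup.Normal.conj_mem inferInstance y (hP (mem_zpowers y)) x
  rw [mem_zpowers_iff_mem_range_orderOf, Finset.mem_image, hy] at hc
  obtain ⟨k, hk, hk'⟩ := hc
  rw [Finset.mem_range] at hk
  have hp : ∀ j : ℕ, x * y ^ j * x⁻¹ = y ^ (k * j) := fun j => by
    rw [← conj_pow, ← hk', ← pow_mul]
  have h3 : y ^ (k * (k * k)) = y ^ 1 := by
    calc y ^ (k * (k * k)) = x * (x * (x * y ^ 1 * x⁻¹) * x⁻¹) * x⁻¹ := by
          rw [hp, hp, mul_one, hp]
      _ = x ^ 3 * y ^ 1 * (x ^ 3)⁻¹ := by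
          rw [pow_succ x 2, pow_two, pow_one]; group
      _ = y ^ 1 := by rw [hx3]; group
  rw [pow_eq_pow_iff_modEq, hy] at h3
  have hk1 : k = 1 := by
    interval_cases k <;> simp [Nat.ModEq] at h3 ⊢
  have hxy : Commute x y := by
    rw [hk1, pow_one] at hk'
    exact (mul_inv_eq_iff_eq_mul.1 hk'.symm)
  refine ⟨x * y, ?_, ?_, ?_⟩
  · rw [hxy.mul_pow, show 15 = 3 * 5 from rfl, pow_mul x, hx3, one_pow, mul_comm 3 5, pow_mul, hy5,
      one_pow, mul_one]
  · rw [hxy.mul_pow, hy5, mul_one, show 5 = 3 + 2 from rfl, pow_add, hx3, one_mul]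
    intro h2
    have := orderOf_dvd_of_pow_eq_one h2
    rw [hx] at this
    norm_num at this
  · rw [hxy.mul_pow, hx3, one_mul]
    intro h2
    have := orderOf_dvd_of_pow_eq_one h2
    rw [hy] at this
    norm_num at this

theorem cert_ok {c : Cert} (hc : c ∈ certL) : certOK c = true := by
  rw [← List.take_append_drop 3 certL, List.mem_append] at hc
  rcases hc with hc | hc
  exacts [List.all_eq_true.1 checkCerts c hc, List.all_eq_true.1 checkCertLast c hc]

attribute [local irreducible] mm nmat vmul cand valid dt nk ng dec el in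
set_option maxHeartbeats 1600000 in
theorem cert_bound {c : Cert} (hc : c ∈ certL) (hi : c.node < 91) :
    OddBound (node ⟨c.node, hi⟩) := by
  classical
  have h := cert_ok hc
  simp only [certOK, Bool.and_eq_true, Nat.beq_eq, Nat.blt_eq, and_assoc] at h
  obtain ⟨-, hlen, hV, hC4, hC, hn, hno, hd, hnd, hwl, h15⟩ := h
  have hlt := fun a (ha : a ∈ els c.node) => ((node_ok hi).2.2.1 a ha).1
  let S : Set S4 := {g | ∃ a ∈ els c.node, el (tn a) = g}
  let Cs : Subgroup S4 := centralizer S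
  -- the elements of the centralizer among the candidates
  have hdecV : dec (nmat c.cols c.v) * dec c.vi = 1 := by rw [← dec_mm, hV, dec_one]
  have hfwd : ∀ g : Cs, ∀ e, ok e = true → el e = g →
      vmul c.m e c.v ∈ (List.range (3 ^ (4 * c.m))).filter (valid c) ∧
        cand c (vmul c.m e c.v) = e := by
    intro g e he heg
    have hcomm : ∀ a ∈ els c.node, dec e * dec (tn a) = dec (tn a) * dec e := fun a ha => by
      have := congrArg Subtype.val (mem_centralizer_iff.1 g.2 (el (tn a)) ⟨a, ha, rfl⟩)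
      rw [Matrix.SpecialLinearGroup.coe_mul, Matrix.SpecialLinearGroup.coe_mul, ← heg,
        coe_el he, coe_el (ok_tn (hlt a ha))] at this
      exact this.symm
    have hs : ∀ p ∈ c.cols, p.2 < c.m ∧ dec e * dec p.1 = dec p.1 * dec e := fun p hp => by
      have hp' := List.all_eq_true.1 hC p hp
      simp only [Bool.and_eq_true, Bool.or_eq_true, Nat.blt_eq, Nat.beq_eq, memN_iff,
        List.mem_map] at hp'
      obtain ⟨h1, h2 | ⟨a, ha, h2⟩⟩ := hp'
      · exact ⟨h1, by rw [h2, dec_one, one_mul, mul_one]⟩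
      · exact ⟨h1, by rw [← h2]; exact hcomm a ha⟩
    have hce : cand c (vmul c.m e c.v) = e := by
      refine dec_inj (canon_cand _ _) (ok_iff.1 he).1 ?_
      rw [cand, dec_mm, ← dec_mul_nmat c.cols c.v (fun p hp => (hs p hp).1) hC4
        (fun p hp => (hs p hp).2), mul_assoc, hdecV, mul_one]
    refine ⟨List.mem_filter.2 ⟨List.mem_range.2 (vmul_lt _ _ _), ?_⟩, hce⟩
    unfold valid
    rw [hce, Bool.and_eq_true, Bool.and_eq_true, List.all_eq_true]
    refine ⟨⟨dt_one.2 (ok_iff.1 he).2, fun a ha => Nat.beq_eq.mpr ?_⟩, Nat.beq_eq.mpr rfl⟩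
    exact dec_inj (canon_mm _ _) (canon_mm _ _) (by rw [dec_mm, dec_mm]; exact hcomm a ha)
  have hcard : Nat.card Cs = c.n := by
    rw [← hn, ← List.toFinset_card_of_nodup ((List.nodup_range).filter _),
      ← Nat.card_eq_finsetCard]
    have hback : ∀ w ∈ (List.range (3 ^ (4 * c.m))).filter (valid c),
        ok (cand c w) = true ∧ el (cand c w) ∈ Cs ∧ vmul c.m (cand c w) c.v = w := by
      intro w hw
      have hv := (List.mem_filter.1 hw).2
      unfold valid at hv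
      rw [Bool.and_eq_true, Bool.and_eq_true, List.all_eq_true] at hv
      obtain ⟨⟨h1, h2⟩, h3⟩ := hv
      have hok : ok (cand c w) = true := ok_iff.2 ⟨canon_cand _ _, dt_one.1 h1⟩
      refine ⟨hok, mem_centralizer_iff.2 ?_, Nat.beq_eq.mp h3⟩
      rintro _ ⟨a, ha, rfl⟩
      apply Subtype.ext
      rw [Matrix.SpecialLinearGroup.coe_mul, Matrix.SpecialLinearGroup.coe_mul, coe_el hok,
        coe_el (ok_tn (hlt a ha)), ← dec_mm, ← dec_mm, Nat.beq_eq.mp (h2 a ha)]
    refine (Nat.card_congr (Equiv.ofBijective (fun w :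
      ((List.range (3 ^ (4 * c.m))).filter (valid c)).toFinset =>
        (⟨el (cand c w.1), (hback _ (List.mem_toFinset.1 w.2)).2.1⟩ : Cs)) ⟨fun w w' e => ?_, ?_⟩)).symm
    · obtain ⟨ho, -, hv⟩ := hback _ (List.mem_toFinset.1 w.2)
      obtain ⟨ho', -, hv'⟩ := hback _ (List.mem_toFinset.1 w'.2)
      have e1 := congrArg (fun g : Cs => (g.1 : Matrix (Fin 4) (Fin 4) (ZMod 3))) e
      simp only [coe_el ho, coe_el ho'] at e1
      have e2 := dec_inj (ok_iff.1 ho).1 (ok_iff.1 ho').1 e1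
      exact Subtype.ext (by rw [← hv, ← hv', e2])
    · intro g
      obtain ⟨e, he, heg⟩ := exists_el g.1
      obtain ⟨hm, hce⟩ := hfwd g e he heg
      refine ⟨⟨vmul c.m e c.v, List.mem_toFinset.2 hm⟩, Subtype.ext ?_⟩
      show el (cand c (vmul c.m e c.v)) = (g : S4)
      rw [hce, heg]
  intro L hL hodd
  -- odd elements have lifts in the centralizer
  have hlift : ∀ x ∈ L, ∀ g : S4, mk g = x → g * g ∈ Cs := by
    intro x hx g hg
    refine mem_centralizer_iff.2 ?_
    rintro _ ⟨a, ha, rfl⟩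
    have h1 : mk (el (tn a) * g) = mk (g * el (tn a)) := by
      rw [map_mul, map_mul, hg]
      exact mem_centralizer_iff.1 (hL hx) (tE a) ⟨a, ha, rfl⟩
    apply Subtype.ext
    simp only [Matrix.SpecialLinearGroup.coe_mul]
    rcases mk_eq.1 h1 with e | e <;> simp only [Matrix.SpecialLinearGroup.coe_mul] at e
    · rw [← mul_assoc, ← e, mul_assoc, ← e, ← mul_assoc]
    · rw [← mul_assoc, ← neg_neg ((el (tn a)).1 * g.1), ← e, neg_mul, mul_assoc,
        ← neg_neg ((el (tn a)).1 * g.1), ← e, mul_neg, neg_neg, ← mul_assoc]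
  have hLC : L ≤ Cs.map mk := by
    intro x hx
    obtain ⟨g, hg⟩ := QuotientGroup.mk'_surjective _ x
    change mk g = x at hg
    obtain ⟨t, ht⟩ := hodd
    refine ⟨(g * g) ^ (t + 1), pow_mem (hlift x hx g hg) _, ?_⟩
    rw [map_pow, map_mul, hg, ← pow_two, ← pow_mul,
      show 2 * (t + 1) = Nat.card L + 1 by omega, pow_succ]
    have := congrArg Subtype.val (pow_card_eq_one' (x := (⟨x, hx⟩ : L)))
    simp only [SubgroupClass.coe_pow, OneMemClass.coe_one] at this
    rw [this, one_mul]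
  have hdvd : Nat.card L ∣ c.n := by
    rw [← hcard]
    exact (card_dvd_of_le hLC).trans (Cs.card_map_dvd mk)
  have hdo : Nat.card L ∣ c.o := by
    rw [← hno] at hdvd
    exact (Nat.Coprime.pow_right _ (Nat.coprime_two_right.2 hodd)).dvd_of_dvd_mul_right hdvd
  have ho0 : 0 < c.o := by
    rcases Nat.eq_zero_or_pos c.o with h0 | h0
    · rw [h0, zero_mul] at hno
      have := Nat.card_pos (α := Cs)
      omega
    · exact h0
  -- the witnesses
  have hwit : c.wl.length ≤ Nat.card {x : L4 //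
      x ∈ centralizer (node ⟨c.node, hi⟩ : Set L4) ∧ x ∉ node ⟨c.node, hi⟩ ∧
        x * x ∈ node ⟨c.node, hi⟩} := by
    have hx : ∀ i : Fin c.wl.length, ok c.wl[i.val] = true ∧ nk c.wl[i.val] = c.wl[i.val] ∧
        (∀ a ∈ els c.node, pl c.wl[i.val] * tE a = tE a * pl c.wl[i.val]) ∧
        pl c.wl[i.val] * pl c.wl[i.val] ∈ node ⟨c.node, hi⟩ ∧ pl c.wl[i.val] ∉ node ⟨c.node, hi⟩ := by
      intro i
      have h := List.all_eq_true.1 hwl _ (List.getElem_mem i.2)
      simp only [Bool.and_eq_true, Nat.beq_eq, List.all_eq_true, memN_iff, List.mem_map,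
        Bool.not_eq_true'] at h
      obtain ⟨⟨⟨⟨h1, h2⟩, h3⟩, ⟨a, ha, h4⟩⟩, h5⟩ := h
      refine ⟨h1, h2, fun a ha => ?_, ⟨a, ha, ?_⟩, ?_⟩
      · have hta := ok_tn (hlt a ha)
        rw [tE, ← pl_mm h1 hta, ← pl_mm hta h1, ← pl_nk (ok_mm h1 hta), h3 a ha,
          pl_nk (ok_mm hta h1)]
      · rw [tE, h4, pl_nk (ok_mm h1 h1), pl_mm h1 h1]
      · rintro ⟨a, ha, e⟩
        have e' := nk_eq_of_pl (ok_tn (hlt a ha)) h1 e
        rw [nk_tn (hlt a ha), h2] at e'
        have : memN c.wl[i.val] ((els c.node).map tn) = true :=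
          memN_iff.2 (List.mem_map.2 ⟨a, ha, e'⟩)
        rw [h5] at this
        exact Bool.noConfusion this
    rw [← Nat.card_fin c.wl.length]
    refine Nat.card_le_card_of_injective (fun i => ⟨pl c.wl[i.val],
      mem_centralizer_iff.2 ?_, (hx i).2.2.2.2, (hx i).2.2.2.1⟩) fun i j e => ?_
    · rintro _ ⟨a, ha, rfl⟩
      exact ((hx i).2.2.1 a ha).symm
    · have e' := nk_eq_of_pl (hx i).1 (hx j).1 (congrArg Subtype.val e :)
      rw [(hx i).2.1, (hx j).2.1] at e'
      exact Fin.ext ((nodupN_iff hnd).getElem_inj_iff.1 e')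
  rw [card_node, hlen]
  refine lt_of_lt_of_le ?_ hwit
  have hd' := List.all_eq_true.1 hd (Nat.card L) (List.mem_range.2 (by
    have := Nat.le_of_dvd ho0 hdo; omega))
  simp only [Bool.or_eq_true, Bool.not_eq_true', Nat.beq_eq, Nat.blt_eq] at hd'
  rcases hd' with (h | h) | h
  · have h0 : Nat.beq (c.o % Nat.card L) 0 = true :=
      Nat.beq_eq.mpr (Nat.mod_eq_zero_of_dvd hdo)
    exact Bool.noConfusion (h0.symm.trans h)
  · exfalso
    obtain ⟨⟨x, hx⟩, hx15, hx5, hx3⟩ := exists_fifteen h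
    obtain ⟨y, hy, hyx⟩ := hLC hx
    -- `y ^ 16` lifts `x` and has order fifteen
    have p : ∀ k, mk ((y ^ 16) ^ k) = x ^ k := fun k => by
      have hx16 : x ^ 16 = x := by
        rw [pow_succ, show x ^ 15 = 1 from congrArg Subtype.val hx15, one_mul]
      rw [map_pow, map_pow, hyx, hx16]
    have q15 : (y ^ 16) ^ 15 = 1 := by
      have e : mk (y ^ 15) = mk 1 := by
        rw [map_pow, hyx, show x ^ 15 = 1 from congrArg Subtype.val hx15, map_one]
      apply Subtype.ext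
      rw [← pow_mul, mul_comm, pow_mul, Matrix.SpecialLinearGroup.coe_pow,
        Matrix.SpecialLinearGroup.coe_one]
      rcases mk_eq.1 e.symm with e' | e' <;> rw [e', Matrix.SpecialLinearGroup.coe_one]
      · exact one_pow _
      · exact Even.neg_one_pow (by decide)
    have q5 : (y ^ 16) ^ 5 ≠ 1 := fun e => hx5 (Subtype.ext (by
      rw [SubgroupClass.coe_pow, ← p, e, map_one]; rfl))
    have q3 : (y ^ 16) ^ 3 ≠ 1 := fun e => hx3 (Subtype.ext (by
      rw [SubgroupClass.coe_pow, ← p, e, map_one]; rfl))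
    obtain ⟨e, he, hey⟩ := exists_el (y ^ 16)
    obtain ⟨hm, hce⟩ := hfwd ⟨y ^ 16, pow_mem hy _⟩ e he hey
    have h15' : 45 ≤ c.o := h ▸ Nat.le_of_dvd ho0 hdo
    simp only [Bool.or_eq_true, Nat.blt_eq] at h15
    rcases h15 with h15 | h15
    · omega
    have hf := List.all_eq_true.1 h15 _ (List.mem_range.2 (vmul_lt _ _ _) :
      vmul c.m e c.v ∈ List.range (3 ^ (4 * c.m)))
    simp only [(List.mem_filter.1 hm).2, Bool.not_true, Bool.false_or, hce, Bool.not_eq_true'] at hf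
    have hfi : fifteen e = true := by
      have o2 := ok_mm he he
      have o3 := ok_mm o2 he
      have o5 := ok_mm o3 o2
      have e5 : el (mm (mm (mm e e) e) (mm e e)) = (y ^ 16) ^ 5 := by
        rw [el_mm o3 o2, el_mm o2 he, el_mm he he, hey]; group
      have e15 : el (mm (mm (mm (mm (mm e e) e) (mm e e)) (mm (mm (mm e e) e) (mm e e)))
          (mm (mm (mm e e) e) (mm e e))) = (y ^ 16) ^ 15 := by
        rw [el_mm (ok_mm o5 o5) o5, el_mm o5 o5, e5, ← pow_add, ← pow_add]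
      simp only [fifteen, Bool.and_eq_true, Bool.not_eq_true', Nat.beq_eq]
      refine ⟨⟨?_, ?_⟩, ?_⟩
      · refine dec_inj (canon_mm _ _) (ok_iff.1 ok_one).1 ?_
        rw [← coe_el (ok_mm (ok_mm o5 o5) o5), e15, q15, dec_one,
          Matrix.SpecialLinearGroup.coe_one]
      · refine Bool.eq_false_iff.2 fun hb => q5 ?_
        rw [← e5, Nat.beq_eq.mp hb, el_one]
      · refine Bool.eq_false_iff.2 fun hb => q3 ?_
        rw [← el_one, ← Nat.beq_eq.mp hb, el_mm o2 he, el_mm he he, hey]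
        group
    rw [hfi] at hf
    exact Bool.noConfusion hf
  · exact h

/-- Each listed subgroup has an extension or few elements of odd order. -/
theorem node_crit (i : Fin 91) : (∃ k : L4, Ext i0L (node i) k) ∨ OddBound (node i) := by
  have h := (tree_ok.2.2 _ i.2).2
  simp only [actOK] at h
  split at h
  · left
    simp only [Bool.and_eq_true, Nat.blt_eq, Bool.not_eq_true', List.all_eq_true, Nat.beq_eq,
      memN_iff, and_assoc] at h
    obtain ⟨hk, hn, hc, hs, hf⟩ := h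
    have hlt := fun a (ha : a ∈ els i) => ((node_ok i.2).2.2.1 a ha).1
    refine ⟨tE (actL.getD i (0, 0)).2, fun hm => ?_, ?_, ?_, ?_⟩
    · rw [tE_mem_node hk, ← memN_iff, hn] at hm
      exact absurd hm (by simp)
    · rintro _ ⟨a, ha, rfl⟩
      rw [← tE_mul hk (hlt a ha), hc a ha, tE_mul (hlt a ha) hk]
    · rw [← tE_mul hk hk, tE_mem_node (tm_lt _ _)]; exact hs
    · rintro _ ⟨a, ha, rfl⟩ e
      rw [← tE_mul hk (hlt a ha), isConj_iff_bad (tm_lt _ _), hf a ha] at e
      exact absurd e (by simp)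
  · right
    simp only [Bool.and_eq_true, Nat.blt_eq, List.all_eq_true, List.any_eq_true, Nat.beq_eq,
      and_assoc] at h
    obtain ⟨hok, hr, h1, h2⟩ := h
    set p := actL.getD i.val (0, 0) with hp
    set c := certL.getD (p.1 - 1) default with hc
    have hcm : c ∈ certL := by
      rw [hc, List.getD_eq_getElem _ _ hr]; exact List.getElem_mem _
    have hci : c.node < 91 := by
      have h := cert_ok hcm
      simp only [certOK, Bool.and_eq_true, Nat.blt_eq, and_assoc] at h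
      exact h.1
    have hcj : ∀ a ∈ els c.node, ∀ b ∈ els i,
        nk (mm p.2 (tn a)) = nk (mm (tn b) p.2) → pl p.2 * tE a * (pl p.2)⁻¹ = tE b := by
      intro a ha b hb e
      have hta := ok_tn ((node_ok hci).2.2.1 a ha).1
      have htb := ok_tn ((node_ok i.2).2.2.1 b hb).1
      rw [mul_inv_eq_iff_eq_mul, tE, tE, ← pl_mm hok hta, ← pl_mm htb hok,
        ← pl_nk (ok_mm hok hta), e, pl_nk (ok_mm htb hok)]
    have hset : cjS (pl p.2) (node ⟨c.node, hci⟩) = node i := by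
      ext x
      rw [mem_cjS]
      constructor
      · rintro ⟨_, ⟨a, ha, rfl⟩, rfl⟩
        obtain ⟨b, hb, e⟩ := h1 a ha
        exact ⟨b, hb, (hcj a ha b hb e).symm⟩
      · rintro ⟨b, hb, rfl⟩
        obtain ⟨a, ha, e⟩ := h2 b hb
        exact ⟨tE a, ⟨a, ha, rfl⟩, hcj a ha b hb e⟩
    rw [← hset]
    exact oddBound_cj (cert_bound hcm hci) _

/-- What the census needs from the model. -/
theorem censusModel : StmtCensusModel := by
  refine ⟨?_, i0L_ne, T, ?_, sylow_conj, ?_⟩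
  · have hi : i0S * i0S = 1 := Subtype.ext (by
      rw [Matrix.SpecialLinearGroup.coe_mul, Matrix.SpecialLinearGroup.coe_one]; decide +kernel)
    rw [i0L, ← map_mul, hi, map_one]
  · rintro _ ⟨a, ha, rfl⟩
    rw [i0L_eq, ← tE_mul base_ok.2.2.2.2.2.1 ha, ← base_ok.2.2.2.2.2.2.1 a ha,
      tE_mul ha base_ok.2.2.2.2.2.1]
  · intro K hKT hab hfree
    have hcl : Clean i0L K := ⟨T_two.to_le hKT, hab, hfree⟩
    obtain ⟨i, s, -, hsi⟩ := nodeFam.reach hKT hcl
    have hback : cjS s⁻¹ (node i) = K := by rw [← hsi]; exact cjS_inv_cjS s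
    rcases node_crit i with ⟨k, hk⟩ | hb
    · left
      have hk' := hk.cj s⁻¹
      rw [hback] at hk'
      exact ⟨_, hk'.notMem, hk'.comm, hk'.sq, hk'.free⟩
    · right
      have hb' := oddBound_cj hb s⁻¹
      rw [hback] at hb'
      exact hb'

end CfsgLib.L43Three.CensusM

theorem CfsgLib.L43Three.censusModel : CfsgLib.L43Three.StmtCensusModel :=
  CfsgLib.L43Three.CensusM.censusModel
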