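import Cfsg.Agent.Lib.ThreeLocalChars.Tools
import Cfsg.Agent.Lib.Chars.Virtual
import Cfsg.Agent.Lib.Chars.Linear

/-!
# Two virtual characters of norm three and a linear character (S3373, case A)

Three virtual characters `f`, `g`, `g'` of norm three on a trivial intersection set of `H`, with
inner products one among themselves and `1, 1, 0` with the principal character, induce to three
sums of three irreducible characters each.  If their sums over the products of two involutions have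
the ratio `3 : 1 : 1`, then one constituent is a linear character which is not one at the involution.
-/

set_option autoImplicit false
set_option linter.style.haveILetI false

namespace CfsgLib.L43Three.CentA

open Cfsg CfsgLib
open CfsgLib.Chars hiding inner_conj
open scoped ComplexConjugate

universe u

variable {X : Type u} [Group X]

theorem norm_three_dec [Fintype X] {f : X → ℂ} (hf : IsClassFunction X f)
    (hint : ∀ χ : IrrCharacter X, ∃ m : ℤ, classInner f χ = m)
    (h3 : classInner f f = 3) (h1 : classInner f (fun _ => 1) = 1) :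
    ∃ (P Q : IrrCharacter X) (a b : ℤ), P ≠ principal X ∧ Q ≠ principal X ∧ P ≠ Q ∧
      a * a = 1 ∧ b * b = 1 ∧ classInner f P = a ∧ classInner f Q = b ∧
      (∀ χ : IrrCharacter X, χ ≠ principal X → χ ≠ P → χ ≠ Q → classInner f χ = 0) ∧
      ∀ g, f g = 1 + a * (P : X → ℂ) g + b * (Q : X → ℂ) g := by
  classical
  haveI := irrFintype X
  choose m hm using hint
  have hp : m (principal X) = 1 := by
    have h2 := hm (principal X)
    rw [show ((principal X : IrrCharacter X) : X → ℂ) = fun _ => 1 from rfl, h1] at h2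
    exact_mod_cast h2.symm
  have hsum : (∑ χ : IrrCharacter X, m χ * m χ) = 3 := by
    have := inner_eq_sum hf f
    simp only [hm, h3, map_intCast] at this
    exact_mod_cast this.symm
  rw [← Finset.add_sum_erase _ _ (Finset.mem_univ (principal X)), hp] at hsum
  set R := (Finset.univ.erase (principal X)).filter (fun χ => m χ ≠ 0) with hR
  have hR2 : ∑ χ ∈ R, m χ * m χ = 2 := by
    rw [hR, Finset.sum_filter_of_ne (p := fun χ => m χ ≠ 0)
      (fun χ _ h h0 => h (by rw [h0, mul_zero]))]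
    linarith
  have hsq : ∀ χ ∈ R, m χ * m χ = 1 := by
    intro χ hχ
    have h4 : m χ * m χ ≤ 2 := by
      rw [← hR2]
      exact Finset.single_le_sum (fun i _ => mul_self_nonneg (m i)) hχ
    have h5 : -1 ≤ m χ := by nlinarith
    have h6 : m χ ≤ 1 := by nlinarith
    have h7 : m χ ≠ 0 := (Finset.mem_filter.mp hχ).2
    rcases (show m χ = 1 ∨ m χ = -1 by omega) with e | e <;> rw [e] <;> norm_num
  rw [Finset.sum_congr rfl hsq, Finset.sum_const, nsmul_eq_mul, mul_one] at hR2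
  obtain ⟨P, Q, hPQ, hRe⟩ := Finset.card_eq_two.mp (show R.card = 2 by exact_mod_cast hR2)
  have hPR : P ∈ R := by simp [hRe]
  have hQR : Q ∈ R := by simp [hRe]
  refine ⟨P, Q, m P, m Q, (Finset.mem_erase.mp (Finset.mem_filter.mp hPR).1).1,
    (Finset.mem_erase.mp (Finset.mem_filter.mp hQR).1).1, hPQ, hsq P hPR, hsq Q hQR, hm P, hm Q,
    fun χ hχ1 hχP hχQ => ?_, fun g => ?_⟩
  · rw [hm]
    have : χ ∉ R := by simp [hRe, hχP, hχQ]
    simp only [hR, Finset.mem_filter, Finset.mem_erase, Finset.mem_univ, and_true, not_and,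
      not_not] at this
    exact_mod_cast this hχ1
  · conv_lhs => rw [classFun_eq_sum hf, Finset.sum_apply]
    rw [← Finset.add_sum_erase _ _ (Finset.mem_univ (principal X))]
    simp only [Pi.smul_apply, smul_eq_mul, hm, hp, Int.cast_one, one_mul, principal_apply]
    rw [← Finset.sum_filter_of_ne (p := fun χ => m χ ≠ 0)
      (fun χ _ h h0 => h (by rw [h0, Int.cast_zero, zero_mul]))]
    rw [← hR, hRe, Finset.sum_pair hPQ, add_assoc]

theorem norm_three_dec' [Fintype X] {f : X → ℂ} (hf : IsClassFunction X f)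
    (hint : ∀ χ : IrrCharacter X, ∃ m : ℤ, classInner f χ = m) (h3 : classInner f f = 3) :
    ∃ (R : Finset (IrrCharacter X)) (m : IrrCharacter X → ℤ), R.card = 3 ∧
      (∀ χ ∈ R, m χ * m χ = 1) ∧ (∀ χ, χ ∉ R → m χ = 0) ∧ (∀ χ : IrrCharacter X, classInner f χ = m χ) ∧
      ∀ g, f g = ∑ χ ∈ R, (m χ : ℂ) * (χ : X → ℂ) g := by
  classical
  haveI := irrFintype X
  choose m hm using hint
  have hsum : (∑ χ : IrrCharacter X, m χ * m χ) = 3 := by
    have := inner_eq_sum hf f
    simp only [hm, h3, map_intCast] at this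
    exact_mod_cast this.symm
  set R := (Finset.univ : Finset (IrrCharacter X)).filter (fun χ => m χ ≠ 0) with hR
  have hR3 : ∑ χ ∈ R, m χ * m χ = 3 := by
    rw [hR, Finset.sum_filter_of_ne (p := fun χ => m χ ≠ 0)
      (fun χ _ h h0 => h (by rw [h0, mul_zero]))]
    exact hsum
  have hsq : ∀ χ ∈ R, m χ * m χ = 1 := by
    intro χ hχ
    have h4 : m χ * m χ ≤ 3 := by
      rw [← hR3]
      exact Finset.single_le_sum (fun i _ => mul_self_nonneg (m i)) hχ
    have h5 : -1 ≤ m χ := by nlinarith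
    have h6 : m χ ≤ 1 := by nlinarith
    have h7 : m χ ≠ 0 := (Finset.mem_filter.mp hχ).2
    rcases (show m χ = 1 ∨ m χ = -1 by omega) with e | e <;> rw [e] <;> norm_num
  rw [Finset.sum_congr rfl hsq, Finset.sum_const, nsmul_eq_mul, mul_one] at hR3
  refine ⟨R, m, by exact_mod_cast hR3, hsq, fun χ hχ => by simpa [hR] using hχ, hm, fun g => ?_⟩
  conv_lhs => rw [classFun_eq_sum hf, Finset.sum_apply]
  simp only [Pi.smul_apply, smul_eq_mul, hm]
  rw [hR, Finset.sum_filter_of_ne (p := fun χ => m χ ≠ 0)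
    (fun χ _ h h0 => h (by rw [h0, Int.cast_zero, zero_mul]))]

/-- The algebra of the three decompositions. -/
theorem degree_algebra {A B P T U a b p t v : ℂ} (hA : A ≠ 0) (hB : B ≠ 0) (hP : P ≠ 0)
    (hT : T ≠ 0) (hU : U ≠ 0) (h1 : 1 + A + B = 0) (h2 : 1 + a + b = 0) (h3 : 1 + P + T = 0)
    (h4 : 1 + p + t = 0) (h5 : A + P + U = 0) (h6 : a + p + v = 0)
    (hs : 1 + p ^ 2 / P + t ^ 2 / T ≠ 0)
    (hF : 1 + a ^ 2 / A + b ^ 2 / B = 3 * (1 + p ^ 2 / P + t ^ 2 / T))
    (hG : a ^ 2 / A + p ^ 2 / P + v ^ 2 / U = 1 + p ^ 2 / P + t ^ 2 / T) :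
    P * (1 + A + A ^ 2) = 3 * (A * (1 + A)) ∧ a ≠ A ∧ b ≠ B := by
  obtain rfl : B = -1 - A := by linear_combination h1
  obtain rfl : b = -1 - a := by linear_combination h2
  obtain rfl : T = -1 - P := by linear_combination h3
  obtain rfl : t = -1 - p := by linear_combination h4
  obtain rfl : U = -A - P := by linear_combination h5
  obtain rfl : v = -a - p := by linear_combination h6
  set s := 1 + p ^ 2 / P + (-1 - p) ^ 2 / (-1 - P) with hsd
  have e2 : (p - P) ^ 2 = -(s * P * (-1 - P)) := by rw [hsd]; field_simp; ring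
  have e1 : (a - A) ^ 2 = -(3 * s * A * (-1 - A)) := by rw [← hF]; field_simp; ring
  have e3 : (a * P - p * A) ^ 2 = -(s * A * P * (-A - P)) := by rw [← hG]; field_simp; ring
  have e4 : (a - A) * (p - P) * (2 * A * P) = s * P * (1 + 2 * A) * (2 * A * P) := by
    linear_combination P ^ 2 * e1 + A ^ 2 * e2 - e3
  have e5 : (a - A) * (p - P) = s * P * (1 + 2 * A) :=
    mul_right_cancel₀ (mul_ne_zero (mul_ne_zero two_ne_zero hA) hP) e4
  have e6 : s ^ 2 * P * (P * (1 + A + A ^ 2) - 3 * (A * (1 + A))) = 0 := by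
    linear_combination (p - P) ^ 2 * e1 + (3 * s * A * (1 + A)) * e2 -
      ((a - A) * (p - P) + s * P * (1 + 2 * A)) * e5
  have hd : a ≠ A := fun e => by
    rw [e, sub_self, zero_pow two_ne_zero] at e1
    exact mul_ne_zero (mul_ne_zero (mul_ne_zero three_ne_zero hs) hA) hB (neg_eq_zero.1 e1.symm)
  exact ⟨sub_eq_zero.1 ((mul_eq_zero.1 e6).resolve_left (mul_ne_zero (pow_ne_zero 2 hs) hP)), hd,
    fun e => hd (by linear_combination -e)⟩

variable [Fintype X] {H : Subgroup X} [Fintype H] {T : Set X}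

/-- The sum of an induced class function over the products of two involutions of a class. -/
theorem sum_pairs_indFun [DecidableEq X]
    (hTI : ∀ g : X, g ∉ H → ∀ t ∈ T, g * t * g⁻¹ ∈ T → t = 1)
    (hT1 : ∀ t ∈ T, t ∈ H ∧ t * t ≠ 1) (hTinv : ∀ t ∈ T, t⁻¹ ∈ T)
    {f : H → ℂ} (hfT : ∀ x : H, (x : X) ∉ T → f x = 0) (u : X) (hu : u * u = 1)
    (K : Finset X) (hK : ∀ x, x ∈ K ↔ IsConj u x) (I : Finset H)
    (hI : ∀ x : H, x ∈ I ↔ IsConj u x) :
    (Nat.card H : ℂ) * ∑ x ∈ K, ∑ y ∈ K, indFun H f (x * y) =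
      (Nat.card X : ℂ) * ∑ x ∈ I, ∑ y ∈ I, f (x * y) := by
  classical
  have hinv : ∀ x ∈ K, x * x = 1 := fun x hx => by
    obtain ⟨g, rfl⟩ := isConj_iff.1 ((hK x).1 hx)
    calc g * u * g⁻¹ * (g * u * g⁻¹) = g * (u * u) * g⁻¹ := by group
      _ = 1 := by rw [hu, mul_one, mul_inv_cancel]
  -- products lying in `T` come from the involutions of `H`
  have hsupp : ∀ x ∈ K, ∀ y ∈ K, extendByZero H f (x * y) ≠ 0 → x ∈ H ∧ y ∈ H := by
    intro x hx y hy hne
    have hxy : x * y ∈ H := by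
      by_contra h
      exact hne (extendByZero_of_not_mem H f h)
    have hT : x * y ∈ T := by
      by_contra h
      rw [extendByZero_of_mem H f hxy, hfT ⟨_, hxy⟩ h] at hne
      exact hne rfl
    have hxi : x⁻¹ = x := inv_eq_of_mul_eq_one_right (hinv x hx)
    have hyi : y⁻¹ = y := inv_eq_of_mul_eq_one_right (hinv y hy)
    have hxH : x ∈ H := by
      by_contra h
      have e : x * (x * y) * x⁻¹ = (x * y)⁻¹ := by
        rw [← mul_assoc x x, hinv x hx, one_mul, mul_inv_rev, hyi, hxi]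
      have h1 := hTI x h _ hT (e ▸ hTinv _ hT)
      exact (hT1 _ hT).2 (by rw [h1, one_mul])
    exact ⟨hxH, (H.mul_mem_cancel_left hxH).1 hxy⟩
  have hsum : ∑ x ∈ K, ∑ y ∈ K, extendByZero H f (x * y) = ∑ x ∈ I, ∑ y ∈ I, f (x * y) := by
    have hmap : ∀ {F : X → ℂ}, (∀ x ∈ K, F x ≠ 0 → x ∈ H) → ∑ x ∈ K, F x = ∑ x ∈ I, F x := by
      intro F hF
      rw [← Finset.sum_filter_add_sum_filter_not K (fun x => x ∈ H),
        Finset.sum_eq_zero (s := K.filter fun x => x ∉ H) (fun x hx => by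
          by_contra h
          exact (Finset.mem_filter.1 hx).2 (hF x (Finset.mem_filter.1 hx).1 h)), add_zero]
      refine (Finset.sum_bij (fun (x : H) _ => (x : X)) ?_ ?_ ?_ fun _ _ => rfl).symm
      · intro x hx
        exact Finset.mem_filter.2 ⟨(hK _).2 ((hI x).1 hx), x.2⟩
      · intro a _ b _ e
        exact Subtype.ext e
      · intro x hx
        obtain ⟨hx1, hx2⟩ := Finset.mem_filter.1 hx
        exact ⟨⟨x, hx2⟩, (hI _).2 ((hK x).1 hx1), rfl⟩
    rw [hmap fun x hx h => ?_]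
    · refine Finset.sum_congr rfl fun x hx => ?_
      rw [hmap fun y hy h => (hsupp _ ((hK _).2 ((hI x).1 hx)) y hy h).2]
      exact Finset.sum_congr rfl fun y _ => by rw [← Subgroup.coe_mul, extendByZero_coe]
    · obtain ⟨y, hy, hy'⟩ := Finset.exists_ne_zero_of_sum_ne_zero h
      exact (hsupp x hx y hy hy').1
  simp only [indFun_apply, ← Finset.mul_sum]
  rw [← mul_assoc, mul_inv_cancel₀ (Nat.cast_ne_zero.mpr Nat.card_pos.ne'), one_mul]
  have h1 : ∀ g : X, ∑ x ∈ K, ∑ y ∈ K, extendByZero H f (g⁻¹ * (x * y) * g) =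
      ∑ x ∈ I, ∑ y ∈ I, f (x * y) := by
    intro g
    rw [← hsum]
    have hb : ∀ F : X → ℂ, ∑ x ∈ K, F (g⁻¹ * x * g) = ∑ x ∈ K, F x := fun F => by
      refine Finset.sum_equiv (MulAut.conj g⁻¹).toEquiv (fun x => ?_) (fun x _ => by simp)
      rw [hK, hK]
      exact ⟨fun h => h.trans (isConj_iff.2 ⟨g⁻¹, rfl⟩),
        fun h => h.trans (isConj_iff.2 ⟨g, by simp [mul_assoc]⟩)⟩
    rw [← hb fun x => ∑ y ∈ K, extendByZero H f (x * y)]
    refine Finset.sum_congr rfl fun x _ => ?_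
    rw [← hb fun y => extendByZero H f (g⁻¹ * x * g * y)]
    exact Finset.sum_congr rfl fun y _ => by group
  calc ∑ x ∈ K, ∑ y ∈ K, ∑ g : X, extendByZero H f (g⁻¹ * (x * y) * g)
      = ∑ g : X, ∑ x ∈ K, ∑ y ∈ K, extendByZero H f (g⁻¹ * (x * y) * g) := by
        rw [Finset.sum_comm (s := Finset.univ)]
        exact Finset.sum_congr rfl fun x _ => Finset.sum_comm
    _ = _ := by
        rw [Finset.sum_congr rfl fun g _ => h1 g, Finset.sum_const, nsmul_eq_mul,
          Finset.card_univ, Nat.card_eq_fintype_card]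

/-- **A linear character which is not one at the involution.** -/
theorem exists_linear [DecidableEq X]
    (hTI : ∀ g : X, g ∉ H → ∀ t ∈ T, g * t * g⁻¹ ∈ T → t = 1)
    (hT1 : ∀ t ∈ T, t ∈ H ∧ t * t ≠ 1) (hTinv : ∀ t ∈ T, t⁻¹ ∈ T)
    (f g g' : H → ℂ) (hg1 : IsGeneralizedCharacter H f) (hg2 : IsGeneralizedCharacter H g)
    (hg3 : IsGeneralizedCharacter H g')
    (hs1 : ∀ x : H, (x : X) ∉ T → f x = 0) (hs2 : ∀ x : H, (x : X) ∉ T → g x = 0)
    (hs3 : ∀ x : H, (x : X) ∉ T → g' x = 0)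
    (hff : classInner f f = 3) (hf0 : classInner f (fun _ => 1) = 1)
    (hgg : classInner g g = 3) (hg0 : classInner g (fun _ => 1) = 1)
    (hhh : classInner g' g' = 3) (hh0 : classInner g' (fun _ => 1) = 0)
    (hfg : classInner f g = 1) (hhf : classInner g' f = 1) (hhg : classInner g' g = 1)
    (u : X) (hu : u * u = 1) (I : Finset H) (hI : ∀ x : H, x ∈ I ↔ IsConj u x)
    (hS : ∑ x ∈ I, ∑ y ∈ I, f (x * y) = 3 * ∑ x ∈ I, ∑ y ∈ I, g (x * y))
    (hS' : ∑ x ∈ I, ∑ y ∈ I, g' (x * y) = ∑ x ∈ I, ∑ y ∈ I, g (x * y))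
    (hS0 : ∑ x ∈ I, ∑ y ∈ I, g (x * y) ≠ 0) : ∃ l : X →* ℂˣ, l u ≠ 1 := by
  classical
  have hone : ∀ {q : H → ℂ}, (∀ x : H, (x : X) ∉ T → q x = 0) → q 1 = 0 := fun h =>
    h 1 fun h1 => (hT1 _ h1).2 (by simp)
  have hres : ∀ q : H → ℂ, classInner (indFun H q) (fun _ => 1) = classInner q (fun _ => 1) :=
    fun q => inner_indFun H q fun _ _ => rfl
  have hint : ∀ {q : H → ℂ}, IsGeneralizedCharacter H q → ∀ χ : IrrCharacter X,
      ∃ m : ℤ, classInner (indFun H q) χ = m := fun hq χ =>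
    (isGeneralized_iff_inner.mp (isGeneralized_indFun H hq)).2 χ
  have hiso : ∀ {q r : H → ℂ}, IsGeneralizedCharacter H r → (∀ x : H, (x : X) ∉ T → q x = 0) →
      (∀ x : H, (x : X) ∉ T → r x = 0) →
      classInner (indFun H q) (indFun H r) = classInner q r := fun hr h1 h2 =>
    inner_indFun_TI T H hTI (isGeneralized_iff_inner.mp hr).1 h1 h2 (hone h1)
  obtain ⟨P₁, Q₁, a₁, b₁, hP₁, hQ₁, hPQ₁, ha₁, hb₁, -, -, -, hF₁⟩ :=
    norm_three_dec (isClassFunction_indFun H f) (hint hg1) ((hiso hg1 hs1 hs1).trans hff)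
      ((hres f).trans hf0)
  obtain ⟨R₁, S₁, c₁, d₁, hR₁, hS₁, hRS₁, hc₁, hd₁, hG1R, hG1S, -, hG₁⟩ :=
    norm_three_dec (isClassFunction_indFun H g) (hint hg2) ((hiso hg2 hs2 hs2).trans hgg)
      ((hres g).trans hg0)
  obtain ⟨W, m, hW3, hWsq, hW0, hm, hWf⟩ :=
    norm_three_dec' (isClassFunction_indFun H g') (hint hg3) ((hiso hg3 hs3 hs3).trans hhh)
  have hm1 : m (principal X) = 0 := by
    have h := hm (principal X)
    rw [show ((principal X : IrrCharacter X) : X → ℂ) = fun _ => 1 from rfl, hres, hh0] at h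
    exact_mod_cast h.symm
  -- one common constituent with each of the two others
  have split : ∀ {v : X → ℂ} {P Q : IrrCharacter X} {a b : ℤ},
      (∀ x, v x = 1 + a * (P : X → ℂ) x + b * (Q : X → ℂ) x) → ∀ w : X → ℂ,
      classInner w v = classInner w (fun _ => 1) + a * classInner w P + b * classInner w Q := by
    intro v P Q a b hv w
    rw [show v = (fun _ => 1) + (a : ℂ) • (P : X → ℂ) + (b : ℂ) • (Q : X → ℂ) from funext hv,
      Chars.inner_add_right, Chars.inner_add_right, Chars.inner_smul_right, Chars.inner_smul_right,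
      map_intCast, map_intCast]
  have pick : ∀ {v : X → ℂ} {P Q : IrrCharacter X} {a b : ℤ}, a * a = 1 → b * b = 1 → P ≠ Q →
      (∀ x, v x = 1 + a * (P : X → ℂ) x + b * (Q : X → ℂ) x) →
      classInner (indFun H g') v = 1 →
      ∃ (A B : IrrCharacter X) (s r : ℤ), s * s = 1 ∧ r * r = 1 ∧ A ≠ B ∧ m A = s ∧ m B = 0 ∧
        ∀ x, v x = 1 + s * (A : X → ℂ) x + r * (B : X → ℂ) x := by
    intro v P Q a b ha hb hPQ hv h1
    rw [split hv, hres, hh0, hm, hm, zero_add] at h1
    have h2 : a * m P + b * m Q = 1 := by exact_mod_cast h1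
    have hmv : ∀ χ, m χ = 0 ∨ m χ = 1 ∨ m χ = -1 := fun χ => by
      by_cases h : χ ∈ W
      · exact Or.inr (Int.eq_one_or_neg_one_of_mul_eq_one (hWsq χ h))
      · exact Or.inl (hW0 χ h)
    rcases hmv Q with hq | hq
    · rw [hq, mul_zero, add_zero] at h2
      exact ⟨P, Q, a, b, ha, hb, hPQ, by linear_combination a * h2 - m P * ha, hq, hv⟩
    rcases hmv P with hp | hp
    · rw [hp, mul_zero, zero_add] at h2
      exact ⟨Q, P, b, a, hb, ha, hPQ.symm, by linear_combination b * h2 - m Q * hb, hp,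
        fun x => by rw [hv]; ring⟩
    exfalso
    rcases Int.eq_one_or_neg_one_of_mul_eq_one ha with rfl | rfl <;>
      rcases Int.eq_one_or_neg_one_of_mul_eq_one hb with rfl | rfl <;>
      rcases hp with hp | hp <;> rcases hq with hq | hq <;> rw [hp, hq] at h2 <;> norm_num at h2
  obtain ⟨P, Q, a, b, ha, hb, hPQ, hmP, -, hF⟩ :=
    pick ha₁ hb₁ hPQ₁ hF₁ ((hiso hg1 hs3 hs1).trans hhf)
  obtain ⟨R, S, c, d, hc, hd, hRS, hmR, hmS, hG⟩ :=
    pick hc₁ hd₁ hRS₁ hG₁ ((hiso hg2 hs3 hs2).trans hhg)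
  have deg : ∀ χ : IrrCharacter X, (χ : X → ℂ) 1 ≠ 0 := fun χ => irr_degree_ne_zero χ.2
  have hF1 : indFun H f 1 = 0 := by rw [indFun_one_apply, hone hs1, mul_zero]
  have hG1 : indFun H g 1 = 0 := by rw [indFun_one_apply, hone hs2, mul_zero]
  have hne0 : ∀ {s : ℤ}, s * s = 1 → (s : ℂ) ≠ 0 := fun {s} hs =>
    Int.cast_ne_zero.mpr (left_ne_zero_of_mul (hs.symm ▸ one_ne_zero))
  have hpr : ∀ {χ : IrrCharacter X}, m χ * m χ = 1 → χ ≠ principal X := fun h e => by
    rw [e, hm1] at h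
    norm_num at h
  have hnp : ∀ {v : X → ℂ} {A B : IrrCharacter X} {s r : ℤ},
      (∀ x, v x = 1 + s * (A : X → ℂ) x + r * (B : X → ℂ) x) → A ≠ principal X → A ≠ B →
      r * r = 1 → classInner v (fun _ => 1) = 1 → B ≠ principal X := by
    intro v A B s r hv hA _ hr h1 hB
    rw [show v = (fun _ => 1) + (s : ℂ) • (A : X → ℂ) + (r : ℂ) • (B : X → ℂ) from funext hv,
      show (fun _ : X => (1 : ℂ)) = ((principal X : IrrCharacter X) : X → ℂ) from rfl,
      Chars.inner_add_left, Chars.inner_add_left, Chars.inner_smul_left, Chars.inner_smul_left,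
      inner_irr, inner_irr, inner_irr, if_pos rfl, if_neg hA, if_pos hB, mul_zero, add_zero,
      mul_one] at h1
    exact hne0 hr (by linear_combination h1)
  have hP1 : P ≠ principal X := hpr (hmP ▸ ha)
  have hR1 : R ≠ principal X := hpr (hmR ▸ hc)
  have hQ1 : Q ≠ principal X := hnp hF hP1 hPQ hb ((hres f).trans hf0)
  have hS1 : S ≠ principal X := hnp hG hR1 hRS hd ((hres g).trans hg0)
  have hPR : P ≠ R := by
    intro e
    subst e
    have hca : c = a := hmR.symm.trans hmP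
    subst hca
    have h1 := (hiso hg2 hs1 hs2).trans hfg
    rw [split hG, hres, hf0,
      show indFun H f = (fun _ => 1) + (c : ℂ) • (P : X → ℂ) + (b : ℂ) • (Q : X → ℂ) from
        funext hF,
      show (fun _ : X => (1 : ℂ)) = ((principal X : IrrCharacter X) : X → ℂ) from rfl] at h1
    simp only [Chars.inner_add_left, Chars.inner_smul_left, inner_irr, ite_true, if_true,
      if_neg hP1.symm, if_neg hPQ.symm, if_neg hS1.symm, if_neg hRS, mul_zero, zero_add, add_zero,
      mul_one] at h1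
    by_cases hQS : Q = S
    · subst hQS
      rw [if_pos rfl, mul_one] at h1
      have h2 : (1 : ℤ) + c * c + d * b = 1 := by exact_mod_cast h1
      have hdb : d = -b := by linear_combination b * h2 - b * hc - d * hb
      have e1 := hF 1
      have e2 := hG 1
      rw [hF1] at e1
      rw [hG1, hdb, Int.cast_neg] at e2
      have : (b : ℂ) * (Q : X → ℂ) 1 = 0 := by linear_combination (e2 - e1) / 2
      exact mul_ne_zero (hne0 hb) (deg Q) this
    · rw [if_neg hQS, mul_zero, mul_zero, add_zero] at h1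
      have h2 : (1 : ℤ) + c * c = 1 := by exact_mod_cast h1
      omega
  have mem : ∀ {χ : IrrCharacter X} {s : ℤ}, m χ = s → s * s = 1 → χ ∈ W := fun {χ s} h hs => by
    by_contra hn
    rw [← h, hW0 χ hn] at hs
    norm_num at hs
  obtain ⟨U, hU, hW⟩ : ∃ U, U ∈ W ∧ ∀ x : X, indFun H g' x =
      a * (P : X → ℂ) x + c * (R : X → ℂ) x + m U * (U : X → ℂ) x := by
    have h1 : ((W.erase P).erase R).card = 1 := by
      rw [Finset.card_erase_of_mem (Finset.mem_erase.2 ⟨hPR.symm, mem hmR hc⟩),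
        Finset.card_erase_of_mem (mem hmP ha), hW3]
    obtain ⟨U, hUe⟩ := Finset.card_eq_one.1 h1
    refine ⟨U, ?_, fun x => ?_⟩
    · have : U ∈ (W.erase P).erase R := by rw [hUe]; exact Finset.mem_singleton_self U
      exact (Finset.mem_erase.1 (Finset.mem_erase.1 this).2).2
    · rw [hWf, ← Finset.add_sum_erase _ _ (mem hmP ha),
        ← Finset.add_sum_erase _ _ (Finset.mem_erase.2 ⟨hPR.symm, mem hmR hc⟩), hUe,
        Finset.sum_singleton, hmP, hmR, add_assoc]
  have he := hWsq U hU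
  set e := m U
  -- values at one and at the involution
  have hvan : ∀ {q : H → ℂ}, (∀ x : H, (x : X) ∉ T → q x = 0) → ∀ y : X, y * y = 1 →
      indFun H q y = 0 := by
    intro q hq y hy
    rw [indFun_apply, Finset.sum_eq_zero, mul_zero]
    intro x _
    by_cases hm : x⁻¹ * y * x ∈ H
    · rw [extendByZero_of_mem H q hm]
      refine hq _ fun h => (hT1 _ h).2 ?_
      calc x⁻¹ * y * x * (x⁻¹ * y * x) = x⁻¹ * (y * y) * x := by group
        _ = 1 := by rw [hy, mul_one, inv_mul_cancel]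
    · exact extendByZero_of_not_mem _ _ hm
  set K := Finset.univ.filter (fun x : X => IsConj u x) with hKdef
  have hK : ∀ x, x ∈ K ↔ IsConj u x := by simp [hKdef]
  have hK0 : (K.card : ℂ) ≠ 0 := Nat.cast_ne_zero.mpr
    (Finset.card_pos.mpr ⟨u, (hK _).mpr (IsConj.refl _)⟩).ne'
  have hH0 : (Nat.card H : ℂ) ≠ 0 := Nat.cast_ne_zero.mpr Nat.card_pos.ne'
  have hX0 : (Nat.card X : ℂ) ≠ 0 := Chars.card_ne_zero X
  have hp1 := sum_pairs_indFun hTI hT1 hTinv hs1 u hu K hK I hI
  have hp2 := sum_pairs_indFun hTI hT1 hTinv hs2 u hu K hK I hI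
  have hp3 := sum_pairs_indFun hTI hT1 hTinv hs3 u hu K hK I hI
  set cl : IrrCharacter X → ℂ := fun χ => (χ : X → ℂ) u ^ 2 / (χ : X → ℂ) 1 with hcl
  have hclass : ∀ χ : IrrCharacter X,
      ∑ x ∈ K, ∑ y ∈ K, (χ : X → ℂ) (x * y) = (K.card : ℂ) ^ 2 * cl χ := fun χ => by
    rw [ThreeLocalChars.sum_class_mul u χ K hK, hcl, mul_div_assoc]
  have hFsum : ∑ x ∈ K, ∑ y ∈ K, indFun H f (x * y) =
      (K.card : ℂ) ^ 2 * (1 + a * cl P + b * cl Q) := by
    simp only [hF, Finset.sum_add_distrib, ← Finset.mul_sum, hclass, Finset.sum_const,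
      nsmul_eq_mul, mul_one]
    ring
  have hGsum : ∑ x ∈ K, ∑ y ∈ K, indFun H g (x * y) =
      (K.card : ℂ) ^ 2 * (1 + c * cl R + d * cl S) := by
    simp only [hG, Finset.sum_add_distrib, ← Finset.mul_sum, hclass, Finset.sum_const,
      nsmul_eq_mul, mul_one]
    ring
  have hWsum : ∑ x ∈ K, ∑ y ∈ K, indFun H g' (x * y) =
      (K.card : ℂ) ^ 2 * (a * cl P + c * cl R + e * cl U) := by
    simp only [hW, Finset.sum_add_distrib, ← Finset.mul_sum, hclass]
    ring
  rw [hFsum] at hp1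
  rw [hGsum] at hp2
  rw [hWsum] at hp3
  have hHK : (Nat.card H : ℂ) * (K.card : ℂ) ^ 2 ≠ 0 := mul_ne_zero hH0 (pow_ne_zero 2 hK0)
  have hr : (1 : ℂ) + a * cl P + b * cl Q = 3 * (1 + c * cl R + d * cl S) :=
    mul_left_cancel₀ hHK (by linear_combination hp1 - 3 * hp2 + (Nat.card X : ℂ) * hS)
  have hr' : (a : ℂ) * cl P + c * cl R + e * cl U = 1 + c * cl R + d * cl S :=
    mul_left_cancel₀ hHK (by linear_combination hp3 - hp2 + (Nat.card X : ℂ) * hS')
  have hne : (1 : ℂ) + c * cl R + d * cl S ≠ 0 := fun h => by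
    rw [h, mul_zero, mul_zero, eq_comm] at hp2
    exact hS0 ((mul_eq_zero.1 hp2).resolve_left hX0)
  have cast : ∀ {s : ℤ}, s * s = 1 → ∀ χ : IrrCharacter X,
      (s : ℂ) * cl χ = (s * (χ : X → ℂ) u) ^ 2 / (s * (χ : X → ℂ) 1) := by
    intro s hs χ
    have hs0 := hne0 hs
    have := deg χ
    simp only [hcl]
    field_simp
  rw [cast ha, cast hb, cast hc, cast hd] at hr
  rw [cast ha, cast hc, cast hd, cast he] at hr'
  rw [cast hc, cast hd] at hne
  have e1 := hF 1
  have e2 := hF u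
  have e3 := hG 1
  have e4 := hG u
  have e5 := hW 1
  have e6 := hW u
  rw [hvan hs1 1 (one_mul 1)] at e1
  rw [hvan hs1 u hu] at e2
  rw [hvan hs2 1 (one_mul 1)] at e3
  rw [hvan hs2 u hu] at e4
  rw [hvan hs3 1 (one_mul 1)] at e5
  rw [hvan hs3 u hu] at e6
  have nz : ∀ {s : ℤ}, s * s = 1 → ∀ χ : IrrCharacter X, (s : ℂ) * (χ : X → ℂ) 1 ≠ 0 :=
    fun hs χ => mul_ne_zero (hne0 hs) (deg χ)
  obtain ⟨halg, hne1, hne2⟩ := degree_algebra (nz ha P) (nz hb Q) (nz hc R) (nz hd S) (nz he U)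
    e1.symm e2.symm e3.symm e4.symm e5.symm e6.symm hne hr hr'
  have fin : ∀ {s : ℤ} {χ : IrrCharacter X}, (s : ℂ) * (χ : X → ℂ) 1 = 1 →
      (s : ℂ) * (χ : X → ℂ) u ≠ s * (χ : X → ℂ) 1 → ∃ l : X →* ℂˣ, l u ≠ 1 := by
    intro s χ h1 h2
    obtain ⟨n, -, hn⟩ := irr_degree_nat χ.2
    rw [hn] at h1
    have h3 : s * (n : ℤ) = 1 := by exact_mod_cast h1
    have hn1 : n = 1 ∧ s = 1 := by
      rcases Int.eq_one_or_neg_one_of_mul_eq_one h3 with rfl | rfl
      · exact ⟨by omega, rfl⟩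
      · omega
    obtain ⟨l, hl⟩ := exists_hom_of_degree_one (isCharacter_of_irr χ.2)
      (by rw [hn, hn1.1, Nat.cast_one])
    refine ⟨l, fun h => h2 ?_⟩
    rw [hn1.2, Int.cast_one, one_mul, one_mul, hn, hn1.1, Nat.cast_one, hl]
    show (l u : ℂ) = 1
    rw [h, Units.val_one]
  obtain ⟨n, hn0, hn⟩ := irr_degree_nat P.2
  obtain ⟨k, -, hk⟩ := irr_degree_nat R.2
  rw [hn, hk] at halg
  have hz : (c * k : ℤ) * (1 + a * n + (a * n) ^ 2) = 3 * (a * n * (1 + a * n)) := by
    exact_mod_cast halg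
  set A : ℤ := a * n with hA
  have hA0 : A ≠ 0 := mul_ne_zero (left_ne_zero_of_mul (ha.symm ▸ one_ne_zero)) (by omega)
  have hB0 : A ≠ -1 := fun h => by
    have h' : (a : ℂ) * (n : ℂ) = -1 := by exact_mod_cast h
    rw [hn] at e1
    exact nz hb Q (by linear_combination -e1 - h')
  have hdvd : (1 + A + A ^ 2) ∣ 3 := ⟨3 - c * k, by linear_combination hz⟩
  have hle := Int.le_of_dvd (by norm_num) hdvd
  have h5 : -2 ≤ A := by nlinarith
  have h6 : A ≤ 1 := by nlinarith
  rcases (show A = 1 ∨ A = -2 by omega) with h | h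
  · exact fin (s := a) (χ := P) (by rw [hn]; exact_mod_cast h) hne1
  · refine fin (s := b) (χ := Q) ?_ hne2
    rw [hn] at e1
    have h' : (a : ℂ) * (n : ℂ) = -2 := by exact_mod_cast h
    linear_combination -e1 - h'

end CfsgLib.L43Three.CentA
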