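import Cfsg.Agent.Lib.L43Three.CentAWChars
import Cfsg.Agent.Lib.L43Three.CentAChar
import Cfsg.Agent.S4216

/-!
# The centralizers of the elements with two Jordan blocks (S3373, case A)

The three virtual characters give a linear character which is not one at the involution; Grün's
first theorem in its kernel leaves a normal subgroup meeting `P` in an abelian group of order at
most nine, which by the local step lies in `P`; hence so does the whole centralizer.
-/

set_option autoImplicit false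
set_option maxRecDepth 100000
set_option maxHeartbeats 1000000
set_option linter.style.haveILetI false

namespace CfsgLib.L43Three.CentA

open Cfsg CfsgLib Subgroup
open scoped ComplexConjugate commutatorElement

universe u

variable {e : Bool}

/-- A power times a power of the centre is a translation. -/
def GoodW (x : W e) : Prop :=
  ∃ n : Fin 5, ∃ k : Fin 3, x ^ n.val * wW e ^ k.val = trW e (x ^ n.val * wW e ^ k.val).a
    (x ^ n.val * wW e ^ k.val).c ∧
    ((x ^ n.val * wW e ^ k.val).a ≠ 0 ∨ (x ^ n.val * wW e ^ k.val).c ≠ 0)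

instance (x : W e) : Decidable (GoodW x) := by unfold GoodW; infer_instance

theorem supp_cases : ∀ x : W e, Supp x → (x.t = false ∧ x.p = 0 ∧ x.q ≠ 0) ∨ GoodW x := by
  cases e <;> decide +kernel

theorem derived_good : ∀ x : W e, x ≠ 1 → x.t = false ∧ x.p = 0 ∧ x.q = 0 ∧ x.a + sg e * x.u = 0 →
    GoodW x := by
  cases e <;> decide +kernel

theorem wW_central : ∀ x : W e, wW e * x = x * wW e := by
  cases e <;> decide +kernel

theorem pow_nine : ∀ x : W e, x.t = false → x ^ 9 = 1 := by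
  cases e <;> decide +kernel

theorem invol_spec : ∀ x : W e, x * x = 1 → x ≠ 1 →
    x.t = true ∧ ∃ c p q : ZMod 3,
      (⟨0, c, p, q, 0, false⟩ : W e) * uW e * (⟨0, c, p, q, 0, false⟩ : W e)⁻¹ = x := by
  cases e <;> decide +kernel

theorem invW_spec : ∀ x ∈ invW e, x * x = 1 ∧ x ≠ 1 := by
  cases e <;> decide +kernel

theorem comm_iff {x y : W e} (hx : x.t = false ∧ x.p = 0 ∧ x.q ≠ 0) :
    x * y = y * x ↔ y.t = false ∧ y.p = 0 := by
  obtain ⟨xa, xc, xp, xq, xu, xt⟩ := x
  obtain ⟨ya, yc, yp, yq, yu, yt⟩ := y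
  obtain ⟨rfl, rfl, hq⟩ := hx
  have hne : sg e ≠ 0 := by cases e <;> decide
  constructor
  · intro h
    have h1 := congrArg W.q h
    have h2 := congrArg W.a h
    simp [mul_def, show sg false = 1 from rfl, show sg true = -1 from rfl] at h1 h2
    have ht : yt = false := by
      cases yt
      · rfl
      · exfalso
        have key : ∀ a b : ZMod 3, a + b = b + -a → a = 0 := by decide
        simp [show sg false = 1 from rfl, show sg true = -1 from rfl] at h1
        exact hq (key _ _ h1)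
    refine ⟨ht, ?_⟩
    have h3 : sg e * yp * xq = 0 := by linear_combination -h2
    simpa [hne, hq] using h3
  · rintro ⟨rfl, rfl⟩
    ext <;> simp [mul_def, show sg false = 1 from rfl, show sg true = -1 from rfl] <;> ring

theorem comm_mem {x y : W e} (hx : x.t = false) (hy : y.t = false) :
    (x * y * x⁻¹ * y⁻¹).t = false ∧ (x * y * x⁻¹ * y⁻¹).p = 0 ∧ (x * y * x⁻¹ * y⁻¹).q = 0 ∧
      (x * y * x⁻¹ * y⁻¹).a + sg e * (x * y * x⁻¹ * y⁻¹).u = 0 := by
  obtain ⟨xa, xc, xp, xq, xu, xt⟩ := x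
  obtain ⟨ya, yc, yp, yq, yu, yt⟩ := y
  subst hx hy
  refine ⟨rfl, ?_, ?_, ?_⟩ <;> simp [mul_def, inv_def, show sg false = 1 from rfl, show sg true = -1 from rfl] <;> ring

/-- The group of `R'`. -/
def DW (e : Bool) : Subgroup (W e) where
  carrier := {x | x.t = false ∧ x.p = 0 ∧ x.q = 0 ∧ x.a + sg e * x.u = 0}
  one_mem' := ⟨rfl, rfl, rfl, by show (0 : ZMod 3) + sg e * 0 = 0; ring⟩
  mul_mem' := fun {x y} hx hy => by
    obtain ⟨xa, xc, xp, xq, xu, xt⟩ := x
    obtain ⟨ya, yc, yp, yq, yu, yt⟩ := y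
    obtain ⟨rfl, rfl, rfl, h1⟩ := hx
    obtain ⟨rfl, rfl, rfl, h2⟩ := hy
    refine ⟨rfl, by simp [mul_def], by simp [mul_def], ?_⟩
    simp [mul_def, show sg false = 1 from rfl, show sg true = -1 from rfl]
    linear_combination h1 + h2
  inv_mem' := fun {x} hx => by
    obtain ⟨xa, xc, xp, xq, xu, xt⟩ := x
    obtain ⟨rfl, rfl, rfl, h1⟩ := hx
    refine ⟨rfl, by simp [inv_def], by simp [inv_def], ?_⟩
    simp [inv_def]
    linear_combination -h1

theorem comm_zW : ∀ e : Bool,
    ⁅trW e 1 0, (⟨0, 0, 1, 0, 0, false⟩ : W e)⁆ = zW e := by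
  decide +kernel

/-- The plane of translations. -/
def planeW (e : Bool) : Multiplicative (ZMod 3 × ZMod 3) →* W e :=
  MonoidHom.mk' (fun v => trW e v.toAdd.1 v.toAdd.2) fun v w => by
    ext <;> simp [trW, mul_def, show sg false = 1 from rfl, show sg true = -1 from rfl, add_comm]

/-- The image of the plane under an injective map is a noncyclic abelian 3-group. -/
theorem plane_props {X : Type*} [Group X] (f : Multiplicative (ZMod 3 × ZMod 3) →* X)
    (hf : Function.Injective f) :
    IsMulCommutative f.range ∧ ¬ IsCyclic f.range ∧ IsPGroup 3 f.range := by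
  refine ⟨⟨⟨?_⟩⟩, fun h => ?_, IsPGroup.of_card (n := 2) ?_⟩
  · rintro ⟨_, a, rfl⟩ ⟨_, b, rfl⟩
    exact Subtype.ext (by show f a * f b = f b * f a; rw [← map_mul, ← map_mul, mul_comm])
  · haveI : IsCyclic (Multiplicative (ZMod 3 × ZMod 3)) :=
      isCyclic_of_surjective (MonoidHom.ofInjective hf).symm.toMonoidHom
        (MonoidHom.ofInjective hf).symm.surjective
    have h1 := IsCyclic.exponent_eq_card (α := Multiplicative (ZMod 3 × ZMod 3))
    have h2 : Monoid.exponent (Multiplicative (ZMod 3 × ZMod 3)) ∣ 3 :=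
      Monoid.exponent_dvd_of_forall_pow_eq_one (by decide +kernel)
    rw [h1] at h2
    simp at h2
  · rw [← Nat.card_congr (MonoidHom.ofInjective hf).toEquiv]
    simp

variable {G : Type u} [Group G]

theorem classInner_comp {K M : Type*} [Group K] [Group M] [Fintype K] [Fintype M] (q : K ≃* M)
    (a b : M → ℂ) : classInner (fun x => a (q x)) (fun x => b (q x)) = classInner a b := by
  simp only [classInner, Nat.card_congr q.toEquiv]
  congr 1
  exact Fintype.sum_equiv q.toEquiv _ _ fun _ => rfl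

theorem isGen_comp {K : Type u} {N : Type} [Group K] [Group N] (φ : K →* N) {a : N → ℂ}
    (h : IsGeneralizedCharacter N a) : IsGeneralizedCharacter K (fun x => a (φ x)) := by
  obtain ⟨χ, ψ, h1, h2, rfl⟩ := h
  exact ⟨_, _, Chars.isCharacter_comp φ h1, Chars.isCharacter_comp φ h2, rfl⟩

/-- **The centralizer of an element with two Jordan blocks lies in `P`.** -/
theorem centW [Finite G] (B : Base G) (hA : FusA B) (e : Bool) :
    centralizer ({B.ι (qP 1 0 0 0 (sg e))} : Set G) ≤ B.ι.range := by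
  classical
  haveI : Fact (Nat.Prime 3) := ⟨Nat.prime_three⟩
  set w0 := B.ι (qP 1 0 0 0 (sg e)) with hw0
  set X := centralizer ({w0} : Set G) with hX
  have hmem : ∀ x : W e, B.ι (ρW e x) ∈ X := fun x => by
    rw [hX, mem_centralizer_singleton_iff, hw0, ← ρW_wW, ← map_mul, ← map_mul, ← map_mul,
      ← map_mul, wW_central]
  set η : W e →* X := (B.ι.comp (ρW e)).codRestrict X hmem with hη
  have ηinj : Function.Injective η := fun a b h =>
    ρW_injective (B.inj (congrArg Subtype.val h))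
  set H : Subgroup X := η.range with hH
  set D : Set X := {d | ∃ a c : ZMod 3, (a ≠ 0 ∨ c ≠ 0) ∧ d = η (trW e a c)} with hD
  have hK : ∀ x : X, ∀ d ∈ D, x * d * x⁻¹ ∈ H → x ∈ H := by
    rintro x d ⟨a, c, hac, rfl⟩ ⟨y, hy⟩
    obtain ⟨p, hp⟩ := mem_of_conj_tr B hA (trW_tr a c hac) (g := (x : G)) (m := ρW e y)
      (congrArg Subtype.val hy).symm
    have hx := mem_centralizer_singleton_iff.1 x.2
    rw [hw0, ← hp, ← map_mul, ← map_mul] at hx
    obtain ⟨z, hz⟩ := exists_ρW p (B.inj hx)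
    exact ⟨z, Subtype.ext (show B.ι (ρW e z) = x by rw [hz, hp])⟩
  have hwc : ∀ x : X, Commute x (η (wW e)) := fun x => Subtype.ext (by
    show (x : G) * B.ι (ρW e (wW e)) = B.ι (ρW e (wW e)) * x
    rw [ρW_wW]
    exact mem_centralizer_singleton_iff.1 x.2)
  have hgood : ∀ (g : X) (x : W e), GoodW x → g * η x * g⁻¹ ∈ H → g ∈ H := by
    intro g x ⟨n, k, h1, h2⟩ hg
    refine hK g _ ⟨_, _, h2, rfl⟩ ?_
    rw [← h1, map_mul, map_pow, map_pow]
    have e1 : g * (η x ^ n.val * η (wW e) ^ k.val) * g⁻¹ =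
        (g * η x * g⁻¹) ^ n.val * η (wW e) ^ k.val := by
      rw [conj_pow, mul_assoc, mul_assoc, mul_assoc, mul_assoc,
        (((hwc g⁻¹).pow_right k.val).eq : g⁻¹ * η (wW e) ^ k.val = _)]
    rw [e1]
    exact mul_mem (pow_mem hg _) (pow_mem (show η (wW e) ∈ H from ⟨_, rfl⟩) _)
  -- the plane
  obtain ⟨hAcomm, hAc, hAp⟩ := plane_props (η.comp (planeW e)) (fun a b h => by
    have h' := ηinj h
    exact Multiplicative.toAdd.injective (Prod.ext (congrArg W.a h' :) (congrArg W.c h' :)))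
  set A := (η.comp (planeW e)).range with hAdef
  have hAH : A ≤ H := by
    rintro _ ⟨v, rfl⟩
    exact ⟨_, rfl⟩
  have hAD : ∀ a ∈ A, a ≠ 1 → a ∈ D := by
    rintro _ ⟨v, rfl⟩ h1
    refine ⟨v.toAdd.1, v.toAdd.2, ?_, rfl⟩
    by_contra hc
    push Not at hc
    exact h1 (by
      rw [show v = 1 from Multiplicative.toAdd.injective (Prod.ext hc.1 hc.2), map_one])
  have hzD : η (zW e) ∈ D := ⟨0, 1, Or.inr one_ne_zero, rfl⟩
  -- centralizers of the elements of `J`
  have hcentJ : ∀ x : W e, x.t = false ∧ x.p = 0 ∧ x.q ≠ 0 →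
      centralizer ({η x} : Set X) ≤ H := by
    intro x hx
    refine le_of_abelian_meet hK (K := (JW e ⊓ RW' e).map η) (d := η (zW e)) ?_ ?_ ?_ hzD
      ⟨zW e, ⟨rfl, rfl⟩, rfl⟩ hAc hAp hAD hAH ?_
    · ext y
      constructor
      · rintro ⟨hy, w, rfl⟩
        have h := mem_centralizer_singleton_iff.1 hy
        rw [← map_mul, ← map_mul] at h
        obtain ⟨h1, h2⟩ := (comm_iff hx).1 (ηinj h).symm
        exact ⟨w, ⟨h2, h1⟩, rfl⟩
      · rintro ⟨w, ⟨h1, h2⟩, rfl⟩
        refine ⟨mem_centralizer_singleton_iff.2 ?_, w, rfl⟩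
        rw [← map_mul, ← map_mul, (comm_iff hx).2 ⟨h2, h1⟩]
    · refine ⟨⟨?_⟩⟩
      rintro ⟨_, a, ⟨ha1, ha2⟩, rfl⟩ ⟨_, b, ⟨hb1, hb2⟩, rfl⟩
      apply Subtype.ext
      show η a * η b = η b * η a
      rw [← map_mul, ← map_mul]
      congr 1
      obtain ⟨aa, ac, ap, aq, au, at'⟩ := a
      obtain ⟨ba, bc, bp, bq, bu, bt⟩ := b
      obtain rfl : ap = 0 := ha1
      obtain rfl : at' = false := ha2
      obtain rfl : bp = 0 := hb1
      obtain rfl : bt = false := hb2
      ext <;> simp [mul_def, show sg false = 1 from rfl, show sg true = -1 from rfl] <;> ring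
    · refine IsPGroup.map ?_ η
      intro a
      exact ⟨2, Subtype.ext (pow_nine a.1 a.2.2)⟩
    · refine le_trans ?_ le_normalizer
      rintro _ ⟨v, rfl⟩
      rw [mem_centralizer_singleton_iff, MonoidHom.comp_apply, ← map_mul, ← map_mul,
        (comm_iff hx).2 ⟨rfl, rfl⟩]
  -- the trivial intersection set
  set T : Set X := η '' {x | Supp x} with hT
  have hTI : ∀ g : X, g ∉ H → ∀ t ∈ T, g * t * g⁻¹ ∈ T → t = 1 := by
    rintro g hg _ ⟨x, hx, rfl⟩ ⟨y, hy, hy'⟩
    exfalso
    apply hg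
    rcases supp_cases x hx with hxJ | hxg
    · rcases supp_cases y hy with hyJ | hyg
      · refine hK g _ hzD (hcentJ y hyJ ?_)
        rw [mem_centralizer_singleton_iff, hy']
        have hc : η x * η (zW e) = η (zW e) * η x := by
          rw [← map_mul, ← map_mul, (comm_iff hxJ).2 ⟨rfl, rfl⟩]
        calc g * η (zW e) * g⁻¹ * (g * η x * g⁻¹) = g * (η (zW e) * η x) * g⁻¹ := by group
          _ = g * (η x * η (zW e)) * g⁻¹ := by rw [hc]
          _ = g * η x * g⁻¹ * (g * η (zW e) * g⁻¹) := by group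
      · refine inv_mem_iff.1 (hgood g⁻¹ y hyg ?_)
        rw [hy', inv_inv]
        exact ⟨x, by group⟩
    · exact hgood g x hxg ⟨y, hy'⟩
  haveI := Fintype.ofFinite X
  haveI := Fintype.ofFinite H
  let q : W e ≃* H := MonoidHom.ofInjective ηinj
  have hq : ∀ x : W e, ((q x : H) : X) = η x := fun x => rfl
  have hT1 : ∀ t ∈ T, t ∈ H ∧ t * t ≠ 1 := by
    rintro _ ⟨x, hx, rfl⟩
    refine ⟨⟨x, rfl⟩, fun h => (supp_basic x hx).1 (ηinj ?_)⟩
    rw [map_mul, map_one, h]
  have hTinv : ∀ t ∈ T, t⁻¹ ∈ T := by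
    rintro _ ⟨x, hx, rfl⟩
    exact ⟨x⁻¹, (supp_basic x hx).2, map_inv η x⟩
  have hnT : ∀ x : H, (x : X) ∉ T → ¬ Supp (q.symm x) := fun x hx h => hx ⟨_, h, by
    rw [← hq, MulEquiv.apply_symm_apply]⟩
  have inn : ∀ {a b : W e → ℤ × ℤ} {n : ℤ},
      classInner (fun x => ev (a x)) (fun x => ev (b x)) = (n : ℂ) →
      classInner (fun x : H => ev (a (q.symm x))) (fun x : H => ev (b (q.symm x))) = (n : ℂ) := by
    intro a b n h
    exact (classInner_comp q.symm (fun x => ev (a x)) (fun x => ev (b x))).trans h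
  have hone : (fun _ : H => (1 : ℂ)) = fun _ => ev (1, 0) := by simp [ev_one]
  set I : Finset H := (invW e).map q.toEquiv.toEmbedding with hI'
  have hsum : ∀ a : W e → ℤ × ℤ, ∑ x ∈ I, ∑ y ∈ I, ev (a (q.symm (x * y))) =
      ev (∑ x ∈ invW e, ∑ y ∈ invW e, a (x * y)) := by
    intro a
    simp [hI', Finset.sum_map, map_sum]
  obtain ⟨s1, s2, s3⟩ := sums_invW (e := e)
  obtain ⟨l, hl⟩ := exists_linear hTI hT1 hTinv
    (fun x : H => ev (fN (q.symm x))) (fun x : H => ev (gN (q.symm x)))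
    (fun x : H => ev (hN (q.symm x)))
    (isGen_comp q.symm.toMonoidHom isGen_fN)
    (isGen_comp q.symm.toMonoidHom isGen_gN)
    (isGen_comp q.symm.toMonoidHom isGen_hN)
    (fun x hx => by rw [(supp_spec _ (hnT x hx)).1, map_zero])
    (fun x hx => by rw [(supp_spec _ (hnT x hx)).2.1, map_zero])
    (fun x hx => by rw [(supp_spec _ (hnT x hx)).2.2, map_zero])
    ((inn (inner_fN_fN (e := e))).trans (by norm_num))
    (by rw [hone]; exact (inn (b := fun _ => (1, 0)) (inner_fN_one (e := e))).trans (by norm_num))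
    ((inn (inner_gN_gN (e := e))).trans (by norm_num))
    (by rw [hone]; exact (inn (b := fun _ => (1, 0)) (inner_gN_one (e := e))).trans (by norm_num))
    ((inn (inner_hN_hN (e := e))).trans (by norm_num))
    (by rw [hone]; exact (inn (b := fun _ => (1, 0)) (inner_hN_one (e := e))).trans (by norm_num))
    ((inn (inner_fN_gN (e := e))).trans (by norm_num))
    ((inn (inner_hN_fN (e := e))).trans (by norm_num))
    ((inn (inner_hN_gN (e := e))).trans (by norm_num))
    (η (uW e)) (by rw [← map_mul]; exact (congrArg η (by cases e <;> decide +kernel :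
      uW e * uW e = 1)).trans (map_one η)) I
    (fun x => by
      constructor
      · intro hx
        obtain ⟨y, hy, rfl⟩ := Finset.mem_map.1 hx
        obtain ⟨-, c, p, r, h⟩ := invol_spec y (invW_spec y hy).1 (invW_spec y hy).2
        refine isConj_iff.2 ⟨η ⟨0, c, p, r, 0, false⟩, ?_⟩
        rw [← map_inv, ← map_mul, ← map_mul, h]
        rfl
      · intro hx
        obtain ⟨g, hg⟩ := isConj_iff.1 hx
        obtain ⟨y, rfl⟩ := q.surjective x
        rw [hq] at hg
        have hu1 : uW e * uW e = 1 := by cases e <;> decide +kernel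
        have hy1 : y * y = 1 := ηinj (by
          rw [map_mul, map_one, ← hg,
            show g * η (uW e) * g⁻¹ * (g * η (uW e) * g⁻¹) = g * η (uW e * uW e) * g⁻¹ by
              rw [map_mul]; group, hu1, map_one, mul_one, mul_inv_cancel])
        have hy2 : y ≠ 1 := fun h => by
          rw [h, map_one, conj_eq_one_iff, ← map_one η] at hg
          have := ηinj hg
          revert this
          cases e <;> decide +kernel
        refine Finset.mem_map.2 ⟨y, Finset.mem_filter.2 ⟨Finset.mem_univ _, ?_, hy1⟩, rfl⟩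
        exact (invol_spec y hy1 hy2).1)
    (by rw [hsum, hsum, s1, s2]; simp [ev]; norm_num)
    (by rw [hsum, hsum, s3, s2])
    (by rw [hsum, s2]; simp [ev])
  -- the kernel of a power of the linear character
  set N : Subgroup X := ((powMonoidHom 243).comp l).ker with hN
  have hRN : ∀ x : W e, x.t = false → η x ∈ N := fun x hx => by
    rw [hN, MonoidHom.mem_ker, MonoidHom.comp_apply, powMonoidHom_apply, ← map_pow, ← map_pow,
      show x ^ 243 = (x ^ 9) ^ 27 by rw [← pow_mul], pow_nine x hx, one_pow, map_one, map_one]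
  have huN : η (uW e) ∉ N := fun h => by
    rw [hN, MonoidHom.mem_ker, MonoidHom.comp_apply, powMonoidHom_apply, ← map_pow, ← map_pow,
      show (243 : ℕ) = 2 * 121 + 1 from rfl, pow_succ, pow_mul, pow_two,
      (by cases e <;> decide +kernel : uW e * uW e = 1), one_pow, one_mul] at h
    exact hl h
  set KR : Subgroup X := (RW' e).map η with hKR
  have hNH : N ⊓ H = KR := by
    ext x
    constructor
    · rintro ⟨hxN, w, rfl⟩
      refine ⟨w, ?_, rfl⟩
      show w.t = false
      cases hw : w.t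
      · rfl
      · exfalso
        apply huN
        have h1 : η (w * uW e) ∈ N := hRN _ (by simp [mul_def, uW, hw])
        rw [map_mul] at h1
        exact (N.mul_mem_cancel_left hxN).1 h1
    · rintro ⟨w, hw, rfl⟩
      exact ⟨hRN w hw, w, rfl⟩
  have hKRp : IsPGroup 3 KR := IsPGroup.map (fun a => ⟨2, Subtype.ext (pow_nine a.1 a.2)⟩) η
  have hzKR : η (zW e) ∈ KR := ⟨zW e, rfl, rfl⟩
  have hKRN : KR ≤ N := hNH ▸ inf_le_left
  have hKRH : KR ≤ H := hNH ▸ inf_le_right
  have hnormKR : ∀ x ∈ N, x ∈ normalizer (KR : Set X) → x ∈ KR := fun x hx hn =>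
    hNH ▸ ⟨hx, normalizer_le hK hKRH hzD hzKR hn⟩
  obtain ⟨S, hS⟩ := IsPGroup.exists_le_sylow (G := N)
    (hKRp.of_equiv (subgroupOfEquivOfLe hKRN).symm)
  have hSK : (S : Subgroup N).map N.subtype = KR := by
    refine eq_of_pGroup (fun x hx => ⟨⟨x, hKRN hx⟩, hS hx, rfl⟩) (S.2.map _) fun x hx hn => ?_
    obtain ⟨y, -, rfl⟩ := hx
    exact hnormKR _ y.2 hn
  have hSmem : ∀ y : N, y ∈ (S : Subgroup N) ↔ (y : X) ∈ KR := by
    intro y
    rw [← hSK]
    exact (Subgroup.mem_map_iff_mem N.subtype_injective).symm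
  have hder : ⁅KR, KR⁆ ≤ (DW e).map η := by
    rw [commutator_le]
    rintro _ ⟨a, ha, rfl⟩ _ ⟨b, hb, rfl⟩
    refine ⟨⁅a, b⁆, ?_, map_commutatorElement _ _ _⟩
    rw [commutatorElement_def]
    exact comm_mem ha hb
  have hGrun : (S : Subgroup N) ⊓ commutator N ≤ (⁅KR, KR⁆).comap N.subtype := by
    rw [Cfsg.Agent.S4216.result S]
    have hcS : ⁅(S : Subgroup N), (S : Subgroup N)⁆.map N.subtype = ⁅KR, KR⁆ := by
      rw [map_commutator, hSK]
    refine sup_le ?_ (iSup_le fun g => ?_)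
    · refine inf_le_right.trans ?_
      have hn : normalizer ((S : Subgroup N) : Set N) ≤ (S : Subgroup N) := by
        intro y hy
        rw [hSmem]
        refine hnormKR _ y.2 ?_
        rw [mem_set_normalizer_iff]
        intro n
        constructor
        · intro hn
          exact (hSmem _).1 ((mem_set_normalizer_iff.1 hy ⟨n, hKRN hn⟩).1 ((hSmem _).2 hn))
        · intro hn
          have hnN : n ∈ N := by
            have := mul_mem (mul_mem (inv_mem y.2) (hKRN hn)) y.2
            simpa [mul_assoc] using this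
          exact (hSmem ⟨n, hnN⟩).1 ((mem_set_normalizer_iff.1 hy ⟨n, hnN⟩).2 ((hSmem _).2 hn))
      rw [← map_le_iff_le_comap, ← hcS]
      exact map_mono (commutator_mono hn hn)
    · rintro x ⟨hxS, d, hd, rfl⟩
      have hd' : (d : X) ∈ ⁅KR, KR⁆ := hcS ▸ ⟨d, hd, rfl⟩
      show ((MulAut.conj g d : N) : X) ∈ ⁅KR, KR⁆
      rw [MulAut.conj_apply]
      rcases eq_or_ne d 1 with rfl | hd1
      · simp
      obtain ⟨w, hw, hwd⟩ := hder hd'
      have hw1 : w ≠ 1 := fun h => hd1 (Subtype.ext (by rw [← hwd, h, map_one]; rfl))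
      have hgH : (g : X) ∈ H := by
        refine hgood _ w (derived_good w hw1 hw) ?_
        rw [hwd]
        exact hKRH ((hSmem _).1 hxS)
      have hgS : g ∈ (S : Subgroup N) := (hSmem g).2 (hNH ▸ ⟨g.2, hgH⟩)
      rw [← hcS]
      refine ⟨g * d * g⁻¹, ?_, rfl⟩
      rw [show g * d * g⁻¹ = ⁅g, d⁆ * d by rw [commutatorElement_def]; group]
      exact mul_mem (commutator_mem_commutator hgS (commutator_le_self _ hd)) hd
  set N1 : Subgroup X := ⁅N, N⁆ with hN1
  have hN1H : N1 ⊓ H = ⁅KR, KR⁆ := by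
    refine le_antisymm (fun x hx => ?_)
      (le_inf (commutator_mono hKRN hKRN) ((commutator_le_self KR).trans hKRH))
    have hxN : x ∈ N := commutator_le_self N hx.1
    refine hGrun (x := ⟨x, hxN⟩) ⟨(hSmem _).2 (hNH ▸ ⟨hxN, hx.2⟩), ?_⟩
    have h1 : x ∈ (commutator N).map N.subtype := by
      rw [map_subtype_commutator]
      exact hx.1
    exact (Subgroup.mem_map_iff_mem N.subtype_injective).1 h1
  haveI : N.Normal := by rw [hN]; infer_instance
  haveI hN1n : N1.Normal := commutator_normal N N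
  have hzder : η (zW e) ∈ ⁅KR, KR⁆ := by
    have h := comm_zW e
    rw [← h, map_commutatorElement]
    exact commutator_mem_commutator ⟨_, rfl, rfl⟩ ⟨_, rfl, rfl⟩
  have hN1le : N1 ≤ H := by
    refine le_of_abelian_meet hK hN1H ⟨⟨?_⟩⟩ (hKRp.to_le (commutator_le_self _)) hzD hzder hAc hAp
      hAD hAH (by rw [normalizer_eq_top_iff.2 hN1n]; exact le_top)
    rintro ⟨a, ha⟩ ⟨b, hb⟩
    obtain ⟨a', ha', rfl⟩ := hder ha
    obtain ⟨b', hb', rfl⟩ := hder hb
    apply Subtype.ext
    show η a' * η b' = η b' * η a'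
    rw [← map_mul, ← map_mul]
    congr 1
    obtain ⟨aa, ac, ap, aq, au, at'⟩ := a'
    obtain ⟨ba, bc, bp, bq, bu, bt⟩ := b'
    obtain ⟨h1, h2, h3, -⟩ := ha'
    obtain ⟨h4, h5, h6, -⟩ := hb'
    simp only at h1 h2 h3 h4 h5 h6
    subst h1 h2 h3 h4 h5 h6
    ext <;> simp [mul_def, show sg false = 1 from rfl, show sg true = -1 from rfl] <;> ring
  have hzN1 : η (zW e) ∈ N1 := commutator_mono hKRN hKRN hzder
  have htop : ∀ x : X, x ∈ H := fun x =>
    normalizer_le hK hN1le hzD hzN1 (by rw [normalizer_eq_top_iff.2 hN1n]; trivial)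
  intro g hg
  obtain ⟨y, hy⟩ := htop ⟨g, hg⟩
  exact ⟨ρW e y, congrArg Subtype.val hy⟩

end CfsgLib.L43Three.CentA
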