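import Cfsg.Agent.Lib.L43Three.CentAT0Model
import Cfsg.Agent.Lib.L43Three.CentAW
import Cfsg.Agent.Lib.FT.PLengthClosure
import Cfsg.Agent.Lib.Transfer.Fusion
import Cfsg.Agent.S3347
import Cfsg.Agent.S4216

/-!
# The centralizer of `x₂₄` (S3373, case A)

Modulo `⟨x₂₄⟩` Grün's first theorem gives the 3-residual an elementary abelian Sylow subgroup of
order 27 inverted by an involution; by S3347 it has 3-length one, its core is trivial by coprime
generation over a plane of translations, so the Sylow subgroup is normal and everything lies in `P`.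
-/

set_option autoImplicit false
set_option maxRecDepth 100000
set_option maxHeartbeats 1000000
set_option linter.style.haveILetI false

namespace CfsgLib.L43Three.CentA

open Cfsg CfsgLib Subgroup
open scoped commutatorElement

universe u

/-- `{t = false}` -/
def RV : Subgroup V where
  carrier := {x | x.t = false}
  one_mem' := rfl
  mul_mem' := fun {x y} (hx : x.t = false) (hy : y.t = false) => by
    show xor x.t y.t = false
    rw [hx, hy]
    rfl
  inv_mem' := fun {_} hx => hx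

/-- `{t = false, b = 0}` -/
def EV : Subgroup V where
  carrier := {x | x.t = false ∧ x.b = 0}
  one_mem' := ⟨rfl, rfl⟩
  mul_mem' := fun {x y} (hx : x.t = false ∧ x.b = 0) (hy : y.t = false ∧ y.b = 0) => by
    refine ⟨RV.mul_mem hx.1 hy.1, ?_⟩
    show y.b + x.b = 0
    rw [hx.2, hy.2, add_zero]
  inv_mem' := fun {x} (hx : x.t = false ∧ x.b = 0) => ⟨hx.1, by show -x.b = 0; rw [hx.2, neg_zero]⟩

/-- `{b = 0}` -/
def BV : Subgroup V where
  carrier := {x | x.b = 0}
  one_mem' := rfl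
  mul_mem' := fun {x y} (hx : x.b = 0) (hy : y.b = 0) => by
    show y.b + x.b = 0
    rw [hx, hy, add_zero]
  inv_mem' := fun {x} (hx : x.b = 0) => by show -x.b = 0; rw [hx, neg_zero]

/-- The translations in the plane. -/
def planeV : Multiplicative (ZMod 3 × ZMod 3) →* V :=
  MonoidHom.mk' (fun v => trV v.toAdd.1 v.toAdd.2) fun v w => by
    ext <;> simp [trV, mulV_def, show sv false = 1 from rfl, add_comm]

theorem comm_BV (x y : V) : ⁅x, y⁆.b = 0 := by
  show (x * y * x⁻¹ * y⁻¹).b = 0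
  simp [mulV_def, invV_def]

theorem comm_RV {x y : V} (hx : x.t = false) (hy : y.t = false) :
    ⁅x, y⁆.t = false ∧ ⁅x, y⁆.b = 0 ∧ ⁅x, y⁆.j = 0 ∧ ⁅x, y⁆.i = 0 := by
  obtain ⟨xb, xc, xj, xd, xi, xt⟩ := x
  obtain ⟨yb, yc, yj, yd, yi, yt⟩ := y
  subst hx hy
  refine ⟨rfl, ?_, ?_, ?_⟩ <;>
    simp [commutatorElement_def, mulV_def, invV_def, show sv false = 1 from rfl] <;> ring

theorem cube_RV : ∀ x : V, x.t = false → x ^ 9 = 1 := by decide +kernel

theorem gen_EV : ∀ x : V, x.t = false → x.b = 0 →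
    ∃ a b k m : ZMod 3, ∃ l : Fin 3,
      uV * (⟨0, a, b, m, k, false⟩ : V) * uV⁻¹ = (⟨0, a, b, m, k, false⟩ : V)⁻¹ ∧
        x = (⟨0, a, b, m, k, false⟩ : V) * tV ^ l.val := by
  decide +kernel

theorem tV_pow : ∀ d : ZMod 3, (⟨0, 0, 0, d, 0, false⟩ : V) = tV ^ d.val := by decide +kernel

theorem trV_pow : ∀ c d : ZMod 3, (⟨0, c, 0, d, 0, false⟩ : V) = trV 0 c * tV ^ d.val := by
  decide +kernel

theorem tV_comm : ∀ w : V, w.t = false → ⁅w * uV, trV 0 1⁆.c ≠ 0 := by decide +kernel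

theorem tV_not_inv : ((trV 0 1 * uV)⁻¹ * (uV * trV 0 1)).c ≠ 0 := by decide +kernel

variable {G : Type u} [Group G]

/-- **The centralizer of `x₂₄` lies in `P`.** -/
theorem centT0 [Finite G] (B : Base G) (hA : FusA B) :
    centralizer ({B.ι (qP 0 0 0 1 0)} : Set G) ≤ B.ι.range := by
  classical
  haveI : Fact (Nat.Prime 3) := ⟨Nat.prime_three⟩
  set t0 := B.ι (qP 0 0 0 1 0) with ht0
  set X := centralizer ({t0} : Set G) with hX
  have hmem : ∀ x : V, B.ι (ρV x) ∈ X := fun x => by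
    rw [hX, mem_centralizer_singleton_iff, ht0, ← ρV_tV, ← map_mul, ← map_mul, ← map_mul,
      ← map_mul, tV_central]
  set η : V →* X := (B.ι.comp ρV).codRestrict X hmem with hη
  have ηinj : Function.Injective η := fun a b h => ρV_injective (B.inj (congrArg Subtype.val h))
  set Z : Subgroup X := zpowers (η tV) with hZ
  have hZc : ∀ x : X, Commute x (η tV) := fun x => Subtype.ext (by
    show (x : G) * B.ι (ρV tV) = B.ι (ρV tV) * x
    rw [ρV_tV]
    exact mem_centralizer_singleton_iff.1 x.2)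
  haveI hZn : Z.Normal := ⟨fun n hn g => by
    obtain ⟨k, rfl⟩ := mem_zpowers_iff.1 hn
    rw [((hZc g).zpow_right k).eq, mul_inv_cancel_right]
    exact zpow_mem (mem_zpowers _) k⟩
  set π : X →* X ⧸ Z := QuotientGroup.mk' Z with hπ
  set μ : V →* X ⧸ Z := π.comp η with hμ
  -- the kernel of `μ`
  have hker : ∀ x : V, μ x = 1 → x.b = 0 ∧ x.c = 0 ∧ x.j = 0 ∧ x.i = 0 ∧ x.t = false := by
    intro x hx
    rw [hμ, MonoidHom.comp_apply, hπ, QuotientGroup.mk'_apply, QuotientGroup.eq_one_iff, hZ,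
      mem_zpowers_iff_mem_range_orderOf, Finset.mem_image] at hx
    obtain ⟨n, -, hn⟩ := hx
    rw [← map_pow] at hn
    rw [← ηinj hn]
    have key : ∀ k : ℕ, (tV ^ k).b = 0 ∧ (tV ^ k).c = 0 ∧ (tV ^ k).j = 0 ∧ (tV ^ k).i = 0 ∧
        (tV ^ k).t = false := by
      intro k
      induction k with
      | zero => exact ⟨rfl, rfl, rfl, rfl, rfl⟩
      | succ k ih =>
        obtain ⟨h1, h2, h3, h4, h5⟩ := ih
        rw [pow_succ]
        generalize tV ^ k = w at h1 h2 h3 h4 h5 ⊢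
        simp [mulV_def, tV, h1, h2, h3, h4, h5, show sv false = 1 from rfl]
    exact key n
  set H : Subgroup (X ⧸ Z) := μ.range with hH
  set D : Set (X ⧸ Z) := {d | ∃ b c : ZMod 3, (b ≠ 0 ∨ c ≠ 0) ∧ d = μ (trV b c)} with hD
  have hK : ∀ x : X ⧸ Z, ∀ d ∈ D, x * d * x⁻¹ ∈ H → x ∈ H := by
    rintro xq d ⟨b, c, hbc, rfl⟩ ⟨y, hy⟩
    obtain ⟨x, rfl⟩ := QuotientGroup.mk'_surjective Z xq
    rw [hμ, MonoidHom.comp_apply, MonoidHom.comp_apply, ← map_inv, ← map_mul, ← map_mul, hπ,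
      QuotientGroup.mk'_apply, QuotientGroup.mk'_apply, QuotientGroup.eq, hZ,
      mem_zpowers_iff_mem_range_orderOf, Finset.mem_image] at hy
    obtain ⟨n, -, hn⟩ := hy
    have h1 : x * η (trV b c) * x⁻¹ = η (y * tV ^ n) := by
      rw [map_mul, map_pow, hn, mul_inv_cancel_left]
    obtain ⟨p, hp⟩ := mem_of_conj_tr B hA (trV_tr b c hbc) (g := (x : G)) (m := ρV (y * tV ^ n))
      (congrArg Subtype.val h1)
    have hx := mem_centralizer_singleton_iff.1 x.2
    rw [ht0, ← hp, ← map_mul, ← map_mul] at hx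
    obtain ⟨z, hz⟩ := exists_ρV p (B.inj hx)
    exact ⟨z, congrArg π (Subtype.ext (show B.ι (ρV z) = x by rw [hz, hp]) : η z = x)⟩
  set zq : X ⧸ Z := μ (trV 0 1) with hzq
  have hzD : zq ∈ D := ⟨0, 1, Or.inr one_ne_zero, rfl⟩
  have hμb : ∀ x y : V, μ x = μ y → x.b = y.b ∧ x.t = y.t := by
    intro x y h
    obtain ⟨h1, -, -, -, h5⟩ := hker (x⁻¹ * y) (by rw [map_mul, map_inv, h, inv_mul_cancel])
    simp [mulV_def, invV_def] at h1 h5
    exact ⟨by linear_combination -h1, h5⟩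
  -- the Sylow subgroup
  set R : Subgroup (X ⧸ Z) := RV.map μ with hR
  have hRH : R ≤ H := by rintro _ ⟨x, -, rfl⟩; exact ⟨x, rfl⟩
  have hzR : zq ∈ R := ⟨_, rfl, rfl⟩
  have hRp : IsPGroup 3 R := IsPGroup.map (fun a => ⟨2, Subtype.ext (cube_RV a.1 a.2)⟩) μ
  have hpH : ∀ (S : Subgroup (X ⧸ Z)), IsPGroup 3 S → ∀ x ∈ S, x ∈ H → x ∈ R := by
    rintro S hS _ hxS ⟨w, rfl⟩
    refine ⟨w, ?_, rfl⟩
    show w.t = false
    obtain ⟨k, hk⟩ := hS ⟨_, hxS⟩
    have hk' : μ (w ^ 3 ^ k) = 1 := by rw [map_pow]; exact congrArg Subtype.val hk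
    have h5 := (hker _ hk').2.2.2.2
    have key : ∀ m, (w ^ (2 * m + 1)).t = w.t := by
      intro m
      induction m with
      | zero => simp
      | succ m ih =>
        rw [show 2 * (m + 1) + 1 = 2 * m + 1 + 2 by ring, pow_add, pow_two]
        show xor (w ^ (2 * m + 1)).t (xor w.t w.t) = w.t
        rw [ih]
        cases w.t <;> rfl
    obtain ⟨m, hm⟩ : Odd (3 ^ k) := Odd.pow (by decide)
    rw [hm, key] at h5
    exact h5
  obtain ⟨S₀, hS₀⟩ := IsPGroup.exists_le_sylow hRp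
  have hS₀R : (S₀ : Subgroup (X ⧸ Z)) = R :=
    eq_of_pGroup hS₀ S₀.2 fun x hx hn => hpH _ S₀.2 x hx (normalizer_le hK hRH hzD hzR hn)
  set EB : Subgroup (X ⧸ Z) := BV.map μ with hEB
  have hfoc : (S₀ : Subgroup (X ⧸ Z)) ⊓ commutator (X ⧸ Z) ≤ EB := by
    rw [Cfsg.Agent.S4216.result S₀, hS₀R]
    refine sup_le (inf_le_right.trans ((commutator_mono (normalizer_le hK hRH hzD hzR)
      (normalizer_le hK hRH hzD hzR)).trans ?_)) (iSup_le fun g => ?_)
    · rw [commutator_le]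
      rintro _ ⟨a, rfl⟩ _ ⟨b, rfl⟩
      exact ⟨⁅a, b⁆, comm_BV a b, map_commutatorElement _ _ _⟩
    · rintro x ⟨hxR, d, hd, rfl⟩
      have hd' : ∃ w : V, (w.b = 0 ∧ w.j = 0 ∧ w.i = 0 ∧ w.t = false) ∧ μ w = d := by
        have hle : ⁅R, R⁆ ≤ Subgroup.map μ
            { carrier := {w : V | w.b = 0 ∧ w.j = 0 ∧ w.i = 0 ∧ w.t = false}
              one_mem' := ⟨rfl, rfl, rfl, rfl⟩
              mul_mem' := fun {x y} hx hy => by
                obtain ⟨h1, h2, h3, h4⟩ := hx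
                obtain ⟨h5, h6, h7, h8⟩ := hy
                simp [mulV_def, h1, h2, h3, h4, h5, h6, h7, h8]
              inv_mem' := fun {x} hx => by
                obtain ⟨h1, h2, h3, h4⟩ := hx
                simp [invV_def, h1, h2, h3, h4] } := by
          rw [commutator_le]
          rintro _ ⟨a, ha, rfl⟩ _ ⟨b, hb, rfl⟩
          obtain ⟨h1, h2, h3, h4⟩ := comm_RV ha hb
          exact ⟨⁅a, b⁆, ⟨h2, h3, h4, h1⟩, map_commutatorElement _ _ _⟩
        obtain ⟨w, hw, hwd⟩ := hle hd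
        exact ⟨w, hw, hwd⟩
      obtain ⟨w, ⟨h1, h2, h3, h4⟩, rfl⟩ := hd'
      show g * μ w * g⁻¹ ∈ EB
      by_cases hc : w.c = 0
      · have : μ w = 1 := by
          have e : w = tV ^ w.d.val := by
            obtain ⟨wb, wc, wj, wd, wi, wt⟩ := w
            simp only at h1 h2 h3 h4 hc
            subst h1 h2 h3 h4 hc
            exact tV_pow wd
          rw [e, map_pow, hμ, MonoidHom.comp_apply, hπ, QuotientGroup.mk'_apply,
            (QuotientGroup.eq_one_iff _).2 (mem_zpowers (η tV)), one_pow]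
        rw [this, mul_one, mul_inv_cancel]
        exact one_mem _
      · have hd1 : μ w = μ (trV 0 w.c) := by
          have e : w = trV 0 w.c * tV ^ w.d.val := by
            obtain ⟨wb, wc, wj, wd, wi, wt⟩ := w
            simp only at h1 h2 h3 h4
            subst h1 h2 h3 h4
            exact trV_pow wc wd
          conv_lhs => rw [e, map_mul, map_pow]
          rw [show μ tV = 1 from (QuotientGroup.eq_one_iff _).2 (mem_zpowers (η tV)), one_pow,
            mul_one]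
        have hg : g ∈ H := hK g _ ⟨0, w.c, Or.inr hc, rfl⟩ (hd1 ▸ hRH hxR)
        obtain ⟨v, rfl⟩ := hg
        refine ⟨v * w * v⁻¹, ?_, by rw [map_mul, map_mul, map_inv]⟩
        show (v * w * v⁻¹).b = 0
        simp [mulV_def, invV_def, h1]
  -- the residual
  set K : Subgroup (X ⧸ Z) := pResidual 3 (X ⧸ Z) with hKdef
  haveI hKn : K.Normal := CfsgLib.Transfer.pResidual_normal
  have hu2 : μ uV * μ uV = 1 := by
    rw [← map_mul, show uV * uV = 1 by decide +kernel, map_one]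
  have hinv2 : ∀ x : X ⧸ Z, x * x = 1 → x ∈ K := fun x hx => subset_closure (by
    show (orderOf x).Coprime 3
    refine Nat.Coprime.coprime_dvd_left
      (orderOf_dvd_of_pow_eq_one (show x ^ 2 = 1 by rw [pow_two, hx])) ?_
    norm_num)
  set E : Subgroup (X ⧸ Z) := EV.map μ with hE
  have hER : E ≤ R := by rintro _ ⟨x, hx, rfl⟩; exact ⟨x, hx.1, rfl⟩
  have hEK : E ≤ K := by
    rintro _ ⟨x, ⟨hx1, hx2⟩, rfl⟩
    obtain ⟨a, b, k, m, l, hw, rfl⟩ := gen_EV x hx1 hx2
    generalize (⟨0, a, b, m, k, false⟩ : V) = w at hw ⊢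
    rw [map_mul, map_pow, show μ tV = 1 from (QuotientGroup.eq_one_iff _).2 (mem_zpowers (η tV)),
      one_pow, mul_one]
    have h1 : μ w * μ uV * (μ w * μ uV) = 1 := by
      rw [← map_mul, ← map_mul, show w * uV * (w * uV) = w * (uV * w * uV⁻¹) * (uV * uV) by group,
        hw, mul_inv_cancel, one_mul, show uV * uV = 1 by decide +kernel, map_one]
    have := mul_mem (hinv2 _ h1) (inv_mem (hinv2 _ hu2))
    rwa [mul_inv_cancel_right] at this
  have hKR : K ⊓ R = E := by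
    refine le_antisymm ?_ (le_inf hEK hER)
    intro x hx
    have h1 : x ∈ (S₀ : Subgroup (X ⧸ Z)) ⊓ commutator (X ⧸ Z) := by
      rw [inf_comm, Subgroup.commutator_inf_eq_focalSubgroup]
      exact CfsgLib.Transfer.inf_pResidual_le_focalSubgroup S₀ ⟨hS₀R ▸ hx.2, hx.1⟩
    obtain ⟨a, ha, e1⟩ := hfoc h1
    obtain ⟨c, hc, rfl⟩ := hx.2
    exact ⟨c, ⟨hc, (hμb a c e1).1 ▸ ha⟩, rfl⟩
  have hKH : ∀ x ∈ K, x ∈ H → x ∈ E ∨ x * μ uV ∈ E := by
    rintro _ hxK ⟨w, rfl⟩
    cases hw : w.t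
    · exact Or.inl (hKR ▸ ⟨hxK, w, hw, rfl⟩)
    · refine Or.inr (hKR ▸ ⟨mul_mem hxK (hinv2 _ hu2), ?_⟩)
      exact ⟨w * uV, show xor w.t true = false by rw [hw]; rfl, map_mul μ _ _⟩
  have hzE : zq ∈ E := ⟨_, ⟨rfl, rfl⟩, rfl⟩
  have hEH : E ≤ H := hER.trans hRH
  have hEp : IsPGroup 3 E := hRp.to_le hER
  obtain ⟨S₁, hS₁⟩ := IsPGroup.exists_le_sylow (G := K)
    (hEp.of_equiv (subgroupOfEquivOfLe hEK).symm)
  have hSE : (S₁ : Subgroup K).map K.subtype = E := by
    refine eq_of_pGroup (fun x hx => ⟨⟨x, hEK hx⟩, hS₁ hx, rfl⟩) (S₁.2.map _) fun x hx hn => ?_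
    have hxR := hpH _ (S₁.2.map K.subtype) x hx (normalizer_le hK hEH hzD hzE hn)
    obtain ⟨y, -, rfl⟩ := hx
    exact hKR ▸ ⟨y.2, hxR⟩
  have hSmem : ∀ y : K, y ∈ (S₁ : Subgroup K) ↔ (y : X ⧸ Z) ∈ E := fun y => by
    rw [← hSE]
    exact (Subgroup.mem_map_iff_mem K.subtype_injective).symm
  -- the hypotheses of S3347
  have hEab : ∀ a ∈ E, ∀ b ∈ E, a * b = b * a := by
    rintro _ ⟨a, ⟨ha, ha'⟩, rfl⟩ _ ⟨b, ⟨hb, hb'⟩, rfl⟩
    have h : μ ⁅a, b⁆ = 1 := by
      obtain ⟨h1, h2, h3, h4⟩ := comm_RV ha hb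
      have hc : ⁅a, b⁆.c = 0 := by
        obtain ⟨ab, ac, aj, ad, ai, at'⟩ := a
        obtain ⟨bb, bc, bj, bd, bi, bt⟩ := b
        simp only at ha ha' hb hb'
        subst ha ha' hb hb'
        simp [commutatorElement_def, mulV_def, invV_def, show sv false = 1 from rfl]
      have e : ⁅a, b⁆ = tV ^ ⁅a, b⁆.d.val := by
        generalize ⁅a, b⁆ = w at h1 h2 h3 h4 hc ⊢
        obtain ⟨wb, wc, wj, wd, wi, wt⟩ := w
        simp only at h1 h2 h3 h4 hc
        subst h1 h2 h3 h4 hc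
        exact tV_pow wd
      rw [e, map_pow, show μ tV = 1 from (QuotientGroup.eq_one_iff _).2 (mem_zpowers (η tV)),
        one_pow]
    rw [map_commutatorElement, commutatorElement_eq_one_iff_mul_comm] at h
    exact h
  have hab : IsMulCommutative (S₁ : Subgroup K) := ⟨⟨fun a b => Subtype.ext (Subtype.ext
    (hEab _ ((hSmem _).1 a.2) _ ((hSmem _).1 b.2)))⟩⟩
  have hnc : ¬ IsCyclic (S₁ : Subgroup K) := by
    intro h
    haveI := h
    let p2 : Multiplicative (ZMod 3 × ZMod 3) →* V := MonoidHom.mk'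
      (fun v => ⟨0, v.toAdd.1, 0, 0, v.toAdd.2, false⟩) fun v w => by
        ext <;> simp [mulV_def, show sv false = 1 from rfl, add_comm]
    have hmem2 : ∀ v, μ (p2 v) ∈ E := fun v => ⟨p2 v, ⟨rfl, rfl⟩, rfl⟩
    let f : Multiplicative (ZMod 3 × ZMod 3) →* (S₁ : Subgroup K) :=
      MonoidHom.mk' (fun v => ⟨⟨μ (p2 v), hEK (hmem2 v)⟩, (hSmem _).2 (hmem2 v)⟩) fun v w =>
        Subtype.ext (Subtype.ext (by simp [map_mul]))
    have hf : Function.Injective f := (injective_iff_map_eq_one f).2 fun v hv => by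
      have h0 : μ (p2 v) = 1 := congrArg (fun z : (S₁ : Subgroup K) => ((z : K) : X ⧸ Z)) hv
      obtain ⟨-, h2, -, h4, -⟩ := hker _ h0
      exact Multiplicative.toAdd.injective (Prod.ext h2 h4)
    exact (plane_props f hf).2.1 inferInstance
  have hidx : ((centralizer ((S₁ : Subgroup K) : Set K)).subgroupOf
      (normalizer ((S₁ : Subgroup K) : Set K))).index = 2 := by
    have hnorm : ∀ y : K, y ∈ normalizer ((S₁ : Subgroup K) : Set K) →
        (y : X ⧸ Z) ∈ E ∨ (y : X ⧸ Z) * μ uV ∈ E := by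
      intro y hy
      refine hKH _ y.2 (hK _ _ hzD (hEH ?_))
      exact (hSmem _).1 ((mem_set_normalizer_iff.1 hy ⟨zq, hEK hzE⟩).1 ((hSmem _).2 hzE))
    have hinvE : ∀ a ∈ E, μ uV * a * (μ uV)⁻¹ ∈ E := by
      rintro _ ⟨a, ha, rfl⟩
      refine ⟨uV * a * uV⁻¹, ⟨?_, ?_⟩, by rw [map_mul, map_mul, map_inv]⟩
      · show xor (xor true a.t) true = false
        rw [ha.1]
        rfl
      · simp [mulV_def, invV_def, uV, show a.b = 0 from ha.2]
    have huinv : (μ uV)⁻¹ = μ uV := inv_eq_of_mul_eq_one_right hu2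
    let uK : normalizer ((S₁ : Subgroup K) : Set K) := ⟨⟨μ uV, hinv2 _ hu2⟩, by
      rw [mem_set_normalizer_iff]
      intro n
      simp only [SetLike.mem_coe, hSmem, Subgroup.coe_mul, Subgroup.coe_inv]
      refine ⟨fun hn => hinvE _ hn, fun hn => ?_⟩
      have := hinvE _ hn
      rw [show μ uV * (μ uV * (n : X ⧸ Z) * (μ uV)⁻¹) * (μ uV)⁻¹ =
        μ uV * μ uV * n * ((μ uV)⁻¹ * (μ uV)⁻¹) by group, huinv, hu2, one_mul, mul_one] at this
      exact this⟩
    have hC : ∀ y : normalizer ((S₁ : Subgroup K) : Set K),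
        y ∈ (centralizer ((S₁ : Subgroup K) : Set K)).subgroupOf _ ↔
          ((y : K) : X ⧸ Z) ∈ E := by
      intro y
      rw [mem_subgroupOf, mem_centralizer_iff]
      constructor
      · intro hy
        rcases hnorm y y.2 with h | h
        · exact h
        · exfalso
          have hz := congrArg Subtype.val (hy ⟨zq, hEK hzE⟩ ((hSmem _).2 hzE))
          have hc : ((y : K) : X ⧸ Z) * μ uV * zq = zq * (((y : K) : X ⧸ Z) * μ uV) :=
            hEab _ h _ hzE
          have hz' : zq * ((y : K) : X ⧸ Z) = ((y : K) : X ⧸ Z) * zq := hz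
          rw [← mul_assoc zq, hz', mul_assoc, mul_assoc, mul_right_inj] at hc
          rw [hzq, ← map_mul, ← map_mul] at hc
          have h1 := hker ((trV 0 1 * uV)⁻¹ * (uV * trV 0 1))
            (by rw [map_mul, map_inv, hc, inv_mul_cancel])
          exact tV_not_inv h1.2.1
      · intro hy n hn
        exact Subtype.ext (hEab _ ((hSmem _).1 hn) _ hy)
    rw [index_eq_two_iff]
    refine ⟨uK, fun y => ?_⟩
    simp only [hC, Subgroup.coe_mul]
    have hnu : ∀ z : X ⧸ Z, z ∈ E → z * μ uV ∉ E := by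
      intro z hz hzu
      have hu : μ uV ∈ E := by simpa using mul_mem (inv_mem hz) hzu
      obtain ⟨w, hw, hwu⟩ := hu
      have h := (hμb w uV hwu).2
      rw [hw.1] at h
      exact absurd h (by decide)
    rcases hnorm y y.2 with h | h
    · exact Or.inr ⟨h, hnu _ h⟩
    · exact Or.inl ⟨h, fun h' => hnu _ h' h⟩
  have hres : pResidual 3 K = ⊤ := by
    rw [eq_top_iff]
    intro y _
    have hle : K ≤ (pResidual 3 K).map K.subtype := by
      rw [hKdef, pResidual, closure_le]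
      intro g hg
      refine ⟨⟨g, subset_closure hg⟩, subset_closure ?_, rfl⟩
      show (orderOf (⟨g, subset_closure hg⟩ : pResidual 3 (X ⧸ Z))).Coprime 3
      rw [← Subgroup.orderOf_coe]
      exact hg
    exact (Subgroup.mem_map_iff_mem K.subtype_injective).1 (hle y.2)
  have hlen : PLengthLE 3 1 K := (Agent.S3347.result 3 (by norm_num) S₁ hab hnc hidx).resolve_left
    (not_not.2 hres)
  have hSM : (S₁ : Subgroup K) ≤ pPrimePCore 3 K := by
    haveI := CfsgLib.PLocal.pPrimePCore_normal 3 K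
    intro x hx
    obtain ⟨k, hk⟩ := S₁.2 ⟨x, hx⟩
    rw [← QuotientGroup.eq_one_iff]
    have h1 : orderOf (QuotientGroup.mk' (pPrimePCore 3 K) x) ∣ 3 ^ k :=
      orderOf_dvd_of_pow_eq_one (by
        rw [← map_pow, show x ^ 3 ^ k = 1 from congrArg Subtype.val hk, map_one])
    have h2 : orderOf (QuotientGroup.mk' (pPrimePCore 3 K) x) ∣ (pPrimePCore 3 K).index :=
      index_eq_card (pPrimePCore 3 K) ▸ orderOf_dvd_natCard _
    exact orderOf_eq_one_iff.1 (Nat.eq_one_of_dvd_coprimes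
      (((CfsgLib.FT.pLengthLE_one_iff.1 hlen)).pow_right k).symm h1 h2)
  -- the core is trivial
  obtain ⟨hAcomm, hAc, hAp⟩ := plane_props (μ.comp planeV) ((injective_iff_map_eq_one _).2
    fun v hv => by
      obtain ⟨h1, h2, -, -, -⟩ := hker _ hv
      exact Multiplicative.toAdd.injective (Prod.ext h1 h2))
  have hW : pPrimeCore 3 K = ⊥ := by
    set W := pPrimeCore 3 K with hWdef
    set WX := W.map K.subtype with hWX
    haveI : WX.Normal := ConjAct.normal_of_characteristic_of_normal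
    have hcW : (Nat.card W).Coprime 3 := CfsgLib.Base.pPrimeCore_coprime 3 K
    have hcop : (Nat.card (μ.comp planeV).range).Coprime (Nat.card WX) := by
      obtain ⟨k, hk⟩ := IsPGroup.iff_card.1 hAp
      rw [hk, card_map_of_injective K.subtype_injective]
      exact (hcW.pow_right k).symm
    have hWH : WX ≤ H := CfsgLib.Coprime.le_of_centralizer_le_of_not_isCyclic hAc
      (by rw [normalizer_eq_top_iff.2 ‹WX.Normal›]; exact le_top) hcop
      fun a ha ha1 x hx => by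
        obtain ⟨v, rfl⟩ := ha
        refine hK x _ ⟨v.toAdd.1, v.toAdd.2, ?_, rfl⟩ ?_
        · by_contra hc
          push Not at hc
          exact ha1 (by
            rw [show v = 1 from Multiplicative.toAdd.injective (Prod.ext hc.1 hc.2), map_one])
        · show x * (μ.comp planeV) v * x⁻¹ ∈ H
          rw [mem_centralizer_singleton_iff.1 hx.2, mul_inv_cancel_right]
          exact ⟨_, rfl⟩
    rw [eq_bot_iff]
    intro y hy
    have hyH : (y : X ⧸ Z) ∈ H := hWH ⟨y, hy, rfl⟩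
    have hyS : y ∈ (S₁ : Subgroup K) → y = 1 := fun h => by
      obtain ⟨k, hk⟩ := S₁.2 ⟨y, h⟩
      exact orderOf_eq_one_iff.1 (Nat.eq_one_of_dvd_coprimes (hcW.pow_right k)
        (Subgroup.orderOf_dvd_natCard W hy)
        (orderOf_dvd_of_pow_eq_one (show y ^ 3 ^ k = 1 from congrArg Subtype.val hk)))
    rcases hKH _ y.2 hyH with h | h
    · exact hyS ((hSmem y).2 h)
    · exfalso
      obtain ⟨w, hw, hwe⟩ := h
      have hy' : (y : X ⧸ Z) = μ (w * uV) := by
        rw [map_mul, hwe, mul_assoc, hu2, mul_one]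
      have hmem1 : ⁅(y : X ⧸ Z), zq⁆ ∈ WX := by
        rw [show ⁅(y : X ⧸ Z), zq⁆ = y * (zq * (y : X ⧸ Z)⁻¹ * zq⁻¹) by
          rw [commutatorElement_def]; group]
        have hyW : (y : X ⧸ Z) ∈ WX := ⟨y, hy, rfl⟩
        exact mul_mem hyW (Normal.conj_mem inferInstance _ (inv_mem hyW) _)
      obtain ⟨z, hz, hze⟩ := hmem1
      have hzS : z ∈ (S₁ : Subgroup K) := by
        rw [hSmem]
        show K.subtype z ∈ E
        rw [hze, hy', hzq, ← map_commutatorElement]
        refine ⟨_, ⟨?_, comm_BV _ _⟩, rfl⟩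
        show xor (xor (xor (xor w.t true) false) (xor w.t true)) false = false
        rw [hw.1]
        rfl
      have hz1 : z = 1 := by
        obtain ⟨k, hk⟩ := S₁.2 ⟨z, hzS⟩
        exact orderOf_eq_one_iff.1 (Nat.eq_one_of_dvd_coprimes (hcW.pow_right k)
          (Subgroup.orderOf_dvd_natCard W hz)
          (orderOf_dvd_of_pow_eq_one (show z ^ 3 ^ k = 1 from congrArg Subtype.val hk)))
      rw [hz1, map_one, hy', hzq, ← map_commutatorElement] at hze
      exact tV_comm w hw.1 (hker _ hze.symm).2.1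
  have hM : pPrimePCore 3 K = (S₁ : Subgroup K) :=
    S₁.3 (fun x => by
      obtain ⟨k, hk⟩ := CfsgLib.FT.exists_pow_mem_of_mem_pPrimePCore x.2
      rw [hW, mem_bot] at hk
      exact ⟨k, Subtype.ext hk⟩) hSM
  haveI hSn : (S₁ : Subgroup K).Characteristic :=
    hM ▸ CfsgLib.FT.pPrimePCore_characteristic 3 K
  haveI hEn : E.Normal := hSE ▸ ConjAct.normal_of_characteristic_of_normal
  intro g hg
  obtain ⟨y, hy⟩ := normalizer_le hK hEH hzD hzE
    (show π (⟨g, hg⟩ : X) ∈ normalizer (E : Set (X ⧸ Z)) by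
      rw [normalizer_eq_top_iff.2 hEn]; trivial)
  rw [hμ, MonoidHom.comp_apply, hπ, QuotientGroup.mk'_apply, QuotientGroup.mk'_apply,
    QuotientGroup.eq, hZ, mem_zpowers_iff_mem_range_orderOf, Finset.mem_image] at hy
  obtain ⟨n, -, hn⟩ := hy
  refine ⟨ρV (y * tV ^ n), ?_⟩
  have h1 : η (y * tV ^ n) = (⟨g, hg⟩ : X) := by
    rw [map_mul, map_pow, hn, mul_inv_cancel_left]
  exact congrArg Subtype.val h1

end CfsgLib.L43Three.CentA
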