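import Cfsg.Agent.Lib.L43Three.CentAW
import Cfsg.Agent.Lib.L43Three.CentAT0

/-!
# The centralizers used in case A (S3373): assembly
-/

set_option autoImplicit false

namespace CfsgLib.L43Three

universe u

/-- 8: the centralizers used in case A. -/
theorem stmtCentA : StmtCentA.{u} := fun B hA => by
  refine ⟨CentA.centT0 B hA, ?_, ?_⟩
  · exact CentA.centW B hA false
  · have h : CentA.sg true = 2 := by decide
    exact h ▸ CentA.centW B hA true

end CfsgLib.L43Three
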