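import Cfsg.Agent.Lib.L43Three.Defs
import Cfsg.Agent.Lib.Coprime.Action2

/-!
# Local tools for case A (S3373)

In case A an element moving a translation of the parabolic subgroup `P` into `P` lies in `P`.  A
subgroup whose intersection with a 3-local part `H` is an abelian 3-group containing a translation
and which is normalised by a plane of translations lies in `H` (Burnside and coprime generation).
-/

set_option autoImplicit false
set_option linter.style.haveILetI false

namespace CfsgLib.L43Three.CentA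

open Subgroup

universe u

variable {G : Type u} [Group G]

/-- Translations of the first row. -/
def Tr (d : P) : Prop := IsConj zP d

theorem mem_of_conj_tr (B : Base G) (hA : FusA B) {d m : P} (hd : IsConj zP d) {g : G}
    (h : g * B.ι d * g⁻¹ = B.ι m) : g ∈ B.ι.range := by
  obtain ⟨p1, hp1⟩ := isConj_iff.1 hd
  have hzm : IsConj (B.ι zP) (B.ι m) := isConj_iff.2 ⟨g * B.ι p1, by
    rw [← h, ← hp1, map_mul, map_mul, map_inv]; group⟩
  obtain ⟨p2, hp2⟩ := isConj_iff.1 (hA m hzm)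
  have hc : (B.ι p2)⁻¹ * g * B.ι p1 ∈ normalizer (zpowers (B.ι zP) : Set G) := by
    have e : (B.ι p2)⁻¹ * g * B.ι p1 * B.ι zP * ((B.ι p2)⁻¹ * g * B.ι p1)⁻¹ = B.ι zP := by
      calc _ = (B.ι p2)⁻¹ * (g * (B.ι p1 * B.ι zP * (B.ι p1)⁻¹) * g⁻¹) * B.ι p2 := by group
        _ = (B.ι p2)⁻¹ * (g * B.ι d * g⁻¹) * B.ι p2 := by rw [← hp1, map_mul, map_mul, map_inv]
        _ = _ := by rw [h, ← hp2, map_mul, map_mul, map_inv]; group
    have key : (zpowers (B.ι zP)).map
        (MulAut.conj ((B.ι p2)⁻¹ * g * B.ι p1)).toMonoidHom = zpowers (B.ι zP) := by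
      rw [MonoidHom.map_zpowers]
      exact congrArg zpowers e
    generalize (B.ι p2)⁻¹ * g * B.ι p1 = c at key ⊢
    rw [Subgroup.mem_set_normalizer_iff]
    intro n
    conv_rhs => rw [← key]
    rw [SetLike.mem_coe, SetLike.mem_coe, Subgroup.mem_map_equiv]
    simp [mul_assoc]
  have := B.norm_z hc
  have e : g = B.ι p2 * ((B.ι p2)⁻¹ * g * B.ι p1) * (B.ι p1)⁻¹ := by group
  rw [e]
  exact mul_mem (mul_mem ⟨p2, rfl⟩ this) (inv_mem ⟨p1, rfl⟩)

/-- Every element of `P` has a representative fixing `e0`. -/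
theorem exists_rep (x : P) : ∃ g : S4, Matrix.mulVec g.1 e0 = e0 ∧ mk g = x.1 := by
  obtain ⟨g, hg, he⟩ := x.2
  rcases hg with hg | hg
  · exact ⟨g, hg, he⟩
  · let n : S4 := ⟨-1, by rw [Matrix.det_neg, Matrix.det_one, Fintype.card_fin]; norm_num⟩
    refine ⟨n * g, ?_, ?_⟩
    · rw [Matrix.SpecialLinearGroup.coe_mul, ← Matrix.mulVec_mulVec, hg]
      simp [n, Matrix.neg_mulVec, Matrix.mulVec_neg]
    · have hn : n ∈ center S4 := by
        rw [Subgroup.mem_center_iff]
        intro a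
        apply Subtype.ext
        show a.1 * (-1) = (-1) * a.1
        simp
      rw [map_mul, he, show mk n = 1 from (QuotientGroup.eq_one_iff n).2 hn, one_mul]

/-- Two representatives fixing `e0` of one element are equal. -/
theorem rep_unique {g k : S4} (hg : Matrix.mulVec g.1 e0 = e0) (hk : Matrix.mulVec k.1 e0 = e0)
    (h : mk g = mk k) : g = k := by
  have hc : k⁻¹ * g ∈ center S4 := QuotientGroup.eq.1 h.symm
  obtain ⟨r, -, hr⟩ := Matrix.SpecialLinearGroup.mem_center_iff.1 hc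
  have hg' : g.1 = k.1 * Matrix.scalar (Fin 4) r := by
    rw [hr, ← Matrix.SpecialLinearGroup.coe_mul, mul_inv_cancel_left]
  have h0 : r = 1 := by
    have h1 := congrFun hg 0
    rw [hg', ← Matrix.mulVec_mulVec,
      show Matrix.mulVec (Matrix.scalar (Fin 4) r) e0 = r • e0 by
        ext i; simp [Matrix.scalar_apply, Matrix.mulVec_diagonal],
      Matrix.mulVec_smul, hk] at h1
    simpa [e0] using h1
  apply Subtype.ext
  rw [hg', h0, map_one, mul_one]

/-- A commuting pair in `P` has commuting representatives. -/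
theorem rep_comm {g k : S4} (hg : Matrix.mulVec g.1 e0 = e0) (hk : Matrix.mulVec k.1 e0 = e0)
    (h : mk g * mk k = mk k * mk g) : g * k = k * g :=
  rep_unique
    (by rw [Matrix.SpecialLinearGroup.coe_mul, ← Matrix.mulVec_mulVec, hk, hg])
    (by rw [Matrix.SpecialLinearGroup.coe_mul, ← Matrix.mulVec_mulVec, hg, hk])
    (by rw [map_mul, map_mul, h])

theorem isConj_of_rep {d : P} {g k : S4} (hg : Matrix.mulVec g.1 e0 = e0) (hk : d.1 = mk k)
    (h : qS 0 0 1 0 0 * g = g * k) : IsConj zP d := by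
  refine isConj_iff.2 ⟨⟨mk g, ⟨g, Or.inl hg, rfl⟩⟩⁻¹, ?_⟩
  apply Subtype.ext
  show (mk g)⁻¹ * mk (qS 0 0 1 0 0) * (mk g)⁻¹⁻¹ = d.1
  rw [inv_inv, hk, mul_assoc, ← map_mul, h, map_mul, inv_mul_cancel_left]

section Abstract

variable {X : Type u} [Group X] [Finite X] {H : Subgroup X} {D : Set X}

omit [Finite X] in
/-- Elements moving the good element `d` into `H` are in `H`; hence normalisers stay inside. -/
theorem normalizer_le (hK : ∀ x : X, ∀ d ∈ D, x * d * x⁻¹ ∈ H → x ∈ H) {K : Subgroup X}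
    (hKH : K ≤ H) {d : X} (hd : d ∈ D) (hdK : d ∈ K) : normalizer (K : Set X) ≤ H :=
  fun x hx => hK x d hd (hKH ((Subgroup.mem_set_normalizer_iff.1 hx d).1 hdK))

/-- A 3-subgroup which is all of a 3-overgroup's part in its normaliser is maximal. -/
theorem eq_of_pGroup {K S : Subgroup X} (hKS : K ≤ S) (hS : IsPGroup 3 S)
    (hN : ∀ x ∈ S, x ∈ normalizer (K : Set X) → x ∈ K) : S = K := by
  haveI : Fact (Nat.Prime 3) := ⟨Nat.prime_three⟩
  haveI := hS.isNilpotent
  by_contra h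
  have hlt : K.subgroupOf S < ⊤ := lt_top_iff_ne_top.2 fun e =>
    h (le_antisymm (Subgroup.subgroupOf_eq_top.1 e) hKS)
  obtain ⟨y, hy, hyK⟩ := SetLike.exists_of_lt
    (normalizerCondition_of_isNilpotent (G := S) _ hlt)
  refine hyK (Subgroup.mem_subgroupOf.2 (hN _ y.2 ?_))
  rw [Subgroup.mem_set_normalizer_iff]
  intro n
  constructor
  · intro hn
    exact ((Subgroup.mem_set_normalizer_iff.1 hy ⟨n, hKS hn⟩).1 hn :)
  · intro hn
    have hnS : n ∈ S := by
      have := mul_mem (mul_mem (inv_mem y.2) (hKS hn)) y.2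
      simpa [mul_assoc] using this
    exact ((Subgroup.mem_set_normalizer_iff.1 hy ⟨n, hnS⟩).2 hn :)

/-- **The local step.** -/
theorem le_of_abelian_meet (hK : ∀ x : X, ∀ d ∈ D, x * d * x⁻¹ ∈ H → x ∈ H)
    {Y K A : Subgroup X} (hYH : Y ⊓ H = K) (hKc : IsMulCommutative K) (hKp : IsPGroup 3 K)
    {d : X} (hd : d ∈ D) (hdK : d ∈ K) [IsMulCommutative A] (hAc : ¬ IsCyclic A)
    (hAp : IsPGroup 3 A) (hAD : ∀ a ∈ A, a ≠ 1 → a ∈ D)
    (hAH : A ≤ H) (hAY : A ≤ normalizer (Y : Set X)) : Y ≤ H := by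
  haveI : Fact (Nat.Prime 3) := ⟨Nat.prime_three⟩
  have hKY : K ≤ Y := hYH ▸ inf_le_left
  have hKH : K ≤ H := hYH ▸ inf_le_right
  have hNK : ∀ x ∈ Y, x ∈ normalizer (K : Set X) → x ∈ K := fun x hx hn =>
    hYH ▸ ⟨hx, normalizer_le hK hKH hd hdK hn⟩
  obtain ⟨S₀, hS₀⟩ := IsPGroup.exists_le_sylow (G := Y)
    (hKp.of_equiv (Subgroup.subgroupOfEquivOfLe hKY).symm)
  have hSK : (S₀ : Subgroup Y).map Y.subtype = K := by
    refine eq_of_pGroup (fun x hx => ⟨⟨x, hKY hx⟩, hS₀ hx, rfl⟩) (S₀.2.map _) fun x hx hn => ?_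
    obtain ⟨y, -, rfl⟩ := hx
    exact hNK _ y.2 hn
  have hS0 : (S₀ : Subgroup Y) = K.subgroupOf Y := by
    refine le_antisymm (fun y hy => ?_) hS₀
    rw [Subgroup.mem_subgroupOf, ← hSK]
    exact ⟨y, hy, rfl⟩
  have hP : normalizer ((S₀ : Subgroup Y) : Set Y) ≤ centralizer ((S₀ : Subgroup Y) : Set Y) := by
    intro y hy
    have hy' : y ∈ (S₀ : Subgroup Y) := by
      rw [hS0]
      refine hNK y.1 y.2 ?_
      rw [Subgroup.mem_set_normalizer_iff]
      intro n
      rw [hS0] at hy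
      constructor
      · intro hn
        exact ((Subgroup.mem_set_normalizer_iff.1 hy ⟨n, hKY hn⟩).1 hn :)
      · intro hn
        have hnY : n ∈ Y := by
          have := mul_mem (mul_mem (inv_mem y.2) (hKY hn)) y.2
          simpa [mul_assoc] using this
        exact ((Subgroup.mem_set_normalizer_iff.1 hy ⟨n, hnY⟩).2 hn :)
    rw [Subgroup.mem_centralizer_iff]
    intro b hb
    rw [hS0] at hy' hb
    apply Subtype.ext
    have h := congrArg Subtype.val (hKc.is_comm.comm (⟨b.1, hb⟩ : K) ⟨y.1, hy'⟩)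
    exact h
  have hcompl := MonoidHom.ker_transferSylow_isComplement' S₀ hP
  set O : Subgroup Y := (MonoidHom.transferSylow S₀ hP).ker with hO
  have hndvd := MonoidHom.not_dvd_card_ker_transferSylow S₀ hP
  rw [← hO] at hndvd
  -- the complement consists of the elements of order prime to three
  have hmem : ∀ y : Y, y ∈ O ↔ ¬ 3 ∣ orderOf y := by
    intro y
    constructor
    · intro hy h3
      apply hndvd
      have := Subgroup.orderOf_mk y hy
      exact h3.trans (this ▸ orderOf_dvd_natCard (⟨y, hy⟩ : O))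
    · intro h3
      rw [hO, MonoidHom.mem_ker]
      obtain ⟨n, hn⟩ := IsPGroup.iff_orderOf.1 S₀.2 (MonoidHom.transferSylow S₀ hP y)
      have h1 : orderOf (MonoidHom.transferSylow S₀ hP y) ∣ orderOf y := orderOf_map_dvd _ y
      rcases n with _ | n
      · rwa [pow_zero, orderOf_eq_one_iff] at hn
      · exact absurd ((dvd_pow_self 3 n.succ_ne_zero).trans (hn ▸ h1)) h3
  set OX := O.map Y.subtype
  have hAO : A ≤ normalizer (OX : Set X) := by
    have fwd : ∀ a ∈ A, ∀ n ∈ OX, a * n * a⁻¹ ∈ OX := by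
      rintro a ha _ ⟨y, hy, rfl⟩
      have hy' := (Subgroup.mem_set_normalizer_iff.1 (hAY ha) (y : X)).1 y.2
      refine ⟨⟨_, hy'⟩, (hmem _).2 ?_, rfl⟩
      rw [← Subgroup.orderOf_coe]
      show ¬ 3 ∣ orderOf (a * (y : X) * a⁻¹)
      rw [show a * (y : X) * a⁻¹ = MulAut.conj a (y : X) from rfl, MulEquiv.orderOf_eq,
        Subgroup.orderOf_coe]
      exact (hmem y).1 hy
    intro a ha
    rw [Subgroup.mem_set_normalizer_iff]
    intro n
    refine ⟨fwd a ha n, fun hn => ?_⟩
    simpa [mul_assoc] using fwd a⁻¹ (inv_mem ha) _ hn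
  have hcardO : Nat.card OX = Nat.card O := Subgroup.card_map_of_injective Y.subtype_injective
  have hcop : (Nat.card A).Coprime (Nat.card OX) := by
    obtain ⟨n, hn⟩ := IsPGroup.iff_card.1 hAp
    rw [hn, hcardO]
    exact Nat.Coprime.pow_left _ ((Nat.prime_three.coprime_iff_not_dvd).2 hndvd)
  have hOH : OX ≤ H := CfsgLib.Coprime.le_of_centralizer_le_of_not_isCyclic hAc hAO hcop
    fun a ha ha1 x hx => hK x a (hAD a ha ha1) (by
      rw [Subgroup.mem_centralizer_singleton_iff.1 hx.2, mul_inv_cancel_right]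
      exact hAH ha)
  have hObot : O = ⊥ := by
    rw [eq_bot_iff]
    intro y hy
    have hyS : y ∈ (S₀ : Subgroup Y) := by
      rw [hS0, Subgroup.mem_subgroupOf, ← hYH]
      exact ⟨y.2, hOH ⟨y, hy, rfl⟩⟩
    exact Subgroup.disjoint_def.1 hcompl.disjoint hy hyS
  rw [hObot, Subgroup.isComplement'_bot_left, hS0] at hcompl
  intro x hx
  have : (⟨x, hx⟩ : Y) ∈ K.subgroupOf Y := hcompl ▸ Subgroup.mem_top _
  exact hKH this

end Abstract

end CfsgLib.L43Three.CentA
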