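import Cfsg.Agent.Lib.L43Three.CentABase

/-!
# The centralizer of `x₂₄` in the parabolic subgroup (S3373, case A)

Coordinates `(b, c, j, d, i, t)` for this group of order 486 and the embedding.
-/

set_option autoImplicit false
set_option maxRecDepth 100000
set_option maxHeartbeats 1000000

namespace CfsgLib.L43Three.CentA

/-- The sign of the coordinates. -/
def sv : Bool → ZMod 3
  | false => 1
  | true => -1

theorem sv_xor : ∀ s t : Bool, sv (xor s t) = sv s * sv t := by decide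
theorem sv_sq : ∀ t : Bool, sv t * sv t = 1 := by decide

/-- Coordinates of the centralizer of `x₂₄`. -/
@[ext] structure V where
  b : ZMod 3
  c : ZMod 3
  j : ZMod 3
  d : ZMod 3
  i : ZMod 3
  t : Bool
deriving DecidableEq

/-- The coordinates as a tuple. -/
def equivV : V ≃ ZMod 3 × ZMod 3 × ZMod 3 × ZMod 3 × ZMod 3 × Bool where
  toFun x := (x.b, x.c, x.j, x.d, x.i, x.t)
  invFun v := ⟨v.1, v.2.1, v.2.2.1, v.2.2.2.1, v.2.2.2.2.1, v.2.2.2.2.2⟩
  left_inv _ := rfl
  right_inv _ := rfl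

instance : Fintype V := Fintype.ofEquiv _ equivV.symm

instance : Mul V := ⟨fun x y =>
  ⟨y.b + x.b, y.c + x.b * y.i + x.c * sv y.t, sv x.t * y.j + x.j,
    sv x.t * y.d + x.j * y.i + x.d * sv y.t, y.i + x.i * sv y.t, xor x.t y.t⟩⟩
instance : One V := ⟨⟨0, 0, 0, 0, 0, false⟩⟩
instance : Inv V := ⟨fun x =>
  ⟨-x.b, x.b * x.i * sv x.t - x.c * sv x.t, -(sv x.t * x.j), x.j * x.i - x.d,
    -(x.i * sv x.t), x.t⟩⟩

theorem mulV_def (x y : V) : x * y =
    ⟨y.b + x.b, y.c + x.b * y.i + x.c * sv y.t, sv x.t * y.j + x.j,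
      sv x.t * y.d + x.j * y.i + x.d * sv y.t, y.i + x.i * sv y.t, xor x.t y.t⟩ := rfl

theorem invV_def (x : V) : x⁻¹ =
    ⟨-x.b, x.b * x.i * sv x.t - x.c * sv x.t, -(sv x.t * x.j), x.j * x.i - x.d,
      -(x.i * sv x.t), x.t⟩ := rfl

instance : Group V :=
  Group.ofLeftAxioms
    (fun x y z => by
      ext <;> simp only [mulV_def, sv_xor] <;> first | ring1 | exact Bool.xor_assoc _ _ _)
    (by decide +kernel)
    (by decide +kernel)

/-- The matrix. -/
def matV (x : V) : Matrix (Fin 4) (Fin 4) (ZMod 3) :=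
  !![1, 0, x.b, x.c; 0, sv x.t, x.j, x.d; 0, 0, 1, x.i; 0, 0, 0, sv x.t]

theorem det_matV (x : V) : (matV x).det = 1 := by
  rw [Matrix.det_succ_column_zero]
  simp [matV, Fin.sum_univ_four, Matrix.det_fin_three, Fin.succAbove]
  exact sv_sq _

/-- The embedding in `SL₄(3)`. -/
def sV (x : V) : S4 := ⟨matV x, det_matV x⟩

theorem sV_mul (x y : V) : sV (x * y) = sV x * sV y := by
  apply Subtype.ext
  rw [Matrix.SpecialLinearGroup.coe_mul]
  ext i j
  fin_cases i <;> fin_cases j <;>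
    simp [sV, matV, mulV_def, sv_xor, Matrix.mul_apply, Fin.sum_univ_four] <;> ring

theorem sV_e0 (x : V) : Matrix.mulVec (sV x).1 e0 = e0 := by
  ext i
  fin_cases i <;> simp [sV, matV, e0, Matrix.mulVec, dotProduct, Fin.sum_univ_four]

/-- The embedding in `P`. -/
def ρV : V →* P :=
  MonoidHom.mk' (fun x => ⟨mk (sV x), sV x, Or.inl (sV_e0 x), rfl⟩) fun x y =>
    Subtype.ext (by show mk (sV (x * y)) = mk (sV x) * mk (sV y); rw [sV_mul, map_mul])

theorem ρV_injective : Function.Injective ρV := fun x y h => by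
  have h1 := congrArg (fun g : S4 => g.1)
    (rep_unique (sV_e0 x) (sV_e0 y) (congrArg Subtype.val h))
  have hE := fun i j => congrFun (congrFun h1 i) j
  ext
  · simpa [sV, matV] using hE 0 2
  · simpa [sV, matV] using hE 0 3
  · simpa [sV, matV] using hE 1 2
  · simpa [sV, matV] using hE 1 3
  · simpa [sV, matV] using hE 2 3
  · have h2 : sv x.t = sv y.t := by simpa [sV, matV] using hE 3 3
    revert h2
    cases x.t <;> cases y.t <;> decide

/-- The central element. -/
def tV : V := ⟨0, 0, 0, 1, 0, false⟩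
/-- The involution. -/
def uV : V := ⟨0, 0, 0, 0, 0, true⟩
/-- A translation of the plane. -/
def trV (b c : ZMod 3) : V := ⟨b, c, 0, 0, 0, false⟩

theorem ρV_tV : ρV tV = qP 0 0 0 1 0 := by
  apply Subtype.ext
  show mk (sV tV) = mk (qS 0 0 0 1 0)
  congr 1

theorem tV_central : ∀ x : V, tV * x = x * tV := by decide +kernel

theorem exists_ρV (x : P) (h : x * qP 0 0 0 1 0 = qP 0 0 0 1 0 * x) : ∃ y : V, ρV y = x := by
  obtain ⟨g, hg, hgx⟩ := exists_rep x
  have hc : g * qS 0 0 0 1 0 = qS 0 0 0 1 0 * g :=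
    rep_comm hg (by ext i; fin_cases i <;>
      simp [qS, qM, e0, Matrix.mulVec, dotProduct, Fin.sum_univ_four]) (by
      rw [hgx]
      exact congrArg Subtype.val h)
  have h0 := congrFun hg
  have g00 : g.1 0 0 = 1 := by simpa [Matrix.mulVec, dotProduct, Fin.sum_univ_four, e0] using h0 0
  have g10 : g.1 1 0 = 0 := by simpa [Matrix.mulVec, dotProduct, Fin.sum_univ_four, e0] using h0 1
  have g20 : g.1 2 0 = 0 := by simpa [Matrix.mulVec, dotProduct, Fin.sum_univ_four, e0] using h0 2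
  have g30 : g.1 3 0 = 0 := by simpa [Matrix.mulVec, dotProduct, Fin.sum_univ_four, e0] using h0 3
  have hM : g.1 * qM 0 0 0 1 0 = qM 0 0 0 1 0 * g.1 := congrArg Subtype.val hc
  have hE := fun i j => congrFun (congrFun hM i) j
  have E03 := hE 0 3
  have E11 := hE 1 1
  have E12 := hE 1 2
  have E13 := hE 1 3
  have E23 := hE 2 3
  simp [qM, Matrix.mul_apply, Fin.sum_univ_four] at E03 E11 E12 E13 E23
  have g01 : g.1 0 1 = 0 := by linear_combination E03
  have g31 : g.1 3 1 = 0 := by linear_combination E11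
  have g32 : g.1 3 2 = 0 := by linear_combination E12
  have g21 : g.1 2 1 = 0 := by linear_combination E23
  have g33 : g.1 3 3 = g.1 1 1 := by linear_combination -E13
  have hdet := g.2
  rw [Matrix.det_succ_column_zero] at hdet
  simp [Fin.sum_univ_four, Matrix.det_fin_three, Fin.succAbove, g00, g10, g20, g30, g21, g31, g32,
    g33] at hdet
  obtain ⟨t, ht, hs⟩ : ∃ t : Bool, sv t = g.1 1 1 ∧ g.1 2 2 = 1 := by
    generalize g.1 1 1 = s at hdet
    generalize g.1 2 2 = r at hdet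
    revert s r
    decide
  refine ⟨⟨g.1 0 2, g.1 0 3, g.1 1 2, g.1 1 3, g.1 2 3, t⟩, Subtype.ext ?_⟩
  show mk (sV _) = x.1
  rw [← hgx]
  congr 1
  apply Subtype.ext
  ext i j
  fin_cases i <;> fin_cases j <;>
    simp [sV, matV, g00, g10, g20, g30, g01, g21, g31, g32, g33, hs, ht]

/-- A matrix taking the last unit vector to `(0, b, c)`. -/
def trN (b c : ZMod 3) : Matrix (Fin 4) (Fin 4) (ZMod 3) :=
  if c = 0 then !![1, 0, 0, 0; 0, 1, 0, 0; 0, 0, 0, -b; 0, 0, b, 0]
  else !![1, 0, 0, 0; 0, 1, 0, 0; 0, 0, c, 0; 0, 0, b, c]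

theorem trV_tr (b c : ZMod 3) (h : b ≠ 0 ∨ c ≠ 0) : IsConj zP (ρV (trV b c)) := by
  have hd : (trN b c).det = 1 := by
    rw [Matrix.det_succ_column_zero]
    simp [trN, Fin.sum_univ_four, Matrix.det_fin_three, Fin.succAbove, apply_ite]
    revert b c
    decide
  refine isConj_of_rep (g := ⟨trN b c, hd⟩) (k := sV (trV b c)) ?_ rfl (Subtype.ext ?_)
  · ext i
    fin_cases i <;> (simp only [trN]; split_ifs) <;>
      simp [e0, Matrix.mulVec, dotProduct, Fin.sum_univ_four]
  · show qM 0 0 1 0 0 * trN b c = trN b c * matV (trV b c)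
    revert h
    revert b c
    decide +kernel

end CfsgLib.L43Three.CentA
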