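import Cfsg.Agent.Lib.L43Three.CentAWModel

/-!
# Three virtual characters of norm three on the model of order 486 (S3373, case A)

Values are written as pairs `(A, B)` standing for `A + Bω`, so that all sums are checked in `ℤ`.
-/

set_option autoImplicit false
set_option maxRecDepth 100000
set_option maxHeartbeats 1000000
set_option linter.style.haveILetI false

namespace CfsgLib.L43Three.CentA

open Cfsg CfsgLib CfsgLib.ThreeLocalChars
open scoped ComplexConjugate

variable {e : Bool}

/-- The value of a pair. -/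
noncomputable def ev : ℤ × ℤ →+ ℂ where
  toFun v := (v.1 : ℂ) + (v.2 : ℂ) * cubeRoot
  map_zero' := by simp
  map_add' a b := by simp; ring

/-- The product of a pair with the conjugate of a pair. -/
def ip (v w : ℤ × ℤ) : ℤ × ℤ :=
  (v.1 * w.1 - v.1 * w.2 + v.2 * w.2, v.2 * w.1 - v.1 * w.2)

theorem ev_ip (v w : ℤ × ℤ) : ev v * conj (ev w) = ev (ip v w) := by
  simp only [ev, ip, AddMonoidHom.coe_mk, ZeroHom.coe_mk, map_add, map_mul, map_intCast,
    conj_cubeRoot]
  push_cast
  linear_combination (-(v.2 : ℂ) * w.2) * cubeRoot_sq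

/-- Powers of `ω`. -/
def zp (k : ZMod 3) : ℤ × ℤ := if k = 0 then (1, 0) else if k = 1 then (0, 1) else (-1, -1)

theorem ev_zp (k : ZMod 3) : ev (zp k) = zpow3 k := by
  rcases zmod3_cases k with rfl | rfl | rfl
  · simp [ev, zp, zpow3]
  · simp [ev, zp, zpow3, show (1 : ZMod 3).val = 1 from rfl, show (1 : ZMod 3) ≠ 0 by decide]
  · simp [ev, zp, zpow3, show (2 : ZMod 3).val = 2 from rfl, show (2 : ZMod 3) ≠ 0 by decide,
      show (2 : ZMod 3) ≠ 1 by decide]
    linear_combination -cubeRoot_sq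

theorem ev_one : ev (1, 0) = 1 := by simp [ev]

/-- The invariant. -/
def κ (x : W e) : ZMod 3 := x.a - sg e * sg x.t * x.u

theorem card_W (e : Bool) : Fintype.card (W e) = 486 := by
  rw [Fintype.card_congr (equivW e)]
  simp

theorem classInner_ev (u v : W e → ℤ × ℤ) (n : ℤ)
    (h : ∑ x, ip (u x) (v x) = (486 * n, 0)) :
    classInner (fun x => ev (u x)) (fun x => ev (v x)) = (n : ℂ) := by
  simp only [classInner, ev_ip, ← map_sum, h, Nat.card_eq_fintype_card, card_W]
  simp [ev]

/-- `{p = 0}` -/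
def JW (e : Bool) : Subgroup (W e) where
  carrier := {x | x.p = 0}
  one_mem' := rfl
  mul_mem' := fun {x y} (hx : x.p = 0) (hy : y.p = 0) => by
    show y.p + x.p * sg y.t = 0
    rw [hx, hy, zero_mul, add_zero]
  inv_mem' := fun {x} (hx : x.p = 0) => by
    show -(x.p * sg x.t) = 0
    rw [hx, zero_mul, neg_zero]

/-- `{t = false}` -/
def RW' (e : Bool) : Subgroup (W e) where
  carrier := {x | x.t = false}
  one_mem' := rfl
  mul_mem' := fun {x y} (hx : x.t = false) (hy : y.t = false) => by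
    show xor x.t y.t = false
    rw [hx, hy]
    rfl
  inv_mem' := fun {_} hx => hx

instance (x : W e) : Decidable (x ∈ JW e) := decidable_of_iff (x.p = 0) Iff.rfl
instance (x : W e) : Decidable (x ∈ RW' e) := decidable_of_iff (x.t = false) Iff.rfl

/-- The linear character `ω ^ h` of a homomorphism `h`. -/
noncomputable def linW {K : Subgroup (W e)} (h : W e → ZMod 3) (h1 : h 1 = 0)
    (hm : ∀ x ∈ K, ∀ y ∈ K, h (x * y) = h x + h y) : K →* ℂˣ :=
  MonoidHom.toHomUnits
    { toFun := fun x => zpow3 (h x)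
      map_one' := by rw [OneMemClass.coe_one, h1, zpow3_zero]
      map_mul' := fun x y => by rw [Subgroup.coe_mul, hm x x.2 y y.2, zpow3_add] }

/-- The induced character of `ω ^ h`, computed on eighteen cosets. -/
theorem indFun_linW {K : Subgroup (W e)} [DecidablePred (· ∈ K)] (N : ℕ) (hN : Nat.card K = 27 * N)
    (h : W e → ZMod 3) (h1 : h 1 = 0) (hm : ∀ x ∈ K, ∀ y ∈ K, h (x * y) = h x + h y)
    (C : W e → ZMod 3 → ZMod 3 → Bool → ℤ × ℤ) (V : W e → ℤ × ℤ)
    (hC : ∀ g x, (if x⁻¹ * g * x ∈ K then zp (h (x⁻¹ * g * x)) else 0) = C g x.p x.q x.t)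
    (hV : ∀ g, ∑ p, ∑ q, ∑ t, C g p q t = N • V g) :
    IsCharacter (W e) (fun g => ev (V g)) := by
  have hlin : IsCharacter K (fun x => ((linW h h1 hm x : ℂˣ) : ℂ)) :=
    Chars.isCharacter_of_irr (Chars.isIrrCharacter_linear _)
  have hind := Chars.isCharacter_indFun K hlin
  convert hind using 1
  funext g
  rw [Chars.indFun_apply]
  have e1 : ∀ x : W e, extendByZero K (fun y => ((linW h h1 hm y : ℂˣ) : ℂ)) (x⁻¹ * g * x) =
      ev (C g x.p x.q x.t) := by
    intro x
    rw [← hC]
    by_cases hx : x⁻¹ * g * x ∈ K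
    · rw [Chars.extendByZero_of_mem K _ hx, if_pos hx, ev_zp]
      rfl
    · rw [Chars.extendByZero_of_not_mem K _ hx, if_neg hx, map_zero]
  rw [Finset.sum_congr rfl fun x _ => e1 x, ← map_sum]
  have e2 : ∑ x : W e, C g x.p x.q x.t = 27 • ∑ p, ∑ q, ∑ t, C g p q t := by
    rw [Fintype.sum_equiv (equivW e) (fun x : W e => C g x.p x.q x.t)
      (fun v => C g v.2.2.1 v.2.2.2.1 v.2.2.2.2.2) fun x => rfl]
    simp only [Fintype.sum_prod_type, Finset.sum_const, Finset.card_univ, ZMod.card]
    simp only [Finset.smul_sum, smul_smul, Nat.reduceMul]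
  rw [e2, hV, map_nsmul, map_nsmul, hN]
  have : (N : ℂ) ≠ 0 := by
    intro h0
    have : N = 0 := by exact_mod_cast h0
    rw [this, mul_zero] at hN
    exact Nat.card_pos.ne' hN
  simp only [nsmul_eq_mul, Nat.cast_mul, Nat.cast_ofNat]
  field_simp

theorem conj_p (g x : W e) : (x⁻¹ * g * x).p = x.p * (1 - sg g.t) + g.p * sg x.t := by
  obtain ⟨ga, gc, gp, gq, gu, gt⟩ := g
  obtain ⟨xa, xc, xp, xq, xu, xt⟩ := x
  cases gt <;> cases xt <;> simp [mul_def, inv_def, sg] <;> ring

theorem conj_q (g x : W e) :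
    (x⁻¹ * g * x).q = sg x.t * (g.q + (sg g.t - 1) * x.q) := by
  obtain ⟨ga, gc, gp, gq, gu, gt⟩ := g
  obtain ⟨xa, xc, xp, xq, xu, xt⟩ := x
  cases gt <;> cases xt <;> simp [mul_def, inv_def, sg] <;> ring

theorem conj_κ (g x : W e) :
    κ (x⁻¹ * g * x) = g.a + sg e * g.p * x.q
      - sg e * x.p * (sg x.t * (g.q + (sg g.t - 1) * x.q))
      - sg e * sg g.t * (sg x.t * g.q * x.p + g.u
        - sg x.t * x.q * (x.p * (1 - sg g.t) + g.p * sg x.t)) := by
  obtain ⟨ga, gc, gp, gq, gu, gt⟩ := g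
  obtain ⟨xa, xc, xp, xq, xu, xt⟩ := x
  cases gt <;> cases xt <;> simp [κ, mul_def, inv_def, sg] <;> ring

theorem conj_t (g x : W e) : (x⁻¹ * g * x).t = g.t := by
  show xor (xor x.t g.t) x.t = g.t
  cases x.t <;> cases g.t <;> rfl

/-- The sign character. -/
def sN (x : W e) : ℤ × ℤ := if x.t then (-1, 0) else (1, 0)
/-- The character of degree three. -/
def φN (x : W e) : ℤ × ℤ :=
  if x.t then zp (κ x) else if x.p = 0 ∧ x.q = 0 then 3 • zp (κ x) else 0
/-- A character of degree two. -/
def ψN (h : W e → ZMod 3) (x : W e) : ℤ × ℤ := if x.t then 0 else zp (h x) + zp (-h x)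

theorem isCharacter_φN : IsCharacter (W e) (fun g => ev (φN g)) :=
  indFun_linW (K := JW e) 6 (by rw [Nat.card_eq_fintype_card]; cases e <;> decide +kernel) κ
    (show (0 : ZMod 3) - sg e * sg false * 0 = 0 by ring)
    (fun x (hx : x.p = 0) y (hy : y.p = 0) => by
      obtain ⟨xa, xc, xp, xq, xu, xt⟩ := x
      obtain ⟨ya, yc, yp, yq, yu, yt⟩ := y
      subst hx hy
      cases xt <;> cases yt <;> simp [κ, mul_def, sg] <;> ring)
    (fun g p q t => if p * (1 - sg g.t) + g.p * sg t = 0 then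
      zp (g.a + sg e * g.p * q - sg e * p * (sg t * (g.q + (sg g.t - 1) * q))
        - sg e * sg g.t * (sg t * g.q * p + g.u - sg t * q * (p * (1 - sg g.t) + g.p * sg t)))
      else 0) φN
    (fun g x => by
      rw [conj_κ]
      exact if_congr (by rw [← conj_p]; rfl) rfl rfl)
    (by cases e <;> decide +kernel)

theorem isCharacter_ψN_q : IsCharacter (W e) (fun g => ev (ψN (fun x => x.q) g)) :=
  indFun_linW (K := RW' e) 9 (by rw [Nat.card_eq_fintype_card]; cases e <;> decide +kernel)
    (fun x => x.q) rfl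
    (fun x (hx : x.t = false) y _ => by simp [mul_def, hx, sg])
    (fun g p q t => if g.t = false then zp (sg t * (g.q + (sg g.t - 1) * q)) else 0) _
    (fun g x => by
      simp only [conj_q]
      exact if_congr (by rw [← conj_t g x]; rfl) rfl rfl)
    (by cases e <;> decide +kernel)

theorem isCharacter_ψN_p : IsCharacter (W e) (fun g => ev (ψN (fun x => x.p) g)) :=
  indFun_linW (K := RW' e) 9 (by rw [Nat.card_eq_fintype_card]; cases e <;> decide +kernel)
    (fun x => x.p) rfl
    (fun x _ y (hy : y.t = false) => by simp [mul_def, hy, sg]; ring)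
    (fun g p q t => if g.t = false then zp (p * (1 - sg g.t) + g.p * sg t) else 0) _
    (fun g x => by
      simp only [conj_p]
      exact if_congr (by rw [← conj_t g x]; rfl) rfl rfl)
    (by cases e <;> decide +kernel)

theorem isCharacter_sN : IsCharacter (W e) (fun g => ev (sN g)) := by
  let s : W e →* ℂ :=
    { toFun := fun x => if x.t then -1 else 1
      map_one' := rfl
      map_mul' := fun x y => by
        show (if xor x.t y.t then (-1 : ℂ) else 1) = _
        cases x.t <;> cases y.t <;> simp }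
  have h := Chars.isCharacter_of_irr (Chars.isIrrCharacter_linear s.toHomUnits)
  convert h using 1
  funext g
  show ev (sN g) = if g.t then (-1 : ℂ) else 1
  unfold sN
  cases g.t <;> simp [ev]

/-- The first virtual character. -/
def fN (x : W e) : ℤ × ℤ := if x.t = false ∧ x.q ≠ 0 then (3, 0) else 0
/-- The second virtual character. -/
def gN (x : W e) : ℤ × ℤ :=
  if x.t then (1, 0) - zp (κ x)
  else if x.p = 0 then (if x.q = 0 then (3, 0) - 3 • zp (κ x) else (3, 0)) else 0
/-- The third virtual character. -/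
def hN (x : W e) : ℤ × ℤ := if x.t then zp (κ x) - (1, 0) else gN x

theorem isGen_fN : IsGeneralizedCharacter (W e) (fun g => ev (fN g)) := by
  refine ⟨_, _, Chars.isCharacter_add Chars.isCharacter_one (isCharacter_sN (e := e)),
    isCharacter_ψN_q, ?_⟩
  funext g
  have h : ∀ g : W e, fN g = (1, 0) + sN g - ψN (fun x => x.q) g := by
    cases e <;> decide +kernel
  rw [h, map_sub, map_add, ev_one]
  rfl

theorem isGen_gN : IsGeneralizedCharacter (W e) (fun g => ev (gN g)) := by
  refine ⟨_, _, Chars.isCharacter_add Chars.isCharacter_one (isCharacter_ψN_p (e := e)),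
    isCharacter_φN, ?_⟩
  funext g
  have h : ∀ g : W e, gN g = (1, 0) + ψN (fun x => x.p) g - φN g := by
    cases e <;> decide +kernel
  rw [h, map_sub, map_add, ev_one]
  rfl

theorem isGen_hN : IsGeneralizedCharacter (W e) (fun g => ev (hN g)) := by
  refine ⟨_, _, Chars.isCharacter_mul (isCharacter_sN (e := e))
    (Chars.isCharacter_add Chars.isCharacter_one isCharacter_ψN_p),
    Chars.isCharacter_mul isCharacter_sN isCharacter_φN, ?_⟩
  funext g
  have h : ∀ g : W e, hN g =
      ip (sN g) (1, 0) + ip (sN g) (ψN (fun x => x.p) g) - (sN g).1 • φN g := by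
    cases e <;> decide +kernel
  have h2 : ∀ g : W e, ip (sN g) (1, 0) = sN g ∧
      ip (sN g) (ψN (fun x => x.p) g) = (sN g).1 • ψN (fun x => x.p) g ∧ (sN g).2 = 0 := by
    cases e <;> decide +kernel
  obtain ⟨e1, e2, e3⟩ := h2 g
  rw [h, e1, e2, map_sub, map_add, map_zsmul, map_zsmul]
  have es : ev (sN g) = ((sN g).1 : ℂ) := by simp [ev, e3]
  simp only [Pi.sub_apply, Pi.mul_apply, Pi.add_apply, zsmul_eq_mul, es]
  ring

/-- The support. -/
def Supp (x : W e) : Prop :=
  if x.t then κ x ≠ 0 else x.q ≠ 0 ∨ (x.p = 0 ∧ κ x ≠ 0)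

instance (x : W e) : Decidable (Supp x) := by unfold Supp; infer_instance

/-- The involutions. -/
def invW (e : Bool) : Finset (W e) := Finset.univ.filter fun x => x.t = true ∧ x * x = 1

theorem supp_spec : ∀ x : W e, (¬ Supp x → fN x = 0 ∧ gN x = 0 ∧ hN x = 0) := by
  cases e <;> decide +kernel

theorem supp_basic : ∀ x : W e, Supp x → x * x ≠ 1 ∧ Supp x⁻¹ := by
  cases e <;> decide +kernel

theorem inner_fN_fN : classInner (fun x : W e => ev (fN x)) (fun x => ev (fN x)) = ((3 : ℤ) : ℂ) :=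
  classInner_ev _ _ 3 (by cases e <;> decide +kernel)

theorem inner_gN_gN : classInner (fun x : W e => ev (gN x)) (fun x => ev (gN x)) = ((3 : ℤ) : ℂ) :=
  classInner_ev _ _ 3 (by cases e <;> decide +kernel)

theorem inner_hN_hN : classInner (fun x : W e => ev (hN x)) (fun x => ev (hN x)) = ((3 : ℤ) : ℂ) :=
  classInner_ev _ _ 3 (by cases e <;> decide +kernel)

theorem inner_fN_gN : classInner (fun x : W e => ev (fN x)) (fun x => ev (gN x)) = ((1 : ℤ) : ℂ) :=
  classInner_ev _ _ 1 (by cases e <;> decide +kernel)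

theorem inner_hN_fN : classInner (fun x : W e => ev (hN x)) (fun x => ev (fN x)) = ((1 : ℤ) : ℂ) :=
  classInner_ev _ _ 1 (by cases e <;> decide +kernel)

theorem inner_hN_gN : classInner (fun x : W e => ev (hN x)) (fun x => ev (gN x)) = ((1 : ℤ) : ℂ) :=
  classInner_ev _ _ 1 (by cases e <;> decide +kernel)

theorem inner_fN_one :
    classInner (fun x : W e => ev (fN x)) (fun _ => ev (1, 0)) = ((1 : ℤ) : ℂ) :=
  classInner_ev _ (fun _ => (1, 0)) 1 (by cases e <;> decide +kernel)

theorem inner_gN_one :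
    classInner (fun x : W e => ev (gN x)) (fun _ => ev (1, 0)) = ((1 : ℤ) : ℂ) :=
  classInner_ev _ (fun _ => (1, 0)) 1 (by cases e <;> decide +kernel)

theorem inner_hN_one :
    classInner (fun x : W e => ev (hN x)) (fun _ => ev (1, 0)) = ((0 : ℤ) : ℂ) :=
  classInner_ev _ (fun _ => (1, 0)) 0 (by cases e <;> decide +kernel)

theorem sums_invW : ∑ x ∈ invW e, ∑ y ∈ invW e, fN (x * y) = (1458, 0) ∧
    ∑ x ∈ invW e, ∑ y ∈ invW e, gN (x * y) = (486, 0) ∧
    ∑ x ∈ invW e, ∑ y ∈ invW e, hN (x * y) = (486, 0) := by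
  cases e <;> decide +kernel

end CfsgLib.L43Three.CentA
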