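import Cfsg.Agent.Lib.L43Three.CentABase
import Cfsg.Agent.Lib.ThreeLocalChars.Tools
import Cfsg.Agent.Lib.Chars.Induction

/-!
# The centralizer of `x₁₂x₃₄^{±1}` in the parabolic subgroup (S3373, case A)

Coordinates `(a, c, p, q, u, t)` for this group of order 486, the embedding, and the three virtual
characters on it.
-/

set_option autoImplicit false
set_option maxRecDepth 100000
set_option maxHeartbeats 1000000
set_option linter.style.haveILetI false

namespace CfsgLib.L43Three.CentA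

open Cfsg CfsgLib
open scoped ComplexConjugate

/-- The sign. -/
def sg : Bool → ZMod 3
  | false => 1
  | true => -1

/-- Coordinates of the centralizer of `qP 1 0 0 0 (sg e)`. -/
@[ext] structure W (e : Bool) where
  a : ZMod 3
  c : ZMod 3
  p : ZMod 3
  q : ZMod 3
  u : ZMod 3
  t : Bool
deriving DecidableEq

variable {e : Bool}

def equivW (e : Bool) : W e ≃ ZMod 3 × ZMod 3 × ZMod 3 × ZMod 3 × ZMod 3 × Bool where
  toFun x := (x.a, x.c, x.p, x.q, x.u, x.t)
  invFun v := ⟨v.1, v.2.1, v.2.2.1, v.2.2.2.1, v.2.2.2.2.1, v.2.2.2.2.2⟩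
  left_inv _ := rfl
  right_inv _ := rfl

instance : Fintype (W e) := Fintype.ofEquiv _ (equivW e).symm

theorem sg_xor : ∀ s t : Bool, sg (xor s t) = sg s * sg t := by decide
theorem sg_sq : ∀ t : Bool, sg t * sg t = 1 := by decide

instance : Mul (W e) := ⟨fun x y =>
  ⟨y.a + x.a + sg e * x.p * y.q, y.c + x.a * y.p + sg e * x.p * y.u + x.c * sg y.t,
    y.p + x.p * sg y.t, x.q + sg x.t * y.q, x.q * y.p + sg x.t * y.u + x.u * sg y.t,
    xor x.t y.t⟩⟩
instance : One (W e) := ⟨⟨0, 0, 0, 0, 0, false⟩⟩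
instance : Inv (W e) := ⟨fun x =>
  ⟨-x.a + sg e * x.p * sg x.t * x.q,
    x.a * x.p * sg x.t - sg e * x.p * (x.q * x.p - x.u) - x.c * sg x.t,
    -(x.p * sg x.t), -(sg x.t * x.q), x.q * x.p - x.u, x.t⟩⟩

theorem mul_def (x y : W e) : x * y =
    ⟨y.a + x.a + sg e * x.p * y.q, y.c + x.a * y.p + sg e * x.p * y.u + x.c * sg y.t,
      y.p + x.p * sg y.t, x.q + sg x.t * y.q, x.q * y.p + sg x.t * y.u + x.u * sg y.t,
      xor x.t y.t⟩ := rfl

theorem inv_def (x : W e) : x⁻¹ =
    ⟨-x.a + sg e * x.p * sg x.t * x.q,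
      x.a * x.p * sg x.t - sg e * x.p * (x.q * x.p - x.u) - x.c * sg x.t,
      -(x.p * sg x.t), -(sg x.t * x.q), x.q * x.p - x.u, x.t⟩ := rfl

instance : Group (W e) :=
  Group.ofLeftAxioms
    (fun x y z => by
      ext <;> simp only [mul_def, sg_xor] <;> first | ring1 | exact Bool.xor_assoc _ _ _)
    (fun x => by revert x; cases e <;> decide +kernel)
    (fun x => by revert x; cases e <;> decide +kernel)

/-- The matrix. -/
def matW (x : W e) : Matrix (Fin 4) (Fin 4) (ZMod 3) :=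
  !![1, x.a, sg e * x.p, x.c; 0, 1, 0, x.p; 0, x.q, sg x.t, x.u; 0, 0, 0, sg x.t]

theorem det_matW (x : W e) : (matW x).det = 1 := by
  rw [Matrix.det_succ_column_zero]
  simp [matW, Fin.sum_univ_four, Matrix.det_fin_three, Fin.succAbove]
  exact sg_sq _

/-- The embedding in `SL₄(3)`. -/
def sW (x : W e) : S4 := ⟨matW x, det_matW x⟩

theorem sW_mul (x y : W e) : sW (x * y) = sW x * sW y := by
  apply Subtype.ext
  rw [Matrix.SpecialLinearGroup.coe_mul]
  ext i j
  fin_cases i <;> fin_cases j <;>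
    simp [sW, matW, mul_def, sg_xor, Matrix.mul_apply, Fin.sum_univ_four] <;> ring

theorem sW_e0 (x : W e) : Matrix.mulVec (sW x).1 e0 = e0 := by
  ext i
  fin_cases i <;> simp [sW, matW, e0, Matrix.mulVec, dotProduct, Fin.sum_univ_four]

/-- The embedding in `P`. -/
def ρW (e : Bool) : W e →* P :=
  MonoidHom.mk' (fun x => ⟨mk (sW x), sW x, Or.inl (sW_e0 x), rfl⟩) fun x y =>
    Subtype.ext (by show mk (sW (x * y)) = mk (sW x) * mk (sW y); rw [sW_mul, map_mul])

theorem ρW_injective : Function.Injective (ρW e) := fun x y h => by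
  have h1 := congrArg (fun g : S4 => g.1)
    (rep_unique (sW_e0 x) (sW_e0 y) (congrArg Subtype.val h))
  have hE := fun i j => congrFun (congrFun h1 i) j
  ext
  · simpa [sW, matW] using hE 0 1
  · simpa [sW, matW] using hE 0 3
  · simpa [sW, matW] using hE 1 3
  · simpa [sW, matW] using hE 2 1
  · simpa [sW, matW] using hE 2 3
  · have h2 : sg x.t = sg y.t := by simpa [sW, matW] using hE 3 3
    revert h2
    cases x.t <;> cases y.t <;> decide

/-- The central element. -/
def wW (e : Bool) : W e := ⟨1, 0, 0, 0, sg e, false⟩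
/-- The root element. -/
def zW (e : Bool) : W e := ⟨0, 1, 0, 0, 0, false⟩
/-- The involution `diag (1, 1, -1, -1)`. -/
def uW (e : Bool) : W e := ⟨0, 0, 0, 0, 0, true⟩
/-- A translation of the plane. -/
def trW (e : Bool) (a c : ZMod 3) : W e := ⟨a, c, 0, 0, 0, false⟩

theorem ρW_wW : ρW e (wW e) = qP 1 0 0 0 (sg e) := by
  apply Subtype.ext
  show mk (sW (wW e)) = mk (qS 1 0 0 0 (sg e))
  congr 1

theorem qS_e0 (a b c d k : ZMod 3) : Matrix.mulVec (qS a b c d k).1 e0 = e0 := by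
  ext i
  fin_cases i <;> simp [qS, qM, e0, Matrix.mulVec, dotProduct, Fin.sum_univ_four]

theorem exists_ρW (x : P) (h : x * qP 1 0 0 0 (sg e) = qP 1 0 0 0 (sg e) * x) :
    ∃ y : W e, ρW e y = x := by
  obtain ⟨g, hg, hgx⟩ := exists_rep x
  have hc : g * qS 1 0 0 0 (sg e) = qS 1 0 0 0 (sg e) * g :=
    rep_comm hg (qS_e0 _ _ _ _ _) (by
      rw [hgx]
      exact congrArg Subtype.val h)
  have h0 := congrFun hg
  have g00 : g.1 0 0 = 1 := by simpa [Matrix.mulVec, dotProduct, Fin.sum_univ_four, e0] using h0 0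
  have g10 : g.1 1 0 = 0 := by simpa [Matrix.mulVec, dotProduct, Fin.sum_univ_four, e0] using h0 1
  have g20 : g.1 2 0 = 0 := by simpa [Matrix.mulVec, dotProduct, Fin.sum_univ_four, e0] using h0 2
  have g30 : g.1 3 0 = 0 := by simpa [Matrix.mulVec, dotProduct, Fin.sum_univ_four, e0] using h0 3
  have hM : g.1 * qM 1 0 0 0 (sg e) = qM 1 0 0 0 (sg e) * g.1 := congrArg Subtype.val hc
  have hE := fun i j => congrFun (congrFun hM i) j
  have E01 := hE 0 1
  have E02 := hE 0 2
  have E03 := hE 0 3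
  have E21 := hE 2 1
  have E22 := hE 2 2
  have E23 := hE 2 3
  simp [qM, Matrix.mul_apply, Fin.sum_univ_four, g00, g20] at E01 E02 E03 E21 E22 E23
  have hne : sg e ≠ 0 := by cases e <;> decide
  have hss := sg_sq e
  have g11 : g.1 1 1 = 1 := by linear_combination -E01
  have g12 : g.1 1 2 = 0 := E02
  have g13 : g.1 0 2 = sg e * g.1 1 3 := by
    linear_combination (sg e) * E03 - g.1 0 2 * hss
  have g31 : g.1 3 1 = 0 := E21.resolve_left hne
  have g32 : g.1 3 2 = 0 := E22.resolve_left hne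
  have g33 : g.1 3 3 = g.1 2 2 := by
    apply mul_left_cancel₀ hne
    linear_combination -E23
  have hdet := g.2
  rw [Matrix.det_succ_column_zero] at hdet
  simp [Fin.sum_univ_four, Matrix.det_fin_three, Fin.succAbove, g00, g10, g20, g30, g11, g12, g31,
    g32, g33] at hdet
  have hs : ∃ t : Bool, sg t = g.1 2 2 := by
    generalize g.1 2 2 = s at hdet
    revert s
    decide
  obtain ⟨t, ht⟩ := hs
  refine ⟨⟨g.1 0 1, g.1 0 3, g.1 1 3, g.1 2 1, g.1 2 3, t⟩, Subtype.ext ?_⟩
  show mk (sW _) = x.1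
  rw [← hgx]
  congr 1
  apply Subtype.ext
  ext i j
  fin_cases i <;> fin_cases j <;>
    simp [sW, matW, g00, g10, g20, g30, g11, g12, g13, g31, g32, g33, ht]

/-- A matrix taking the last unit vector to `(a, 0, c)`. -/
def trM (a c : ZMod 3) : Matrix (Fin 4) (Fin 4) (ZMod 3) :=
  if c = 0 then !![1, 0, 0, 0; 0, 0, 0, -a; 0, 0, 1, 0; 0, a, 0, 0]
  else !![1, 0, 0, 0; 0, c, 0, 0; 0, 0, 1, 0; 0, a, 0, c]

theorem trW_tr (a c : ZMod 3) (h : a ≠ 0 ∨ c ≠ 0) : IsConj zP (ρW e (trW e a c)) := by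
  have hd : (trM a c).det = 1 := by
    rw [Matrix.det_succ_column_zero]
    simp [trM, Fin.sum_univ_four, Matrix.det_fin_three, Fin.succAbove, apply_ite]
    revert a c
    decide
  refine isConj_of_rep (g := ⟨trM a c, hd⟩) (k := sW (trW e a c)) ?_ rfl (Subtype.ext ?_)
  · ext i
    fin_cases i <;> (simp only [trM]; split_ifs) <;>
      simp [e0, Matrix.mulVec, dotProduct, Fin.sum_univ_four]
  · show qM 0 0 1 0 0 * trM a c = trM a c * matW (trW e a c)
    revert h
    revert a c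
    cases e <;> decide +kernel

end CfsgLib.L43Three.CentA
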