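import Cfsg.Agent.Lib.L43Three.CentIMaps
import Cfsg.Agent.Lib.Coprime.Action2
import Cfsg.Agent.Lib.Transfer.ThompsonTransfer

/-!
# The centralizer of the involution with eigenvalues `1, 1, -1, -1` (piece CentI of S3373)

Every three-singular centralizer lies in the image, so `W = Q₈ ∘ Q₈` contains every `E`-invariant
three'-subgroup of the centralizer `Y` of `σ`; three applications of Thompson's transfer lemma leave a
normal subgroup meeting the Sylow two-subgroup in `W`, and Burnside's theorem finishes.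
-/

set_option autoImplicit false
set_option maxRecDepth 1000000
set_option linter.unusedSectionVars false

namespace CfsgLib.L43Three.CI

open Subgroup

universe u

variable {G : Type u} [Group G] [Finite G] (X : Full G)

/-- The element of `G` with a given code. -/
def φ (x : Cd) : G := X.ι (toL x)

theorem φ_mul {x y : Cd} (hx : x ∈ allP) (hy : y ∈ allP) (hxy : mulP x y ∈ allP) :
    φ X (mulP x y) = φ X x * φ X y := by rw [φ, φ, φ, ← map_mul, toL_mul hx hy hxy]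

theorem φ_inj {x y : Cd} (hx : x ∈ allP) (hy : y ∈ allP) (h : φ X x = φ X y) : x = y :=
  toL_inj hx hy (X.inj h)

theorem φ_one : φ X oneC = 1 := by rw [φ, toL_one, map_one]

theorem φ_mem (x : Cd) : φ X x ∈ X.ι.range := ⟨_, rfl⟩

theorem φ_s : φ X sC = X.ι i0L := by rw [φ, toL_s]

theorem φ_cj {x y : Cd} (hx : x ∈ allP) (hy : y ∈ allP) (hxy : mulP x y ∈ allP)
    (hc : cj x y ∈ allP) : φ X (cj x y) = φ X x * φ X y * (φ X x)⁻¹ := by
  rw [φ, φ, φ, ← map_inv, ← map_mul, ← map_mul, toL_cj hx hy hxy hc]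

theorem φ_invC {x : Cd} (hx : x ∈ allP) : φ X (invC x) = (φ X x)⁻¹ := by
  obtain ⟨hi, he⟩ := inv_all x hx
  have h1 : oneC ∈ allP := subs.2.1 _ (subs.1 _ subs.2.2.2.2.2.1).1
  have e := φ_mul X hx hi (he ▸ h1)
  rw [he, φ_one] at e
  exact eq_inv_of_mul_eq_one_right e.symm

/-- The subgroup on a closed list of codes. -/
def sub (l : List Cd) (hl : ∀ x ∈ l, ∀ y ∈ l, mulP x y ∈ l) (hP : ∀ x ∈ l, x ∈ allP)
    (h1 : oneC ∈ l) : Subgroup G where
  carrier := {g | ∃ x ∈ l, φ X x = g}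
  one_mem' := ⟨oneC, h1, φ_one X⟩
  mul_mem' := by
    rintro _ _ ⟨x, hx, rfl⟩ ⟨y, hy, rfl⟩
    exact ⟨_, hl x hx y hy, φ_mul X (hP x hx) (hP y hy) (hP _ (hl x hx y hy))⟩
  inv_mem' := by
    rintro _ ⟨x, hx, rfl⟩
    have hp : ∀ n : ℕ, ∃ y ∈ l, φ X y = φ X x ^ n := by
      intro n
      induction n with
      | zero => exact ⟨oneC, h1, by rw [pow_zero, φ_one]⟩
      | succ n ih =>
        obtain ⟨y, hy, he⟩ := ih
        exact ⟨_, hl y hy x hx,
          by rw [φ_mul X (hP y hy) (hP x hx) (hP _ (hl y hy x hx)), he, pow_succ]⟩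
    obtain ⟨y, hy, he⟩ := hp (orderOf (φ X x) - 1)
    refine ⟨y, hy, he.trans (eq_inv_of_mul_eq_one_left ?_)⟩
    rw [← pow_succ, Nat.sub_add_cancel (orderOf_pos _), pow_orderOf_eq_one]

theorem card_sub (l : List Cd) (hl : ∀ x ∈ l, ∀ y ∈ l, mulP x y ∈ l) (hP : ∀ x ∈ l, x ∈ allP)
    (h1 : oneC ∈ l) (hn : l.Nodup) : Nat.card (sub X l hl hP h1) = l.length := by
  let f : Fin l.length → sub X l hl hP h1 := fun i => ⟨φ X (l.get i), _, List.get_mem _ _, rfl⟩
  rw [← Nat.card_eq_of_bijective f ⟨?_, ?_⟩, Nat.card_fin]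
  · intro i j h
    exact hn.injective_get (φ_inj X (hP _ (List.get_mem _ _)) (hP _ (List.get_mem _ _))
      (congrArg Subtype.val h))
  · rintro ⟨_, x, hx, rfl⟩
    obtain ⟨i, hi⟩ := List.mem_iff_get.1 hx
    exact ⟨i, Subtype.ext (by simp only [f, hi])⟩

theorem wP_all {x : Cd} (h : x ∈ wP) : x ∈ allP := subs.2.1 _ (subs.1 x h).1
theorem eP_all {x : Cd} (h : x ∈ eP) : x ∈ allP := subs.2.2.2.1 _ (subs.2.2.1 x h)
theorem one_t : oneC ∈ tP := (subs.1 _ subs.2.2.2.2.2.1).1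
theorem s_all : sC ∈ allP := wP_all subs.2.2.2.2.2.2.2.1
theorem e1_all : e1C ∈ allP := eP_all subs.2.2.2.2.2.2.2.2.1
theorem e2_all : e2C ∈ allP := eP_all subs.2.2.2.2.2.2.2.2.2

/-- The image of `Q₈ ∘ Q₈`. -/
def Wg : Subgroup G := sub X wP closed.1 (fun _ => wP_all) subs.2.2.2.2.2.1
/-- The image of `E`. -/
def Eg : Subgroup G := sub X eP closed.2.2.1 (fun _ => eP_all) subs.2.2.2.2.2.2.1
/-- The image of the Sylow two-subgroup. -/
def Tg : Subgroup G := sub X tP closed.2.1 subs.2.1 one_t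

/-- The centralizer of `σ`. -/
def Y : Subgroup G := centralizer ({X.ι i0L} : Set G)
/-- The centralizer of `σ` inside the image. -/
def CH : Subgroup G := Y X ⊓ X.ι.range

theorem φ_Y {x : Cd} (hx : x ∈ allP) : φ X x ∈ CH X :=
  ⟨mem_centralizer_singleton_iff.2 (by rw [φ, ← map_mul, ← map_mul, toL_comm_s hx]), φ_mem X x⟩

theorem exists_φ {g : G} (h : g ∈ CH X) : ∃ x ∈ allP, φ X x = g := by
  obtain ⟨hY, y, rfl⟩ := h
  replace hY : X.ι y ∈ centralizer ({X.ι i0L} : Set G) := hY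
  rw [mem_centralizer_singleton_iff, ← map_mul, ← map_mul] at hY
  obtain ⟨x, hx, rfl⟩ := exists_code (X.inj hY)
  exact ⟨x, hx, rfl⟩

theorem card_CH : Nat.card (CH X) = 1152 := by
  let f : Fin allP.length → CH X := fun i => ⟨φ X (allP.get i), φ_Y X (List.get_mem _ _)⟩
  rw [← Nat.card_eq_of_bijective f ⟨?_, ?_⟩, Nat.card_fin, nodups.2]
  · intro i j h
    exact nodups.1.injective_get (φ_inj X (List.get_mem _ _) (List.get_mem _ _)
      (congrArg Subtype.val h))
  · rintro ⟨g, hg⟩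
    obtain ⟨x, hx, rfl⟩ := exists_φ X hg
    obtain ⟨i, hi⟩ := List.mem_iff_get.1 hx
    exact ⟨i, Subtype.ext (by simp only [f, hi])⟩

theorem E_le : Eg X ≤ CH X := by rintro _ ⟨x, hx, rfl⟩; exact φ_Y X (eP_all hx)
theorem T_le : Tg X ≤ CH X := by rintro _ ⟨x, hx, rfl⟩; exact φ_Y X (subs.2.1 x hx)
theorem card_E : Nat.card (Eg X) = 9 := by rw [Eg, card_sub X _ _ _ _ sizes.2.2.1, sizes.2.2.2.1]
theorem card_T : Nat.card (Tg X) = 128 := by rw [Tg, card_sub X _ _ _ _ sizes.1, sizes.2.1]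

theorem E_cube {g : G} (hg : g ∈ Eg X) : g * g * g = 1 := by
  obtain ⟨x, hx, rfl⟩ := hg
  rw [← φ_mul X (eP_all hx) (eP_all hx) (eP_all (closed.2.2.1 x hx x hx)),
    ← φ_mul X (eP_all (closed.2.2.1 x hx x hx)) (eP_all hx)
      (eP_all (closed.2.2.1 _ (closed.2.2.1 x hx x hx) x hx)),
    sizes.2.2.2.2.2.2.2 x hx, φ_one]

theorem E_comm {g h : G} (hg : g ∈ Eg X) (hh : h ∈ Eg X) : g * h = h * g := by
  obtain ⟨x, hx, rfl⟩ := hg
  obtain ⟨y, hy, rfl⟩ := hh
  have := sizes.2.2.2.2.2.2.1 x hx y hy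
  simp only [cm, beq_iff_eq] at this
  rw [← φ_mul X (eP_all hx) (eP_all hy) (eP_all (closed.2.2.1 x hx y hy)),
    ← φ_mul X (eP_all hy) (eP_all hx) (eP_all (closed.2.2.1 y hy x hx)), this]

theorem ι_order {g : G} {x : L4} (h : X.ι x = g) : orderOf g = orderOf x := by
  rw [← h, orderOf_injective X.ι X.inj]

variable (hS : Strong X)
include hS

/-- Moving a non-trivial element of `E` into the image. -/
theorem move {g e : G} (he : e ∈ Eg X) (hne : e ≠ 1) (h : g * e * g⁻¹ ∈ X.ι.range) :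
    g ∈ X.ι.range := by
  haveI : Fact (Nat.Prime 3) := ⟨Nat.prime_three⟩
  obtain ⟨x, hx, rfl⟩ := he
  refine hS.2 g (toL x) ?_ h
  rw [← ι_order X rfl]
  exact orderOf_eq_prime (by rw [pow_three']; exact E_cube X ⟨x, hx, rfl⟩) hne

theorem e1_ne : φ X e1C ≠ 1 := fun h => by
  have := φ_inj X e1_all (subs.2.1 _ one_t) (h.trans (φ_one X).symm)
  exact absurd this (by decide +kernel)

theorem three_sylow {P : Subgroup G} (hP : IsPGroup 3 P) (hPY : P ≤ Y X) (hEP : Eg X ≤ P) :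
    P = Eg X := by
  haveI : Fact (Nat.Prime 3) := ⟨Nat.prime_three⟩
  refine le_antisymm ?_ hEP
  by_contra hne
  haveI : Group.IsNilpotent P := hP.isNilpotent
  have hlt : (Eg X).subgroupOf P < ⊤ := by
    rw [lt_top_iff_ne_top, Ne, subgroupOf_eq_top]
    exact hne
  obtain ⟨n, hn, hnE⟩ := SetLike.exists_of_lt (normalizerCondition_of_isNilpotent _ hlt)
  have he : φ X e1C ∈ Eg X := ⟨e1C, subs.2.2.2.2.2.2.2.2.1, rfl⟩
  have hm := (mem_normalizer_iff.1 hn ⟨φ X e1C, hEP he⟩).1 (mem_subgroupOf.2 he)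
  have hnH : (n : G) ∈ X.ι.range :=
    move X hS he (e1_ne X hS) ((E_le X (mem_subgroupOf.1 hm)).2)
  have hle : Eg X ⊔ zpowers (n : G) ≤ P ⊓ CH X :=
    sup_le (le_inf hEP (E_le X)) (zpowers_le.2 ⟨n.2, hPY n.2, hnH⟩)
  obtain ⟨k, hk⟩ := IsPGroup.iff_card.1 (hP.to_le (hle.trans inf_le_left))
  have hdvd := card_dvd_of_le (hle.trans inf_le_right)
  rw [card_CH, hk] at hdvd
  have hk2 : k ≤ 2 := by
    by_contra hk3
    exact absurd ((pow_dvd_pow 3 (show 3 ≤ k by omega)).trans hdvd) (by norm_num)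
  have heq := eq_of_le_of_card_ge (le_sup_left : Eg X ≤ Eg X ⊔ zpowers (n : G)) (by
    rw [hk, card_E]; exact Nat.pow_le_pow_right (by norm_num) hk2)
  exact hnE (mem_subgroupOf.2 (heq ▸ mem_sup_right (mem_zpowers _)))

/-- `E` as a Sylow three-subgroup of a subgroup between. -/
theorem exists_sylow_E {K : Subgroup G} (hK : K ≤ Y X) (hEK : Eg X ≤ K) :
    ∃ P : Sylow 3 K, (P : Subgroup K) = (Eg X).subgroupOf K := by
  haveI : Fact (Nat.Prime 3) := ⟨Nat.prime_three⟩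
  have hE : IsPGroup 3 ((Eg X).subgroupOf K) := IsPGroup.of_card (n := 2) (by
    rw [Nat.card_congr (subgroupOfEquivOfLe hEK).toEquiv, card_E]; norm_num)
  obtain ⟨P, hP⟩ := hE.exists_le_sylow
  refine ⟨P, ?_⟩
  have h := three_sylow X hS (P := (P : Subgroup K).map K.subtype) (P.2.map _)
    ((map_subtype_le _).trans hK) fun g hg => ⟨⟨g, hEK hg⟩, hP (mem_subgroupOf.2 hg), rfl⟩
  ext g
  rw [mem_subgroupOf, ← h, mem_map]
  exact ⟨fun hg => ⟨g, hg, rfl⟩, fun ⟨g', hg', e⟩ => Subtype.ext e ▸ hg'⟩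

/-- An element of order three of `K` is conjugate in `K` into `E`. -/
theorem conj_E {K : Subgroup G} (hK : K ≤ Y X) (hEK : Eg X ≤ K) {c : G} (hc : c ∈ K)
    (h3 : orderOf c = 3) : ∃ k ∈ K, k * c * k⁻¹ ∈ Eg X := by
  haveI : Fact (Nat.Prime 3) := ⟨Nat.prime_three⟩
  obtain ⟨P, hP⟩ := exists_sylow_E X hS hK hEK
  have ho : orderOf (⟨c, hc⟩ : K) = 3 := by rw [← Subgroup.orderOf_coe]; exact h3
  obtain ⟨Q, hQ⟩ := (IsPGroup.of_card (n := 1) (by rw [Nat.card_zpowers, ho, pow_one]) :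
    IsPGroup 3 (zpowers (⟨c, hc⟩ : K))).exists_le_sylow
  obtain ⟨k, hk⟩ := MulAction.exists_smul_eq K Q P
  refine ⟨k, k.2, ?_⟩
  have hm : k * ⟨c, hc⟩ * k⁻¹ ∈ (P : Subgroup K) := by
    rw [← hk, Sylow.coe_subgroup_smul]
    exact ⟨⟨c, hc⟩, hQ (mem_zpowers _), rfl⟩
  rw [hP] at hm
  exact mem_subgroupOf.1 hm

theorem not_cyclic_E : ¬ IsCyclic (Eg X) := fun h => by
  obtain ⟨g, hg⟩ := h.exists_generator
  have h1 := orderOf_eq_card_of_forall_mem_zpowers hg
  rw [card_E] at h1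
  have h3 : g ^ 3 = 1 := Subtype.ext (by
    push_cast; rw [pow_three']; exact E_cube X g.2)
  have := Nat.le_of_dvd (by norm_num) (orderOf_dvd_of_pow_eq_one h3)
  omega

theorem cent_E_le {e : G} (he : e ∈ Eg X) (hne : e ≠ 1) :
    centralizer ({e} : Set G) ≤ X.ι.range := fun c hc => by
  refine move X hS he hne ?_
  rw [mem_centralizer_singleton_iff.1 hc, mul_inv_cancel_right]
  exact (E_le X he).2

/-- Every `E`-invariant subgroup of `Y` of order prime to three lies in `W`. -/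
theorem le_W {V : Subgroup G} (hVY : V ≤ Y X) (hEV : Eg X ≤ normalizer (V : Set G))
    (hV : (Nat.card V).Coprime 3) : V ≤ Wg X := by
  haveI : IsMulCommutative (Eg X) := ⟨⟨fun a b => Subtype.ext (E_comm X a.2 b.2)⟩⟩
  have hVC : V ≤ CH X := le_inf hVY (CfsgLib.Coprime.le_of_centralizer_le_of_not_isCyclic
    (not_cyclic_E X hS) hEV (by rw [card_E, Nat.coprime_comm, show (9 : ℕ) = 3 ^ 2 by norm_num]
                                exact Nat.Coprime.pow_right _ hV)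
    fun a ha hne => inf_le_right.trans (cent_E_le X hS ha hne))
  have step : ∀ x ∈ weP, φ X x ∈ V → φ X x ∈ Wg X := by
    intro x hx hxV
    refine ⟨x, (we_pow x hx).resolve_right ?_, rfl⟩
    intro hne
    have hd : orderOf (φ X x) ∣ 2 ^ 7 * 9 := by
      rw [show 2 ^ 7 * 9 = Nat.card (CH X) by rw [card_CH]; norm_num]
      exact orderOf_dvd_natCard (⟨φ X x, hVC hxV⟩ : CH X) |> fun h => by
        rwa [← Subgroup.orderOf_coe] at h
    have hcop : (orderOf (φ X x)).Coprime 9 := by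
      have h1 : orderOf (φ X x) ∣ Nat.card V := by
        have := orderOf_dvd_natCard (⟨φ X x, hxV⟩ : V)
        rwa [← Subgroup.orderOf_coe] at this
      rw [show (9 : ℕ) = 3 ^ 2 by norm_num]
      exact Nat.Coprime.pow_right _ (hV.coprime_dvd_left h1)
    have h32 : φ X x ^ 128 = 1 := orderOf_dvd_iff_pow_eq_one.1 (hcop.dvd_of_dvd_mul_right hd)
    have hp : ∀ n : ℕ, φ X ((fun y => mulP y y)^[n] x) = φ X x ^ 2 ^ n ∧
        (fun y => mulP y y)^[n] x ∈ allP := by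
      intro n
      induction n with
      | zero => exact ⟨by simp, subs.2.2.2.1 x hx⟩
      | succ n ih =>
        rw [Function.iterate_succ_apply']
        refine ⟨?_, allP_closed ih.2 ih.2⟩
        rw [φ_mul X ih.2 ih.2 (allP_closed ih.2 ih.2), ih.1, ← pow_add, pow_succ, mul_two]
    exact hne (φ_inj X (hp 7).2 (subs.2.1 _ one_t)
      (by rw [(hp 7).1, show (2 : ℕ) ^ 7 = 128 by norm_num, h32, φ_one]))
  intro v hv
  obtain ⟨x, hx, rfl⟩ := exists_φ X (hVC hv)
  rcases crit x hx with h | ⟨e, he, hw⟩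
  · exact step x h hv
  · exfalso
    obtain ⟨hcl, -, -⟩ := conj_all x hx
    have heE : e ∈ eP := by
      simp only [List.mem_cons, List.not_mem_nil, or_false] at he
      rcases he with rfl | rfl
      · exact subs.2.2.2.2.2.2.2.2.1
      · exact subs.2.2.2.2.2.2.2.2.2
    have hc := hcl e he
    have hce : φ X e ∈ Eg X := ⟨e, heE, rfl⟩
    have hm : φ X x * φ X e * (φ X x)⁻¹ * (φ X e)⁻¹ ∈ V := by
      have := (mem_normalizer_iff.1 (hEV hce) _).1 (inv_mem hv)
      simpa [mul_assoc] using mul_mem hv this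
    have hwe : mulP (cj x e) (invC e) ∈ weP := (we_right _ (we_right e heE).1).2 _ hc
    rw [← φ_cj X hx (eP_all heE) (allP_closed hx (eP_all heE)) (subs.2.2.2.1 _ hc), ← φ_invC X (eP_all heE),
      ← φ_mul X (subs.2.2.2.1 _ hc) (inv_all e (eP_all heE)).1 (subs.2.2.2.1 _ hwe)] at hm
    obtain ⟨w, hw', hww⟩ := step _ hwe hm
    exact hw (φ_inj X (wP_all hw') (subs.2.2.2.1 _ hwe) hww ▸ hw')

theorem W_le : Wg X ≤ CH X := by rintro _ ⟨x, hx, rfl⟩; exact φ_Y X (wP_all hx)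

theorem x12_mem {x : Cd} (h : x ∈ x12) : x ∈ wP ∧ mulP x x = sC := by
  simp only [x12, List.mem_filter, beq_iff_eq] at h
  exact h

theorem W_gen {H : Subgroup G}
    (h : φ X g1 ∈ H ∧ φ X g2 ∈ H ∧ φ X g3 ∈ H ∧ φ X g4 ∈ H) : Wg X ≤ H := by
  rintro _ ⟨x, hx, rfl⟩
  obtain ⟨a, ha, b, hb, c, hc, d, hd, rfl⟩ := w_gen x hx
  have g1P := wP_all (x12_mem X hS gens.1).1
  have g2P := wP_all (x12_mem X hS gens.2.1).1
  have g3P := wP_all (x12_mem X hS gens.2.2.1).1
  have g4P := wP_all (x12_mem X hS gens.2.2.2.1).1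
  have oP : oneC ∈ allP := subs.2.1 _ one_t
  have k : ∀ {u v : Cd}, u ∈ allP ∧ φ X u ∈ H → v ∈ allP ∧ φ X v ∈ H →
      mulP u v ∈ allP ∧ φ X (mulP u v) ∈ H := fun hu hv =>
    ⟨allP_closed hu.1 hv.1, φ_mul X hu.1 hv.1 (allP_closed hu.1 hv.1) ▸ mul_mem hu.2 hv.2⟩
  have k1 : oneC ∈ allP ∧ φ X oneC ∈ H := ⟨oP, φ_one X ▸ one_mem H⟩
  have ka : a ∈ allP ∧ φ X a ∈ H := by
    simp only [List.mem_cons, List.not_mem_nil, or_false] at ha
    rcases ha with rfl | rfl | rfl | rfl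
    · exact k1
    · exact ⟨g1P, h.1⟩
    · exact k ⟨g1P, h.1⟩ ⟨g1P, h.1⟩
    · exact k ⟨g1P, h.1⟩ (k ⟨g1P, h.1⟩ ⟨g1P, h.1⟩)
  have kb : b ∈ allP ∧ φ X b ∈ H := by
    simp only [List.mem_cons, List.not_mem_nil, or_false] at hb
    rcases hb with rfl | rfl
    · exact k1
    · exact ⟨g2P, h.2.1⟩
  have kc : c ∈ allP ∧ φ X c ∈ H := by
    simp only [List.mem_cons, List.not_mem_nil, or_false] at hc
    rcases hc with rfl | rfl | rfl | rfl
    · exact k1
    · exact ⟨g3P, h.2.2.1⟩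
    · exact k ⟨g3P, h.2.2.1⟩ ⟨g3P, h.2.2.1⟩
    · exact k ⟨g3P, h.2.2.1⟩ (k ⟨g3P, h.2.2.1⟩ ⟨g3P, h.2.2.1⟩)
  have kd : d ∈ allP ∧ φ X d ∈ H := by
    simp only [List.mem_cons, List.not_mem_nil, or_false] at hd
    rcases hd with rfl | rfl
    · exact k1
    · exact ⟨g4P, h.2.2.2⟩
  exact (k (k ka kb) (k kc kd)).2

/-- The normalizer of `W` in `Y`. -/
def NW : Subgroup G := normalizer (Wg X : Set G) ⊓ Y X

theorem CH_le_NW : CH X ≤ NW X := by
  refine le_inf ?_ inf_le_left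
  intro g hg
  obtain ⟨x, hx, rfl⟩ := exists_φ X hg
  have key : ∀ {y : Cd}, y ∈ allP → ∀ w ∈ Wg X, φ X y * w * (φ X y)⁻¹ ∈ Wg X := by
    intro y hy
    have hgen : ∀ g ∈ [g1, g2, g3, g4],
        φ X g ∈ (Wg X).comap (MulAut.conj (φ X y)).toMonoidHom := by
      intro g hg'
      have hgW : g ∈ wP := by
        simp only [List.mem_cons, List.not_mem_nil, or_false] at hg'
        rcases hg' with rfl | rfl | rfl | rfl
        · exact (x12_mem X hS gens.1).1
        · exact (x12_mem X hS gens.2.1).1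
        · exact (x12_mem X hS gens.2.2.1).1
        · exact (x12_mem X hS gens.2.2.2.1).1
      refine mem_comap.2 ?_
      show φ X y * φ X g * (φ X y)⁻¹ ∈ Wg X
      rw [← φ_cj X hy (wP_all hgW) (allP_closed hy (wP_all hgW)) (cj_mem hy (wP_all hgW))]
      exact ⟨_, (conj_all y hy).2.1 g hg', rfl⟩
    intro w hw
    exact W_gen X hS ⟨hgen g1 (by simp), hgen g2 (by simp), hgen g3 (by simp), hgen g4 (by simp)⟩ hw
  refine mem_normalizer_iff.2 fun w => ⟨key hx w, fun hw => ?_⟩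
  obtain ⟨y, hy, he⟩ := exists_φ X (inv_mem (φ_Y X hx))
  have := key hy _ hw
  rwa [he, inv_inv, show (φ X x)⁻¹ * (φ X x * w * (φ X x)⁻¹) * φ X x = w by group] at this

theorem cent_W {c : G} (hY : c ∈ Y X) (hg : ∀ g ∈ [g1, g2, g3, g4], c * φ X g = φ X g * c) :
    c = 1 ∨ c = X.ι i0L := by
  haveI : Fact (Nat.Prime 3) := ⟨Nat.prime_three⟩
  obtain ⟨C, hC⟩ : ∃ C : Subgroup G, C = centralizer (Wg X : Set G) ⊓ Y X := ⟨_, rfl⟩
  have hNC : NW X ≤ normalizer (C : Set G) := by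
    intro n hn
    rw [mem_normalizer_iff]
    have key : ∀ n ∈ NW X, ∀ c ∈ C, n * c * n⁻¹ ∈ C := by
      intro n hn c hc
      rw [hC] at hc ⊢
      refine ⟨mem_centralizer_iff.2 fun w hw => ?_,
        (Y X).mul_mem ((Y X).mul_mem hn.2 hc.2) ((Y X).inv_mem hn.2)⟩
      have hw' := (mem_normalizer_iff.1 (inv_mem hn.1) w).1 hw
      rw [inv_inv] at hw'
      have := mem_centralizer_iff.1 hc.1 _ hw'
      calc w * (n * c * n⁻¹) = n * (n⁻¹ * w * n * c) * n⁻¹ := by group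
        _ = n * (c * (n⁻¹ * w * n)) * n⁻¹ := by rw [this]
        _ = n * c * n⁻¹ * w := by group
    intro c
    refine ⟨key n hn c, fun h => ?_⟩
    have := key n⁻¹ (inv_mem hn) _ h
    simpa [mul_assoc] using this
  have hcop : (Nat.card C).Coprime 3 := by
    rw [Nat.coprime_comm, Nat.Prime.coprime_iff_not_dvd Nat.prime_three]
    intro hd
    obtain ⟨⟨d, hd'⟩, ho⟩ := exists_prime_orderOf_dvd_card' 3 hd
    rw [← Subgroup.orderOf_coe] at ho
    change orderOf d = 3 at ho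
    have hdN : d ∈ NW X := by
      rw [hC] at hd'
      exact ⟨centralizer_le_normalizer _ hd'.1, hd'.2⟩
    obtain ⟨k, hk, hke⟩ := conj_E X hS inf_le_right ((E_le X).trans (CH_le_NW X hS)) hdN ho
    have hkC : k * d * k⁻¹ ∈ C := (mem_normalizer_iff.1 (hNC hk) d).1 hd'
    obtain ⟨x, hx, he⟩ := hke
    have hc : ∀ g, g ∈ x12 → cm x g = true := by
      intro g hg
      obtain ⟨hgW, -⟩ := x12_mem X hS hg
      rw [hC] at hkC
      have := mem_centralizer_iff.1 hkC.1 (φ X g) ⟨g, hgW, rfl⟩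
      rw [← he, ← φ_mul X (wP_all hgW) (eP_all hx) (allP_closed (wP_all hgW) (eP_all hx)),
        ← φ_mul X (eP_all hx) (wP_all hgW) (allP_closed (eP_all hx) (wP_all hgW))] at this
      simp only [cm, beq_iff_eq]
      exact (φ_inj X (allP_closed (wP_all hgW) (eP_all hx)) (allP_closed (eP_all hx) (wP_all hgW))
        this).symm
    have hx1 := e_center x hx (hc _ gens.1) (hc _ gens.2.1) (hc _ gens.2.2.1) (hc _ gens.2.2.2.1)
    rw [hx1, φ_one] at he
    have hd1 : d = 1 := by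
      calc d = k⁻¹ * (k * d * k⁻¹) * k := by group
        _ = 1 := by rw [← he]; group
    rw [hd1, orderOf_one] at ho
    omega
  have hcC : c ∈ C := by
    rw [hC]
    refine ⟨mem_centralizer_iff.2 fun w hw => ?_, hY⟩
    have := W_gen X hS (H := centralizer ({c} : Set G))
      ⟨mem_centralizer_singleton_iff.2 (hg g1 (by simp)).symm,
        mem_centralizer_singleton_iff.2 (hg g2 (by simp)).symm,
        mem_centralizer_singleton_iff.2 (hg g3 (by simp)).symm,
        mem_centralizer_singleton_iff.2 (hg g4 (by simp)).symm⟩ hw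
    exact mem_centralizer_singleton_iff.1 this
  obtain ⟨x, hx, rfl⟩ := le_W X hS (hC ▸ inf_le_right) ((E_le X).trans ((CH_le_NW X hS).trans hNC))
    hcop hcC
  have hcm : ∀ g ∈ [g1, g2, g3, g4], g ∈ allP → cm x g = true := by
    intro g hg' hgP
    have := hg g hg'
    rw [← φ_mul X (wP_all hx) hgP (allP_closed (wP_all hx) hgP),
      ← φ_mul X hgP (wP_all hx) (allP_closed hgP (wP_all hx))] at this
    simp only [cm, beq_iff_eq]
    exact φ_inj X (allP_closed (wP_all hx) hgP) (allP_closed hgP (wP_all hx)) this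
  rcases w_center x hx (hcm _ (by simp) (wP_all (x12_mem X hS gens.1).1))
    (hcm _ (by simp) (wP_all (x12_mem X hS gens.2.1).1))
    (hcm _ (by simp) (wP_all (x12_mem X hS gens.2.2.1).1))
    (hcm _ (by simp) (wP_all (x12_mem X hS gens.2.2.2.1).1)) with rfl | rfl
  · exact Or.inl (φ_one X)
  · exact Or.inr (φ_s X)

theorem NW_le : NW X ≤ CH X := by
  classical
  let K := NW X
  have himg : ∀ g : K, ∀ v : Cd, v ∈ x12 →
      ∃ a ∈ x12, φ X a = (g : G) * φ X v * (g : G)⁻¹ := by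
    intro g v hv
    obtain ⟨hvW, hsq⟩ := x12_mem X hS hv
    obtain ⟨a, ha, he⟩ := (mem_normalizer_iff.1 g.2.1 (φ X v)).1 ⟨v, hvW, rfl⟩
    refine ⟨a, List.mem_filter.2 ⟨ha, ?_⟩, he⟩
    simp only [beq_iff_eq]
    refine φ_inj X (allP_closed (wP_all ha) (wP_all ha)) s_all ?_
    rw [φ_mul X (wP_all ha) (wP_all ha) (allP_closed (wP_all ha) (wP_all ha)), he, φ_s,
      show (g : G) * φ X v * (g : G)⁻¹ * ((g : G) * φ X v * (g : G)⁻¹) =
        (g : G) * (φ X v * φ X v) * (g : G)⁻¹ by group,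
      ← φ_mul X (wP_all hvW) (wP_all hvW) (allP_closed (wP_all hvW) (wP_all hvW)), hsq, φ_s,
      mem_centralizer_singleton_iff.1 g.2.2, mul_inv_cancel_right]
  choose a1 ha1 he1 using fun g : K => himg g g1 gens.1
  choose a2 ha2 he2 using fun g : K => himg g g2 gens.2.1
  choose a3 ha3 he3 using fun g : K => himg g g3 gens.2.2.1
  choose a4 ha4 he4 using fun g : K => himg g g4 gens.2.2.2.1
  have hcm : ∀ (g : K) (u v a b : Cd), u ∈ x12 → v ∈ x12 → a ∈ x12 → b ∈ x12 →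
      φ X a = (g : G) * φ X u * (g : G)⁻¹ → φ X b = (g : G) * φ X v * (g : G)⁻¹ →
      cm a b = cm u v := by
    intro g u v a b hu hv ha hb ea eb
    have p : ∀ {w : Cd}, w ∈ x12 → w ∈ allP := fun hw => wP_all (x12_mem X hS hw).1
    rw [Bool.eq_iff_iff]
    simp only [cm, beq_iff_eq]
    constructor <;> intro h
    · have := congrArg (φ X) h
      rw [φ_mul X (p ha) (p hb) (allP_closed (p ha) (p hb)),
        φ_mul X (p hb) (p ha) (allP_closed (p hb) (p ha)), ea, eb] at this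
      refine φ_inj X (allP_closed (p hu) (p hv)) (allP_closed (p hv) (p hu)) ?_
      rw [φ_mul X (p hu) (p hv) (allP_closed (p hu) (p hv)),
        φ_mul X (p hv) (p hu) (allP_closed (p hv) (p hu))]
      calc φ X u * φ X v = (g : G)⁻¹ * ((g : G) * φ X u * (g : G)⁻¹ * ((g : G) * φ X v * (g : G)⁻¹)) * g := by
            group
        _ = (g : G)⁻¹ * ((g : G) * φ X v * (g : G)⁻¹ * ((g : G) * φ X u * (g : G)⁻¹)) * g := by rw [this]
        _ = φ X v * φ X u := by group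
    · have := congrArg (φ X) h
      rw [φ_mul X (p hu) (p hv) (allP_closed (p hu) (p hv)),
        φ_mul X (p hv) (p hu) (allP_closed (p hv) (p hu))] at this
      refine φ_inj X (allP_closed (p ha) (p hb)) (allP_closed (p hb) (p ha)) ?_
      rw [φ_mul X (p ha) (p hb) (allP_closed (p ha) (p hb)),
        φ_mul X (p hb) (p ha) (allP_closed (p hb) (p ha)), ea, eb]
      calc (g : G) * φ X u * (g : G)⁻¹ * ((g : G) * φ X v * (g : G)⁻¹)
          = (g : G) * (φ X u * φ X v) * (g : G)⁻¹ := by group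
        _ = (g : G) * (φ X v * φ X u) * (g : G)⁻¹ := by rw [this]
        _ = _ := by group
  let q : K → Cd × Cd × Cd × Cd := fun g => (a1 g, a2 g, a3 g, a4 g)
  have hq : ∀ g, q g ∈ quads := by
    intro g
    obtain ⟨m1, m2, m3, m4, c12, c13, c23, c14, c24, c34⟩ := gens
    have k12 := (hcm g _ _ _ _ m1 m2 (ha1 g) (ha2 g) (he1 g) (he2 g)).trans c12
    have k13 := (hcm g _ _ _ _ m1 m3 (ha1 g) (ha3 g) (he1 g) (he3 g)).trans c13
    have k23 := (hcm g _ _ _ _ m2 m3 (ha2 g) (ha3 g) (he2 g) (he3 g)).trans c23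
    have k14 := (hcm g _ _ _ _ m1 m4 (ha1 g) (ha4 g) (he1 g) (he4 g)).trans c14
    have k24 := (hcm g _ _ _ _ m2 m4 (ha2 g) (ha4 g) (he2 g) (he4 g)).trans c24
    have k34 := (hcm g _ _ _ _ m3 m4 (ha3 g) (ha4 g) (he3 g) (he4 g)).trans c34
    simp only [quads, List.mem_flatMap, List.mem_map, List.mem_filter]
    exact ⟨a1 g, ha1 g, a2 g, ⟨ha2 g, by simp [k12]⟩, a3 g, ⟨ha3 g, by simp [k13, k23]⟩,
      a4 g, ⟨ha4 g, by simp [k14, k24, k34]⟩, rfl⟩
  have hfib : ∀ g h : K, q g = q h → (g : G)⁻¹ * (h : G) = 1 ∨ (g : G)⁻¹ * (h : G) = X.ι i0L := by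
    intro g h e
    simp only [q, Prod.mk.injEq] at e
    refine cent_W X hS (mul_mem (inv_mem g.2.2) h.2.2) fun v hv => ?_
    obtain ⟨a, eg, eh⟩ : ∃ a, φ X a = (g : G) * φ X v * (g : G)⁻¹ ∧
        φ X a = (h : G) * φ X v * (h : G)⁻¹ := by
      simp only [List.mem_cons, List.not_mem_nil, or_false] at hv
      rcases hv with rfl | rfl | rfl | rfl
      · exact ⟨_, he1 g, e.1 ▸ he1 h⟩
      · exact ⟨_, he2 g, e.2.1 ▸ he2 h⟩
      · exact ⟨_, he3 g, e.2.2.1 ▸ he3 h⟩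
      · exact ⟨_, he4 g, e.2.2.2 ▸ he4 h⟩
    rw [eg] at eh
    calc (g : G)⁻¹ * (h : G) * φ X v = (g : G)⁻¹ * ((h : G) * φ X v * (h : G)⁻¹) * h := by group
      _ = φ X v * ((g : G)⁻¹ * (h : G)) := by rw [← eh]; group
  let rep : Cd × Cd × Cd × Cd → G := fun p => if hp : ∃ g : K, q g = p then ((hp.choose : K) : G) else 1
  have hinj : Function.Injective (fun g : K =>
      ((⟨q g, hq g⟩ : {p // p ∈ quads}), decide ((rep (q g))⁻¹ * (g : G) = 1))) := by
    intro g h e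
    simp only [Prod.mk.injEq, Subtype.mk.injEq, decide_eq_decide] at e
    obtain ⟨e1, e2⟩ := e
    rw [← e1] at e2
    obtain ⟨r, hr, hrep⟩ : ∃ r : K, q r = q g ∧ rep (q g) = (r : G) := by
      have hp : ∃ r : K, q r = q g := ⟨g, rfl⟩
      exact ⟨hp.choose, hp.choose_spec, dif_pos hp⟩
    rw [hrep] at e2
    refine Subtype.ext (mul_left_cancel (a := (r : G)⁻¹) ?_)
    rcases hfib r g hr with k1 | k1
    · rw [k1, e2.1 k1]
    · rcases hfib r h (hr.trans e1) with k2 | k2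
      · rw [k2, e2.2 k2]
      · rw [k1, k2]
  have hcard : Nat.card K ≤ 2304 := by
    refine (Nat.card_le_card_of_injective _ hinj).trans ?_
    rw [Nat.card_prod, Nat.card_eq_fintype_card (α := Bool), Fintype.card_bool]
    have : Nat.card {p // p ∈ quads} ≤ 1152 := by
      have hl := Nat.card_le_card_of_surjective (fun i : Fin quads.length =>
        (⟨quads.get i, List.get_mem _ _⟩ : {p // p ∈ quads})) fun ⟨p, hp⟩ => by
          obtain ⟨i, hi⟩ := List.mem_iff_get.1 hp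
          exact ⟨i, Subtype.ext hi⟩
      rwa [Nat.card_fin, sizes.2.2.2.2.1] at hl
    omega
  have hN : ((CH X).subgroupOf K).Normal := by
    have hidx : ((CH X).subgroupOf K).index ≤ 2 := by
      have h := ((CH X).subgroupOf K).card_mul_index
      rw [Nat.card_congr (subgroupOfEquivOfLe (CH_le_NW X hS)).toEquiv, card_CH] at h
      omega
    have h0 := ((CH X).subgroupOf K).index_ne_zero_of_finite
    rcases (by omega : ((CH X).subgroupOf K).index = 1 ∨ ((CH X).subgroupOf K).index = 2) with h | h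
    · rw [index_eq_one.1 h]; infer_instance
    · exact normal_of_index_eq_two h
  intro g hg
  refine ⟨hg.2, ?_⟩
  have he : φ X e1C ∈ Eg X := ⟨e1C, subs.2.2.2.2.2.2.2.2.1, rfl⟩
  have hm := hN.conj_mem ⟨φ X e1C, CH_le_NW X hS (E_le X he)⟩ (mem_subgroupOf.2 (E_le X he)) ⟨g, hg⟩
  exact move X hS he (e1_ne X hS) (mem_subgroupOf.1 hm).2

theorem toL_order_three {e : Cd} (he : e ∈ allP) (hne : e ≠ oneC)
    (h3 : mulP (mulP e e) e = oneC) : orderOf (toL e) = 3 := by
  haveI : Fact (Nat.Prime 3) := ⟨Nat.prime_three⟩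
  refine orderOf_eq_prime ?_ fun h => hne (toL_inj he (subs.2.1 _ one_t) (h.trans toL_one.symm))
  rw [pow_three', ← toL_mul he he (allP_closed he he),
    ← toL_mul (allP_closed he he) he (allP_closed (allP_closed he he) he), h3, toL_one]

/-- Every involution of the model commutes with an element of order three. -/
theorem invol_cent {x : L4} (h2 : x * x = 1) (h1 : x ≠ 1) :
    ∃ e : L4, orderOf e = 3 ∧ e * x = x * e := by
  haveI : Fact (Nat.Prime 2) := ⟨Nat.prime_two⟩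
  haveI : Fact (Nat.Prime 3) := ⟨Nat.prime_three⟩
  obtain ⟨T0, hT0⟩ : ∃ T0 : Subgroup L4, T0 = (Tg X).comap X.ι := ⟨_, rfl⟩
  have hmap : T0.map X.ι = Tg X := by
    rw [hT0, map_comap_eq, inf_eq_right.2 ((T_le X).trans inf_le_right)]
  have hcard : Nat.card T0 = 2 ^ (Nat.card L4).factorization 2 := by
    have hfac : (Nat.card L4).factorization 2 = 7 := by
      rw [card_L4, show (6065280 : ℕ) = 2 ^ 7 * 47385 by norm_num,
        Nat.factorization_mul (by norm_num) (by norm_num), Finsupp.add_apply,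
        Nat.Prime.factorization_pow Nat.prime_two, Finsupp.single_eq_same,
        Nat.factorization_eq_zero_of_not_dvd (by norm_num : ¬ 2 ∣ 47385)]
    rw [hfac, show (2 : ℕ) ^ 7 = 128 by norm_num, ← card_T X, ← hmap,
      card_map_of_injective X.inj]
  let S : Sylow 2 L4 := Sylow.ofCard T0 hcard
  have hS0 : (S : Subgroup L4) = T0 := rfl
  have hx : IsPGroup 2 (zpowers x) := IsPGroup.of_card (n := 1) (by
    rw [Nat.card_zpowers, orderOf_eq_prime (by rw [pow_two, h2]) h1, pow_one])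
  obtain ⟨S', hS'⟩ := hx.exists_le_sylow
  obtain ⟨g, hg⟩ := MulAction.exists_smul_eq L4 S' S
  have hm : g * x * g⁻¹ ∈ T0 := by
    rw [← hS0, ← hg, Sylow.coe_subgroup_smul]
    exact ⟨x, hS' (mem_zpowers x), rfl⟩
  rw [hT0, mem_comap] at hm
  obtain ⟨t, ht, hte⟩ := hm
  have htL : toL t = g * x * g⁻¹ := X.inj hte
  have htP := subs.2.1 t ht
  have htsq : mulP t t = oneC := by
    refine toL_inj (allP_closed htP htP) (subs.2.1 _ one_t) ?_
    rw [toL_mul htP htP (allP_closed htP htP), toL_one, htL,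
      show g * x * g⁻¹ * (g * x * g⁻¹) = g * (x * x) * g⁻¹ by group, h2, mul_one, mul_inv_cancel]
  have htne : t ≠ oneC := fun h => h1 (by
    calc x = g⁻¹ * (g * x * g⁻¹) * g := by group
      _ = 1 := by rw [← htL, h, toL_one]; group)
  obtain ⟨e, he, hec⟩ : ∃ e : L4, orderOf e = 3 ∧ e * toL t = toL t * e := by
    rcases invol_three t ht htne htsq with ⟨e, he, hne, h3, hcm⟩ | ⟨hb, Xm, hX, hne, heq⟩
    · refine ⟨toL e, toL_order_three X hS he hne h3, ?_⟩
      simp only [cm, beq_iff_eq] at hcm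
      rw [← toL_mul he htP (allP_closed he htP), ← toL_mul htP he (allP_closed htP he), hcm]
    · obtain ⟨hc3, hc1, hcn⟩ := uM_order Xm hX hne
      let U : S4 := ⟨uM Xm, det_uM Xm hX⟩
      refine ⟨mk U, orderOf_eq_prime ?_ ?_, ?_⟩
      · rw [pow_three', ← map_mul, ← map_mul, show U * U * U = 1 from Subtype.ext hc3, map_one]
      · intro h
        rcases mk_eq_cases (h.trans (map_one mk).symm) with e | e
        · exact hc1 e
        · exact hcn e
      · rw [toL, ← map_mul, ← map_mul]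
        refine congrArg mk (Subtype.ext ?_)
        simp only [Matrix.SpecialLinearGroup.coe_mul]
        obtain ⟨a, b, s⟩ := t
        simp only at hb heq
        subst hb
        rw [toS_val htP]
        exact (uM_comm heq).symm
  refine ⟨g⁻¹ * e * g, ?_, ?_⟩
  · rw [show g⁻¹ * e * g = MulAut.conj g⁻¹ e by simp, MulEquiv.orderOf_eq, he]
  · calc g⁻¹ * e * g * x = g⁻¹ * (e * (g * x * g⁻¹)) * g := by group
      _ = g⁻¹ * (g * x * g⁻¹ * e) * g := by rw [← htL, hec]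
      _ = x * (g⁻¹ * e * g) := by group

/-- The image controls the fusion of `σ`. -/
theorem fus (x : L4) (h : IsConj (X.ι i0L) (X.ι x)) : IsConj i0L x := by
  haveI : Fact (Nat.Prime 3) := ⟨Nat.prime_three⟩
  obtain ⟨g, hg⟩ := isConj_iff.1 h
  have hsne : X.ι i0L ≠ 1 := fun h => by
    have := φ_inj X s_all (subs.2.1 _ one_t) ((φ_s X).trans (h.trans (φ_one X).symm))
    exact absurd this (by decide +kernel)
  have hi2 : i0L * i0L = 1 := by
    rw [← toL_s, ← toL_mul s_all s_all (allP_closed s_all s_all),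
      show mulP sC sC = oneC from by decide +kernel, toL_one]
  have hx1 : x ≠ 1 := fun h => hsne (by
    calc X.ι i0L = g⁻¹ * (g * X.ι i0L * g⁻¹) * g := by group
      _ = 1 := by rw [hg, h, map_one]; group)
  have hx2 : x * x = 1 := X.inj (by
    rw [map_mul, ← hg, show g * X.ι i0L * g⁻¹ * (g * X.ι i0L * g⁻¹) =
      g * (X.ι i0L * X.ι i0L) * g⁻¹ by group, ← map_mul, hi2, map_one, mul_one, mul_inv_cancel])
  obtain ⟨e, he, hec⟩ := invol_cent X hS hx2 hx1
  have hY : g⁻¹ * X.ι e * g ∈ Y X := by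
    rw [Y, mem_centralizer_singleton_iff]
    have : X.ι e * X.ι x = X.ι x * X.ι e := by rw [← map_mul, ← map_mul, hec]
    calc g⁻¹ * X.ι e * g * X.ι i0L = g⁻¹ * (X.ι e * (g * X.ι i0L * g⁻¹)) * g := by group
      _ = g⁻¹ * ((g * X.ι i0L * g⁻¹) * X.ι e) * g := by rw [hg, this]
      _ = X.ι i0L * (g⁻¹ * X.ι e * g) := by group
  obtain ⟨k, hk, hkE⟩ := conj_E X hS (K := Y X) le_rfl ((E_le X).trans inf_le_left) hY (by
    rw [show g⁻¹ * X.ι e * g = MulAut.conj g⁻¹ (X.ι e) by simp, MulEquiv.orderOf_eq,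
      orderOf_injective X.ι X.inj, he])
  obtain ⟨m, hm⟩ := hS.2 (k * g⁻¹) e he (by
    rw [show k * g⁻¹ * X.ι e * (k * g⁻¹)⁻¹ = k * (g⁻¹ * X.ι e * g) * k⁻¹ by group]
    exact (E_le X hkE).2)
  refine isConj_iff.2 ⟨m⁻¹, X.inj ?_⟩
  simp only [map_mul, map_inv, hm]
  calc (k * g⁻¹)⁻¹ * X.ι i0L * (k * g⁻¹)⁻¹⁻¹
      = g * (k⁻¹ * (X.ι i0L * k)) * g⁻¹ := by group
    _ = g * (k⁻¹ * (k * X.ι i0L)) * g⁻¹ := by rw [mem_centralizer_singleton_iff.1 hk]
    _ = X.ι x := by rw [inv_mul_cancel_left, hg]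

theorem T_sylow : ∃ P : Sylow 2 (Y X), (P : Subgroup (Y X)) = (Tg X).subgroupOf (Y X) := by
  haveI : Fact (Nat.Prime 2) := ⟨Nat.prime_two⟩
  have hTY : Tg X ≤ Y X := (T_le X).trans inf_le_left
  obtain ⟨P, hP⟩ := (IsPGroup.of_card (n := 7) (by
    rw [Nat.card_congr (subgroupOfEquivOfLe hTY).toEquiv, card_T]; norm_num) :
    IsPGroup 2 ((Tg X).subgroupOf (Y X))).exists_le_sylow
  refine ⟨P, (le_antisymm hP ?_).symm⟩
  by_contra hne
  haveI : Group.IsNilpotent (P : Subgroup (Y X)) := P.2.isNilpotent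
  have hlt : ((Tg X).subgroupOf (Y X)).subgroupOf P < ⊤ := by
    rw [lt_top_iff_ne_top, Ne, subgroupOf_eq_top]
    exact hne
  obtain ⟨n, hn, hnT⟩ := SetLike.exists_of_lt (normalizerCondition_of_isNilpotent _ hlt)
  set m : G := ((n : Y X) : G) with hm
  have hmY : m ∈ Y X := (n : Y X).2
  have hmove : ∀ v ∈ x12, m * φ X v * m⁻¹ ∈ Wg X := by
    intro v hv
    obtain ⟨hvW, hsq⟩ := x12_mem X hS hv
    have hvT : φ X v ∈ Tg X := ⟨v, (subs.1 v hvW).1, rfl⟩
    have := (mem_normalizer_iff.1 hn ⟨⟨φ X v, hTY hvT⟩, hP (mem_subgroupOf.2 hvT)⟩).1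
      (mem_subgroupOf.2 (mem_subgroupOf.2 hvT))
    obtain ⟨t, ht, hte⟩ := mem_subgroupOf.1 (mem_subgroupOf.1 this)
    change φ X t = m * φ X v * m⁻¹ at hte
    refine ⟨t, (x12_mem X hS (x12_t t ht ?_)).1, hte⟩
    refine φ_inj X (allP_closed (subs.2.1 t ht) (subs.2.1 t ht)) s_all ?_
    rw [φ_mul X (subs.2.1 t ht) (subs.2.1 t ht) (allP_closed (subs.2.1 t ht) (subs.2.1 t ht)), hte,
      φ_s, show m * φ X v * m⁻¹ * (m * φ X v * m⁻¹) = m * (φ X v * φ X v) * m⁻¹ by group,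
      ← φ_mul X (wP_all hvW) (wP_all hvW) (allP_closed (wP_all hvW) (wP_all hvW)), hsq, φ_s,
      mem_centralizer_singleton_iff.1 hmY, mul_inv_cancel_right]
  have hmW : m ∈ normalizer (Wg X : Set G) := by
    have h1 : (Wg X).map (MulAut.conj m).toMonoidHom ≤ Wg X := by
      rw [map_le_iff_le_comap]
      exact W_gen X hS ⟨hmove g1 gens.1, hmove g2 gens.2.1, hmove g3 gens.2.2.1,
        hmove g4 gens.2.2.2.1⟩
    have h2 := eq_of_le_of_card_ge h1 (by rw [card_map_of_injective (MulAut.conj m).injective])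
    refine mem_normalizer_iff.2 fun w => ?_
    conv_rhs => rw [← h2]
    exact ⟨fun hw => ⟨w, hw, rfl⟩, fun ⟨w', hw', e⟩ => (MulAut.conj m).injective e ▸ hw'⟩
  have hmH : m ∈ CH X := NW_le X hS ⟨hmW, hmY⟩
  have hle : Tg X ⊔ zpowers m ≤ (P : Subgroup (Y X)).map (Y X).subtype ⊓ CH X :=
    sup_le (le_inf (fun g hg => ⟨⟨g, hTY hg⟩, hP (mem_subgroupOf.2 hg), rfl⟩) (T_le X))
      (zpowers_le.2 ⟨⟨_, n.2, rfl⟩, hmH⟩)
  obtain ⟨k, hk⟩ := IsPGroup.iff_card.1 ((P.2.map _).to_le (hle.trans inf_le_left))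
  have hdvd := card_dvd_of_le (hle.trans inf_le_right)
  rw [card_CH, hk] at hdvd
  have hk7 : k ≤ 7 := by
    by_contra hk8
    exact absurd ((pow_dvd_pow 2 (show 8 ≤ k by omega)).trans hdvd) (by norm_num)
  have heq := eq_of_le_of_card_ge (le_sup_left : Tg X ≤ Tg X ⊔ zpowers m) (by
    rw [hk, card_T]; exact (Nat.pow_le_pow_right (by norm_num) hk7).trans (by norm_num))
  exact hnT (mem_subgroupOf.2 (mem_subgroupOf.2 (heq ▸ mem_sup_right (mem_zpowers _))))

/-- The exact square type of an image of a code. -/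
theorem isA_of_fus {x : Cd} (hx : x ∈ tP) (h : IsConj (X.ι i0L) (φ X x)) : isA x = true := by
  by_contra hn
  exact isA_facts x hx (by simpa using hn) (isA_of_conj (subs.2.1 x hx) (fus X hS _ h))

/-- Thompson transfer for one involution outside `W`. -/
theorem avoid {u v : Cd} (hu : u ∈ [u4, u0, u1]) (hv : v ∈ [u4, u0, u1])
    (hne : u ≠ oneC) (hsq : mulP u u = oneC)
    (hno : ∀ y ∈ Y X, ∀ x ∈ coset v, x ≠ oneC → mulP x x = oneC →
      φ X x ≠ y * φ X u * y⁻¹) :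
    ∃ M : Subgroup (Y X), M.Normal ∧ M.index = 2 ∧
      ∀ h : φ X u ∈ Y X, (⟨_, h⟩ : Y X) ∉ M := by
  obtain ⟨P, hP⟩ := T_sylow X hS
  have hvP : ∀ x ∈ coset v, x ∈ allP := fun x hx => subs.2.1 x ((subs.2.2.2.2.1 v hv).2.2 x hx)
  have h1 : oneC ∈ coset v := List.mem_append_left _ subs.2.2.2.2.2.1
  let Q := sub X (coset v) (closed.2.2.2 v hv) hvP h1
  have hQT : Q ≤ Tg X := by rintro _ ⟨x, hx, rfl⟩; exact ⟨x, (subs.2.2.2.2.1 v hv).2.2 x hx, rfl⟩
  have hTY : Tg X ≤ Y X := (T_le X).trans inf_le_left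
  have huT := (subs.2.2.2.2.1 u hu).1
  have huY : φ X u ∈ Y X := hTY ⟨u, huT, rfl⟩
  have hsz := sizes.2.2.2.2.2.1 v hv
  have hcardQ : Nat.card (Q.subgroupOf (Y X)) = 64 := by
    rw [Nat.card_congr (subgroupOfEquivOfLe (hQT.trans hTY)).toEquiv, card_sub X _ _ _ _ hsz.1, hsz.2]
  obtain ⟨M, hM, hidx, huM⟩ := CfsgLib.Transfer.exists_index_two_of_not_conj_mem P
    (Q := Q.subgroupOf (Y X)) (u := ⟨φ X u, huY⟩)
    (hP ▸ comap_mono hQT) (by
      have h := card_mul_index ((Q.subgroupOf (Y X)).subgroupOf (P : Subgroup (Y X)))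
      rw [Nat.card_congr (subgroupOfEquivOfLe (hP ▸ comap_mono hQT)).toEquiv, hcardQ] at h
      have hPc : Nat.card (P : Subgroup (Y X)) = 128 := by
        rw [hP, Nat.card_congr (subgroupOfEquivOfLe hTY).toEquiv, card_T]
      rw [hPc] at h
      rw [relIndex]
      omega)
    (orderOf_eq_prime (hp := ⟨Nat.prime_two⟩) (by
      refine Subtype.ext ?_
      push_cast
      rw [pow_two, ← φ_mul X (subs.2.1 u huT) (subs.2.1 u huT)
        (allP_closed (subs.2.1 u huT) (subs.2.1 u huT)), hsq, φ_one])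
      fun h => hne (φ_inj X (subs.2.1 u huT) (subs.2.1 _ one_t)
        ((congrArg Subtype.val h).trans (φ_one X).symm)))
    (fun y hy => by
      obtain ⟨x, hx, hxe⟩ := mem_subgroupOf.1 hy
      have hxe' : φ X x = (y : G) * φ X u * (y : G)⁻¹ := hxe
      refine hno y y.2 x hx ?_ ?_ hxe'
      · intro hx1
        rw [hx1, φ_one] at hxe'
        refine hne (φ_inj X (subs.2.1 u huT) (subs.2.1 _ one_t) ?_)
        calc φ X u = (y : G)⁻¹ * ((y : G) * φ X u * (y : G)⁻¹) * y := by group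
          _ = φ X oneC := by rw [← hxe', φ_one]; group
      · refine φ_inj X (allP_closed (hvP x hx) (hvP x hx)) (subs.2.1 _ one_t) ?_
        rw [φ_mul X (hvP x hx) (hvP x hx) (allP_closed (hvP x hx) (hvP x hx)), hxe',
          show (y : G) * φ X u * (y : G)⁻¹ * ((y : G) * φ X u * (y : G)⁻¹) =
            (y : G) * (φ X u * φ X u) * (y : G)⁻¹ by group,
          ← φ_mul X (subs.2.1 u huT) (subs.2.1 u huT)
            (allP_closed (subs.2.1 u huT) (subs.2.1 u huT)), hsq, φ_one, mul_one, mul_inv_cancel])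
  exact ⟨M, hM, hidx, fun h => huM⟩

/-- The types of the conjugates. -/
theorem conj_types {u x : Cd} (hu : u ∈ allP) (hx : x ∈ allP) {y : G} (hy : y ∈ Y X)
    (he : φ X x = y * φ X u * y⁻¹) :
    (IsConj (X.ι i0L) (φ X x) ↔ IsConj (X.ι i0L) (φ X u)) ∧
    (IsConj (X.ι i0L) (φ X (mulP x sC)) ↔ IsConj (X.ι i0L) (φ X (mulP u sC))) := by
  have h1 : IsConj (φ X u) (φ X x) := isConj_iff.2 ⟨y, he.symm⟩
  have h2 : IsConj (φ X (mulP u sC)) (φ X (mulP x sC)) := by
    refine isConj_iff.2 ⟨y, ?_⟩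
    rw [φ_mul X hu s_all (allP_closed hu s_all), φ_mul X hx s_all (allP_closed hx s_all), φ_s, he]
    calc y * (φ X u * X.ι i0L) * y⁻¹ = y * φ X u * y⁻¹ * (y * X.ι i0L) * y⁻¹ := by group
      _ = y * φ X u * y⁻¹ * X.ι i0L := by
        rw [mem_centralizer_singleton_iff.1 hy]; group
  exact ⟨⟨fun h => h.trans h1.symm, fun h => h.trans h1⟩,
    ⟨fun h => h.trans h2.symm, fun h => h.trans h2⟩⟩

theorem conj_of_L {x : Cd} (h : IsConj i0L (toL x)) : IsConj (X.ι i0L) (φ X x) := X.ι.map_isConj h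

theorem not_s {u : Cd} (hu : u ∈ allP) (hne : u ≠ sC) {y : G} (hy : y ∈ Y X) :
    φ X sC ≠ y * φ X u * y⁻¹ := fun h => by
  refine hne (φ_inj X hu s_all ?_)
  calc φ X u = y⁻¹ * (y * φ X u * y⁻¹) * y := by group
    _ = y⁻¹ * (X.ι i0L * y) := by rw [← h, φ_s, mul_assoc]
    _ = φ X sC := by
      rw [← mem_centralizer_singleton_iff.1 hy, inv_mul_cancel_left, φ_s]

theorem no_u4 : ∀ y ∈ Y X, ∀ x ∈ coset u0, x ≠ oneC → mulP x x = oneC →
    φ X x ≠ y * φ X u4 * y⁻¹ := by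
  intro y hy x hx hx1 hx2 he
  have hu : u4 ∈ allP := subs.2.1 _ (subs.2.2.2.2.1 u4 (by simp)).1
  have hxt := (subs.2.2.2.2.1 u0 (by simp)).2.2 x hx
  have hsT : sC ∈ tP := (subs.1 _ subs.2.2.2.2.2.2.2.1).1
  obtain ⟨k1, k2⟩ := conj_types X hS hu (subs.2.1 x hxt) hy he
  have a1 := isA_of_fus X hS hxt (k1.2 (conj_of_L X hS u_facts.1))
  have a2 := isA_of_fus X hS (closed.2.1 x hxt sC hsT) (k2.2 (conj_of_L X hS u_facts.2.1))
  rcases types.2.2.2.2.2.2.1 x hx hx1 hx2 with rfl | h | h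
  · exact not_s X hS hu (by decide +kernel) hy he
  · rw [a1] at h; exact Bool.noConfusion h
  · rw [a2] at h; exact Bool.noConfusion h

theorem no_mixed {u : Cd} (hu : u ∈ allP) (hne : u ≠ sC) (hus : u ∈ tP) (hA : isA u = false)
    (hconj : IsConj i0L (toL (mulP u sC))) : ∀ y ∈ Y X, ∀ x ∈ coset u4, x ≠ oneC →
    mulP x x = oneC → φ X x ≠ y * φ X u * y⁻¹ := by
  intro y hy x hx hx1 hx2 he
  have hxt := (subs.2.2.2.2.1 u4 (by simp)).2.2 x hx
  have hsT : sC ∈ tP := (subs.1 _ subs.2.2.2.2.2.2.2.1).1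
  obtain ⟨k1, k2⟩ := conj_types X hS hu (subs.2.1 x hxt) hy he
  have a2 := isA_of_fus X hS (closed.2.1 x hxt sC hsT) (k2.2 (conj_of_L X hS hconj))
  rcases types.2.2.2.2.2.2.2 x hx hx1 hx2 with rfl | h
  · exact not_s X hS hu hne hy he
  · rw [a2] at h
    have h4 : u4 ∈ allP := subs.2.1 _ (subs.2.2.2.2.1 u4 (by simp)).1
    have hx' : IsConj (X.ι i0L) (φ X x) := by
      rcases A_conj x hx hx1 hx2 h with rfl | ⟨c, hc, rfl | rfl⟩
      · rw [φ_s]
      · rw [φ_cj X (subs.2.1 c hc) h4 (allP_closed (subs.2.1 c hc) h4) (cj_mem (subs.2.1 c hc) h4)]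
        exact (conj_of_L X hS u_facts.1).trans (isConj_iff.2 ⟨_, rfl⟩)
      · have h5 := allP_closed h4 s_all
        rw [φ_cj X (subs.2.1 c hc) h5 (allP_closed (subs.2.1 c hc) h5) (cj_mem (subs.2.1 c hc) h5)]
        exact (conj_of_L X hS u_facts.2.1).trans (isConj_iff.2 ⟨_, rfl⟩)
    have := isA_of_fus X hS hus (k1.1 hx')
    rw [hA] at this
    exact Bool.noConfusion this

theorem cent_le : Y X ≤ X.ι.range := by
  classical
  haveI : Fact (Nat.Prime 3) := ⟨Nat.prime_three⟩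
  obtain ⟨Ma, hMa, ia, na⟩ := avoid X hS (u := u4) (v := u0) (by simp) (by simp) (by decide +kernel)
    (by decide +kernel) (no_u4 X hS)
  obtain ⟨Mb, hMb, ib, nb⟩ := avoid X hS (u := u0) (v := u4) (by simp) (by simp) (by decide +kernel)
    (by decide +kernel) (no_mixed X hS (subs.2.1 _ (subs.2.2.2.2.1 u0 (by simp)).1) (by decide +kernel)
      (subs.2.2.2.2.1 u0 (by simp)).1 types.2.2.1 u_facts.2.2.1)
  obtain ⟨Mc, hMc, ic, nc⟩ := avoid X hS (u := u1) (v := u4) (by simp) (by simp) (by decide +kernel)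
    (by decide +kernel) (no_mixed X hS (subs.2.1 _ (subs.2.2.2.2.1 u1 (by simp)).1) (by decide +kernel)
      (subs.2.2.2.2.1 u1 (by simp)).1 types.2.2.2.2.1 u_facts.2.2.2)
  obtain ⟨N, hN⟩ : ∃ N : Subgroup (Y X), N = Ma ⊓ Mb ⊓ Mc := ⟨_, rfl⟩
  haveI hNn : N.Normal := by rw [hN]; infer_instance
  have hEY : Eg X ≤ Y X := (E_le X).trans inf_le_left
  have hWY : Wg X ≤ Y X := (W_le X hS).trans inf_le_left
  have hEN : ∀ {g : G} (h : g ∈ Eg X), (⟨g, hEY h⟩ : Y X) ∈ N := by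
    intro g h
    have h3 : (⟨g, hEY h⟩ : Y X) = (⟨g, hEY h⟩ : Y X) ^ 4 := by
      refine Subtype.ext ?_
      push_cast
      rw [show g ^ 4 = g * g * g * g by simp [pow_succ], E_cube X h, one_mul]
    rw [h3, show (4 : ℕ) = 2 * 2 by norm_num, pow_mul, hN]
    have : ∀ M : Subgroup (Y X), M.index = 2 → ((⟨g, hEY h⟩ : Y X) ^ 2) ^ 2 ∈ M :=
      fun M hM => sq_mem_of_index_two hM _
    exact ⟨⟨this Ma ia, this Mb ib⟩, this Mc ic⟩
  have hgN : ∀ g ∈ [g1, g2, g3, g4], ∀ h : φ X g ∈ Y X, (⟨_, h⟩ : Y X) ∈ N := by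
    intro g hg h
    obtain ⟨e, he, w, hw, hew⟩ := gen_comm g hg
    have hgP : g ∈ allP := by
      simp only [List.mem_cons, List.not_mem_nil, or_false] at hg
      rcases hg with rfl | rfl | rfl | rfl
      · exact wP_all (x12_mem X hS gens.1).1
      · exact wP_all (x12_mem X hS gens.2.1).1
      · exact wP_all (x12_mem X hS gens.2.2.1).1
      · exact wP_all (x12_mem X hS gens.2.2.2.1).1
    have he' := congrArg (φ X) hew
    rw [φ_mul X (eP_all he) (wP_all hw) (allP_closed (eP_all he) (wP_all hw)),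
      φ_mul X hgP (allP_closed (wP_all hw) (eP_all he))
        (allP_closed hgP (allP_closed (wP_all hw) (eP_all he))),
      φ_mul X (wP_all hw) (eP_all he) (allP_closed (wP_all hw) (eP_all he))] at he'
    let ee : Y X := ⟨φ X e, hEY ⟨e, he, rfl⟩⟩
    let ww : Y X := ⟨φ X w, hWY ⟨w, hw, rfl⟩⟩
    have hee : ee ∈ N := hEN ⟨e, he, rfl⟩
    have : (⟨φ X g, h⟩ : Y X) = ee * (ww * ee⁻¹ * ww⁻¹) := by
      refine Subtype.ext ?_
      push_cast
      simp only [ee, ww]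
      rw [← mul_assoc, ← mul_assoc, he']
      group
    rw [this]
    exact mul_mem hee (hNn.conj_mem _ (inv_mem hee) ww)
  have hWN : Wg X ≤ N.map (Y X).subtype := by
    have k : ∀ g ∈ [g1, g2, g3, g4], g ∈ wP → φ X g ∈ N.map (Y X).subtype :=
      fun g hg hgW => ⟨⟨_, hWY ⟨g, hgW, rfl⟩⟩, hgN g hg _, rfl⟩
    exact W_gen X hS ⟨k _ (by simp) (x12_mem X hS gens.1).1, k _ (by simp) (x12_mem X hS gens.2.1).1,
      k _ (by simp) (x12_mem X hS gens.2.2.1).1, k _ (by simp) (x12_mem X hS gens.2.2.2.1).1⟩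
  obtain ⟨NG, hNG⟩ : ∃ NG : Subgroup G, NG = N.map (Y X).subtype := ⟨_, rfl⟩
  have hNY : NG ≤ Y X := hNG ▸ map_subtype_le N
  have hENG : Eg X ≤ NG := fun g hg => hNG ▸ ⟨_, hEN hg, rfl⟩
  have hnorm : Y X ≤ normalizer (NG : Set G) := by
    intro y hy
    rw [hNG, mem_normalizer_iff]
    intro h
    constructor
    · rintro ⟨n, hn, rfl⟩; exact ⟨_, hNn.conj_mem n hn ⟨y, hy⟩, rfl⟩
    · rintro ⟨n, hn, he⟩
      have := hNn.conj_mem n hn (⟨y, hy⟩⁻¹)
      refine ⟨_, this, ?_⟩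
      simp only [map_mul, map_inv, Subgroup.coe_subtype, inv_inv] at he ⊢
      rw [he]; group
  -- inside the image only `W E` survives
  have hWE : ∀ x ∈ allP, φ X x ∈ NG → x ∈ weP := by
    intro x hx hxN
    rcases (conj_all x hx).2.2 with h | ⟨u, hu, hxu⟩
    · exact h
    · exfalso
      have huP := subs.2.1 _ (subs.2.2.2.2.1 u hu).1
      simp only [weP, List.mem_flatMap, List.mem_map] at hxu
      obtain ⟨w, hw, e, he, hwe⟩ := hxu
      have h1 : φ X x * φ X u ∈ NG := by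
        rw [← φ_mul X hx huP (allP_closed hx huP), ← hwe,
          φ_mul X (wP_all hw) (eP_all he) (allP_closed (wP_all hw) (eP_all he))]
        exact mul_mem (hNG ▸ hWN ⟨w, hw, rfl⟩) (hENG ⟨e, he, rfl⟩)
      have huN : φ X u ∈ NG := by
        have := mul_mem (inv_mem hxN) h1
        rwa [inv_mul_cancel_left] at this
      rw [hNG, hN] at huN
      obtain ⟨⟨m, hm⟩, ⟨⟨hma, hmb⟩, hmc⟩, rfl⟩ := huN
      simp only [List.mem_cons, List.not_mem_nil, or_false] at hu
      rcases hu with rfl | rfl | rfl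
      · exact na _ hma
      · exact nb _ hmb
      · exact nc _ hmc
  -- Burnside
  obtain ⟨P, hP⟩ := exists_sylow_E X hS hNY hENG
  have hPc : normalizer ((P : Subgroup NG) : Set NG) ≤ centralizer ((P : Subgroup NG) : Set NG) := by
    intro n hn
    have hmove : ∀ e ∈ eP, (n : G) * φ X e * (n : G)⁻¹ ∈ Eg X := fun e he => by
      have hm : (⟨φ X e, hENG ⟨e, he, rfl⟩⟩ : NG) ∈ (P : Subgroup NG) := by
        rw [hP]; exact mem_subgroupOf.2 ⟨e, he, rfl⟩
      have := (mem_normalizer_iff.1 hn _).1 hm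
      rw [hP] at this
      exact mem_subgroupOf.1 this
    have h1P := subs.2.2.2.2.2.2.2.2.1
    have hnH : (n : G) ∈ CH X := ⟨hNY n.2,
      move X hS ⟨e1C, h1P, rfl⟩ (e1_ne X hS) (E_le X (hmove e1C h1P)).2⟩
    obtain ⟨x, hx, hxe⟩ := exists_φ X hnH
    have hxwe := hWE x hx (hxe ▸ n.2)
    have hc : ∀ e ∈ eP, cj x e ∈ eP := fun e he => by
      have := hmove e he
      rw [← hxe, ← φ_cj X hx (eP_all he) (allP_closed hx (eP_all he)) (cj_mem hx (eP_all he))] at this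
      obtain ⟨f, hf, hfe⟩ := this
      exact φ_inj X (eP_all hf) (cj_mem hx (eP_all he)) hfe ▸ hf
    obtain ⟨hc1, hc2⟩ := (we_facts x hxwe).2 ⟨hc _ h1P, hc _ subs.2.2.2.2.2.2.2.2.2⟩
    simp only [cm, beq_iff_eq] at hc1 hc2
    have hcom : ∀ e, e ∈ allP → mulP x e = mulP e x → Commute (n : G) (φ X e) := fun e he h => by
      show (n : G) * φ X e = φ X e * (n : G)
      rw [← hxe, ← φ_mul X hx he (allP_closed hx he), ← φ_mul X he hx (allP_closed he hx), h]
    have k1 := hcom _ e1_all hc1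
    have k2 := hcom _ e2_all hc2
    have hEc : Eg X ≤ centralizer ({(n : G)} : Set G) := by
      rintro _ ⟨e, he, rfl⟩
      simp only [eP, List.mem_flatMap, List.mem_map, List.mem_cons, List.not_mem_nil, or_false] at he
      obtain ⟨a, ha, b, hb, rfl⟩ := he
      have ka : a ∈ allP ∧ Commute (n : G) (φ X a) := by
        rcases ha with rfl | rfl | rfl
        · exact ⟨subs.2.1 _ one_t, by rw [φ_one]; exact Commute.one_right _⟩
        · exact ⟨e1_all, k1⟩
        · exact ⟨allP_closed e1_all e1_all,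
            by rw [φ_mul X e1_all e1_all (allP_closed e1_all e1_all)]; exact k1.mul_right k1⟩
      have kb : b ∈ allP ∧ Commute (n : G) (φ X b) := by
        rcases hb with rfl | rfl | rfl
        · exact ⟨subs.2.1 _ one_t, by rw [φ_one]; exact Commute.one_right _⟩
        · exact ⟨e2_all, k2⟩
        · exact ⟨allP_closed e2_all e2_all,
            by rw [φ_mul X e2_all e2_all (allP_closed e2_all e2_all)]; exact k2.mul_right k2⟩
      rw [mem_centralizer_singleton_iff, φ_mul X ka.1 kb.1 (allP_closed ka.1 kb.1)]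
      exact (ka.2.mul_right kb.2).symm.eq
    refine mem_centralizer_iff.2 fun e he => ?_
    rw [hP] at he
    exact Subtype.ext (mem_centralizer_singleton_iff.1 (hEc (mem_subgroupOf.1 he)))
  have hcomp := MonoidHom.ker_transferSylow_isComplement' P hPc
  set V := (MonoidHom.transferSylow P hPc).ker with hV
  have hVG : V.map NG.subtype ≤ Wg X := by
    refine le_W X hS ((map_subtype_le V).trans hNY) ?_ ?_
    · intro g hg
      rw [mem_normalizer_iff]
      have key : ∀ (n : NG) (h : G), h ∈ V.map NG.subtype →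
          (n : G) * h * (n : G)⁻¹ ∈ V.map NG.subtype := by
        rintro n _ ⟨v, hv, rfl⟩
        exact ⟨_, (MonoidHom.normal_ker _).conj_mem v hv n, rfl⟩
      intro h
      refine ⟨key ⟨g, hENG hg⟩ h, fun hh => ?_⟩
      have := key ⟨g, hENG hg⟩⁻¹ _ hh
      simpa [mul_assoc] using this
    · rw [card_map_of_injective NG.subtype_injective]
      have h := hcomp.card_mul
      have h2 := hcomp.index_eq_card
      have hdvd : ¬ 3 ∣ (P : Subgroup NG).index := P.not_dvd_index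
      have e : (P : Subgroup NG).index = Nat.card V := hcomp.index_eq_card
      rw [e] at hdvd
      exact ((Nat.Prime.coprime_iff_not_dvd Nat.prime_three).2 hdvd).symm
  have hNH : NG ≤ X.ι.range := by
    intro g hg
    obtain ⟨⟨v, p⟩, hvp, -⟩ := hcomp.existsUnique ⟨g, hg⟩
    have hv : ((v : NG) : G) ∈ X.ι.range := (W_le X hS (hVG ⟨v, v.2, rfl⟩)).2
    have hp : ((p : NG) : G) ∈ X.ι.range := by
      have := p.2
      simp only [hP, mem_subgroupOf] at this
      exact (E_le X this).2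
    have e : g = ((v : NG) : G) * ((p : NG) : G) := (congrArg Subtype.val hvp).symm
    exact e ▸ mul_mem hv hp
  intro y hy
  have h1P := subs.2.2.2.2.2.2.2.2.1
  exact move X hS ⟨e1C, h1P, rfl⟩ (e1_ne X hS)
    (hNH ((mem_normalizer_iff.1 (hnorm hy) _).1 (hENG ⟨e1C, h1P, rfl⟩)))

end CfsgLib.L43Three.CI

namespace CfsgLib.L43Three

universe u

/-- Piece 12. -/
theorem centI : StmtCentI.{u} := fun _ {_} _ _ X hS => ⟨CI.cent_le X hS, CI.fus X hS⟩

end CfsgLib.L43Three
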