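import Cfsg.Agent.Lib.L43Three.CentIModel

/-!
Finite facts about the centralizer of `diag (1, 1, -1, -1)` (statement S3373).
The long checks run on Boolean tests whose arguments are evaluated before use: this keeps the
kernel's memory small.
-/

set_option autoImplicit false
set_option maxRecDepth 1000000
set_option synthInstance.maxSize 65536
set_option synthInstance.maxHeartbeats 2000000

namespace CfsgLib.L43Three.CI

/-- Evaluate a number, then continue. -/
def fN (n : ℕ) (k : ℕ → Bool) : Bool :=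
  Nat.rec (motive := fun _ => Bool) (k 0) (fun m _ => k (m + 1)) n

theorem fN_eq (n : ℕ) (k : ℕ → Bool) : fN n k = k n := by cases n <;> rfl

/-- Evaluate a block, then continue. -/
def fM (a : M2) (k : M2 → Bool) : Bool :=
  fN a.1 fun p => fN a.2.1 fun q => fN a.2.2.1 fun r => fN a.2.2.2 fun s => k (p, q, r, s)

theorem fM_eq (a : M2) (k : M2 → Bool) : fM a k = k a := by simp [fM, fN_eq]

/-- Evaluate a code, then continue. -/
def fC (x : Cd) (k : Cd → Bool) : Bool :=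
  fM x.1 fun a => fM x.2.1 fun b => match x.2.2 with
    | false => k (a, b, false)
    | true => k (a, b, true)

theorem fC_eq (x : Cd) (k : Cd → Bool) : fC x k = k x := by
  obtain ⟨a, b, s⟩ := x
  cases s <;> simp [fC, fM_eq]

/-- The product, evaluated. -/
def fMul (x y : Cd) (k : Cd → Bool) : Bool := fC (mulRaw x y) fun r => fC (canon r) k

theorem fMul_eq (x y : Cd) (k : Cd → Bool) : fMul x y k = k (mulP x y) := by
  simp [fMul, fC_eq, mulP]

/-- The conjugate, evaluated. -/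
def fCj (x y : Cd) (k : Cd → Bool) : Bool :=
  fMul x y fun z => fC (invC x) fun i => fMul z i k

theorem fCj_eq (x y : Cd) (k : Cd → Bool) : fCj x y k = k (cj x y) := by
  simp [fCj, fC_eq, fMul_eq, cj]

/-- A test on every member of a list. -/
def allC : List Cd → (Cd → Bool) → Bool
  | [], _ => true
  | x :: l, p => fC x p && allC l p

theorem allC_iff {p : Cd → Bool} : ∀ {l : List Cd}, allC l p = true ↔ ∀ x ∈ l, p x = true
  | [] => by simp [allC]
  | a :: l => by simp [allC, fC_eq, allC_iff (l := l)]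

/-- Equal blocks. -/
def eqM (a b : M2) : Bool :=
  Nat.beq a.1 b.1 && Nat.beq a.2.1 b.2.1 && Nat.beq a.2.2.1 b.2.2.1 && Nat.beq a.2.2.2 b.2.2.2

theorem eqM_iff {a b : M2} : eqM a b = true ↔ a = b := by
  obtain ⟨p, q, r, s⟩ := a
  obtain ⟨p', q', r', s'⟩ := b
  simp [eqM, and_assoc]

/-- Equal codes. -/
def eqC (x y : Cd) : Bool := eqM x.1 y.1 && eqM x.2.1 y.2.1 && (x.2.2 == y.2.2)

theorem eqC_iff {x y : Cd} : eqC x y = true ↔ x = y := by
  obtain ⟨a, b, s⟩ := x
  obtain ⟨c, d, t⟩ := y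
  simp [eqC, eqM_iff, and_assoc]

/-- A block with entries below three. -/
def okM (a : M2) : Bool :=
  Nat.blt a.1 3 && Nat.blt a.2.1 3 && Nat.blt a.2.2.1 3 && Nat.blt a.2.2.2 3

/-- A member of a list of blocks. -/
def memM (a : M2) : List M2 → Bool
  | [] => false
  | b :: l => eqM a b || memM a l

/-- In the centralizer. -/
def inA (x : Cd) : Bool :=
  okM x.1 && okM x.2.1 && lead x.1 && !(Nat.beq (d2 x.1) 0) && Nat.beq (d2 x.2.1) (d2 x.1)

/-- In `W E`. -/
def inWE (x : Cd) : Bool := inA x && !x.2.2 && Nat.beq (d2 x.1) 1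

/-- In `W`. -/
def inW (x : Cd) : Bool := inA x && !x.2.2 && memM x.1 q8 && memM x.2.1 q8

/-- In the Sylow group. -/
def inT (x : Cd) : Bool := inA x && memM x.1 sd16 && memM x.2.1 sd16

/-- In `E`. -/
def inE (x : Cd) : Bool :=
  inA x && !x.2.2 && Nat.beq x.1.1 1 && Nat.beq x.1.2.2.1 0 && Nat.beq x.1.2.2.2 1 &&
    Nat.beq x.2.1.1 1 && Nat.beq x.2.1.2.2.1 0 && Nat.beq x.2.1.2.2.2 1

theorem inA_mem {x : Cd} (h : inA x = true) : x ∈ allP := by
  obtain ⟨⟨a, b, c, d⟩, ⟨a', b', c', d'⟩, s⟩ := x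
  simp only [inA, okM, Bool.and_eq_true, Nat.blt_eq, Bool.not_eq_true', Nat.beq_eq] at h
  obtain ⟨⟨⟨⟨⟨⟨⟨ha, hb⟩, hc⟩, hd⟩, ⟨⟨ha', hb'⟩, hc'⟩, hd'⟩, hl⟩, h0⟩, he⟩ := h
  have h3 : ∀ n, n < 3 → n ∈ [0, 1, 2] := fun n hn => by simp; omega
  have hm : ∀ p q r t, p < 3 → q < 3 → r < 3 → t < 3 → ((p, q, r, t) : M2) ∈ allM :=
    fun p q r t hp hq hr ht => by
      simp only [allM, List.mem_flatMap, List.mem_map]
      exact ⟨p, h3 p hp, q, h3 q hq, r, h3 r hr, t, h3 t ht, rfl⟩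
  have h0' : d2 (a, b, c, d) ≠ 0 := fun e => by rw [e] at h0; exact Bool.noConfusion h0
  simp only [allP, gl2, List.mem_flatMap, List.mem_filter, bne_iff_ne, beq_iff_eq]
  refine ⟨_, ⟨⟨hm a b c d ha hb hc hd, h0'⟩, hl⟩, _, ⟨⟨hm a' b' c' d' ha' hb' hc' hd', ?_⟩, he⟩, ?_⟩
  · rw [he]; exact h0'
  · cases s <;> simp

theorem test_check : allC allP (fun x => (!inW x || wP.any (eqC x)) && (!inT x || tP.any (eqC x)) &&
    (!inWE x || weP.any (eqC x)) && (!inE x || eP.any (eqC x))) = true := by decide +kernel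

theorem mem_of_any {x : Cd} {l : List Cd} (h : l.any (eqC x) = true) : x ∈ l := by
  obtain ⟨y, hy, e⟩ := List.any_eq_true.1 h
  rwa [eqC_iff.1 e]

theorem test_sound {x : Cd} (ha : inA x = true) :
    (inW x = true → x ∈ wP) ∧ (inT x = true → x ∈ tP) ∧ (inWE x = true → x ∈ weP) ∧
      (inE x = true → x ∈ eP) := by
  have h := allC_iff.1 test_check x (inA_mem ha)
  simp only [Bool.and_eq_true, Bool.or_eq_true, Bool.not_eq_true'] at h
  refine ⟨fun e => ?_, fun e => ?_, fun e => ?_, fun e => ?_⟩ <;>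
    simp only [e, Bool.true_eq_false, false_or] at h
  exacts [mem_of_any h.1.1.1, mem_of_any h.1.1.2, mem_of_any h.1.2, mem_of_any h.2]

theorem inW_mem {x : Cd} (h : inW x = true) : x ∈ wP :=
  (test_sound (by simp only [inW, Bool.and_eq_true] at h; exact h.1.1.1)).1 h

theorem inT_mem {x : Cd} (h : inT x = true) : x ∈ tP :=
  (test_sound (by simp only [inT, Bool.and_eq_true] at h; exact h.1.1)).2.1 h

theorem inWE_mem {x : Cd} (h : inWE x = true) : x ∈ weP :=
  (test_sound (by simp only [inWE, Bool.and_eq_true] at h; exact h.1.1)).2.2.1 h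

theorem inE_mem {x : Cd} (h : inE x = true) : x ∈ eP :=
  (test_sound (by simp only [inE, Bool.and_eq_true] at h; exact h.1.1.1.1.1.1.1)).2.2.2 h

theorem coset_check : allC tP (fun x => [u4, u0, u1].all fun u =>
    !(inW x || fMul x u inW) || (coset u).any (eqC x)) = true := by decide +kernel

theorem closed_check : allC wP (fun x => allC wP fun y => fMul x y inW) = true ∧
    allC tP (fun x => allC tP fun y => fMul x y inT) = true ∧
    allC eP (fun x => allC eP fun y => fMul x y inE) = true := by decide +kernel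

theorem coset_closed_check : ([u4, u0, u1].all fun u => allC (coset u) fun x => allC (coset u) fun y =>
    fMul x y fun z => inT z && (inW z || fMul z u inW)) = true := by decide +kernel

theorem closed : (∀ x ∈ wP, ∀ y ∈ wP, mulP x y ∈ wP) ∧ (∀ x ∈ tP, ∀ y ∈ tP, mulP x y ∈ tP) ∧
    (∀ x ∈ eP, ∀ y ∈ eP, mulP x y ∈ eP) ∧ (∀ u ∈ [u4, u0, u1], ∀ x ∈ coset u, ∀ y ∈ coset u,
      mulP x y ∈ coset u) := by
  obtain ⟨h1, h2, h3⟩ := closed_check
  simp only [allC_iff, fMul_eq] at h1 h2 h3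
  refine ⟨fun x hx y hy => inW_mem (h1 x hx y hy), fun x hx y hy => inT_mem (h2 x hx y hy),
    fun x hx y hy => inE_mem (h3 x hx y hy), fun u hu x hx y hy => ?_⟩
  have h := allC_iff.1 (allC_iff.1 (List.all_eq_true.1 coset_closed_check u hu) x hx) y hy
  simp only [fMul_eq, Bool.and_eq_true] at h
  have h' := List.all_eq_true.1 (allC_iff.1 coset_check _ (inT_mem h.1)) u hu
  simp only [fMul_eq, h.2, Bool.not_true, Bool.false_or] at h'
  exact mem_of_any h'

theorem inv_check : allC allP (fun x => fC (invC x) fun i => inA i && fMul x i (eqC · oneC)) =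
    true := by decide +kernel

theorem inv_all : ∀ x ∈ allP, invC x ∈ allP ∧ mulP x (invC x) = oneC := by
  intro x hx
  have h := allC_iff.1 inv_check x hx
  simp only [fC_eq, fMul_eq, Bool.and_eq_true, eqC_iff] at h
  exact ⟨inA_mem h.1, h.2⟩

theorem conj_check : allC allP (fun x => fCj x e1C inWE && fCj x e2C inWE &&
    ([g1, g2, g3, g4].all fun g => fCj x g inW) &&
    (inWE x || [u4, u0, u1].any fun u => fMul x u inWE)) = true := by decide +kernel

theorem conj_all : ∀ x ∈ allP, (∀ e ∈ [e1C, e2C], cj x e ∈ weP) ∧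
    (∀ g ∈ [g1, g2, g3, g4], cj x g ∈ wP) ∧
    (x ∈ weP ∨ ∃ u ∈ [u4, u0, u1], mulP x u ∈ weP) := by
  intro x hx
  have h := allC_iff.1 conj_check x hx
  simp only [fCj_eq, fMul_eq, Bool.and_eq_true, Bool.or_eq_true, List.all_eq_true,
    List.any_eq_true] at h
  refine ⟨fun e he => ?_, fun g hg => inW_mem (h.1.2 g hg), ?_⟩
  · rcases List.mem_cons.1 he with rfl | he
    · exact inWE_mem h.1.1.1
    · rw [List.mem_singleton.1 he]; exact inWE_mem h.1.1.2
  · rcases h.2 with e | ⟨u, hu, e⟩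
    · exact Or.inl (inWE_mem e)
    · exact Or.inr ⟨u, hu, inWE_mem e⟩

theorem sub_check : allC wP (fun x => inT x && inWE x && inW x) = true ∧ allC tP inA = true ∧
    allC weP inA = true ∧ allC weP inWE = true ∧ allC eP inWE = true ∧
    ([u4, u0, u1].all fun u => inT u && fMul u sC inT && allC (coset u) inT) = true ∧
    inW oneC = true ∧ inE oneC = true ∧ inW sC = true ∧ inE e1C = true ∧ inE e2C = true := by
  decide +kernel

theorem subs : (∀ x ∈ wP, x ∈ tP ∧ x ∈ weP) ∧ (∀ x ∈ tP, x ∈ allP) ∧ (∀ x ∈ eP, x ∈ weP) ∧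
    (∀ x ∈ weP, x ∈ allP) ∧
    (∀ u ∈ [u4, u0, u1], u ∈ tP ∧ mulP u sC ∈ tP ∧ ∀ x ∈ coset u, x ∈ tP) ∧
    oneC ∈ wP ∧ oneC ∈ eP ∧ sC ∈ wP ∧ e1C ∈ eP ∧ e2C ∈ eP := by
  obtain ⟨h1, h2, h3, -, h5, h6, a, b, c, d, e⟩ := sub_check
  simp only [allC_iff, Bool.and_eq_true] at h1 h2 h3 h5
  refine ⟨fun x hx => ⟨inT_mem (h1 x hx).1.1, inWE_mem (h1 x hx).1.2⟩,
    fun x hx => inA_mem (h2 x hx), fun x hx => inWE_mem (h5 x hx),
    fun x hx => inA_mem (h3 x hx), fun u hu => ?_,
    inW_mem a, inE_mem b, inW_mem c, inE_mem d, inE_mem e⟩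
  have h := List.all_eq_true.1 h6 u hu
  simp only [Bool.and_eq_true, fMul_eq, allC_iff] at h
  exact ⟨inT_mem h.1.1, inT_mem h.1.2, fun x hx => inT_mem (h.2 x hx)⟩

theorem crit_check : allC allP (fun x => inWE x || [e1C, e2C].any fun e =>
    fCj x e fun z => fC (invC e) fun i => fMul z i fun w => !inW w) = true := by decide +kernel

theorem crit : ∀ x ∈ allP,
    x ∈ weP ∨ ∃ e ∈ [e1C, e2C], mulP (cj x e) (invC e) ∉ wP := by
  intro x hx
  have h := allC_iff.1 crit_check x hx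
  simp only [fCj_eq, fC_eq, fMul_eq, Bool.or_eq_true, List.any_eq_true, Bool.not_eq_true'] at h
  rcases h with h | ⟨e, he, h⟩
  · exact Or.inl (inWE_mem h)
  · refine Or.inr ⟨e, he, fun hm => ?_⟩
    have h1 := sub_check.1
    simp only [allC_iff, Bool.and_eq_true] at h1
    rw [(h1 _ hm).2] at h
    exact Bool.noConfusion h

/-- The key of a block. -/
def kyM (a : M2) : ℕ := 27 * a.1 + 9 * a.2.1 + 3 * a.2.2.1 + a.2.2.2

/-- The key of a code. -/
def ky (x : Cd) : ℕ := (kyM x.1 * 81 + kyM x.2.1) * 2 + x.2.2.toNat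

/-- Strictly increasing. -/
def sortedB : List ℕ → Bool
  | a :: b :: l => Nat.blt a b && sortedB (b :: l)
  | _ => true

theorem sortedB_nodup : ∀ {l : List ℕ}, sortedB l = true → l.Nodup ∧ ∀ a b t, l = a :: t → b ∈ t → a < b
  | [], _ => ⟨List.nodup_nil, fun a b t e => by simp at e⟩
  | [c], _ => ⟨List.nodup_singleton c, fun a b t e hb => by
      obtain ⟨-, rfl⟩ := List.cons.inj e; simp at hb⟩
  | c :: d :: l, h => by
    simp only [sortedB, Bool.and_eq_true, Nat.blt_eq] at h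
    obtain ⟨hn, hlt⟩ := sortedB_nodup (l := d :: l) h.2
    have key : ∀ b ∈ d :: l, c < b := fun b hb => by
      rcases List.mem_cons.1 hb with rfl | hb
      · exact h.1
      · exact h.1.trans (hlt d b l rfl hb)
    refine ⟨List.nodup_cons.2 ⟨fun hc => lt_irrefl c (key c hc), hn⟩, fun a b t e hb => ?_⟩
    obtain ⟨rfl, rfl⟩ := List.cons.inj e
    exact key b hb

theorem sorted_check : sortedB (allP.map ky) = true ∧ allP.length = 1152 := by decide +kernel

theorem nodups : allP.Nodup ∧ allP.length = 1152 :=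
  ⟨List.Nodup.of_map _ (sortedB_nodup sorted_check.1).1, sorted_check.2⟩

theorem we_facts : ∀ x ∈ weP, (x ∈ wP ∨ pw32 x ≠ oneC) ∧
    ((cj x e1C ∈ eP ∧ cj x e2C ∈ eP) → cm x e1C = true ∧ cm x e2C = true) := by decide +kernel

theorem sizes : tP.Nodup ∧ tP.length = 128 ∧ eP.Nodup ∧ eP.length = 9 ∧ quads.length = 1152 ∧
    (∀ u ∈ [u4, u0, u1], (coset u).Nodup ∧ (coset u).length = 64) ∧
    (∀ e ∈ eP, ∀ f ∈ eP, cm e f = true) ∧ (∀ e ∈ eP, mulP (mulP e e) e = oneC) := by decide +kernel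

theorem x12_t : ∀ x ∈ tP, mulP x x = sC → x ∈ x12 := by decide +kernel

theorem gens : g1 ∈ x12 ∧ g2 ∈ x12 ∧ g3 ∈ x12 ∧ g4 ∈ x12 ∧
    cm g1 g2 = false ∧ cm g1 g3 = true ∧ cm g2 g3 = true ∧ cm g1 g4 = true ∧ cm g2 g4 = true ∧
    cm g3 g4 = false := by decide +kernel

theorem gen_comm : ∀ g ∈ [g1, g2, g3, g4], ∃ e ∈ eP, ∃ w ∈ wP, mulP e w = mulP g (mulP w e) := by
  decide +kernel

theorem w_center : ∀ x ∈ wP, cm x g1 = true → cm x g2 = true → cm x g3 = true → cm x g4 = true →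
    x = oneC ∨ x = sC := by decide +kernel

theorem e_center : ∀ x ∈ eP, cm x g1 = true → cm x g2 = true → cm x g3 = true → cm x g4 = true →
    x = oneC := by decide +kernel

theorem w_gen : ∀ x ∈ wP, ∃ a ∈ [oneC, g1, mulP g1 g1, mulP g1 (mulP g1 g1)], ∃ b ∈ [oneC, g2],
    ∃ c ∈ [oneC, g3, mulP g3 g3, mulP g3 (mulP g3 g3)], ∃ d ∈ [oneC, g4],
      x = mulP (mulP a b) (mulP c d) := by decide +kernel

theorem t_cover : ∀ x ∈ tP, x ∈ wP ∨ ∃ u ∈ [u4, u0, u1], ∃ w ∈ wP, x = mulP w u := by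
  decide +kernel

/-- Whether the representative itself squares to one. -/
def isA (x : Cd) : Bool := mulRaw x x == oneC

theorem types : isA u4 = true ∧ isA (mulP u4 sC) = true ∧ isA u0 = false ∧ isA (mulP u0 sC) = true ∧
    isA u1 = false ∧ isA (mulP u1 sC) = true ∧
    (∀ x ∈ coset u0, x ≠ oneC → mulP x x = oneC →
      x = sC ∨ isA x = false ∨ isA (mulP x sC) = false) ∧
    (∀ x ∈ coset u4, x ≠ oneC → mulP x x = oneC → x = sC ∨ isA x = isA (mulP x sC)) := by
  decide +kernel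

theorem invol_three : ∀ t ∈ tP, t ≠ oneC → mulP t t = oneC →
    (∃ e ∈ allP, e ≠ oneC ∧ mulP (mulP e e) e = oneC ∧ cm t e = true) ∨
    (t.2.2 = false ∧ ∃ X ∈ allM, X ≠ (0, 0, 0, 0) ∧ m2 t.1 X = m2 X t.2.1) := by decide +kernel

end CfsgLib.L43Three.CI
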