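import Cfsg.Agent.Lib.L43Three.CentIFacts
import Cfsg.Agent.Lib.Classical.Order

/-!
The codes inside `PSL₄(3)` and inside a group containing it (piece `StmtCentI` of statement S3373).
-/

set_option autoImplicit false
set_option maxRecDepth 1000000
set_option synthInstance.maxSize 65536
set_option synthInstance.maxHeartbeats 2000000
set_option linter.unusedSectionVars false

namespace CfsgLib.L43Three.CI

open Subgroup

/-- Read a block matrix. -/
def code (M : Matrix (Fin 4) (Fin 4) (ZMod 3)) : Cd :=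
  if M 0 0 = 0 ∧ M 0 1 = 0 then
    (((M 0 2).val, (M 0 3).val, (M 1 2).val, (M 1 3).val),
      ((M 2 0).val, (M 2 1).val, (M 3 0).val, (M 3 1).val), true)
  else
    (((M 0 0).val, (M 0 1).val, (M 1 0).val, (M 1 1).val),
      ((M 2 2).val, (M 2 3).val, (M 3 2).val, (M 3 3).val), false)

theorem code_toM : ∀ x ∈ allP, canon (code (toM x)) = x ∧ canon (code (-toM x)) = x := by
  decide +kernel

theorem toL_inj {x y : Cd} (hx : x ∈ allP) (hy : y ∈ allP) (h : toL x = toL y) : x = y := by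
  rcases mk_eq_cases h with e | e <;> rw [toS_val hx, toS_val hy] at e
  · rw [← (code_toM x hx).1, e, (code_toM y hy).1]
  · rw [← (code_toM x hx).1, e, (code_toM y hy).2]

theorem mem_allP {a b : M2} {s : Bool} (ha : a ∈ gl2) (hl : lead a = true) (hb : b ∈ gl2)
    (hd : d2 b = d2 a) : (a, b, s) ∈ allP := by
  simp only [allP, List.mem_flatMap, List.mem_filter]
  refine ⟨a, ⟨ha, hl⟩, b, ⟨hb, by simpa using hd⟩, ?_⟩
  cases s <;> simp

theorem val_mem : ∀ a b c d : ZMod 3, (a.val, b.val, c.val, d.val) ∈ allM := by decide +kernel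

theorem block_facts : ∀ a ∈ allM, d2 a < 3 ∧ neg2 a ∈ allM ∧ d2 (neg2 a) = d2 a ∧
    (d2 a ≠ 0 → lead a = true ∨ lead (neg2 a) = true) := by decide +kernel

theorem canon_mem {a b : M2} {s : Bool} (ha : a ∈ allM) (hb : b ∈ allM)
    (hd : ((d2 a : ℕ) : ZMod 3) * (d2 b : ℕ) = 1) : canon (a, b, s) ∈ allP := by
  obtain ⟨ha3, hna, hnd, hlead⟩ := block_facts a ha
  obtain ⟨hb3, hnb, hnbd, -⟩ := block_facts b hb
  have key : ∀ i : Fin 3, ∀ j : Fin 3, ((i.val : ℕ) : ZMod 3) * (j.val : ℕ) = 1 →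
      i.val ≠ 0 ∧ j.val = i.val := by decide +kernel
  obtain ⟨h0, he⟩ : d2 a ≠ 0 ∧ d2 b = d2 a := key ⟨_, ha3⟩ ⟨_, hb3⟩ hd
  have hg : ∀ c ∈ allM, d2 c ≠ 0 → c ∈ gl2 := fun c hc h =>
    List.mem_filter.2 ⟨hc, by simpa using h⟩
  unfold canon
  by_cases hl : lead a = true
  · rw [if_pos hl]; exact mem_allP (hg a ha h0) hl (hg b hb (he ▸ h0)) he
  · rw [if_neg hl]
    exact mem_allP (hg _ hna (hnd ▸ h0)) ((hlead h0).resolve_left hl)
      (hg _ hnb (by rw [hnbd, he]; exact h0)) (by rw [hnbd, hnd, he])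

theorem det_toM (a b : M2) (s : Bool) :
    (toM (a, b, s)).det = ((d2 a : ℕ) : ZMod 3) * (d2 b : ℕ) := by
  obtain ⟨a0, a1, a2, a3⟩ := a
  obtain ⟨b0, b1, b2, b3⟩ := b
  have h2 : (2 : ZMod 3) = -1 := by decide +kernel
  cases s <;>
    simp [toM, d2, Matrix.det_succ_row_zero, Fin.sum_univ_succ, Fin.succAbove, h2] <;> ring

/-- The centralizer of `diag (1, 1, -1, -1)` consists of the codes. -/
theorem exists_code {g : L4} (h : g * i0L = i0L * g) : ∃ x ∈ allP, toL x = g := by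
  obtain ⟨k, rfl⟩ := QuotientGroup.mk'_surjective _ g
  change mk k * i0L = i0L * mk k at h
  rw [i0L, ← map_mul, ← map_mul] at h
  have hblock : k.1 = toM (code k.1) := by
    obtain ⟨A, hA⟩ : ∃ A, A = k.1 := ⟨_, rfl⟩
    rw [← hA]
    have hdet : A.det = 1 := hA ▸ k.2
    have hd : ∀ a : ZMod 3, a = -a → a = 0 := by decide +kernel
    rcases mk_eq_cases h with e | e <;>
      simp only [Matrix.SpecialLinearGroup.coe_mul, ← hA] at e
    · have z : ∀ i j, A i j * (![1, 1, -1, -1] : Fin 4 → ZMod 3) j =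
          (![1, 1, -1, -1] : Fin 4 → ZMod 3) i * A i j := fun i j => by
        have := congrFun (congrFun e i) j
        simpa [i0S, Matrix.mul_diagonal, Matrix.diagonal_mul] using this
      have h02 := z 0 2; have h03 := z 0 3; have h12 := z 1 2; have h13 := z 1 3
      have h20 := z 2 0; have h21 := z 2 1; have h30 := z 3 0; have h31 := z 3 1
      simp at h02 h03 h12 h13 h20 h21 h30 h31
      have z02 := hd _ h02.symm; have z03 := hd _ h03.symm
      have z12 := hd _ h12.symm; have z13 := hd _ h13.symm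
      have z20 := hd _ h20; have z21 := hd _ h21; have z30 := hd _ h30; have z31 := hd _ h31
      have hne : ¬ (A 0 0 = 0 ∧ A 0 1 = 0) := fun ⟨p, q⟩ => by
        have : A.det = 0 := Matrix.det_eq_zero_of_row_eq_zero 0 fun j => by
          fin_cases j
          · exact p
          · exact q
          · exact z02
          · exact z03
        rw [hdet] at this
        exact one_ne_zero this
      rw [code, if_neg hne]
      ext i j
      fin_cases i <;> fin_cases j <;>
        simp [toM, z02, z03, z12, z13, z20, z21, z30, z31]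
    · have z : ∀ i j, A i j * (![1, 1, -1, -1] : Fin 4 → ZMod 3) j =
          -((![1, 1, -1, -1] : Fin 4 → ZMod 3) i * A i j) := fun i j => by
        have := congrFun (congrFun e i) j
        simpa [i0S, Matrix.mul_diagonal, Matrix.diagonal_mul] using this
      have h00 := z 0 0; have h01 := z 0 1; have h10 := z 1 0; have h11 := z 1 1
      have h22 := z 2 2; have h23 := z 2 3; have h32 := z 3 2; have h33 := z 3 3
      simp at h00 h01 h10 h11 h22 h23 h32 h33
      have z00 := hd _ h00; have z01 := hd _ h01; have z10 := hd _ h10; have z11 := hd _ h11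
      have z22 := hd _ h22.symm; have z23 := hd _ h23.symm
      have z32 := hd _ h32.symm; have z33 := hd _ h33.symm
      rw [code, if_pos ⟨z00, z01⟩]
      ext i j
      fin_cases i <;> fin_cases j <;>
        simp [toM, z00, z01, z10, z11, z22, z23, z32, z33]
  obtain ⟨⟨a, b, s⟩, hc⟩ : ∃ c, c = code k.1 := ⟨_, rfl⟩
  have hm : a ∈ allM ∧ b ∈ allM := by
    have h1 : a = (code k.1).1 := congrArg Prod.fst hc
    have h2 : b = (code k.1).2.1 := congrArg (fun c => c.2.1) hc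
    rw [h1, h2, code]
    split_ifs <;> exact ⟨val_mem _ _ _ _, val_mem _ _ _ _⟩
  have hdet := k.2
  rw [hblock, ← hc, det_toM] at hdet
  have hx := canon_mem (s := s) hm.1 hm.2 hdet
  refine ⟨_, hx, ?_⟩
  rw [toL]
  rcases toM_canon (a, b, s) with e | e
  · exact congrArg mk (Subtype.ext (by rw [toS_val hx, e, hc, ← hblock]))
  · exact mk_neg (by rw [toS_val hx, e, hc, ← hblock])

theorem toL_one : toL oneC = 1 := by
  have h : toS oneC = 1 := Subtype.ext (by
    rw [toS_val (subs.2.1 _ (subs.1 _ subs.2.2.2.2.2.1).1)]; decide +kernel)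
  rw [toL, h, map_one]

theorem toL_s : toL sC = i0L := by
  refine congrArg mk (Subtype.ext ?_)
  rw [toS_val (subs.2.1 _ (subs.1 _ subs.2.2.2.2.2.2.2.1).1)]
  decide +kernel

theorem toL_cj {x y : Cd} (hx : x ∈ allP) (hy : y ∈ allP) (hxy : mulP x y ∈ allP)
    (hc : cj x y ∈ allP) : toL (cj x y) = toL x * toL y * (toL x)⁻¹ := by
  obtain ⟨hi, he⟩ := inv_all x hx
  have h1 : oneC ∈ allP := subs.2.1 _ (subs.1 _ subs.2.2.2.2.2.1).1
  have e := toL_mul hx hi (he ▸ h1)
  rw [he, toL_one] at e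
  rw [cj, toL_mul hxy hi hc, toL_mul hx hy hxy, eq_inv_of_mul_eq_one_right e.symm]

theorem sC_comm : ∀ x ∈ allP, mulP x sC = mulP sC x ∧ mulP x sC ∈ allP := by decide +kernel

theorem toL_comm_s {x : Cd} (hx : x ∈ allP) : toL x * i0L = i0L * toL x := by
  have hs : sC ∈ allP := subs.2.1 _ (subs.1 _ subs.2.2.2.2.2.2.2.1).1
  obtain ⟨e, hm⟩ := sC_comm x hx
  rw [← toL_s, ← toL_mul hx hs hm, ← toL_mul hs hx (e ▸ hm), e]

/-- An image of `diag (1, 1, -1, -1)` has an exact square root of one as its representative. -/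
theorem isA_of_conj {x : Cd} (hx : x ∈ allP) (h : IsConj i0L (toL x)) :
    toM x * toM x = 1 := by
  obtain ⟨g, hg⟩ := isConj_iff.1 h
  obtain ⟨k, rfl⟩ := QuotientGroup.mk'_surjective _ g
  change mk k * i0L * (mk k)⁻¹ = toL x at hg
  rw [i0L, toL, ← map_inv, ← map_mul, ← map_mul] at hg
  have h2 : i0S * i0S = 1 := Subtype.ext (by decide +kernel)
  have hsq : (k * i0S * k⁻¹).1 * (k * i0S * k⁻¹).1 = 1 := by
    rw [← Matrix.SpecialLinearGroup.coe_mul,
      show k * i0S * k⁻¹ * (k * i0S * k⁻¹) = k * (i0S * i0S) * k⁻¹ by group, h2, mul_one,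
      mul_inv_cancel, Matrix.SpecialLinearGroup.coe_one]
  rcases mk_eq_cases hg with e | e <;> rw [toS_val hx] at e <;> rw [e] at hsq
  · exact hsq
  · exact (neg_mul_neg (toM x) (toM x)).symm.trans hsq

/-- An element of `SL₄(3)` with given matrix. -/
def mkS (H : Matrix (Fin 4) (Fin 4) (ZMod 3)) (hd : H.det = 1) : S4 := ⟨H, hd⟩

theorem mkS_val (H : Matrix (Fin 4) (Fin 4) (ZMod 3)) (hd : H.det = 1) : (mkS H hd).1 = H := rfl

theorem isA_facts : (∀ x ∈ tP, isA x = false → ¬ toM x * toM x = 1) := by decide +kernel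

/-- Conjugators. -/
theorem conj_A {x : Cd} (hx : x ∈ allP) (H : Matrix (Fin 4) (Fin 4) (ZMod 3)) (hd : H.det = 1)
    (h : toM x * H = H * i0S.1) : IsConj i0L (toL x) := by
  refine isConj_iff.2 ⟨mk (mkS H hd), ?_⟩
  rw [i0L, toL, ← map_inv, ← map_mul, ← map_mul]
  refine congrArg mk ?_
  rw [mul_inv_eq_iff_eq_mul]
  apply Subtype.ext
  rw [Matrix.SpecialLinearGroup.coe_mul, Matrix.SpecialLinearGroup.coe_mul, toS_val hx, mkS_val]
  exact h.symm

theorem u_facts : IsConj i0L (toL u4) ∧ IsConj i0L (toL (mulP u4 sC)) ∧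
    IsConj i0L (toL (mulP u0 sC)) ∧ IsConj i0L (toL (mulP u1 sC)) := by
  refine ⟨conj_A (by decide +kernel) !![2, 0, 0, 0; 1, 0, 2, 0; 0, 2, 0, 0; 0, 1, 0, 1] ?_ ?_,
    conj_A (by decide +kernel) !![2, 0, 0, 0; 1, 0, 2, 0; 0, 0, 0, 2; 0, 2, 0, 1] ?_ ?_,
    conj_A (by decide +kernel) !![1, 0, 1, 0; 0, 1, 0, 2; 2, 1, 1, 1; 1, 0, 2, 0] ?_ ?_,
    conj_A (by decide +kernel) !![1, 0, 1, 0; 0, 1, 0, 1; 0, 2, 0, 1; 1, 0, 2, 0] ?_ ?_⟩ <;>
    decide +kernel

theorem m2_mem (a b : M2) : m2 a b ∈ allM := by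
  have key : ∀ i j k l : Fin 3, ((i : ℕ), (j : ℕ), (k : ℕ), (l : ℕ)) ∈ allM := by decide +kernel
  exact key ⟨_, Nat.mod_lt _ (by norm_num)⟩ ⟨_, Nat.mod_lt _ (by norm_num)⟩
    ⟨_, Nat.mod_lt _ (by norm_num)⟩ ⟨_, Nat.mod_lt _ (by norm_num)⟩

/-- The codes are closed under multiplication. -/
theorem allP_closed {x y : Cd} (hx : x ∈ allP) (hy : y ∈ allP) : mulP x y ∈ allP := by
  have hm : (mulRaw x y).1 ∈ allM ∧ (mulRaw x y).2.1 ∈ allM := by
    obtain ⟨a, b, s⟩ := x
    obtain ⟨c, d, t⟩ := y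
    cases s <;> exact ⟨m2_mem _ _, m2_mem _ _⟩
  have hd : (toM (mulRaw x y)).det = 1 := by
    rw [toM_mulRaw, Matrix.det_mul, det_all x hx, det_all y hy, one_mul]
  rw [mulP]
  obtain ⟨⟨a, b, s⟩, hc⟩ : ∃ c, c = mulRaw x y := ⟨_, rfl⟩
  rw [← hc] at hm hd ⊢
  exact canon_mem hm.1 hm.2 (det_toM a b s ▸ hd)

theorem cj_mem {x y : Cd} (hx : x ∈ allP) (hy : y ∈ allP) : cj x y ∈ allP :=
  allP_closed (allP_closed hx hy) (inv_all x hx).1

theorem we_right : ∀ e ∈ eP, invC e ∈ eP ∧ ∀ x ∈ weP, mulP x e ∈ weP := by decide +kernel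

theorem we_pow : ∀ x ∈ weP, x ∈ wP ∨ (fun y => mulP y y)^[7] x ≠ oneC := by decide +kernel

theorem A_conj : ∀ x ∈ coset u4, x ≠ oneC → mulP x x = oneC → isA x = true →
    x = sC ∨ ∃ c ∈ tP, x = cj c u4 ∨ x = cj c (mulP u4 sC) := by decide +kernel

/-- An upper unipotent element. -/
def uM : M2 → Matrix (Fin 4) (Fin 4) (ZMod 3)
  | (a, b, c, d) => !![1, 0, (a : ZMod 3), b; 0, 1, c, d; 0, 0, 1, 0; 0, 0, 0, 1]

theorem det_uM : ∀ X ∈ allM, (uM X).det = 1 := by decide +kernel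

theorem uM_order : ∀ X ∈ allM, X ≠ (0, 0, 0, 0) →
    uM X * uM X * uM X = 1 ∧ uM X ≠ 1 ∧ uM X ≠ -1 := by decide +kernel

theorem uM_comm {a b X : M2} (h : m2 a X = m2 X b) :
    toM (a, b, false) * uM X = uM X * toM (a, b, false) := by
  obtain ⟨a0, a1, a2, a3⟩ := a
  obtain ⟨b0, b1, b2, b3⟩ := b
  obtain ⟨x0, x1, x2, x3⟩ := X
  simp only [m2, Prod.mk.injEq] at h
  obtain ⟨h0, h1, h2, h3⟩ := h
  have k : ∀ {m n : ℕ}, m % 3 = n % 3 → (m : ZMod 3) = (n : ZMod 3) := fun {m n} e => by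
    rw [← ZMod.natCast_mod m, e, ZMod.natCast_mod]
  have e0 := k h0; have e1 := k h1; have e2 := k h2; have e3 := k h3
  push_cast at e0 e1 e2 e3
  ext i j
  fin_cases i <;> fin_cases j <;>
    simp [toM, uM, Matrix.mul_apply, Fin.sum_univ_four] <;> assumption

theorem det_negOne : (-1 : Matrix (Fin 4) (Fin 4) (ZMod 3)).det = 1 := by
  rw [Matrix.det_neg, Matrix.det_one, Fintype.card_fin]; norm_num

theorem card_L4 : Nat.card L4 = 6065280 := by
  have hc : Nat.card (center S4) = 2 := by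
    have hset : ((center S4 : Subgroup S4) : Set S4) = {1, mkS (-1) det_negOne} := by
      ext g
      simp only [SetLike.mem_coe, Set.mem_insert_iff, Set.mem_singleton_iff]
      constructor
      · intro hg
        have e : mk g = mk 1 := by rw [map_one]; exact (QuotientGroup.eq_one_iff g).2 hg
        rcases mk_eq_cases e with e | e
        · exact Or.inl (Subtype.ext (e.trans Matrix.SpecialLinearGroup.coe_one))
        · exact Or.inr (Subtype.ext (by rw [e, Matrix.SpecialLinearGroup.coe_one, mkS_val]))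
      · rintro (rfl | rfl)
        · exact one_mem _
        · refine mem_center_iff.2 fun k => Subtype.ext ?_
          rw [Matrix.SpecialLinearGroup.coe_mul, Matrix.SpecialLinearGroup.coe_mul, mkS_val, mul_neg,
            neg_mul, mul_one, one_mul]
    have hne : (1 : S4) ≠ mkS (-1) det_negOne := fun h =>
      absurd (congrFun (congrFun (congrArg Subtype.val h) 0) 0) (by decide +kernel)
    rw [← SetLike.coe_sort_coe, Nat.card_coe_set_eq, hset, Set.ncard_pair hne]
  have h := Subgroup.card_eq_card_quotient_mul_card_subgroup (center S4)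
  rw [hc, CfsgLib.Classical.card_SL_fin' 4, Nat.card_zmod] at h
  have h' : (3 : ℕ) ^ (4 * (4 - 1) / 2) * ∏ i ∈ Finset.range (4 - 1), (3 ^ (i + 2) - 1) = 12130560 := by
    decide +kernel
  rw [h'] at h
  show Nat.card (S4 ⧸ center S4) = 6065280
  omega

end CfsgLib.L43Three.CI
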