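import Cfsg.Agent.Lib.L43Three.Defs

/-!
Block codes for the centralizer of `diag (1, 1, -1, -1)` in `PSL₄(3)` and the finite facts used for the
piece `StmtCentI` of statement S3373.
-/

set_option autoImplicit false
set_option maxRecDepth 1000000

namespace CfsgLib.L43Three.CI

open Subgroup

/-- A `2 × 2` block with entries read modulo three. -/
abbrev M2 : Type := ℕ × ℕ × ℕ × ℕ

/-- Two blocks and whether they are exchanged. -/
abbrev Cd : Type := M2 × M2 × Bool

/-- Product of blocks. -/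
def m2 (a b : M2) : M2 :=
  ((a.1 * b.1 + a.2.1 * b.2.2.1) % 3, (a.1 * b.2.1 + a.2.1 * b.2.2.2) % 3,
    (a.2.2.1 * b.1 + a.2.2.2 * b.2.2.1) % 3, (a.2.2.1 * b.2.1 + a.2.2.2 * b.2.2.2) % 3)

/-- Determinant of a block. -/
def d2 (a : M2) : ℕ := (a.1 * a.2.2.2 + 2 * a.2.1 * a.2.2.1) % 3

/-- The negative of a block. -/
def neg2 (a : M2) : M2 := (2 * a.1 % 3, 2 * a.2.1 % 3, 2 * a.2.2.1 % 3, 2 * a.2.2.2 % 3)

/-- The first non-zero entry is one. -/
def lead (a : M2) : Bool :=
  if a.1 ≠ 0 then a.1 == 1 else if a.2.1 ≠ 0 then a.2.1 == 1 else if a.2.2.1 ≠ 0 then a.2.2.1 == 1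
    else a.2.2.2 == 1

/-- The product of block matrices. -/
def mulRaw : Cd → Cd → Cd
  | (a, b, false), (c, d, t) => (m2 a c, m2 b d, t)
  | (a, b, true), (c, d, t) => (m2 a d, m2 b c, !t)

/-- The representative up to sign. -/
def canon (x : Cd) : Cd := if lead x.1 then x else (neg2 x.1, neg2 x.2.1, x.2.2)

/-- The product up to sign. -/
def mulP (x y : Cd) : Cd := canon (mulRaw x y)

/-- All blocks. -/
def allM : List M2 :=
  [0, 1, 2].flatMap fun a => [0, 1, 2].flatMap fun b => [0, 1, 2].flatMap fun c =>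
    [0, 1, 2].map fun d => ((a, b, c, d) : M2)

/-- All invertible blocks. -/
def gl2 : List M2 := allM.filter fun a => d2 a != 0

/-- The centralizer. -/
def allP : List Cd :=
  (gl2.filter lead).flatMap fun a => (gl2.filter fun b => d2 b == d2 a).flatMap fun b =>
    [(a, b, false), (a, b, true)]

/-- The identity block. -/
def i2 : M2 := (1, 0, 0, 1)
def oneC : Cd := (i2, i2, false)
/-- The central involution. -/
def sC : Cd := (i2, (2, 0, 0, 2), false)
def e1C : Cd := ((1, 1, 0, 1), i2, false)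
def e2C : Cd := (i2, (1, 1, 0, 1), false)

/-- The nine elements of `E`. -/
def eP : List Cd :=
  [oneC, e1C, mulP e1C e1C].flatMap fun a => [oneC, e2C, mulP e2C e2C].map fun b => mulP a b

/-- The quaternion blocks. -/
def q8 : List M2 :=
  [(0, 1, 2, 0), (0, 2, 1, 0), (1, 0, 0, 1), (1, 1, 1, 2), (1, 2, 2, 2), (2, 0, 0, 2), (2, 1, 1, 1),
    (2, 2, 2, 1)]

/-- The semidihedral blocks. -/
def sd16 : List M2 :=
  [(0, 1, 1, 1), (0, 1, 2, 0), (0, 2, 1, 0), (0, 2, 2, 2), (1, 0, 0, 1), (1, 0, 1, 2), (1, 1, 0, 2),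
    (1, 1, 1, 2), (1, 2, 2, 0), (1, 2, 2, 2), (2, 0, 0, 2), (2, 0, 2, 1), (2, 1, 1, 0), (2, 1, 1, 1),
    (2, 2, 0, 1), (2, 2, 2, 1)]

/-- `Q₈ ∘ Q₈`. -/
def wP : List Cd :=
  (q8.filter lead).flatMap fun a => q8.map fun b => (a, b, false)

/-- The Sylow two-subgroup. -/
def tP : List Cd :=
  (sd16.filter lead).flatMap fun a => (sd16.filter fun b => d2 b == d2 a).flatMap fun b =>
    [(a, b, false), (a, b, true)]

/-- The products `w e`. -/
def weP : List Cd := wP.flatMap fun w => eP.map fun e => mulP w e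

/-- The elements of `W` with square `σ`. -/
def x12 : List Cd := wP.filter fun x => mulP x x == sC

def g1 : Cd := ((0, 1, 2, 0), i2, false)
def g2 : Cd := ((1, 1, 1, 2), i2, false)
def g3 : Cd := (i2, (0, 1, 2, 0), false)
def g4 : Cd := (i2, (1, 1, 1, 2), false)

/-- Two elements commute. -/
def cm (x y : Cd) : Bool := mulP x y == mulP y x

/-- The possible images of `g1, …, g4`. -/
def quads : List (Cd × Cd × Cd × Cd) :=
  x12.flatMap fun a => (x12.filter fun b => !cm a b).flatMap fun b =>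
    (x12.filter fun c => cm a c && cm b c).flatMap fun c =>
      ((x12.filter fun d => cm a d && cm b d && !cm c d)).map fun d => (a, b, c, d)

/-- The three involutions outside `W`. -/
def u4 : Cd := ((1, 0, 1, 2), (1, 0, 1, 2), false)
def u0 : Cd := canon ((0, 1, 1, 1), (1, 2, 2, 0), true)
def u1 : Cd := canon ((0, 1, 2, 0), (0, 1, 2, 0), true)

/-- A subgroup of index two of the Sylow group. -/
def coset (u : Cd) : List Cd := wP ++ wP.map fun w => mulP w u

/-- The inverse of an invertible block. -/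
def inv2 (a : M2) : M2 :=
  (d2 a * a.2.2.2 % 3, d2 a * (2 * a.2.1) % 3, d2 a * (2 * a.2.2.1) % 3, d2 a * a.1 % 3)

/-- The inverse of a code. -/
def invC : Cd → Cd
  | (a, b, false) => canon (inv2 a, inv2 b, false)
  | (a, b, true) => canon (inv2 b, inv2 a, true)

/-- Conjugation. -/
def cj (x y : Cd) : Cd := mulP (mulP x y) (invC x)

/-- The thirty-second power. -/
def pw32 (x : Cd) : Cd := (fun y => mulP y y)^[5] x

/-- The matrix of a code. -/
def toM : Cd → Matrix (Fin 4) (Fin 4) (ZMod 3)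
  | ((a, b, c, d), (a', b', c', d'), false) =>
    !![(a : ZMod 3), b, 0, 0; c, d, 0, 0; 0, 0, a', b'; 0, 0, c', d']
  | ((a, b, c, d), (a', b', c', d'), true) =>
    !![0, 0, (a : ZMod 3), b; 0, 0, c, d; (a' : ZMod 3), b', 0, 0; c', d', 0, 0]

theorem toM_mulRaw (x y : Cd) : toM (mulRaw x y) = toM x * toM y := by
  obtain ⟨⟨a, b, c, d⟩, ⟨a', b', c', d'⟩, s⟩ := x
  obtain ⟨⟨e, f, g, h⟩, ⟨e', f', g', h'⟩, t⟩ := y
  cases s <;> cases t <;> ext i j <;> fin_cases i <;> fin_cases j <;>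
    simp [mulRaw, toM, m2, Matrix.mul_apply, Fin.sum_univ_four]

theorem toM_canon (x : Cd) : toM (canon x) = toM x ∨ toM (canon x) = -toM x := by
  obtain ⟨⟨a, b, c, d⟩, ⟨a', b', c', d'⟩, s⟩ := x
  unfold canon
  split_ifs
  · exact Or.inl rfl
  · right
    have h2 : (2 : ZMod 3) = -1 := by decide +kernel
    cases s <;> ext i j <;> fin_cases i <;> fin_cases j <;> simp [toM, neg2, h2]

/-- The element of `SL₄(3)` of a code. -/
def toS (x : Cd) : S4 := if h : (toM x).det = 1 then ⟨toM x, h⟩ else 1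

/-- The element of `PSL₄(3)` of a code. -/
def toL (x : Cd) : L4 := mk (toS x)

theorem det_all : ∀ x ∈ allP, (toM x).det = 1 := by decide +kernel

theorem toS_val {x : Cd} (hx : x ∈ allP) : (toS x).1 = toM x := by
  have key : ∀ d : Decidable ((toM x).det = 1),
      (@dite S4 ((toM x).det = 1) d (fun h => ⟨toM x, h⟩) (fun _ => 1)).1 = toM x := fun d =>
    match d with
    | isTrue _ => rfl
    | isFalse h => absurd (det_all x hx) h
  exact key _

theorem mk_neg {g h : S4} (e : g.1 = -h.1) : mk g = mk h := by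
  refine (QuotientGroup.eq).2 (Subgroup.mem_center_iff.2 fun k => ?_)
  have hz : (g⁻¹ * h).1 = -1 := by
    have h1 : (g⁻¹).1 * g.1 = 1 := by
      rw [← Matrix.SpecialLinearGroup.coe_mul, inv_mul_cancel, Matrix.SpecialLinearGroup.coe_one]
    rw [e, mul_neg, neg_eq_iff_eq_neg] at h1
    rw [Matrix.SpecialLinearGroup.coe_mul, h1]
  apply Subtype.ext
  simp [Matrix.SpecialLinearGroup.coe_mul, hz]

theorem toL_mul {x y : Cd} (hx : x ∈ allP) (hy : y ∈ allP) (hxy : mulP x y ∈ allP) :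
    toL (mulP x y) = toL x * toL y := by
  rw [toL, toL, toL, ← map_mul]
  have h := toM_mulRaw x y
  rw [← toS_val hx, ← toS_val hy, ← Matrix.SpecialLinearGroup.coe_mul] at h
  rcases toM_canon (mulRaw x y) with e | e
  · refine congrArg mk (Subtype.ext ?_)
    rw [toS_val hxy, mulP, e, h]
  · refine mk_neg ?_
    rw [toS_val hxy, mulP, e, h]

theorem mk_eq_cases {g h : S4} (e : mk g = mk h) : g.1 = h.1 ∨ g.1 = -h.1 := by
  have hc := (QuotientGroup.eq).1 e
  obtain ⟨r, hr, hsc⟩ := Matrix.SpecialLinearGroup.mem_center_iff.1 hc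
  have h1 : g.1 * (g⁻¹ * h).1 = h.1 := by
    rw [← Matrix.SpecialLinearGroup.coe_mul, mul_inv_cancel_left]
  rw [← hsc] at h1
  have key : ∀ r : ZMod 3, r ^ 4 = 1 → r = 1 ∨ r = -1 := by decide +kernel
  rcases key r (by simpa using hr) with rfl | rfl
  · left; rw [← h1]; simp
  · right; rw [← h1]; simp [Matrix.scalar_apply, ← Matrix.smul_one_eq_diagonal]

end CfsgLib.L43Three.CI
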