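import Mathlib

/-!
# Transfer of an element of order three fixing one coset
-/

set_option autoImplicit false

namespace CfsgLib.L43Three

open Subgroup MulAction

universe u

variable {C : Type u} [Group C] [Finite C] {H : Subgroup C}

/-- An element of order three lying in `H` and fixing only the trivial coset is its own transfer. -/
theorem transfer_of_one_fixed {A : Type} [CommGroup A] (φ : H →* A) {g : C} (hg : g ∈ H) (h3 : g ^ 3 = 1)
    (hfix : ∀ c : C, c⁻¹ * g * c ∈ H → c ∈ H) : MonoidHom.transfer φ g = φ ⟨g, hg⟩ := by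
  classical
  let := Fintype.ofFinite (Quotient (orbitRel (zpowers g) (C ⧸ H)))
  rw [MonoidHom.transfer_eq_prod_quotient_orbitRel_zpowers_quot]
  set q0 : Quotient (orbitRel (zpowers g) (C ⧸ H)) := Quotient.mk'' ((1 : C) : C ⧸ H) with hq0
  have hg1 : g • ((1 : C) : C ⧸ H) = ((1 : C) : C ⧸ H) := by
    rw [MulAction.Quotient.smul_mk, QuotientGroup.eq]
    simpa using hg
  have hout : q0.out = ((1 : C) : C ⧸ H) := by
    have hrel : q0.out ∈ MulAction.orbit (zpowers g) ((1 : C) : C ⧸ H) :=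
      orbitRel_apply.1 (Quotient.exact' (q0.out_eq'.trans hq0))
    obtain ⟨⟨w, hw⟩, hw'⟩ := hrel
    obtain ⟨k, rfl⟩ := mem_zpowers_iff.1 hw
    rw [← hw']
    show (g ^ k) • ((1 : C) : C ⧸ H) = _
    exact MulAction.fixedBy_subset_fixedBy_zpow (C ⧸ H) g k hg1
  rw [Fintype.prod_eq_single q0]
  · have hper : Function.minimalPeriod (g • ·) q0.out = 1 := by
      rw [hout]
      exact Function.minimalPeriod_eq_one_iff_isFixedPt.2 hg1
    have ho : q0.out.out ∈ H := by
      have h1 : ((q0.out.out : C) : C ⧸ H) = ((1 : C) : C ⧸ H) := (QuotientGroup.out_eq' _).trans hout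
      rw [QuotientGroup.eq] at h1
      simpa using h1
    refine (congrArg φ (a₂ := ⟨q0.out.out, ho⟩⁻¹ * ⟨g, hg⟩ * ⟨q0.out.out, ho⟩) (Subtype.ext ?_)).trans ?_
    · show q0.out.out⁻¹ * g ^ _ * q0.out.out = q0.out.out⁻¹ * g * q0.out.out
      rw [hper, pow_one]
    · rw [map_mul, map_mul, map_inv, mul_comm, mul_inv_cancel_left]
  · intro q hq
    have hnf : ¬ Function.IsFixedPt (g • ·) q.out := by
      intro hf
      refine hq ?_
      have h1 : ((q.out.out : C) : C ⧸ H) = q.out := QuotientGroup.out_eq' _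
      have h2 : q.out.out⁻¹ * g * q.out.out ∈ H := by
        have h4 : ((q.out.out : C) : C ⧸ H) = g • ((q.out.out : C) : C ⧸ H) := by rw [h1]; exact hf.symm
        rw [MulAction.Quotient.smul_mk, QuotientGroup.eq, smul_eq_mul, ← mul_assoc] at h4
        exact h4
      rw [hq0, ← q.out_eq', ← h1]
      have h3 := hfix _ h2
      exact congrArg Quotient.mk'' ((QuotientGroup.eq).2 (by simpa using H.inv_mem h3) :
        ((q.out.out : C) : C ⧸ H) = ((1 : C) : C ⧸ H))
    have hper : Function.minimalPeriod (g • ·) q.out = 3 := by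
      haveI : Fact (Nat.Prime 3) := ⟨Nat.prime_three⟩
      refine Function.minimalPeriod_eq_prime (p := 3) ?_ hnf
      show (g • ·)^[3] q.out = q.out
      rw [smul_iterate, h3]
      exact one_smul _ _
    refine (congrArg φ (a₂ := 1) (Subtype.ext ?_)).trans (map_one φ)
    show q.out.out⁻¹ * g ^ _ * q.out.out = (1 : C)
    rw [hper, h3]
    group

/-- The index is congruent to one when such an element exists. -/
theorem index_mod_three {g : C} (hg : g ∈ H) (h3 : g ^ 3 = 1) (hne : g ≠ 1)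
    (hfix : ∀ c : C, c⁻¹ * g * c ∈ H → c ∈ H) : H.index % 3 = 1 := by
  classical
  haveI : Fact (Nat.Prime 3) := ⟨Nat.prime_three⟩
  have hP : IsPGroup 3 (zpowers g) := IsPGroup.of_card (n := 1) (by
    rw [Nat.card_zpowers, orderOf_eq_prime h3 hne, pow_one])
  have hmod := hP.card_modEq_card_fixedPoints (C ⧸ H)
  have hone : Nat.card (fixedPoints (zpowers g) (C ⧸ H)) = 1 := by
    refine Nat.card_eq_one_iff_unique.2 ⟨⟨fun a b => ?_⟩, ⟨⟨((1 : C) : C ⧸ H), ?_⟩⟩⟩
    · have key : ∀ x : fixedPoints (zpowers g) (C ⧸ H), (x : C ⧸ H) = ((1 : C) : C ⧸ H) := by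
        rintro ⟨x, hx⟩
        obtain ⟨c, rfl⟩ := QuotientGroup.mk_surjective x
        have h1 : g • ((c : C) : C ⧸ H) = (c : C ⧸ H) := hx ⟨g, mem_zpowers g⟩
        rw [MulAction.Quotient.smul_mk, eq_comm, QuotientGroup.eq, smul_eq_mul, ← mul_assoc] at h1
        exact (QuotientGroup.eq).2 (by simpa using H.inv_mem (hfix c h1))
      exact Subtype.ext ((key a).trans (key b).symm)
    · rintro ⟨w, hw⟩
      obtain ⟨k, rfl⟩ := mem_zpowers_iff.1 hw
      show (g ^ k) • ((1 : C) : C ⧸ H) = _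
      refine MulAction.fixedBy_subset_fixedBy_zpow (C ⧸ H) g k ?_
      show g • ((1 : C) : C ⧸ H) = _
      rw [MulAction.Quotient.smul_mk, QuotientGroup.eq]
      simpa using hg
  rw [← Subgroup.index, hone] at hmod
  exact hmod

end CfsgLib.L43Three
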