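import Cfsg.Agent.Lib.L43Three.Assembly
import Cfsg.Agent.Lib.L43Three.CentJ3Transfer
import Cfsg.Agent.Lib.Coprime.Action2

/-!
# The centralizer of a Jordan block of size three (piece CentJ3 of S3373)
-/

set_option autoImplicit false
set_option maxRecDepth 100000

namespace CfsgLib.L43Three.CentJ3

open Subgroup CfsgLib.L43Three

universe u

/-- Multiplication in `Q`. -/
theorem qel_mul (a b c d e a' b' c' d' e' : ZMod 3) :
    qel a b c d e * qel a' b' c' d' e' = qel (a + a') (b + b') (c + c' + a * d' + b * e') (d + d') (e + e') := by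
  rw [qel, qel, qel, ← map_mul]
  refine congrArg mk (Subtype.ext ?_)
  rw [Matrix.SpecialLinearGroup.coe_mul]
  ext i j
  fin_cases i <;> fin_cases j <;> simp [qS, qM, Matrix.mul_apply, Fin.sum_univ_four] <;> ring

theorem qel_zero : qel 0 0 0 0 0 = 1 := by
  rw [qel, show qS 0 0 0 0 0 = 1 from Subtype.ext (by decide +kernel), map_one]

/-- The kernel of the projection. -/
theorem mk_eq_iff {x y : S4} : mk x = mk y ↔ y.1 = x.1 ∨ y.1 = -x.1 := by
  rw [mk, QuotientGroup.mk'_apply, QuotientGroup.mk'_apply, QuotientGroup.eq,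
    Matrix.SpecialLinearGroup.mem_center_iff]
  constructor
  · rintro ⟨r, -, hr'⟩
    have h : y.1 = r • x.1 := by
      have := congrArg (fun M => x.1 * M) hr'
      simp only [← Matrix.SpecialLinearGroup.coe_mul, mul_inv_cancel_left] at this
      rw [Matrix.scalar_apply, ← Matrix.smul_one_eq_diagonal, mul_smul_comm, mul_one] at this
      exact this.symm
    have hr : r = 0 ∨ r = 1 ∨ r = -1 := (by decide : ∀ s : ZMod 3, s = 0 ∨ s = 1 ∨ s = -1) r
    rcases hr with hr | hr | hr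
    · exact absurd y.2 (by rw [h, hr, zero_smul, Matrix.det_zero]; decide)
    · exact Or.inl (by rw [h, hr, one_smul])
    · exact Or.inr (by rw [h, hr, neg_one_smul])
  · rintro (h | h)
    · exact ⟨1, one_pow _, by rw [show y = x from Subtype.ext h, inv_mul_cancel, map_one]; rfl⟩
    · refine ⟨-1, by decide, ?_⟩
      rw [Matrix.SpecialLinearGroup.coe_mul, h, mul_neg, ← Matrix.SpecialLinearGroup.coe_mul, inv_mul_cancel,
        map_neg, map_one]
      rfl

theorem qel_inj {a b c d e a' b' c' d' e' : ZMod 3} (h : qel a b c d e = qel a' b' c' d' e') :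
    a = a' ∧ b = b' ∧ c = c' ∧ d = d' ∧ e = e' := by
  rcases mk_eq_iff.1 h with h | h
  · exact ⟨(congrFun (congrFun h 0) 1).symm, (congrFun (congrFun h 0) 2).symm, (congrFun (congrFun h 0) 3).symm,
      (congrFun (congrFun h 1) 3).symm, (congrFun (congrFun h 2) 3).symm⟩
  · exact absurd (congrFun (congrFun h 0) 0) (by simp [qS, qM]; decide)

/-- The centralizer of `j3L`. -/
theorem cent_j3 {x : L4} (hx : x * j3L = j3L * x) : ∃ a b c e, x = qel a b c a e := by
  obtain ⟨g, rfl⟩ := QuotientGroup.mk'_surjective _ x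
  change mk g * j3L = j3L * mk g at hx
  rw [j3L, qel, ← map_mul, ← map_mul] at hx
  rcases mk_eq_iff.1 hx with h | h
  · simp only [Matrix.SpecialLinearGroup.coe_mul] at h
    obtain ⟨A, hA⟩ : ∃ A, g.1 = A := ⟨_, rfl⟩
    rw [hA] at h
    have e := fun i j => congrFun (congrFun h i) j
    have e00 := e 0 0; have e01 := e 0 1; have e02 := e 0 2; have e03 := e 0 3
    have e10 := e 1 0; have e11 := e 1 1; have e12 := e 1 2; have e13 := e 1 3
    have e21 := e 2 1; have e23 := e 2 3; have e31 := e 3 1; have e33 := e 3 3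
    simp [qS, qM, Matrix.mul_apply, Fin.sum_univ_four] at e00 e01 e02 e03 e10 e11 e12 e13 e21 e23 e31 e33
    have hdet : A.det = 1 := hA ▸ g.2
    have t10 : A 1 0 = 0 := by linear_combination e00
    have t30 : A 3 0 = 0 := by linear_combination e10
    have t20 : A 2 0 = 0 := by linear_combination e21
    have t31 : A 3 1 = 0 := by linear_combination e11 + t10
    have t12 : A 1 2 = 0 := by linear_combination e02
    have t32 : A 3 2 = 0 := by linear_combination e12
    have t21 : A 2 1 = 0 := by linear_combination e23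
    have t11 : A 1 1 = A 0 0 := by linear_combination e01
    have t33 : A 3 3 = A 1 1 := by linear_combination e13
    have t13 : A 1 3 = A 0 1 := by linear_combination e03
    have hAB : A = !![A 0 0, A 0 1, A 0 2, A 0 3; 0, A 0 0, 0, A 0 1; 0, 0, A 2 2, A 2 3; 0, 0, 0, A 0 0] := by
      ext i j
      fin_cases i <;> fin_cases j <;> simp [t10, t30, t20, t31, t12, t32, t21, t11, t33, t13]
    have hd : A 0 0 * A 0 0 * A 2 2 * A 0 0 = 1 := by
      rw [hAB, Matrix.det_of_isUpperTriangular, Fin.prod_univ_four] at hdet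
      · simpa using hdet
      · intro i j hij
        fin_cases i <;> fin_cases j <;> first | rfl | exact absurd hij (by decide)
    have hs : ∀ s t : ZMod 3, s * s * t * s = 1 → (s = 1 ∧ t = 1) ∨ (s = -1 ∧ t = -1) := by decide
    rcases hs _ _ hd with ⟨h0, h2⟩ | ⟨h0, h2⟩
    · refine ⟨A 0 1, A 0 2, A 0 3, A 2 3, mk_eq_iff.2 (Or.inl ?_)⟩
      rw [hA]
      conv_rhs => rw [hAB, h0, h2]
      rfl
    · refine ⟨-A 0 1, -A 0 2, -A 0 3, -A 2 3, mk_eq_iff.2 (Or.inr ?_)⟩
      rw [hA]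
      conv_rhs => rw [hAB, h0, h2]
      ext i j
      fin_cases i <;> fin_cases j <;> simp [qS, qM]
  · exfalso
    have h' : (qS 1 0 0 1 0).1 = (-(g * qS 1 0 0 1 0 * g⁻¹).1 : Matrix (Fin 4) (Fin 4) (ZMod 3)) := by
      rw [Matrix.SpecialLinearGroup.coe_mul, ← Matrix.neg_mul, ← h, ← Matrix.SpecialLinearGroup.coe_mul,
        mul_assoc, mul_inv_cancel, mul_one]
    have ht := congrArg Matrix.trace h'
    rw [Matrix.trace_neg, Matrix.SpecialLinearGroup.coe_mul, Matrix.trace_mul_comm,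
      ← Matrix.SpecialLinearGroup.coe_mul, inv_mul_cancel_left] at ht
    revert ht
    decide +kernel

theorem conj_of_comm {x y K : S4} (h : x * K = K * y) : IsConj (mk x) (mk y) :=
  isConj_iff.2 ⟨mk K⁻¹, by rw [← map_inv, ← map_mul, ← map_mul, inv_inv, mul_assoc, h, inv_mul_cancel_left]⟩

/-- A conjugating matrix. -/
def kM (b c : ZMod 3) : Matrix (Fin 4) (Fin 4) (ZMod 3) :=
  if c = 0 then !![1, 0, 0, 0; 0, -b, 0, 0; 0, 0, 0, 1; 0, 0, b, 0]
  else !![1, 0, 0, 0; 0, c, 0, 0; 0, 0, 1, 0; 0, 0, b, c]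

theorem det_kM : ∀ b c : ZMod 3, b ≠ 0 ∨ c ≠ 0 →
    (kM b c).det = 1 ∧ qM 0 0 1 0 0 * kM b c = kM b c * qM 0 b c 0 0 := by decide +kernel

theorem conj_row {b c : ZMod 3} (h : b ≠ 0 ∨ c ≠ 0) : IsConj zL (qel 0 b c 0 0) :=
  conj_of_comm (K := ⟨kM b c, (det_kM b c h).1⟩) (Subtype.ext (det_kM b c h).2)

theorem conj_col : IsConj zL (qel 0 0 0 0 1) :=
  conj_of_comm (K := ⟨!![0, 0, 1, 0; 0, 1, 0, 0; -1, 0, 0, 0; 0, 0, 0, 1], by decide +kernel⟩)
    (Subtype.ext (by decide +kernel : qM 0 0 1 0 0 * !![0, 0, 1, 0; 0, 1, 0, 0; -1, 0, 0, 0; 0, 0, 0, 1] =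
      !![0, 0, 1, 0; 0, 1, 0, 0; -1, 0, 0, 0; 0, 0, 0, 1] * qM 0 0 0 0 1))

variable {G : Type u} [Group G] (X : Full G)

/-- The elements of the centralizer inside the image. -/
def el (a b c e : ZMod 3) : G := X.ι (qel a b c a e)

theorem el_mul (a b c e a' b' c' e' : ZMod 3) :
    el X a b c e * el X a' b' c' e' = el X (a + a') (b + b') (c + c' + a * a' + b * e') (e + e') := by
  rw [el, el, el, ← map_mul, qel_mul]

theorem el_one : el X 0 0 0 0 = 1 := by rw [el, qel_zero, map_one]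

theorem el_cube (a b c e : ZMod 3) : el X a b c e ^ 3 = 1 := by
  have h3 : (3 : ZMod 3) = 0 := by decide
  rw [pow_three', el_mul, el_mul, ← el_one X]
  congr 1 <;> first
    | linear_combination a * h3
    | linear_combination b * h3
    | linear_combination e * h3
    | linear_combination (c + a * a + b * e) * h3

theorem el_inj {a b c e a' b' c' e' : ZMod 3} (h : el X a b c e = el X a' b' c' e') :
    a = a' ∧ b = b' ∧ c = c' ∧ e = e' := by
  obtain ⟨h1, h2, h3, -, h5⟩ := qel_inj (X.inj h)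
  exact ⟨h1, h2, h3, h5⟩

/-- The element with a single block of size three. -/
def y : G := el X 1 0 0 0

theorem y_eq : y X = X.ι j3L := rfl

theorem el_mem (a b c e : ZMod 3) : el X a b c e ∈ centralizer ({y X} : Set G) := by
  rw [mem_centralizer_singleton_iff, y, el_mul, el_mul]
  congr 1 <;> ring

/-- The elements of the centralizer in the image. -/
theorem exists_el {g : G} (hg : g ∈ centralizer ({y X} : Set G)) (hr : g ∈ X.ι.range) :
    ∃ a b c e, g = el X a b c e := by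
  obtain ⟨x, rfl⟩ := hr
  rw [mem_centralizer_singleton_iff, y_eq, ← map_mul, ← map_mul] at hg
  obtain ⟨a, b, c, e, rfl⟩ := cent_j3 (X.inj hg)
  exact ⟨a, b, c, e, rfl⟩

/-- A long root element fixes one coset. -/
theorem root_fix {g : G} {a b c e : ZMod 3} (hc : IsConj zL (qel a b c a e))
    (hg : g⁻¹ * el X a b c e * g ∈ X.ι.range) : g ∈ X.ι.range := by
  have := X.conj_mem (g := g⁻¹) hc (by rwa [inv_inv])
  exact inv_mem_iff.1 this

theorem main [Finite G] : centralizer ({X.ι j3L} : Set G) ≤ X.ι.range := by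
  classical
  rw [← y_eq]
  haveI : Fact (Nat.Prime 3) := ⟨Nat.prime_three⟩
  obtain ⟨C, hC⟩ : ∃ C : Subgroup G, C = centralizer ({y X} : Set G) := ⟨_, rfl⟩
  rw [← hC]
  let w : ZMod 3 → ZMod 3 → ZMod 3 → ZMod 3 → C := fun a b c e => ⟨el X a b c e, hC ▸ el_mem X a b c e⟩
  have wv : ∀ a b c e, (w a b c e : G) = el X a b c e := fun _ _ _ _ => rfl
  let H : Subgroup C := X.ι.range.subgroupOf C
  have hH : ∀ h : C, h ∈ H → ∃ a b c e, h = w a b c e := fun h hh => by
    obtain ⟨a, b, c, e, he⟩ := exists_el X (g := (h : G)) (hC ▸ h.2) hh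
    exact ⟨a, b, c, e, Subtype.ext he⟩
  have hw : ∀ a b c e, w a b c e ∈ H := fun a b c e => ⟨_, rfl⟩
  choose fa fb fc fe hf using fun h : H => hH h.1 h.2
  have funiq : ∀ (h : H) a b c e, (h : C) = w a b c e → fa h = a ∧ fb h = b ∧ fc h = c ∧ fe h = e :=
    fun h a b c e he => el_inj X (congrArg Subtype.val ((hf h).symm.trans he))
  have fmul : ∀ h k : H, fa (h * k) = fa h + fa k ∧ fb (h * k) = fb h + fb k ∧
      fc (h * k) = fc h + fc k + fa h * fa k + fb h * fe k ∧ fe (h * k) = fe h + fe k := fun h k =>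
    funiq _ _ _ _ _ (by
      rw [Subgroup.coe_mul]; conv_lhs => rw [hf h, hf k]
      exact Subtype.ext (by rw [Subgroup.coe_mul, wv, wv, wv, el_mul]))
  let φ : H →* Multiplicative (ZMod 3 × ZMod 3 × ZMod 3) := MonoidHom.mk'
    (fun h => Multiplicative.ofAdd (fa h, fb h, fe h)) (fun h k => by
      obtain ⟨h1, h2, -, h4⟩ := fmul h k
      simp only [h1, h2, h4]; rfl)
  have hφ : ∀ a b c e, φ ⟨w a b c e, hw a b c e⟩ = Multiplicative.ofAdd (a, b, e) := fun a b c e => by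
    obtain ⟨h1, h2, -, h4⟩ := funiq ⟨_, hw a b c e⟩ a b c e rfl
    show Multiplicative.ofAdd (_, _, _) = _
    rw [h1, h2, h4]
  have hfix : ∀ a b c e, IsConj zL (qel a b c a e) → ∀ g : C, g⁻¹ * w a b c e * g ∈ H → g ∈ H :=
    fun a b c e hc g hg => root_fix X hc hg
  have hz : IsConj zL (qel 0 0 1 0 0) := IsConj.refl _
  have hcube : ∀ a b c e, w a b c e ^ 3 = 1 := fun a b c e => Subtype.ext (el_cube X a b c e)
  have hne : w 0 0 1 0 ≠ 1 := fun h => by
    have := el_inj X ((congrArg Subtype.val h).trans (el_one X).symm)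
    exact one_ne_zero this.2.2.1
  have hidx := index_mod_three (hw 0 0 1 0) (hcube _ _ _ _) hne (hfix _ _ _ _ hz)
  obtain ⟨V, hV⟩ : ∃ V : C →* Multiplicative (ZMod 3 × ZMod 3 × ZMod 3), V = MonoidHom.transfer φ := ⟨_, rfl⟩
  -- the transfer extends the coordinates
  have hVw : ∀ a b c e, V (w a b c e) = Multiplicative.ofAdd (a, b, e) := by
    have hroot : ∀ a b c e, IsConj zL (qel a b c a e) → V (w a b c e) = Multiplicative.ofAdd (a, b, e) :=
      fun a b c e hc => by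
        rw [hV, transfer_of_one_fixed φ (hw a b c e) (hcube _ _ _ _) (hfix _ _ _ _ hc), hφ]
    have hy : V (w 1 0 0 0) = Multiplicative.ofAdd ((1, 0, 0) : ZMod 3 × ZMod 3 × ZMod 3) := by
      have hcen : ∀ g : C, g * w 1 0 0 0 = w 1 0 0 0 * g := fun g => Subtype.ext (by
        exact mem_centralizer_singleton_iff.1 ((SetLike.ext_iff.1 hC _).1 g.2))
      rw [hV, MonoidHom.transfer_eq_pow φ _ (fun k g _ => by
        rw [mul_assoc, (show Commute g (w 1 0 0 0) from hcen g).pow_right k |>.eq.symm, inv_mul_cancel_left])]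
      have e1 : w 1 0 0 0 ^ H.index = w 1 0 0 0 := by
        rw [← Nat.div_add_mod H.index 3, hidx, pow_succ, pow_mul, hcube, one_pow, one_mul]
      rw [show (⟨_, _⟩ : H) = ⟨w 1 0 0 0, hw 1 0 0 0⟩ from Subtype.ext e1, hφ]
    intro a b c e
    have e0 : w a b c e = w a 0 0 0 * (w 0 0 0 e * w 0 b (c + 0) 0) := by
      refine Subtype.ext ?_
      simp only [Subgroup.coe_mul, wv, el_mul]
      congr 1 <;> ring
    rw [e0, map_mul, map_mul]
    have ha : V (w a 0 0 0) = Multiplicative.ofAdd (a, (0 : ZMod 3), (0 : ZMod 3)) := by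
      have e1 : ∀ n : ℕ, V (w (n : ZMod 3) 0 0 0) = Multiplicative.ofAdd ((n : ZMod 3), (0 : ZMod 3), (0 : ZMod 3)) := by
        intro n
        induction n with
        | zero =>
          rw [Nat.cast_zero, show w 0 0 0 0 = 1 from Subtype.ext (el_one X), map_one]
          rfl
        | succ n ih =>
          have hd : w (n : ZMod 3) 0 0 0 * w 1 0 0 0 = w ((n + 1 : ℕ) : ZMod 3) 0 (n : ZMod 3) 0 := by
            refine Subtype.ext ?_
            simp only [Subgroup.coe_mul, wv, el_mul, Nat.cast_succ]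
            congr 1 <;> ring
          have hd2 : w ((n + 1 : ℕ) : ZMod 3) 0 (n : ZMod 3) 0 =
              w ((n + 1 : ℕ) : ZMod 3) 0 0 0 * w 0 0 (n : ZMod 3) 0 := by
            refine Subtype.ext ?_
            simp only [Subgroup.coe_mul, wv, el_mul]
            congr 1 <;> ring
          have hz' : V (w 0 0 (n : ZMod 3) 0) = 1 := by
            by_cases hn : (n : ZMod 3) = 0
            · rw [hn, show w 0 0 0 0 = 1 from Subtype.ext (el_one X), map_one]
            · rw [hroot _ _ _ _ (conj_row (Or.inr hn))]; rfl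
          have h1 := congrArg V (hd.trans hd2)
          rw [map_mul, map_mul, ih, hy, hz', mul_one] at h1
          rw [← h1]
          simp [← ofAdd_add]
      have := e1 a.val
      rwa [ZMod.natCast_zmod_val] at this
    have hb : V (w 0 b (c + 0) 0) = Multiplicative.ofAdd ((0 : ZMod 3), b, (0 : ZMod 3)) := by
      by_cases hbc : b ≠ 0 ∨ c + 0 ≠ 0
      · exact hroot _ _ _ _ (conj_row hbc)
      · simp only [not_or, not_not] at hbc
        rw [hbc.1, hbc.2, show w 0 0 0 0 = 1 from Subtype.ext (el_one X), map_one]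
        rfl
    have he : V (w 0 0 0 e) = Multiplicative.ofAdd ((0 : ZMod 3), (0 : ZMod 3), e) := by
      have h1 : V (w 0 0 0 1) = Multiplicative.ofAdd ((0 : ZMod 3), (0 : ZMod 3), (1 : ZMod 3)) :=
        hroot _ _ _ _ conj_col
      have e1 : ∀ n : ℕ, w 0 0 0 (n : ZMod 3) = w 0 0 0 1 ^ n := by
        intro n
        induction n with
        | zero => rw [pow_zero, Nat.cast_zero]; exact Subtype.ext (el_one X)
        | succ n ih =>
          rw [pow_succ, ← ih]
          refine Subtype.ext ?_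
          simp only [Subgroup.coe_mul, wv, el_mul, Nat.cast_succ]
          congr 1 <;> ring
      have := e1 e.val
      rw [ZMod.natCast_zmod_val] at this
      rw [this, map_pow, h1, ← ofAdd_nsmul]
      simp [nsmul_eq_mul]
    rw [ha, he, hb]
    simp [← ofAdd_add]
  -- the kernel
  let H1 : Subgroup V.ker := H.subgroupOf V.ker
  have hH1 : ∀ h : V.ker, h ∈ H1 → ∃ c, (h : C) = w 0 0 c 0 := by
    intro h hh
    obtain ⟨a, b, c, e, he⟩ := hH h.1 hh
    have h1 : V (h : C) = 1 := h.2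
    rw [he, hVw] at h1
    have h2 : (a, b, e) = (0 : ZMod 3 × ZMod 3 × ZMod 3) := Multiplicative.ofAdd.injective h1
    simp only [Prod.mk_eq_zero] at h2
    exact ⟨c, by rw [he, h2.1, h2.2.1, h2.2.2]⟩
  have hzK : w 0 0 1 0 ∈ V.ker := by rw [MonoidHom.mem_ker, hVw]; rfl
  let ψ : H1 →* Multiplicative (ZMod 3) := MonoidHom.mk'
    (fun h => Multiplicative.ofAdd (fc ⟨((h : V.ker) : C), h.2⟩)) (fun h k => by
      obtain ⟨-, -, h3, -⟩ := fmul ⟨((h : V.ker) : C), h.2⟩ ⟨((k : V.ker) : C), k.2⟩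
      obtain ⟨c, hc⟩ := hH1 h.1 h.2
      obtain ⟨a1, b1, -, -⟩ := funiq ⟨((h : V.ker) : C), h.2⟩ 0 0 c 0 hc
      simp only [a1, b1, zero_mul, add_zero] at h3
      exact congrArg Multiplicative.ofAdd h3)
  obtain ⟨V2, hV2⟩ : ∃ V2 : V.ker →* Multiplicative (ZMod 3), V2 = MonoidHom.transfer ψ := ⟨_, rfl⟩
  have hV2z : V2 ⟨_, hzK⟩ = Multiplicative.ofAdd (1 : ZMod 3) := by
    rw [hV2, transfer_of_one_fixed ψ (H := H1) (g := ⟨_, hzK⟩) (hw 0 0 1 0) (Subtype.ext (hcube _ _ _ _))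
      (fun g hg => hfix _ _ _ _ hz g.1 hg)]
    exact congrArg Multiplicative.ofAdd (funiq ⟨_, hw 0 0 1 0⟩ 0 0 1 0 rfl).2.2.1
  -- the complement
  let O : Subgroup C := V2.ker.map V.ker.subtype
  have hOmem : ∀ g : C, g ∈ O ↔ ∃ h : g ∈ V.ker, V2 ⟨g, h⟩ = 1 := fun g =>
    ⟨fun ⟨k, hk, hkg⟩ => hkg ▸ ⟨k.2, hk⟩, fun ⟨h, hk⟩ => ⟨⟨g, h⟩, hk, rfl⟩⟩
  have hOH : ∀ g, g ∈ O → g ∈ H → g = 1 := by
    intro g hg hgH
    obtain ⟨hk, h2⟩ := (hOmem g).1 hg
    obtain ⟨c, hc⟩ := hH1 ⟨g, hk⟩ hgH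
    have hpow : ∀ n : ℕ, w 0 0 (n : ZMod 3) 0 = w 0 0 1 0 ^ n := by
      intro n
      induction n with
      | zero => rw [pow_zero, Nat.cast_zero]; exact Subtype.ext (el_one X)
      | succ n ih =>
        rw [pow_succ, ← ih]
        refine Subtype.ext ?_
        simp only [Subgroup.coe_mul, wv, el_mul, Nat.cast_succ]
        congr 1 <;> ring
    have hg' : (⟨g, hk⟩ : V.ker) = ⟨_, hzK⟩ ^ c.val := Subtype.ext (by
      rw [SubmonoidClass.mk_pow]
      show g = w 0 0 1 0 ^ c.val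
      rw [← hpow, ZMod.natCast_zmod_val]; exact hc)
    rw [hg', map_pow, hV2z, ← ofAdd_nsmul, ← ofAdd_zero, Multiplicative.ofAdd.apply_eq_iff_eq,
      nsmul_one, ZMod.natCast_zmod_val] at h2
    change g = w 0 0 c 0 at hc
    rw [hc, h2]
    exact Subtype.ext (el_one X)
  have hcover : ∀ g : C, ∃ h ∈ H, g * h⁻¹ ∈ V.ker := by
    intro g
    refine ⟨w (Multiplicative.toAdd (V g)).1 (Multiplicative.toAdd (V g)).2.1 0 (Multiplicative.toAdd (V g)).2.2,
      hw _ _ _ _, ?_⟩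
    rw [MonoidHom.mem_ker, map_mul, map_inv, hVw]
    exact mul_inv_cancel (V g)
  have hO3 : ¬ 3 ∣ Nat.card O := by
    intro hd
    obtain ⟨v, hv⟩ := exists_prime_orderOf_dvd_card' 3 hd
    obtain ⟨hvk, hv2⟩ := (hOmem v).1 v.2
    have hP : IsPGroup 3 (zpowers (v : C)) := IsPGroup.of_card (n := 1) (by
      rw [Nat.card_zpowers, Subgroup.orderOf_coe, hv, pow_one])
    have hne' : (MulAction.fixedPoints (zpowers (v : C)) (C ⧸ H)).Nonempty := by
      refine hP.nonempty_fixed_point_of_prime_not_dvd_card _ ?_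
      rw [← Subgroup.index]
      omega
    obtain ⟨q, hq⟩ := hne'
    obtain ⟨g, rfl⟩ := QuotientGroup.mk_surjective q
    have h1 : (v : C) • ((g : C) : C ⧸ H) = (g : C ⧸ H) := hq ⟨_, mem_zpowers _⟩
    rw [MulAction.Quotient.smul_mk, eq_comm, QuotientGroup.eq, smul_eq_mul, ← mul_assoc] at h1
    obtain ⟨h, hhH, hk⟩ := hcover g
    obtain ⟨k, rfl⟩ : ∃ k, k * h = g := ⟨g * h⁻¹, inv_mul_cancel_right g h⟩
    rw [mul_inv_cancel_right] at hk
    have h2 : k⁻¹ * (v : C) * k ∈ H := by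
      have := mul_mem (mul_mem hhH h1) (inv_mem hhH)
      rwa [show h * ((k * h)⁻¹ * (v : C) * (k * h)) * h⁻¹ = k⁻¹ * (v : C) * k by group] at this
    have h3 : k⁻¹ * (v : C) * k ∈ O := by
      refine (hOmem _).2 ⟨mul_mem (mul_mem (inv_mem hk) hvk) hk, ?_⟩
      have : (⟨k⁻¹ * (v : C) * k, mul_mem (mul_mem (inv_mem hk) hvk) hk⟩ : V.ker) =
          ⟨k, hk⟩⁻¹ * ⟨(v : C), hvk⟩ * ⟨k, hk⟩ := rfl
      rw [this, map_mul, map_mul, map_inv, hv2, mul_one, inv_mul_cancel]
    have hv1 : (v : C) = 1 := by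
      have h4 := hOH _ h3 h2
      calc (v : C) = k * (k⁻¹ * (v : C) * k) * k⁻¹ := by group
        _ = 1 := by rw [h4]; group
    have : v = 1 := Subtype.ext hv1
    rw [this, orderOf_one] at hv
    norm_num at hv
  have hOn : ∀ g o : C, o ∈ O → g * o * g⁻¹ ∈ O := by
    intro g o ho
    obtain ⟨hk, -⟩ := (hOmem o).1 ho
    have hk' : g * o * g⁻¹ ∈ V.ker := (MonoidHom.normal_ker V).conj_mem o hk g
    refine (hOmem _).2 ⟨hk', orderOf_eq_one_iff.1 ?_⟩
    have hdvd : orderOf (V2 ⟨g * o * g⁻¹, hk'⟩) ∣ 3 := by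
      have := orderOf_dvd_natCard (V2 ⟨g * o * g⁻¹, hk'⟩)
      simpa using this
    have h1 : orderOf (V2 ⟨g * o * g⁻¹, hk'⟩) ∣ Nat.card O := by
      refine (orderOf_map_dvd V2 _).trans ?_
      rw [← Subgroup.orderOf_coe, show ((⟨g * o * g⁻¹, hk'⟩ : V.ker) : C) = MulAut.conj g o from rfl,
        MulEquiv.orderOf_eq]
      exact Subgroup.orderOf_dvd_natCard O ho
    exact Nat.eq_one_of_dvd_coprimes ((Nat.Prime.coprime_iff_not_dvd Nat.prime_three).2 hO3) hdvd h1
  -- the plane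
  let A : Subgroup G :=
    { carrier := {g | ∃ b c, g = el X 0 b c 0}
      one_mem' := ⟨0, 0, (el_one X).symm⟩
      mul_mem' := by
        rintro _ _ ⟨b, c, rfl⟩ ⟨b', c', rfl⟩
        exact ⟨b + b', c + c', by rw [el_mul]; congr 1 <;> ring⟩
      inv_mem' := by
        rintro _ ⟨b, c, rfl⟩
        exact ⟨-b, -c, inv_eq_of_mul_eq_one_right (by rw [el_mul, ← el_one X]; congr 1 <;> ring)⟩ }
  haveI : IsMulCommutative A := ⟨⟨fun s t => Subtype.ext (by
    obtain ⟨b, c, hs⟩ := s.2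
    obtain ⟨b', c', ht⟩ := t.2
    show (s : G) * t = t * s
    rw [hs, ht, el_mul, el_mul]
    congr 1 <;> ring)⟩⟩
  let eA : ZMod 3 × ZMod 3 ≃ A := Equiv.ofBijective (fun bc => ⟨el X 0 bc.1 bc.2 0, bc.1, bc.2, rfl⟩)
    ⟨fun s t h => by
        obtain ⟨-, h1, h2, -⟩ := el_inj X (congrArg Subtype.val h)
        exact Prod.ext h1 h2,
      fun g => by
        obtain ⟨b, c, h⟩ := g.2
        exact ⟨(b, c), Subtype.ext h.symm⟩⟩
  have hA9 : Nat.card A = 9 := by rw [← Nat.card_congr eA]; simp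
  have hAcyc : ¬ IsCyclic A := by
    intro hc
    obtain ⟨g, hg⟩ := hc.exists_generator
    have h9 : orderOf g = 9 := by rw [orderOf_eq_card_of_forall_mem_zpowers hg, hA9]
    obtain ⟨b, c, hgv⟩ := g.2
    have : g ^ 3 = 1 := Subtype.ext (by rw [SubmonoidClass.coe_pow, hgv, el_cube]; rfl)
    have := Nat.le_of_dvd (by norm_num) (orderOf_dvd_of_pow_eq_one this)
    omega
  let K : Subgroup G := O.map C.subtype
  have hAK : A ≤ Subgroup.normalizer (K : Set G) := by
    intro a ha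
    have haC : a ∈ C := by
      obtain ⟨b, c, rfl⟩ := ha
      exact hC ▸ el_mem X 0 b c 0
    refine Subgroup.mem_normalizer_iff.2 fun k => ⟨?_, ?_⟩
    · rintro ⟨o, ho, rfl⟩
      exact ⟨⟨a, haC⟩ * o * ⟨a, haC⟩⁻¹, hOn _ _ ho, rfl⟩
    · rintro ⟨o, ho, hok⟩
      refine ⟨⟨a, haC⟩⁻¹ * o * ⟨a, haC⟩⁻¹⁻¹, hOn _ _ ho, ?_⟩
      change (o : G) = a * k * a⁻¹ at hok
      show a⁻¹ * (o : G) * a⁻¹⁻¹ = k
      rw [hok]; group
  have hcop : (Nat.card A).Coprime (Nat.card K) := by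
    rw [hA9, Nat.card_congr (O.equivMapOfInjective _ C.subtype_injective).toEquiv.symm, show 9 = 3 ^ 2 from rfl]
    exact Nat.Coprime.pow_left 2 ((Nat.Prime.coprime_iff_not_dvd Nat.prime_three).2 hO3)
  have hK : K ≤ ⊥ := Coprime.le_of_centralizer_le_of_not_isCyclic hAcyc hAK hcop (by
    rintro a ⟨b, c, rfl⟩ ha1 k ⟨⟨o, ho, rfl⟩, hcen⟩
    have hbc : b ≠ 0 ∨ c ≠ 0 := by
      by_contra hh
      simp only [not_or, not_not] at hh
      exact ha1 (by rw [hh.1, hh.2, el_one])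
    have hoH : o ∈ H := by
      refine hfix 0 b c 0 (conj_row hbc) o ?_
      have hcm : o * w 0 b c 0 = w 0 b c 0 * o := Subtype.ext (mem_centralizer_singleton_iff.1 hcen)
      rw [mul_assoc, ← hcm, inv_mul_cancel_left]
      exact hw _ _ _ _
    rw [hOH o ho hoH]
    exact (Subgroup.mem_bot).2 rfl)
  intro g hg
  obtain ⟨h, hhH, hk⟩ := hcover ⟨g, hg⟩
  set k : V.ker := ⟨⟨g, hg⟩ * h⁻¹, hk⟩ with hkdef
  have hkv : k * ⟨_, hzK⟩ ^ (-((Multiplicative.toAdd (V2 k)).val : ℤ)) = 1 := by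
    have hm : ((k * ⟨_, hzK⟩ ^ (-((Multiplicative.toAdd (V2 k)).val : ℤ)) : V.ker) : C) ∈ O := by
      refine (hOmem _).2 ⟨(k * _).2, ?_⟩
      rw [Subtype.coe_eta, map_mul, map_zpow, hV2z, zpow_neg, zpow_natCast, ← ofAdd_nsmul, nsmul_one,
        ZMod.natCast_zmod_val, ofAdd_toAdd, mul_inv_cancel]
    have := Subgroup.mem_bot.1 (hK ⟨_, hm, rfl⟩)
    exact Subtype.ext (Subtype.ext this)
  have hkH : (k : C) ∈ H := by
    rw [mul_eq_one_iff_eq_inv, zpow_neg, inv_inv] at hkv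
    rw [hkv, zpow_natCast, SubmonoidClass.coe_pow]
    exact pow_mem (hw 0 0 1 0) _
  have := mul_mem hkH hhH
  rw [hkdef] at this
  simp only [inv_mul_cancel_right] at this
  exact this

end CfsgLib.L43Three.CentJ3

namespace CfsgLib.L43Three

universe u

/-- Piece 10. -/
theorem centJ3 : StmtCentJ3.{u} := fun X => CentJ3.main X

end CfsgLib.L43Three
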