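import Cfsg.Agent.Lib.ANineThree.LocalThree
import Cfsg.Agent.Lib.ANineThree.Setup

/-!
In the alternating group of degree nine an element of `J` centralized by a three-cycle of the blocks is
fused with an element of the block stabilizer outside `J` (S3373).
-/

set_option autoImplicit false
set_option maxRecDepth 100000
set_option maxHeartbeats 1000000
set_option synthInstance.maxSize 2000
set_option synthInstance.maxHeartbeats 200000

namespace CfsgLib.L43Three.WNine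

open Equiv Subgroup CfsgLib.ANineThree CfsgLib.ANineThree.LocalAux

/-- The coordinates. -/
def co (v : Fin 3 × Fin 3 × Fin 3) : Fin 3 → Fin 3 := ![v.1, v.2.1, v.2.2]

theorem jv_fix : ∀ v b, co v b = 0 ↔ ∀ j, jv v (e9 (b, j)) = e9 (b, j) := by decide +kernel

theorem transitive : ∀ π : Perm (Fin 3), π ^ 3 = 1 → π ≠ 1 → ∀ b c,
    c = b ∨ c = π b ∨ c = π (π b) := by decide +kernel

/-- Exchanges the second and third points of the blocks with coefficient two. -/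
def turn (v : Fin 3 × Fin 3 × Fin 3) : P9 :=
  (if v.1 = 2 then swap 1 2 else 1) * (if v.2.1 = 2 then swap 4 5 else 1) *
    (if v.2.2 = 2 then swap 7 8 else 1)

/-- The mover. -/
def mover (a : Fin 2) (v : Fin 3 × Fin 3 × Fin 3) : P9 :=
  swap 0 1 ^ a.val * (swap 1 3 * swap 2 6 * swap 5 7) * turn v

theorem moved : ∀ v, co v 0 ≠ 0 → co v 1 ≠ 0 → co v 2 ≠ 0 → ∃ a : Fin 2,
    Perm.sign (mover a v) = 1 ∧ mover a v * jv v * (mover a v)⁻¹ ∈ Hm ∧
      ∃ i : Fin 9, ((mover a v * jv v * (mover a v)⁻¹ : P9) i).1 / 3 ≠ i.1 / 3 := by decide +kernel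

theorem pH_facts : (pH : P9) ^ 3 = 1 ∧ pH * xH = xH * pH ∧ xH ≠ 1 ∧ ¬ InJ pH ∧ InJ xH := by
  decide +kernel

/-- The fusion. -/
theorem fusion (ψ : Hm →* P9) (hinj : Function.Injective ψ) (heven : ∀ h, Perm.sign (ψ h) = 1) :
    ∃ k : P9, Perm.sign k = 1 ∧ ∃ h : Hm, ψ h = k * ψ xH * k⁻¹ ∧ ¬ InJ h := by
  haveI : Fact (Nat.Prime 3) := ⟨Nat.prime_three⟩
  have h3J : ∀ a ∈ JH, a ^ 3 = 1 := fun a ha => Subtype.ext (by
    rw [SubmonoidClass.coe_pow]; exact (inJ_iff.2 ha).1)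
  have hp : ∀ (φ : Hm →* P9), IsPGroup 3 (JH.map φ) := fun φ w => ⟨1, Subtype.ext (by
    obtain ⟨a, ha, e⟩ := w.2
    rw [pow_one, coe_pow, ← e, ← map_pow, h3J a ha, map_one, coe_one])⟩
  obtain ⟨Q, hQ⟩ := (hp Hm.subtype).exists_le_sylow
  obtain ⟨Q', hQ'⟩ := (hp ψ).exists_le_sylow
  obtain ⟨σ, hσ⟩ := MulAction.exists_smul_eq P9 Q' Q
  have hJ0 : JH.map Hm.subtype = SetupAux.J0 := by
    rw [JH_eq_closure, MonoidHom.map_closure, SetupAux.J0]
    congr 1
    simp [Set.image_insert_eq, zH, z2H, z3H]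
  have h9 : Nat.card P9 = 362880 := by
    rw [Nat.card_perm, Nat.card_fin]; rfl
  have hQc : Nat.card (Q : Subgroup P9) = 81 := by
    obtain ⟨n, hn⟩ := Q.isPGroup'.exists_card_eq
    have h1 : 3 ^ 4 ∣ Nat.card (Q : Subgroup P9) := Q.pow_dvd_card_of_pow_dvd_card (by rw [h9]; norm_num)
    have h2 := (Q : Subgroup P9).card_subgroup_dvd_card
    rw [hn, h9] at h2
    rw [hn] at h1 ⊢
    have hle : n ≤ 4 := by
      by_contra h5
      exact absurd ((pow_dvd_pow 3 (show 5 ≤ n by omega)).trans h2) (by norm_num)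
    have hge : 4 ≤ n := Nat.pow_dvd_pow_iff_le_right (by norm_num) |>.1 h1
    rw [show n = 4 by omega]; rfl
  have hQn : (Q : Subgroup P9) ≤ normalizer ((JH.map Hm.subtype : Subgroup P9) : Set P9) := by
    have hidx : ((JH.map Hm.subtype).subgroupOf (Q : Subgroup P9)).index = 3 := by
      have h := Subgroup.card_mul_index ((JH.map Hm.subtype).subgroupOf (Q : Subgroup P9))
      rw [Nat.card_congr (subgroupOfEquivOfLe hQ).toEquiv,
        card_map_of_injective Hm.subtype_injective, card_JH, hQc] at h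
      omega
    have hmin : (Nat.card (Q : Subgroup P9)).minFac = 3 := by rw [hQc]; norm_num
    haveI := Subgroup.normal_of_index_eq_minFac_card (H := (JH.map Hm.subtype).subgroupOf (Q : Subgroup P9))
      (by rw [hidx, hmin])
    exact (normal_subgroupOf_iff_le_normalizer hQ).1 this
  have hsign : ∀ g ∈ (Q : Subgroup P9), Perm.sign g = 1 := fun g hg => by
    obtain ⟨n, hn⟩ := Q.isPGroup' ⟨g, hg⟩
    have e : g ^ 3 ^ n = 1 := congrArg Subtype.val hn
    have h := congrArg Perm.sign e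
    rw [map_pow, map_one] at h
    rcases Int.units_eq_one_or (Perm.sign g) with h' | h'
    · exact h'
    · rw [h', Odd.neg_one_pow (Odd.pow (by decide))] at h
      exact absurd h (by decide)
  have hQH : (Q : Subgroup P9) ≤ Hm := fun g hg => by
    rw [← SetupAux.Hm_eq]
    exact ⟨Perm.mem_alternatingGroup.2 (hsign g hg), hJ0 ▸ hQn hg⟩
  -- the twisted embedding
  obtain ⟨ψ', hψ'⟩ : ∃ ψ' : Hm →* P9, ψ' = (MulAut.conj σ).toMonoidHom.comp ψ := ⟨_, rfl⟩
  have hψe : ∀ h, ψ' h = σ * ψ h * σ⁻¹ := fun h => by rw [hψ']; rfl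
  have hinj' : Function.Injective ψ' := by
    rw [hψ']; exact (MulAut.conj σ).injective.comp hinj
  have hA : JH.map ψ' ≤ (Q : Subgroup P9) := by
    rw [← hσ]
    rintro _ ⟨a, ha, rfl⟩
    exact ⟨ψ a, hQ' ⟨a, ha, rfl⟩, (hψe a).symm⟩
  have hA' : (JH.map ψ').comap Hm.subtype = JH := by
    refine abelian_eq (R := (Q : Subgroup P9).comap Hm.subtype)
      (Q.isPGroup'.comap_of_injective _ Hm.subtype_injective)
      (fun a ha => hQ ⟨a, ha, rfl⟩) (comap_mono hA) ?_ ?_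
    · intro a ha b hb
      obtain ⟨a', ha', ea⟩ := ha
      obtain ⟨b', hb', eb⟩ := hb
      obtain ⟨v, rfl⟩ := mem_JH.1 ha'
      obtain ⟨w, rfl⟩ := mem_JH.1 hb'
      refine Subtype.ext ?_
      show (a : P9) * b = b * a
      rw [show (a : P9) = ψ' (jH v) from ea.symm, show (b : P9) = ψ' (jH w) from eb.symm, ← map_mul,
        ← map_mul, jH_comm]
    · rw [Nat.card_congr (equivMapOfInjective _ Hm.subtype Hm.subtype_injective).toEquiv,
        map_comap_eq_self (show JH.map ψ' ≤ Hm.subtype.range by rw [range_subtype]; exact hA.trans hQH),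
        card_map_of_injective hinj', card_JH]
  have hAJ : JH.map ψ' = JH.map Hm.subtype := by
    conv_rhs => rw [← hA']
    rw [map_comap_eq_self (show JH.map ψ' ≤ Hm.subtype.range by rw [range_subtype]; exact hA.trans hQH)]
  have hmem : ∀ h, ψ' h ∈ Hm := fun h => by
    refine SetupAux.Hm_eq.le ⟨Perm.mem_alternatingGroup.2 ?_, ?_⟩
    · rw [hψe, map_mul, map_mul, heven, mul_one, map_inv, mul_inv_cancel]
    · rw [← hJ0, ← hAJ]
      exact le_normalizer_map _ ⟨h, normalizer_eq_top_iff.2 JH_normal ▸ mem_top h, rfl⟩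
  obtain ⟨φ, hφ⟩ : ∃ φ : Hm →* Hm, φ = ψ'.codRestrict Hm hmem := ⟨_, rfl⟩
  have hφe : ∀ h, (φ h : P9) = ψ' h := fun h => by rw [hφ]; rfl
  have hφi : Function.Injective φ := fun a b e => hinj' (by rw [← hφe, ← hφe, e])
  have hφs : Function.Surjective φ := (Finite.injective_iff_surjective).1 hφi
  have hφJ : ∀ a, a ∈ JH → φ a ∈ JH := fun a ha => by
    have : (φ a : P9) ∈ JH.map Hm.subtype := hAJ ▸ ⟨a, ha, (hφe a).symm⟩
    exact (mem_map_iff_mem Hm.subtype_injective).1 this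
  have hφJ' : ∀ a, φ a ∈ JH → a ∈ JH := fun a ha => by
    have : (φ a : P9) ∈ JH.map ψ' := hAJ.symm ▸ ⟨φ a, ha, rfl⟩
    obtain ⟨b, hb, e⟩ := this
    rw [hφe] at e
    exact hinj' e ▸ hb
  obtain ⟨hp3, hcomm, hx1, hpJ, hxJ⟩ := pH_facts
  obtain ⟨v, hv⟩ := mem_JH.1 (hφJ _ (inJ_iff.1 hxJ))
  obtain ⟨c, hc⟩ := exists_code (φ pH).2
  have hq3 : (φ pH : P9) ^ 3 = 1 := by
    rw [hφe, ← map_pow, show pH ^ 3 = 1 from Subtype.ext (by rw [SubmonoidClass.coe_pow]; exact hp3),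
      map_one]
  have hbc : ∀ b j, mkB c (e9 (b, j)) = e9 (c.1 b, (![c.2.1, c.2.2.1, c.2.2.2] : Fin 3 → Perm (Fin 3)) b j) :=
    mkB_apply c
  have hπ3 : c.1 ^ 3 = 1 := Equiv.ext fun b => by
    have h : (mkB c ^ 3) (e9 (b, 0)) = e9 (b, 0) := by rw [hc, hq3]; rfl
    simp only [pow_succ, pow_zero, one_mul, Perm.mul_apply, hbc] at h
    simpa [pow_succ] using congrArg Prod.fst (e9.injective h)
  have hπ1 : c.1 ≠ 1 := fun h => hpJ (inJ_iff.2 (hφJ' _ (inJ_iff.1 ⟨hq3, fun i => by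
    obtain ⟨⟨b, j⟩, rfl⟩ := e9.surjective i
    have key : ∀ u : Fin 3 × Fin 3, (e9 u : Fin 9).1 / 3 = u.1.1 := by decide +kernel
    rw [← hc, hbc, key, key, h]
    rfl⟩)))
  have hcv : mkB c * jv v = jv v * mkB c := by
    have h : φ pH * φ xH = φ xH * φ pH := by rw [← map_mul, ← map_mul, hcomm]
    rw [← hv] at h
    rw [hc]
    exact congrArg Subtype.val h
  have hstep : ∀ b, co v b = 0 → co v (c.1 b) = 0 := fun b hb => by
    refine (jv_fix v _).2 fun j => ?_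
    obtain ⟨i, rfl⟩ := ((![c.2.1, c.2.2.1, c.2.2.2] : Fin 3 → Perm (Fin 3)) b).surjective j
    rw [← hbc, ← Perm.mul_apply, ← hcv, Perm.mul_apply, (jv_fix v b).1 hb i]
  have hv0 : ∀ b, co v b ≠ 0 := fun b hb => by
    have hall : ∀ d, co v d = 0 := fun d => by
      rcases transitive c.1 hπ3 hπ1 b d with rfl | rfl | rfl
      exacts [hb, hstep _ hb, hstep _ (hstep _ hb)]
    have : v = 0 := Prod.ext (hall 0) (Prod.ext (hall 1) (hall 2))
    rw [this, jH_zero] at hv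
    exact hx1 (hφi (hv.symm.trans (map_one φ).symm))
  obtain ⟨a, hs, hmemk, i, hi⟩ := moved v (hv0 0) (hv0 1) (hv0 2)
  obtain ⟨h, hh⟩ := hφs ⟨_, hmemk⟩
  refine ⟨σ⁻¹ * mover a v * σ, ?_, h, ?_, fun hJ => hi ?_⟩
  · rw [map_mul, map_mul, hs, mul_one, map_inv, inv_mul_cancel]
  · have e1 : ψ' h = mover a v * jv v * (mover a v)⁻¹ := by rw [← hφe, hh]
    have e2 : ψ' xH = jv v := by rw [← hφe, ← hv]; rfl
    rw [show ψ h = σ⁻¹ * ψ' h * σ by rw [hψe]; group, e1, ← e2, hψe]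
    group
  · have := inJ_iff.2 (hφJ h (inJ_iff.1 hJ))
    rw [hh] at this
    exact this.2 i

end CfsgLib.L43Three.WNine
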