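import Cfsg.Agent.Lib.L43Three.WModel
import Cfsg.Agent.Lib.L43Three.WNine
import Cfsg.Agent.Lib.Base.Cores
import Cfsg.Agent.Lib.Coprime.Action2
import Cfsg.Agent.Lib.ANineThree.Setup
import Cfsg.Agent.Lib.ANineThree.Local
import Cfsg.Agent.Lib.ANineThree.CentZ
import Cfsg.Agent.Lib.ANineThree.CaseB
import Cfsg.Agent.Lib.ANineThree.Glue
import Cfsg.Agent.Lib.ANineThree.Trichotomy
import Cfsg.Agent.Lib.ANineThree.NoSeven
import Cfsg.Agent.Lib.ANineThree.NoSmall
import Cfsg.Agent.Lib.ANineThree.Build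
import Cfsg.Agent.Lib.ANineThree.Recognise

/-!
The centralizers of two Jordan blocks of size two (S3373, piece 11): the quotient by the element has the
local structure of `A₉`, so it is local or `A₉`, and `A₉` has too much fusion of transvections.
-/

set_option autoImplicit false
set_option linter.style.haveILetI false
set_option linter.unusedSectionVars false
set_option maxRecDepth 100000

namespace CfsgLib.L43Three.CentWProof

open Equiv Subgroup WBlock WModel
open CfsgLib.ANineThree (P9 Hm InJ zH z2H z3H xH)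
open CfsgLib.ANineThree.LocalAux (JH jH inJ_iff mem_JH jH_mul jH_zero jH_injective jH_comm cent_JH)

universe u

variable {G : Type u} [Group G] [Finite G] (X : Full G)

theorem conj_mem {g : G} {x : L4} (hx : IsConj zL x) (h : g * X.ι x * g⁻¹ ∈ X.ι.range) :
    g ∈ X.ι.range := by
  obtain ⟨y, hy⟩ := h
  obtain ⟨a, ha⟩ := isConj_iff.1 hx
  obtain ⟨b, hb⟩ := isConj_iff.1 (X.fus y (isConj_iff.2 ⟨g * X.ι a, by
    rw [mul_inv_rev, show g * X.ι a * X.ι zL * ((X.ι a)⁻¹ * g⁻¹) =
      g * (X.ι a * X.ι zL * (X.ι a)⁻¹) * g⁻¹ by group, ← map_inv, ← map_mul, ← map_mul, ha, hy]⟩))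
  rw [← hb, map_mul, map_mul, map_inv, ← ha, map_mul, map_mul, map_inv] at hy
  have hc : (X.ι b)⁻¹ * g * X.ι a ∈ X.ι.range := X.cent_z (mem_centralizer_singleton_iff.2 (by
    calc (X.ι b)⁻¹ * g * X.ι a * X.ι zL
        = (X.ι b)⁻¹ * (g * (X.ι a * X.ι zL * (X.ι a)⁻¹) * g⁻¹) * g * X.ι a := by group
      _ = (X.ι b)⁻¹ * (X.ι b * X.ι zL * (X.ι b)⁻¹) * g * X.ι a := by rw [hy]
      _ = _ := by group))
  rw [show g = X.ι b * ((X.ι b)⁻¹ * g * X.ι a) * (X.ι a)⁻¹ by group]
  exact mul_mem (mul_mem ⟨b, rfl⟩ hc) (inv_mem ⟨a, rfl⟩)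

theorem cent_conj {x y : L4} (h : centralizer ({X.ι x} : Set G) ≤ X.ι.range) (hxy : IsConj x y)
    {g : G} (hg : g * X.ι y = X.ι y * g) : g ∈ X.ι.range := by
  obtain ⟨a, rfl⟩ := isConj_iff.1 hxy
  rw [map_mul, map_mul, map_inv] at hg
  have hc : (X.ι a)⁻¹ * g * X.ι a ∈ X.ι.range := h (mem_centralizer_singleton_iff.2 (by
    calc (X.ι a)⁻¹ * g * X.ι a * X.ι x
        = (X.ι a)⁻¹ * (g * (X.ι a * X.ι x * (X.ι a)⁻¹)) * X.ι a := by group
      _ = (X.ι a)⁻¹ * ((X.ι a * X.ι x * (X.ι a)⁻¹) * g) * X.ι a := by rw [hg]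
      _ = _ := by group))
  rw [show g = X.ι a * ((X.ι a)⁻¹ * g * X.ι a) * (X.ι a)⁻¹ by group]
  exact mul_mem (mul_mem ⟨a, rfl⟩ hc) (inv_mem ⟨a, rfl⟩)

/-- The centraliser of the element. -/
abbrev Cy : Subgroup G := centralizer ({X.ι wpL} : Set G)

/-- The element inside its centraliser. -/
def yC : Cy X := ⟨X.ι wpL, mem_centralizer_singleton_iff.2 rfl⟩

/-- The subgroup generated by the element. -/
abbrev Ny : Subgroup (Cy X) := zpowers (yC X)

theorem yC_comm (c : Cy X) : c * yC X = yC X * c :=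
  Subtype.ext (mem_centralizer_singleton_iff.1 c.2)

instance Ny_normal : (Ny X).Normal := ⟨fun a ha c => by
  obtain ⟨j, rfl⟩ := mem_zpowers_iff.1 ha
  rw [((show Commute c (yC X) from yC_comm X c).zpow_right j).eq, mul_inv_cancel_right]
  exact zpow_mem (mem_zpowers _) _⟩

/-- The quotient. -/
abbrev Kq : Type u := Cy X ⧸ Ny X

/-- The projection. -/
abbrev pr : Cy X →* Kq X := QuotientGroup.mk' (Ny X)

theorem yC_cube : yC X ^ 3 = 1 := Subtype.ext (by
  rw [coe_pow, coe_one, show (yC X : G) = X.ι (mk wS) from rfl, ← map_pow, ← map_pow, unip_facts.1,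
    map_one, map_one])

/-- The centraliser in the model, inside the group. -/
def jC : CS →* Cy X :=
  ((X.ι.comp mk).comp CS.subtype).codRestrict (Cy X) fun g => mem_centralizer_singleton_iff.2 (by
    show X.ι (mk (g : S4)) * X.ι wpL = X.ι wpL * X.ι (mk (g : S4))
    rw [← mk_wS, ← map_mul, ← map_mul, ← map_mul, ← map_mul, mem_CS.1 g.2])

theorem jC_coe (g : CS) : (jC X g : G) = X.ι (mk (g : S4)) := rfl

theorem pr_jC_eq_one {g : CS} : pr X (jC X g) = 1 ↔ fH g = 1 := by
  rw [QuotientGroup.mk'_apply, QuotientGroup.eq_one_iff, fH_eq_one, mem_zpowers_iff, mem_zpowers_iff]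
  constructor
  · rintro ⟨j, hj⟩
    refine ⟨j, X.inj ?_⟩
    rw [map_zpow, ← jC_coe, ← hj, coe_zpow]
    rfl
  · rintro ⟨j, hj⟩
    refine ⟨j, Subtype.ext ?_⟩
    rw [jC_coe, ← hj, map_zpow, coe_zpow]
    rfl

/-- The embedding of the model. -/
noncomputable def eK : Hm →* Kq X :=
  fH.liftOfSurjective fH_surjective ⟨(pr X).comp (jC X), fun g hg => by
    rw [MonoidHom.mem_ker, MonoidHom.comp_apply]
    exact (pr_jC_eq_one X).2 hg⟩

theorem eK_fH (g : CS) : eK X (fH g) = pr X (jC X g) :=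
  MonoidHom.liftOfRightInverse_comp_apply fH _ _ _ g

theorem eK_inj : Function.Injective (eK X) := by
  rw [injective_iff_map_eq_one]
  intro h hh
  obtain ⟨g, rfl⟩ := fH_surjective h
  rw [eK_fH] at hh
  exact (pr_jC_eq_one X).1 hh

theorem mem_eK_range {c : Cy X} : pr X c ∈ (eK X).range ↔ (c : G) ∈ X.ι.range := by
  constructor
  · rintro ⟨h, hh⟩
    obtain ⟨g, rfl⟩ := fH_surjective h
    rw [eK_fH] at hh
    obtain ⟨j, hj⟩ := mem_zpowers_iff.1 (QuotientGroup.eq.1 hh)
    have e : c = jC X g * yC X ^ j := by rw [hj, mul_inv_cancel_left]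
    rw [e, coe_mul, coe_zpow]
    exact mul_mem (MonoidHom.mem_range.2 ⟨_, (jC_coe X g).symm⟩)
      (zpow_mem (MonoidHom.mem_range.2 ⟨wpL, rfl⟩) _)
  · rintro ⟨x, hx⟩
    obtain ⟨s, rfl⟩ := QuotientGroup.mk'_surjective (center S4) x
    have hs : mk (s * wS) = mk (wS * s) := X.inj (by
      rw [map_mul mk, map_mul mk, map_mul, map_mul, mk_wS, show X.ι (mk s) = c from hx]
      exact mem_centralizer_singleton_iff.1 c.2)
    have hz := QuotientGroup.eq.1 hs
    obtain ⟨z, hzd⟩ : ∃ z, z = (s * wS)⁻¹ * (wS * s) := ⟨_, rfl⟩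
    rw [← hzd] at hz
    have e : s⁻¹ * wS * s = wS * z := by rw [hzd]; group
    have hcube : (wS * z) ^ 3 = 1 := by
      rw [← e, show s⁻¹ * wS * s = s⁻¹ * wS * s⁻¹⁻¹ by rw [inv_inv], conj_pow, unip_facts.1, mul_one,
        mul_inv_cancel]
    rw [(show Commute wS z from Subgroup.mem_center_iff.1 hz wS).mul_pow, unip_facts.1, one_mul]
      at hcube
    have hsw : s ∈ CS := by
      rcases center_sign hz with h1 | h1
      · refine mem_CS.2 ?_
        rw [show z = 1 from Subtype.ext h1, mul_one] at e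
        conv_lhs => rw [← e]
        group
      · exfalso
        have e3 := congrArg Subtype.val hcube
        rw [Matrix.SpecialLinearGroup.coe_pow, Matrix.SpecialLinearGroup.coe_one, h1] at e3
        exact absurd e3 (by decide +kernel)
    exact ⟨fH ⟨s, hsw⟩, by rw [eK_fH]; congr 1; exact Subtype.ext hx⟩

/-- An element moving the image of a transvection into the model lies in it. -/
theorem stay {k : Kq X} {g : CS} (hg : IsConj zL (mk (g : S4)))
    (h : k * eK X (fH g) * k⁻¹ ∈ (eK X).range) : k ∈ (eK X).range := by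
  obtain ⟨c, rfl⟩ := QuotientGroup.mk'_surjective (Ny X) k
  rw [eK_fH, ← map_inv, ← map_mul, ← map_mul, mem_eK_range] at h
  exact (mem_eK_range X).2 (conj_mem X hg h)

/-- A lift of order prime to three of an element commuting with the image of `d` commutes with `d`. -/
theorem lift_comm {c d : Cy X} {n : ℕ} (hn : n.Coprime 3) (hc : c ^ n = 1)
    (h : pr X c * pr X d = pr X d * pr X c) : c * d = d * c := by
  rw [← map_mul, ← map_mul] at h
  obtain ⟨j, hj⟩ := mem_zpowers_iff.1 (QuotientGroup.eq.1 h.symm)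
  obtain ⟨w, hw⟩ : ∃ w, w = yC X ^ j := ⟨_, rfl⟩
  have hwc : ∀ b : Cy X, b * w = w * b := fun b => hw ▸ (Commute.zpow_right (yC_comm X b) j).eq
  have e : c * d * c⁻¹ = d * w := by
    rw [mul_inv_eq_iff_eq_mul, mul_assoc d w c, ← hwc c, hw, hj]
    group
  have hk : ∀ k : ℕ, c ^ k * d * (c ^ k)⁻¹ = d * w ^ k := fun k => by
    induction k with
    | zero => simp
    | succ k ih =>
      rw [pow_succ c k, mul_inv_rev,
        show c ^ k * c * d * (c⁻¹ * (c ^ k)⁻¹) = c ^ k * (c * d * c⁻¹) * (c ^ k)⁻¹ by group, e,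
        show c ^ k * (d * w) * (c ^ k)⁻¹ = c ^ k * d * (w * (c ^ k)⁻¹) by group, ← hwc, ← mul_assoc,
        ih, pow_succ, mul_assoc]
  have h1 : w ^ n = 1 := by
    have := hk n
    rw [hc, one_mul, inv_one, mul_one] at this
    exact (mul_eq_left.1 this.symm)
  have h3 : w ^ 3 = 1 := by
    rw [hw, ← zpow_natCast, ← zpow_mul, mul_comm, zpow_mul, zpow_natCast, yC_cube, one_zpow]
  have hw1 : w = 1 := by
    have : orderOf w ∣ Nat.gcd n 3 :=
      Nat.dvd_gcd (orderOf_dvd_of_pow_eq_one h1) (orderOf_dvd_of_pow_eq_one h3)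
    rw [hn] at this
    exact orderOf_eq_one_iff.1 (Nat.eq_one_of_dvd_one this)
  rw [hw1, mul_one, mul_inv_eq_iff_eq_mul] at e
  exact e

theorem plV_add : ∀ a b a' b' : ZMod 3, plV (a + a') (b + b') = plV a b + plV a' b' := by
  decide +kernel

theorem zmod_three_smul : ∀ p : ZMod 3 × ZMod 3, 3 • p = 0 := by decide

/-- The plane of transvections. -/
def pl : Multiplicative (ZMod 3 × ZMod 3) →* Hm where
  toFun p := jH (plV p.toAdd.1 p.toAdd.2)
  map_one' := jH_zero
  map_mul' p q := by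
    rw [jH_mul, ← plV_add]
    rfl

theorem pl_inj : Function.Injective pl := by
  intro p q h
  have key : ∀ a b a' b' : ZMod 3, plV a b = plV a' b' → a = a' ∧ b = b' := by decide +kernel
  obtain ⟨h1, h2⟩ := key _ _ _ _ (jH_injective h)
  exact Multiplicative.toAdd.injective (Prod.ext h1 h2)

/-- The cores of centralisers of elements of order three are trivial. -/
theorem cores (hM : StmtModelThree) (hJ : centralizer ({X.ι j3L} : Set G) ≤ X.ι.range) (h : Hm)
    (ho : orderOf h = 3) : Cfsg.pPrimeCore 3 (centralizer ({eK X h} : Set (Kq X))) = ⊥ := by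
  haveI : Fact (Nat.Prime 3) := ⟨Nat.prime_three⟩
  have h3 : h ^ 3 = 1 := ho ▸ pow_orderOf_eq_one h
  obtain ⟨C, hC⟩ : ∃ C : Subgroup (Kq X), C = centralizer {eK X h} := ⟨_, rfl⟩
  rw [← hC]
  obtain ⟨M, hMd⟩ : ∃ M : Subgroup (Kq X), M = (Cfsg.pPrimeCore 3 C).map C.subtype := ⟨_, rfl⟩
  refine (map_eq_bot_iff_of_injective _ C.subtype_injective).1 ?_
  rw [← hMd]
  have hMC : M ≤ C := hMd ▸ map_subtype_le _
  have hcop : (Nat.card M).Coprime 3 := by
    rw [hMd, card_map_of_injective C.subtype_injective]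
    exact CfsgLib.Base.pPrimeCore_coprime 3 C
  have hconj : ∀ k ∈ C, ∀ m ∈ M, k * m * k⁻¹ ∈ M := fun k hk m hm => by
    rw [hMd] at hm ⊢
    obtain ⟨m', hm', rfl⟩ := hm
    exact ⟨⟨k, hk⟩ * m' * ⟨k, hk⟩⁻¹, (Cfsg.pPrimeCore_normal 3 C).conj_mem _ hm' _, rfl⟩
  have hlift : ∀ m ∈ M, ∃ c : Cy X, pr X c = m ∧ c ^ Nat.card M = 1 := fun m hm => by
    obtain ⟨m0, hm0⟩ := (powCoprime hcop).surjective ⟨m, hm⟩
    obtain ⟨c0, hc0⟩ := QuotientGroup.mk'_surjective (Ny X) (m0 : Kq X)
    refine ⟨c0 ^ 3, ?_, ?_⟩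
    · rw [map_pow, hc0]; exact congrArg Subtype.val hm0
    · have h1 : c0 ^ Nat.card M ∈ Ny X := by
        refine (QuotientGroup.eq_one_iff _).1 ?_
        show pr X (c0 ^ Nat.card M) = 1
        rw [map_pow, hc0]
        exact congrArg Subtype.val (pow_card_eq_one' (x := m0))
      obtain ⟨j, hj⟩ := mem_zpowers_iff.1 h1
      rw [← pow_mul, mul_comm, pow_mul, ← hj, ← zpow_natCast, ← zpow_mul, mul_comm, zpow_mul,
        zpow_natCast, yC_cube, one_zpow]
  have hcent : ∀ m ∈ M, m * eK X h = eK X h * m := fun m hm =>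
    mem_centralizer_singleton_iff.1 (hC ▸ hMC hm)
  have hCe : ∀ h' : Hm, h' * h = h * h' → eK X h' ∈ C := fun h' e => by
    rw [hC, mem_centralizer_singleton_iff, ← map_mul, ← map_mul, e]
  have hrange : M ≤ (eK X).range := by
    obtain ⟨g, rfl⟩ := fH_surjective h
    by_cases hin : InJ (fH g)
    · have hpl : ∀ p, pl p * fH g = fH g * pl p := fun p => by
        obtain ⟨v, hv⟩ := mem_JH.1 (inJ_iff.1 hin)
        rw [← hv]
        exact jH_comm _ _
      obtain ⟨A, hA⟩ : ∃ A : Subgroup (Kq X), A = ((eK X).comp pl).range := ⟨_, rfl⟩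
      haveI : IsMulCommutative A := ⟨⟨fun a b => by
        obtain ⟨p, hp⟩ := MonoidHom.mem_range.1 (hA.le a.2)
        obtain ⟨q, hq⟩ := MonoidHom.mem_range.1 (hA.le b.2)
        exact Subtype.ext (by rw [coe_mul, coe_mul, ← hp, ← hq, ← map_mul, ← map_mul, mul_comm])⟩⟩
      have hinjA : Function.Injective ((eK X).comp pl) := (eK_inj X).comp pl_inj
      have hA9 : Nat.card A = 9 := by
        rw [hA, ← Nat.card_congr (MonoidHom.ofInjective hinjA).toEquiv,
          Nat.card_congr Multiplicative.toAdd]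
        simp
      refine CfsgLib.Coprime.le_of_centralizer_le_of_not_isCyclic (A := A) ?_ ?_ ?_ ?_
      · intro hc
        obtain ⟨c, hc⟩ := hc.exists_generator
        have h9 := orderOf_eq_card_of_forall_mem_zpowers hc
        rw [hA9] at h9
        obtain ⟨p, hp⟩ := MonoidHom.mem_range.1 (hA.le c.2)
        have hp3 : p ^ 3 = 1 :=
          Multiplicative.toAdd.injective (by rw [toAdd_pow]; exact zmod_three_smul _)
        have h3' : c ^ 3 = 1 := Subtype.ext (by rw [coe_pow, ← hp, ← map_pow, hp3, map_one, coe_one])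
        have := Nat.le_of_dvd (by norm_num) (orderOf_dvd_of_pow_eq_one h3')
        omega
      · rw [hA]
        rintro _ ⟨p, rfl⟩
        exact mem_normalizer_fintype fun m hm => hconj _ (hCe _ (hpl p)) m hm
      · rw [hA9, show 9 = 3 ^ 2 by norm_num]
        exact (Nat.Coprime.pow_right 2 hcop).symm
      · intro a ha hne m hm
        obtain ⟨p, rfl⟩ := MonoidHom.mem_range.1 (hA.le ha)
        have hab : p.toAdd.1 ≠ 0 ∨ p.toAdd.2 ≠ 0 := by
          by_contra hno
          push Not at hno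
          exact hne (by
            rw [show p = 1 from Multiplicative.toAdd.injective (Prod.ext hno.1 hno.2), map_one])
        have e : ((eK X).comp pl) p = pr X (jC X (uPl p.toAdd.1 p.toAdd.2)) := by
          rw [← eK_fH, fH_uPl]; rfl
        obtain ⟨c, hc, hc1⟩ := hlift m hm.1
        have hmp := mem_centralizer_singleton_iff.1 hm.2
        rw [e, ← hc] at hmp
        have hcc := congrArg Subtype.val (lift_comm X hcop hc1 hmp)
        rw [← hc]
        refine (mem_eK_range X).2 (conj_mem X (uPl_conj _ _ hab) ?_)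
        rw [coe_mul, coe_mul, jC_coe] at hcc
        rw [hcc, mul_inv_cancel_right]
        exact ⟨_, rfl⟩
    · obtain ⟨i, hi⟩ := exists_shift hM h3 hin
      intro m hm
      obtain ⟨c, hc, hc1⟩ := hlift m hm
      have hmg := hcent m hm
      rw [eK_fH, ← hc] at hmg
      have hcc := congrArg Subtype.val (lift_comm X hcop hc1 hmg)
      rw [coe_mul, coe_mul, jC_coe] at hcc
      have hw : Commute (c : G) (X.ι (mk ((g : S4) * wS ^ i))) := by
        rw [map_mul, map_pow, map_mul, map_pow, mk_wS]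
        exact (show Commute (c : G) _ from hcc).mul_right
          ((show Commute (c : G) (X.ι wpL) from mem_centralizer_singleton_iff.1 c.2).pow_right i)
      rw [← hc]
      refine (mem_eK_range X).2 ?_
      rcases hi with hz | hz
      · exact cent_conj X X.cent_z hz hw.eq
      · exact cent_conj X hJ hz hw.eq
  rw [eq_bot_iff]
  intro m hm
  obtain ⟨m', rfl⟩ := hrange hm
  obtain ⟨g, rfl⟩ := fH_surjective h
  obtain ⟨g', rfl⟩ := fH_surjective m'
  have hcm : fH g' * fH g = fH g * fH g' := eK_inj X (by rw [map_mul, map_mul]; exact hcent _ hm)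
  have hord : ∀ (a : Hm) (j : ℕ), eK X a ∈ M → a ^ 3 ^ j = 1 → a = 1 := fun a j ha hj => by
    have h1 : orderOf (eK X a) ∣ Nat.card M := by
      rw [← orderOf_mk _ ha]; exact orderOf_dvd_natCard _
    rw [orderOf_injective _ (eK_inj X)] at h1
    have h2 : orderOf a ∣ Nat.gcd (Nat.card M) (3 ^ j) := Nat.dvd_gcd h1 (orderOf_dvd_of_pow_eq_one hj)
    rw [Nat.Coprime.pow_right j hcop] at h2
    exact orderOf_eq_one_iff.1 (Nat.eq_one_of_dvd_one h2)
  suffices hg' : fH g' = 1 by rw [hg', map_one]; exact one_mem _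
  by_cases hin : InJ (fH g)
  · have hJc : ∀ a ∈ JH, fH g' * a = a * fH g' := fun a ha => by
      have hag : a * fH g = fH g * a := by
        obtain ⟨v, hv⟩ := mem_JH.1 (inJ_iff.1 hin)
        obtain ⟨w, hw⟩ := mem_JH.1 ha
        rw [← hv, ← hw, jH_comm]
      have h1 : fH g' * a * (fH g')⁻¹ * a⁻¹ ∈ JH :=
        mul_mem (Subgroup.Normal.conj_mem inferInstance _ ha _) (inv_mem ha)
      have h2 : eK X (fH g' * a * (fH g')⁻¹ * a⁻¹) ∈ M := by
        rw [show fH g' * a * (fH g')⁻¹ * a⁻¹ = fH g' * (a * (fH g')⁻¹ * a⁻¹) by group, map_mul]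
        refine mul_mem hm ?_
        rw [map_mul, map_mul, map_inv, map_inv]
        exact hconj _ (hCe a hag) _ (inv_mem hm)
      have h3' := hord _ 1 h2 (Subtype.ext (by
        rw [SubmonoidClass.coe_pow, pow_one]; exact (inJ_iff.2 h1).1))
      exact mul_inv_eq_one.1 h3' |> mul_inv_eq_iff_eq_mul.1
    have hz : ∀ b, InJ b → b ∈ JH := fun b hb => inJ_iff.1 hb
    exact hord _ 1 hm (Subtype.ext (by
      rw [SubmonoidClass.coe_pow, pow_one]
      exact (inJ_iff.2 (cent_JH (hJc _ (hz _ (by decide +kernel))) (hJc _ (hz _ (by decide +kernel)))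
        (hJc _ (hz _ (by decide +kernel))))).1))
  · exact hord _ 2 hm (comm_pow_nine h3 hin hcm)

theorem closure_eq : closure ({eK X zH, eK X z2H, eK X z3H} : Set (Kq X)) = JH.map (eK X) := by
  rw [CfsgLib.ANineThree.LocalAux.JH_eq_closure, MonoidHom.map_closure]
  congr 1
  simp [Set.image_insert_eq]

theorem range_eq : (eK X).range =
    normalizer ((closure {eK X zH, eK X z2H, eK X z3H} : Subgroup (Kq X)) : Set (Kq X)) := by
  rw [closure_eq]
  refine le_antisymm ?_ fun k hk => ?_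
  · rintro _ ⟨h, rfl⟩
    exact le_normalizer_map _ ⟨h, normalizer_eq_top_iff.2 (inferInstance : JH.Normal) ▸ mem_top h, rfl⟩
  · refine stay X u111_conj ?_
    rw [fH_u111]
    have hx : InJ xH := by decide +kernel
    obtain ⟨a, -, ha⟩ := (mem_normalizer_iff.1 hk (eK X xH)).1 ⟨xH, inJ_iff.1 hx, rfl⟩
    exact ⟨a, ha⟩

/-- The centraliser of `wpL`. -/
theorem cent_wp (hM : StmtModelThree) (hJ : centralizer ({X.ι j3L} : Set G) ≤ X.ι.range) :
    centralizer ({X.ι wpL} : Set G) ≤ X.ι.range := by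
  let S : CfsgLib.ANineThree.Data (Kq X) :=
    ⟨eK X, eK_inj X, range_eq X, cores X hM hJ⟩
  intro g hg
  have hfin : ∀ k : Kq X, k ∈ (eK X).range := by
    have L := CfsgLib.ANineThree.local_facts S
    have hor : (eK X).range = ⊤ ∨ Nonempty (Kq X ≃* alternatingGroup (Fin 9)) := by
      rcases CfsgLib.ANineThree.cent_z_cases S L with hc | ⟨M, hMi, hle, hdis, hsup⟩
      · refine Or.inl (CfsgLib.ANineThree.case_b S L hc fun hf => ?_)
        obtain ⟨k, hk⟩ := isConj_iff.1 hf.symm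
        obtain ⟨d, hd⟩ : k ∈ (eK X).range :=
          stay X u111_conj (by rw [fH_u111, show k * eK X xH * k⁻¹ = eK X CfsgLib.ANineThree.pH from hk]
                               exact ⟨_, rfl⟩)
        have e : d * xH * d⁻¹ = CfsgLib.ANineThree.pH := eK_inj X (by
          rw [map_mul, map_mul, map_inv, hd]; exact hk)
        have hp : CfsgLib.ANineThree.pH ∈ JH :=
          e ▸ Subgroup.Normal.conj_mem inferInstance _ (inJ_iff.1 (by decide +kernel)) _
        exact absurd (inJ_iff.2 hp) (by decide +kernel)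
      · obtain ⟨T⟩ := CfsgLib.ANineThree.exists_glue S M L hMi hle hdis hsup
        rcases CfsgLib.ANineThree.trichotomy S T L with h | h | ⟨h3, hl⟩
        · exact (CfsgLib.ANineThree.no_seven S T L h).elim
        · exact (CfsgLib.ANineThree.no_small S T L h).elim
        · obtain ⟨E⟩ := CfsgLib.ANineThree.exists_emb S T L h3 hl
          exact Or.inr (CfsgLib.ANineThree.recognise E)
    rcases hor with htop | hφ
    · exact fun k => htop.symm.le (mem_top k)
    · exfalso
      obtain ⟨φ⟩ := hφ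
      obtain ⟨ψ, hψ⟩ : ∃ ψ : Hm →* P9,
          ψ = ((alternatingGroup (Fin 9)).subtype.comp φ.toMonoidHom).comp (eK X) := ⟨_, rfl⟩
      have hψe : ∀ h, ψ h = (φ (eK X h) : P9) := fun h => by rw [hψ]; rfl
      obtain ⟨k, hk, h, hh, hnot⟩ := WNine.fusion ψ
        (fun a b e => eK_inj X (φ.injective (Subtype.ext (by rw [← hψe, ← hψe, e]))))
        (fun a => by rw [hψe]; exact Perm.mem_alternatingGroup.1 (φ (eK X a)).2)
      obtain ⟨c, hc⟩ : ∃ c, c = φ.symm ⟨k, Perm.mem_alternatingGroup.2 hk⟩ := ⟨_, rfl⟩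
      have e : eK X h = c * eK X xH * c⁻¹ := φ.injective (Subtype.ext (by
        rw [← hψe, hh, map_mul, map_mul, map_inv, coe_mul, coe_mul, coe_inv, ← hψe, hc,
          MulEquiv.apply_symm_apply]))
      obtain ⟨d, hd⟩ : c ∈ (eK X).range :=
        stay X u111_conj (by rw [fH_u111, ← e]; exact ⟨h, rfl⟩)
      rw [← hd, ← map_inv, ← map_mul, ← map_mul] at e
      refine hnot (inJ_iff.2 ?_)
      rw [eK_inj X e]
      exact Subgroup.Normal.conj_mem inferInstance _ (inJ_iff.1 (by decide +kernel)) _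
  exact (mem_eK_range X (c := ⟨g, hg⟩)).1 (hfin _)

/-- The model composed with the exchange of the two classes. -/
def twist : Full G where
  ι := X.ι.comp θ
  inj := X.inj.comp (Function.Involutive.injective θ_invol)
  sylow := X.sylow
  cent_z := by
    intro g hg
    rw [MonoidHom.comp_apply, θ_named.1] at hg
    obtain ⟨x, hx⟩ := X.cent_z hg
    exact ⟨θ x, by rw [MonoidHom.comp_apply, θ_invol, hx]⟩
  fus := fun x hx => by
    rw [MonoidHom.comp_apply, MonoidHom.comp_apply, θ_named.1] at hx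
    have h := θ.map_isConj (X.fus (θ x) hx)
    rwa [θ_named.1, θ_invol] at h

/-- Piece 11. -/
theorem cent_w : StmtCentW.{u} := by
  intro hM G _ _ X hJ
  refine ⟨cent_wp X hM hJ, fun g hg => ?_⟩
  obtain ⟨x, hx⟩ := cent_wp (twist X) hM (by
    intro g hg
    rw [show (twist X).ι j3L = X.ι j3L from congrArg X.ι θ_named.2.1] at hg
    obtain ⟨x, hx⟩ := hJ hg
    exact ⟨θ x, by show X.ι (θ (θ x)) = g; rw [θ_invol, hx]⟩)
    (show g ∈ centralizer ({(twist X).ι wpL} : Set G) by
      rw [show (twist X).ι wpL = X.ι wmL from congrArg X.ι θ_named.2.2]; exact hg)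
  exact ⟨θ x, hx⟩

end CfsgLib.L43Three.CentWProof
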