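import Mathlib
import Cfsg.Prelude

/-!
# `PSL₄(3)` from a centralizer of order three (S3373): models and pieces

`z = x₁₄`, `Q` is the radical of the point-hyperplane stabilizer, `D1` its first row and `D2` its last column;
`P` is the stabilizer of the first point and `P'` that of the last hyperplane.  See `tools/S3373_plan.md` and
`tools/S3373_seats.md`.
-/

set_option autoImplicit false
set_option maxRecDepth 100000

namespace CfsgLib.L43Three

open Subgroup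

universe u

/-- `SL₄(3)`. -/
abbrev S4 : Type := Matrix.SpecialLinearGroup (Fin 4) (ZMod 3)
/-- `PSL₄(3)`. -/
abbrev L4 : Type := Matrix.ProjectiveSpecialLinearGroup (Fin 4) (ZMod 3)
/-- `SL₃(3)`. -/
abbrev S3 : Type := Matrix.SpecialLinearGroup (Fin 3) (ZMod 3)

/-- The projection. -/
def mk : S4 →* L4 := QuotientGroup.mk' (Subgroup.center S4)

/-- The unipotent matrices of `Q`. -/
def qM (a b c d e : ZMod 3) : Matrix (Fin 4) (Fin 4) (ZMod 3) :=
  !![1, a, b, c; 0, 1, 0, d; 0, 0, 1, e; 0, 0, 0, 1]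

theorem det_qM : ∀ a b c d e, (qM a b c d e).det = 1 := by
  intro a b c d e
  rw [Matrix.det_of_isUpperTriangular]
  · simp [qM, Fin.prod_univ_four]
  · intro i j h
    fin_cases i <;> fin_cases j <;> first | rfl | exact absurd h (by decide)

/-- The elements of `Q` in `SL₄(3)`. -/
def qS (a b c d e : ZMod 3) : S4 := ⟨qM a b c d e, det_qM a b c d e⟩
/-- The elements of `Q` in `PSL₄(3)`. -/
def qel (a b c d e : ZMod 3) : L4 := mk (qS a b c d e)

/-- The long root element `x₁₄`. -/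
def zL : L4 := qel 0 0 1 0 0
/-- A transvection outside `D1`. -/
def t0L : L4 := qel 0 0 0 1 0
/-- Two Jordan blocks of size two. -/
def wpL : L4 := qel 1 0 0 0 1
/-- Two Jordan blocks of size two, the other class. -/
def wmL : L4 := qel 1 0 0 0 2
/-- A Jordan block of size three. -/
def j3L : L4 := qel 1 0 0 1 0

/-- `diag (1, 1, -1, -1)` -/
def i0S : S4 := ⟨Matrix.diagonal ![1, 1, -1, -1], by
  rw [Matrix.det_diagonal]; decide +kernel⟩
/-- `diag (1, 1, -1, -1)` in `PSL₄(3)` -/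
def i0L : L4 := mk i0S

/-- The first point. -/
def e0 : Fin 4 → ZMod 3 := ![1, 0, 0, 0]
/-- The last coordinate. -/
def f3 : Fin 4 → ZMod 3 := ![0, 0, 0, 1]

/-- The stabilizer of the first point in `SL₄(3)`. -/
def PS : Subgroup S4 where
  carrier := {g | Matrix.mulVec g.1 e0 = e0 ∨ Matrix.mulVec g.1 e0 = -e0}
  one_mem' := Or.inl (by simp)
  mul_mem' := fun {a b} ha hb => by
    simp only [Set.mem_setOf_eq, Matrix.SpecialLinearGroup.coe_mul, ← Matrix.mulVec_mulVec] at *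
    rcases ha with ha | ha <;> rcases hb with hb | hb <;> simp [hb, Matrix.mulVec_neg, ha]
  inv_mem' := fun {a} ha => by
    simp only [Set.mem_setOf_eq] at *
    have h1 : (a⁻¹).1 * a.1 = 1 := by
      rw [← Matrix.SpecialLinearGroup.coe_mul, inv_mul_cancel, Matrix.SpecialLinearGroup.coe_one]
    have key : Matrix.mulVec (a⁻¹).1 (Matrix.mulVec a.1 e0) = e0 := by
      rw [Matrix.mulVec_mulVec, h1, Matrix.one_mulVec]
    rcases ha with ha | ha <;> rw [ha] at key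
    · exact Or.inl key
    · exact Or.inr (by rw [Matrix.mulVec_neg] at key; exact neg_eq_iff_eq_neg.1 key)

/-- The stabilizer of the last hyperplane in `SL₄(3)`. -/
def PS' : Subgroup S4 where
  carrier := {g | Matrix.vecMul f3 g.1 = f3 ∨ Matrix.vecMul f3 g.1 = -f3}
  one_mem' := Or.inl (by simp)
  mul_mem' := fun {a b} ha hb => by
    simp only [Set.mem_setOf_eq, Matrix.SpecialLinearGroup.coe_mul, ← Matrix.vecMul_vecMul] at *
    rcases ha with ha | ha <;> rcases hb with hb | hb <;> simp [ha, Matrix.neg_vecMul, hb]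
  inv_mem' := fun {a} ha => by
    simp only [Set.mem_setOf_eq] at *
    have h1 : a.1 * (a⁻¹).1 = 1 := by
      rw [← Matrix.SpecialLinearGroup.coe_mul, mul_inv_cancel, Matrix.SpecialLinearGroup.coe_one]
    have key : Matrix.vecMul (Matrix.vecMul f3 a.1) (a⁻¹).1 = f3 := by
      rw [Matrix.vecMul_vecMul, h1, Matrix.vecMul_one]
    rcases ha with ha | ha <;> rw [ha] at key
    · exact Or.inl key
    · exact Or.inr (by rw [Matrix.neg_vecMul] at key; exact neg_eq_iff_eq_neg.1 key)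

/-- The point stabilizer. -/
def P : Subgroup L4 := PS.map mk
/-- The hyperplane stabilizer. -/
def P' : Subgroup L4 := PS'.map mk

theorem qel_mem_P (a b c d e : ZMod 3) : qel a b c d e ∈ P := by
  refine ⟨qS a b c d e, Or.inl ?_, rfl⟩
  ext i
  fin_cases i <;> simp [qS, qM, e0, Matrix.mulVec, dotProduct, Fin.sum_univ_four]

theorem i0L_mem_P : i0L ∈ P := by
  refine ⟨i0S, Or.inl ?_, rfl⟩
  decide +kernel

/-- The root element inside `P`. -/
def zP : P := ⟨zL, qel_mem_P _ _ _ _ _⟩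
/-- An element of `Q` inside `P`. -/
def qP (a b c d e : ZMod 3) : P := ⟨qel a b c d e, qel_mem_P a b c d e⟩
/-- `diag (1, 1, -1, -1)` inside `P`. -/
def i0P : P := ⟨i0L, i0L_mem_P⟩

variable {G : Type u} [Group G]

/-- The coordinates of `D` and of its normalizer. -/
structure Pre (G : Type u) [Group G] where
  v : (Fin 3 → ZMod 3) → G
  v_add : ∀ x y, v (x + y) = v x * v y
  v_inj : Function.Injective v
  D : Subgroup G
  mem_D : ∀ g, g ∈ D ↔ ∃ x, v x = g
  cent_D : centralizer (D : Set G) = D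
  act : ∀ A : S3, ∃ g : G, ∀ x, g * v x * g⁻¹ = v (Matrix.mulVec A.1 x)
  mon : ∀ g ∈ normalizer (D : Set G), ∃ A : S3, ∀ x, g * v x * g⁻¹ = v (Matrix.mulVec A.1 x)
  norm_z : normalizer (zpowers (v ![0, 0, 1]) : Set G) ≤ normalizer (D : Set G)
  Q : Subgroup G
  card_Q : Nat.card Q = 243
  Q_cube : ∀ x ∈ Q, x ^ 3 = 1
  D_le_Q : D ≤ Q
  Q_le : Q ≤ centralizer ({v ![0, 0, 1]} : Set G)
  Q_normal : centralizer ({v ![0, 0, 1]} : Set G) ≤ normalizer (Q : Set G)
  sylow : ¬ 3 ^ 7 ∣ Nat.card G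
  fusQ : ∀ x ∈ Q, x ∉ D → IsConj (v ![0, 0, 1]) x →
    ∀ c ∈ centralizer ({v ![0, 0, 1]} : Set G), c * x * c⁻¹ * x = x * (c * x * c⁻¹)

/-- The parabolic subgroup inside `G`. -/
structure Base (G : Type u) [Group G] where
  ι : P →* G
  inj : Function.Injective ι
  norm_z : normalizer (zpowers (ι zP) : Set G) ≤ ι.range
  sylow : ¬ 3 ^ 7 ∣ Nat.card G
  fusQ : ∀ a b c d e : ZMod 3, IsConj (ι zP) (ι (qP a b c d e)) →
    (a = 0 ∧ b = 0) ∨ (d = 0 ∧ e = 0)

/-- Case A: no fusion of the class of `z` outside `D1`. -/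
def FusA (B : Base G) : Prop := ∀ x : P, IsConj (B.ι zP) (B.ι x) → IsConj zP x

/-- Case B: a conjugate of `z` in `D2` outside `⟨z⟩`. -/
def HasD2 (B : Base G) : Prop :=
  ∃ c d e : ZMod 3, (d ≠ 0 ∨ e ≠ 0) ∧ IsConj (B.ι zP) (B.ι (qP 0 0 c d e))

/-- The whole of `PSL₄(3)` inside `G`. -/
structure Full (G : Type u) [Group G] where
  ι : L4 →* G
  inj : Function.Injective ι
  sylow : ¬ 3 ^ 7 ∣ Nat.card G
  cent_z : centralizer ({ι zL} : Set G) ≤ ι.range
  fus : ∀ x : L4, IsConj (ι zL) (ι x) → IsConj zL x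

/-- The centralizers of elements of order three stay inside. -/
def Strong (X : Full G) : Prop :=
  (∀ x : L4, orderOf x = 3 → centralizer ({X.ι x} : Set G) ≤ X.ι.range) ∧
  ∀ (g : G) (x : L4), orderOf x = 3 → g * X.ι x * g⁻¹ ∈ X.ι.range → g ∈ X.ι.range

/-! ## The pieces -/

/-- 1: the local structure. -/
def StmtPre : Prop := ∀ {G : Type u} [Group G] [Finite G]
  (S : Sylow 3 G) (Z : Subgroup G), Z = (S : Subgroup G) ⊓ centralizer ((S : Subgroup G) : Set G) →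
  ∀ (C : Subgroup G), C = centralizer (Z : Set G) →
  ∀ (Q : Subgroup G), Q = (Cfsg.pCore 3 C).map C.subtype →
  Cfsg.IsExtraspecial 3 Q → Nat.card Q = 3 ^ 5 → (∀ a ∈ Q, a ^ 3 = 1) →
  centralizer (Q : Set G) ≤ Q →
  (∃ x : G, Z.map (MulAut.conj x).toMonoidHom ≤ Q ∧ Z.map (MulAut.conj x).toMonoidHom ≠ Z) →
  ∀ (K : Subgroup G),
  K = ((Cfsg.pResidual 2 (C ⧸ Cfsg.pCore 3 C)).comap (QuotientGroup.mk' (Cfsg.pCore 3 C))).map C.subtype →
  ∀ (r : ℕ) (A : Fin (r + 1) → Subgroup G), A 0 = Z → A (Fin.last r) = Q →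
  (∀ i : Fin r, A i.castSucc < A i.succ) →
  (∀ i : Fin (r + 1), ∀ k ∈ K, ∀ a ∈ A i, k * a * k⁻¹ ∈ A i) →
  (∀ i : Fin r, ∀ B : Subgroup G, A i.castSucc < B → B < A i.succ →
    ∃ k ∈ K, ∃ b ∈ B, k * b * k⁻¹ ∉ B) →
  ∀ (_ : C ⧸ Cfsg.pCore 3 C ≃* Matrix.SpecialLinearGroup (Fin 2) (ZMod 3)),
  (∃ i j : Fin r, i ≠ j ∧ (∃ k ∈ K, ∃ a ∈ A i.succ, k * a * k⁻¹ * a⁻¹ ∉ A i.castSucc) ∧
    (∃ k ∈ K, ∃ a ∈ A j.succ, k * a * k⁻¹ * a⁻¹ ∉ A j.castSucc) ∧
      ∀ l : Fin r, (∃ k ∈ K, ∃ a ∈ A l.succ, k * a * k⁻¹ * a⁻¹ ∉ A l.castSucc) → l = i ∨ l = j) →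
  Nonempty (Pre G)

/-- 2: the normalizer of `D` is the parabolic subgroup. -/
def StmtBase : Prop := ∀ {G : Type u} [Group G] [Finite G], Pre G → Nonempty (Base G)

/-- 3: the two cases. -/
def StmtCases : Prop := ∀ {G : Type u} [Group G] [Finite G] (B : Base G), FusA B ∨ HasD2 B

/-- 4: the dual parabolic subgroup. -/
def StmtDual : Prop := ∀ {G : Type u} [Group G] [Finite G] (B : Base G), HasD2 B →
  ∃ ι' : P' →* G, Function.Injective ι' ∧
    ∀ (x : L4) (h : x ∈ P) (h' : x ∈ P'), B.ι ⟨x, h⟩ = ι' ⟨x, h'⟩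

/-- 5: the amalgam of the two parabolic subgroups. -/
def StmtPresent : Prop := ∀ {G : Type u} [Group G] [Finite G] (B : Base G) (ι' : P' →* G),
  Function.Injective ι' → (∀ (x : L4) (h : x ∈ P) (h' : x ∈ P'), B.ι ⟨x, h⟩ = ι' ⟨x, h'⟩) →
  ∃ ι : L4 →* G, Function.Injective ι ∧ ∀ x : P, ι (x : L4) = B.ι x

/-- 6: the elements of order three of the model. -/
def StmtModelThree : Prop :=
  (∀ x : L4, orderOf x = 3 → IsConj zL x ∨ IsConj wpL x ∨ IsConj wmL x ∨ IsConj j3L x) ∧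
  ¬ IsConj zL wpL ∧ ¬ IsConj zL wmL ∧ ¬ IsConj zL j3L

/-- 7: the parabolic subgroup is as the statement wants. -/
def StmtParModel : Prop :=
  IsCoatom P ∧ Nat.card (Cfsg.pCore 3 P) = 27 ∧
    Nonempty (P ⧸ Cfsg.pCore 3 P ≃* Matrix.SpecialLinearGroup (Fin 3) (ZMod 3))

/-- 8: the centralizers used in case A. -/
def StmtCentA : Prop := ∀ {G : Type u} [Group G] [Finite G] (B : Base G), FusA B →
  centralizer ({B.ι (qP 0 0 0 1 0)} : Set G) ≤ B.ι.range ∧
  centralizer ({B.ι (qP 1 0 0 0 1)} : Set G) ≤ B.ι.range ∧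
  centralizer ({B.ι (qP 1 0 0 0 2)} : Set G) ≤ B.ι.range

/-- 9: the end of case A. -/
def StmtEndA : Prop := ∀ {G : Type u} [Group G] [Finite G] (B : Base G), FusA B →
  centralizer ({B.ι (qP 0 0 0 1 0)} : Set G) ≤ B.ι.range →
  centralizer ({B.ι (qP 1 0 0 0 1)} : Set G) ≤ B.ι.range →
  centralizer ({B.ι (qP 1 0 0 0 2)} : Set G) ≤ B.ι.range → B.ι.range = ⊤

/-- 10: the centralizer of a Jordan block of size three. -/
def StmtCentJ3 : Prop := ∀ {G : Type u} [Group G] [Finite G] (X : Full G),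
  centralizer ({X.ι j3L} : Set G) ≤ X.ι.range

/-- 11: the centralizers of two Jordan blocks of size two. -/
def StmtCentW : Prop := StmtModelThree → ∀ {G : Type u} [Group G] [Finite G] (X : Full G),
  centralizer ({X.ι j3L} : Set G) ≤ X.ι.range →
  centralizer ({X.ι wpL} : Set G) ≤ X.ι.range ∧ centralizer ({X.ι wmL} : Set G) ≤ X.ι.range

/-- 12: the centralizer of the involution with eigenvalues `1, 1, -1, -1`. -/
def StmtCentI : Prop := StmtModelThree → ∀ {G : Type u} [Group G] [Finite G] (X : Full G),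
  Strong X → centralizer ({X.ι i0L} : Set G) ≤ X.ι.range ∧
    ∀ x : L4, IsConj (X.ι i0L) (X.ι x) → IsConj i0L x

/-- 13: what the census needs from the model. -/
def StmtCensusModel : Prop :=
  i0L * i0L = 1 ∧ i0L ≠ 1 ∧ ∃ T : Subgroup L4, (∀ t ∈ T, i0L * t = t * i0L) ∧
    (∀ K : Subgroup L4, IsPGroup 2 K → ∃ h : L4, ∀ k ∈ K, h * k * h⁻¹ ∈ T) ∧
    ∀ K : Subgroup L4, K ≤ T → (∀ c ∈ K, ∀ d ∈ K, c * d = d * c) →
      (∀ k ∈ K, ¬ IsConj i0L k) →
      (∃ k : L4, k ∉ K ∧ (∀ c ∈ K, k * c = c * k) ∧ k * k ∈ K ∧ ∀ c ∈ K, ¬ IsConj i0L (k * c)) ∨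
      ∀ L : Subgroup L4, L ≤ centralizer (K : Set L4) → Odd (Nat.card L) →
        Nat.card L * Nat.card K <
          Nat.card {x : L4 // x ∈ centralizer (K : Set L4) ∧ x ∉ K ∧ x * x ∈ K}

/-- 14: the census. -/
def StmtCensus : Prop := StmtCensusModel → ∀ {G : Type u} [Group G] [Finite G] (ι : L4 →* G),
  Function.Injective ι → centralizer ({ι i0L} : Set G) ≤ ι.range →
  (∀ x : L4, IsConj (ι i0L) (ι x) → IsConj i0L x) → ι.range = ⊤

end CfsgLib.L43Three
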