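import Cfsg.Agent.Lib.L43Three.DualWeyl
import Cfsg.Agent.Lib.Coprime.Gaschutz

/-!
# The dual parabolic subgroup (statement S3373, piece Dual)

`N(D2)` induces `SL₃(3)` on `D2` and is split by Gaschütz.  After a translation the section agrees with
`ι` on the diagonal elements; on the unipotent generators the difference is killed by the relation
`[x₁₂, x₂₃] = x₁₃` and by the fact that no conjugate of `z` is `x₂₃ z^c` with `c ≠ 0`.
-/

set_option autoImplicit false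
set_option maxRecDepth 100000
set_option linter.unusedSectionVars false

namespace CfsgLib.L43Three.Dual

open Subgroup CfsgLib.L43Three.Cases

universe u

/-- The transvection part of the exchanging element. -/
def wd : S3 := ⟨!![0, 1, 0; 1, 0, 0; 0, 0, -1], by rw [Matrix.det_fin_three]; decide +kernel⟩

/-- A cyclic permutation of the coordinates. -/
def cyc : S3 := ⟨!![0, 0, 1; 1, 0, 0; 0, 1, 0], by rw [Matrix.det_fin_three]; decide +kernel⟩

theorem bad_cube : h3.1 * ((!![0, 1, 0; 1, 0, 0; 0, 0, 1] : Matrix (Fin 3) (Fin 3) (ZMod 3)) * sw.1 *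
    (!![0, 1, 0; 1, 0, 0; 0, 0, 1] * sw.1) * (!![0, 1, 0; 1, 0, 0; 0, 0, 1] * sw.1)) =
    !![1, 0, 0; 0, 1, 0; 0, 0, -1] := by decide +kernel

theorem rel_h : h1 * h2 = h2 * h1 ∧ h1 * h1 = 1 ∧ h2 * h2 = 1 ∧ h3 = h1 * h2 ∧
    h1 * uA 0 1 0 = uA 0 (-1) 0 * h1 ∧ h2 * uA 0 1 0 = uA 0 (-1) 0 * h2 ∧
    uA 0 (-1) 0 * uA 0 1 0 = 1 ∧ h2 * uA 0 0 1 = uA 0 0 1 * h2 ∧
    h1 * uA 1 0 0 = uA 1 0 0 * h1 ∧ uA 0 1 0 * uA 1 0 0 = uA 0 0 1 * (uA 1 0 0 * uA 0 1 0) ∧
    sw * h1 = h1 * sw ∧ sw * h2 = h3 * sw ∧ sw * sw * sw * sw = 1 ∧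
    cyc * uA 0 1 0 = uA 1 0 0 * cyc := by
  refine ⟨?_, ?_, ?_, ?_, ?_, ?_, ?_, ?_, ?_, ?_, ?_, ?_, ?_, ?_⟩ <;> apply Subtype.ext <;>
    simp only [Matrix.SpecialLinearGroup.coe_mul, Matrix.SpecialLinearGroup.coe_one] <;>
    decide +kernel

theorem uA_split (k a b : ZMod 3) : uA k a b = uA 0 0 b * (uA k 0 0 * uA 0 a 0) := by
  apply Subtype.ext
  simp only [Matrix.SpecialLinearGroup.coe_mul]
  ext i j
  fin_cases i <;> fin_cases j <;> simp [uA, Matrix.mul_apply, Fin.sum_univ_three]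

theorem uA_add (k k' : ZMod 3) : uA k 0 0 * uA k' 0 0 = uA (k + k') 0 0 ∧
    uA 0 k 0 * uA 0 k' 0 = uA 0 (k + k') 0 ∧ uA 0 0 k * uA 0 0 k' = uA 0 0 (k + k') := by
  refine ⟨?_, ?_, ?_⟩ <;> apply Subtype.ext <;>
    simp only [Matrix.SpecialLinearGroup.coe_mul] <;> ext i j <;>
    fin_cases i <;> fin_cases j <;> simp [uA, Matrix.mul_apply, Fin.sum_univ_three, add_comm]

theorem upper_split : ∀ a b c d e f : ZMod 3, a * d * f = 1 →
    (!![a, b, c; 0, d, e; 0, 0, f] : Matrix (Fin 3) (Fin 3) (ZMod 3)) =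
      !![a, 0, 0; 0, d, 0; 0, 0, f] * !![1, a * b, a * c; 0, 1, d * e; 0, 0, 1] ∧
    ((a = 1 ∧ d = 1 ∧ f = 1) ∨ (a = 1 ∧ d = -1 ∧ f = -1) ∨ (a = -1 ∧ d = 1 ∧ f = -1) ∨
      (a = -1 ∧ d = -1 ∧ f = 1)) := by decide +kernel

theorem elim_key : ∀ x y : ZMod 3, y ≠ 0 → x + -(x * y) * y = 0 := by decide +kernel

theorem e0_ne : (![1, 0, 0] : V) ≠ 0 := fun h => one_ne_zero (congrFun h 0 : (1 : ZMod 3) = 0)

theorem e0_cases : ∀ t : ZMod 3, t ≠ 0 → t = 1 ∨ t = -1 := by decide +kernel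

variable {G : Type u} [Group G] [Finite G] {B : Base G}

theorem act_of_basis {m : G} {M : Matrix (Fin 3) (Fin 3) (ZMod 3)}
    (h0 : m * d2 B ![1, 0, 0] * m⁻¹ = d2 B (Matrix.mulVec M ![1, 0, 0]))
    (h1 : m * d2 B ![0, 1, 0] * m⁻¹ = d2 B (Matrix.mulVec M ![0, 1, 0]))
    (h2 : m * d2 B ![0, 0, 1] * m⁻¹ = d2 B (Matrix.mulVec M ![0, 0, 1])) :
    Act B m M := by
  have hn : ∀ (x : V), m * d2 B x * m⁻¹ = d2 B (Matrix.mulVec M x) → ∀ n : ℕ,
      m * d2 B (n • x) * m⁻¹ = d2 B (Matrix.mulVec M (n • x)) := by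
    intro x hx n
    induction n with
    | zero => simp [d2_zero]
    | succ n ih => rw [succ_nsmul, Matrix.mulVec_add, d2_add, d2_add, ← ih, ← hx]; group
  intro v
  have hv : v = (v 0).val • ![1, 0, 0] + (v 1).val • ![0, 1, 0] + (v 2).val • ![0, 0, 1] := by
    ext i; fin_cases i <;> simp
  rw [hv, Matrix.mulVec_add, Matrix.mulVec_add, d2_add, d2_add, d2_add, d2_add, ← hn _ h0, ← hn _ h1,
    ← hn _ h2]
  group

/-- An element exchanging the lines with determinant one. -/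
theorem exists_wd (hD : HasD2 B) : ∃ w : G, Act B w wd.1 := by
  obtain ⟨w, hz, ht⟩ := exists_swap hD
  obtain ⟨y, hy⟩ := swap_act hD hz ht
  have hW : Act B w !![0, 1, y 0; 1, 0, y 1; 0, 0, y 2] := by
    refine act_of_basis ?_ ?_ ?_
    · rw [hz]; congr 1
      ext j; fin_cases j <;> simp [Matrix.mulVec, dotProduct, Fin.sum_univ_three]
    · rw [ht]; congr 1
      ext j; fin_cases j <;> simp [Matrix.mulVec, dotProduct, Fin.sum_univ_three]
    · rw [hy]; congr 1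
      ext j; fin_cases j <;> simp [Matrix.mulVec, dotProduct, Fin.sum_univ_three]
  have hy2 : y 2 ≠ 0 := by
    intro h0
    have h := hW ![y 1, y 0, 0]
    rw [show Matrix.mulVec !![0, 1, y 0; 1, 0, y 1; 0, 0, y 2] ![y 1, y 0, 0] = y by
      ext j; fin_cases j <;> simp [Matrix.mulVec, dotProduct, Fin.sum_univ_three, h0]] at h
    have h' := congrFun (d2_inj (mul_left_cancel (mul_right_cancel (h.trans hy.symm)))) 2
    simp at h'
  have hW' := hW.mul (act_jP (B := B) (uA_stab (-y 0) 0 (-y 1)) 0)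
  set w' := w * B.ι (jP (uA (-y 0) 0 (-y 1)) 0 (uA_stab _ _ _)) with hw'
  have hM : !![0, 1, y 0; 1, 0, y 1; 0, 0, y 2] * (uA (-y 0) 0 (-y 1)).1 =
      !![0, 1, 0; 1, 0, 0; 0, 0, y 2] := by
    ext i j
    fin_cases i <;> fin_cases j <;> simp [uA, Matrix.mul_apply, Fin.sum_univ_three]
  rw [hM] at hW'
  rcases e0_cases _ hy2 with h1' | h1'
  · exfalso
    rw [h1'] at hW'
    have hu := hW'.mul (act_jP (B := B) sw_stab 0)
    have hm := (act_jP (B := B) h3_stab 0).mul ((hu.mul hu).mul hu)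
    rw [bad_cube] at hm
    have hfix := hm ![1, 0, 0]
    rw [show Matrix.mulVec !![1, 0, 0; 0, 1, 0; 0, 0, -1] ![1, 0, 0] = (![1, 0, 0] : V) by
      ext j; fin_cases j <;> simp [Matrix.mulVec, dotProduct, Fin.sum_univ_three], d2, tP_z,
      mul_inv_eq_iff_eq_mul] at hfix
    obtain ⟨A, v, hA, e⟩ := fix_z hfix
    have hAd := A.2
    have hu' := act_jP (B := B) hA v
    rw [← e] at hu'
    rw [← hm.unique hu', Matrix.det_fin_three] at hAd
    simp at hAd
    exact absurd hAd (by decide)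
  · exact ⟨w', by rw [h1'] at hW'; exact hW'⟩

/-- All of `SL₃(3)` is induced. -/
theorem act_all (hD : HasD2 B) (A : S3) : ∃ m : G, Act B m A.1 := by
  by_cases hA : Stab A
  · exact ⟨_, act_jP hA 0⟩
  obtain ⟨w, hw⟩ := exists_wd hD
  have hde : A.1 1 0 ≠ 0 ∨ A.1 2 0 ≠ 0 := not_and_or.1 hA
  obtain ⟨hn, e1, e2⟩ := toV_spec (A.1 0 0) (A.1 1 0) (A.1 2 0) hde
  set n := toV (A.1 0 0) (A.1 1 0) (A.1 2 0) hde with hndef
  have hst : Stab ((n * wd)⁻¹ * A) := by
    have h0 : Matrix.mulVec (n * wd).1 ![1, 0, 0] = Matrix.mulVec A.1 ![1, 0, 0] := by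
      rw [Matrix.SpecialLinearGroup.coe_mul, ← Matrix.mulVec_mulVec,
        show Matrix.mulVec wd.1 ![1, 0, 0] = ![0, 1, 0] by
          ext j; fin_cases j <;> simp [wd, Matrix.mulVec, dotProduct, Fin.sum_univ_three], e2]
      ext j
      fin_cases j <;> simp [Matrix.mulVec, dotProduct, Fin.sum_univ_three]
    have hfix : Matrix.mulVec ((n * wd)⁻¹ * A).1 ![1, 0, 0] = ![1, 0, 0] := by
      rw [Matrix.SpecialLinearGroup.coe_mul, ← Matrix.mulVec_mulVec, ← h0, Matrix.mulVec_mulVec,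
        ← Matrix.SpecialLinearGroup.coe_mul, inv_mul_cancel, Matrix.SpecialLinearGroup.coe_one,
        Matrix.one_mulVec]
    constructor
    · have := congrFun hfix 1
      simpa [Matrix.mulVec, dotProduct, Fin.sum_univ_three] using this
    · have := congrFun hfix 2
      simpa [Matrix.mulVec, dotProduct, Fin.sum_univ_three] using this
  refine ⟨B.ι (jP n 0 hn) * w * B.ι (jP _ 0 hst), ?_⟩
  have h := ((act_jP (B := B) hn 0).mul hw).mul (act_jP (B := B) hst 0)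
  rwa [← Matrix.SpecialLinearGroup.coe_mul, ← Matrix.SpecialLinearGroup.coe_mul,
    mul_inv_cancel_left] at h

theorem act_one : Act B (1 : G) (1 : S3).1 := fun v => by simp

theorem act_d2 (v : V) : Act B (d2 B v) (1 : S3).1 := by
  rw [d2, tP_eq]
  exact act_jP _ v

theorem Act.inv {m : G} {A : S3} (h : Act B m A.1) : Act B m⁻¹ (A⁻¹).1 := fun v => by
  have h' := h (Matrix.mulVec (A⁻¹).1 v)
  rw [Matrix.mulVec_mulVec, ← Matrix.SpecialLinearGroup.coe_mul, mul_inv_cancel,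
    Matrix.SpecialLinearGroup.coe_one, Matrix.one_mulVec] at h'
  rw [← h']
  group

/-- Two elements with the same action differ by a translation. -/
theorem diff {m n : G} {A : S3} (hm : Act B m A.1) (hn : Act B n A.1) :
    ∃ v, m = d2 B v * n := by
  have h := hm.mul hn.inv
  rw [← Matrix.SpecialLinearGroup.coe_mul, mul_inv_cancel, Matrix.SpecialLinearGroup.coe_one] at h
  have hfix := h ![1, 0, 0]
  rw [Matrix.one_mulVec, d2, tP_z, mul_inv_eq_iff_eq_mul] at hfix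
  obtain ⟨A', v, hA', e⟩ := fix_z hfix
  have hA1 : A' = 1 := Subtype.ext (((e ▸ act_jP hA' v : Act B (m * n⁻¹) A'.1)).unique
    (by rw [Matrix.SpecialLinearGroup.coe_one]; exact h))
  refine ⟨v, ?_⟩
  subst hA1
  rw [d2, tP_eq, ← e, inv_mul_cancel_right]

/-- The elements acting through `SL₃(3)`. -/
def M2 (B : Base G) : Subgroup G where
  carrier := {m | ∃ A : S3, Act B m A.1}
  one_mem' := ⟨1, act_one⟩
  mul_mem' := by
    rintro m n ⟨A, hA⟩ ⟨A', hA'⟩
    exact ⟨A * A', by rw [Matrix.SpecialLinearGroup.coe_mul]; exact hA.mul hA'⟩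
  inv_mem' := by
    rintro m ⟨A, hA⟩
    exact ⟨A⁻¹, hA.inv⟩

/-- `D2` as a subgroup. -/
def K2 (B : Base G) : Subgroup G where
  carrier := {m | ∃ v, m = d2 B v}
  one_mem' := ⟨0, d2_zero.symm⟩
  mul_mem' := by rintro _ _ ⟨v, rfl⟩ ⟨w, rfl⟩; exact ⟨v + w, (d2_add v w).symm⟩
  inv_mem' := by rintro _ ⟨v, rfl⟩; exact ⟨-v, (d2_neg v).symm⟩

/-- `ι(P ∩ P')` -/
def NN (B : Base G) : Subgroup G := (P'.subgroupOf P).map B.ι

theorem mem_NN {m : G} : m ∈ NN B ↔ ∃ A v, ∃ hA : Stab A, m = B.ι (jP A v hA) := by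
  constructor
  · rintro ⟨p, hp, rfl⟩
    obtain ⟨A, v, e⟩ := exists_param (mem_subgroupOf.1 hp)
    exact ⟨A, v, stab_of_mem (e ▸ p.2), congrArg B.ι (Subtype.ext e)⟩
  · rintro ⟨A, v, hA, rfl⟩
    exact ⟨_, mem_subgroupOf.2 ⟨jS A v, jS_mem_PS' A v, rfl⟩, rfl⟩

theorem Stab.pow {A : S3} (hA : Stab A) (n : ℕ) : Stab (A ^ n) := by
  induction n with
  | zero => rw [pow_zero]; exact Stab.one
  | succ n ih => rw [pow_succ]; exact ih.mul hA

/-- The stabilizer as a subgroup. -/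
def stabG : Subgroup S3 where
  carrier := {A | Stab A}
  one_mem' := Stab.one
  mul_mem' := Stab.mul
  inv_mem' := by
    intro A hA
    have h : A⁻¹ = A ^ (orderOf A - 1) := by
      refine inv_eq_of_mul_eq_one_right ?_
      rw [← pow_succ', Nat.sub_add_cancel (orderOf_pos A), pow_orderOf_eq_one]
    show Stab A⁻¹
    rw [h]
    exact Stab.pow hA _

/-- The linear elements of `ι(P ∩ P')`. -/
def jH (B : Base G) : stabG →* G :=
  MonoidHom.mk' (fun A => B.ι (jP A.1 0 A.2)) fun A A' => by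
    rw [← map_mul]
    exact congrArg B.ι ((jP_congr _ _ rfl (by simp)).trans (jP_mul A.2 A'.2 0 0).symm)

theorem act_jH {A : S3} (hA : Stab A) : Act B (jH B ⟨A, hA⟩) A.1 := act_jP hA 0

theorem act_fun {m : G} {A A' : S3} (h : Act B m A.1) (h' : Act B m A'.1) : A = A' :=
  Subtype.ext (h.unique h')

/-- A section over `SL₃(3)`. -/
theorem exists_section (hD : HasD2 B) : ∃ L : S3 →* G, ∀ A, Act B (L A) A.1 := by
  have : Fact (Nat.Prime 3) := ⟨Nat.prime_three⟩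
  have hKM : K2 B ≤ M2 B := by rintro _ ⟨v, rfl⟩; exact ⟨1, act_d2 v⟩
  have hNM : NN B ≤ M2 B := by
    intro m hm
    obtain ⟨A, v, hA, rfl⟩ := mem_NN.1 hm
    exact ⟨A, act_jP hA v⟩
  have hKN : K2 B ≤ NN B := by
    rintro _ ⟨v, rfl⟩
    exact mem_NN.2 ⟨1, v, Stab.one, congrArg B.ι (tP_eq v)⟩
  have hHM : (jH B).range ≤ M2 B := by
    rintro _ ⟨⟨A, hA⟩, rfl⟩
    exact ⟨A, act_jH hA⟩
  set K := (K2 B).subgroupOf (M2 B) with hKdef
  set U0 := (NN B).subgroupOf (M2 B) with hU0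
  set H0 := (jH B).range.subgroupOf (M2 B) with hH0
  have hKn : K.Normal := ⟨fun k hk m => by
    obtain ⟨v, hv⟩ := mem_subgroupOf.1 hk
    obtain ⟨A, hA⟩ := m.2
    refine mem_subgroupOf.2 ⟨Matrix.mulVec A.1 v, ?_⟩
    show (m : G) * (k : G) * (m : G)⁻¹ = _
    rw [hv, hA]⟩
  have hKc : IsMulCommutative K := ⟨⟨fun a b => Subtype.ext (Subtype.ext (by
    obtain ⟨v, hv⟩ := mem_subgroupOf.1 a.2
    obtain ⟨w, hw⟩ := mem_subgroupOf.1 b.2
    show ((a : M2 B) : G) * (b : M2 B) = (b : M2 B) * (a : M2 B)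
    rw [hv, hw, d2_comm]))⟩⟩
  have hcard : Nat.card K = 3 ^ 3 := by
    rw [hKdef, Nat.card_congr (subgroupOfEquivOfLe hKM).toEquiv]
    have e : Nat.card V = Nat.card (K2 B) := Nat.card_congr (Equiv.ofBijective
      (fun v => (⟨d2 B v, v, rfl⟩ : K2 B)) ⟨fun v w h => d2_inj (congrArg Subtype.val h),
        fun m => by obtain ⟨v, hv⟩ := m.2; exact ⟨v, Subtype.ext hv.symm⟩⟩)
    rw [← e]; simp
  have hindex : ¬ 3 ∣ U0.index := fun hd => by
    have hUN : U.map B.ι ≤ NN B := by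
      rintro _ ⟨_, ⟨k, a, b, c, d, e, rfl⟩, rfl⟩
      exact mem_NN.2 ⟨uA k a b, ![c, d, e], uA_stab k a b, congrArg B.ι (uP_eq ..)⟩
    have h1 : 3 ∣ (U.map B.ι).index :=
      (hd.trans ⟨_, (relIndex_mul_index hNM).symm⟩).trans (index_dvd_of_le hUN)
    refine B.sylow ?_
    rw [← (U.map B.ι).card_mul_index, card_map_of_injective B.inj, card_U, pow_succ]
    exact mul_dvd_mul_left _ h1
  obtain ⟨H, hH⟩ := CfsgLib.Coprime.gaschutz_exists K U0 ((fun x hx => hKN hx))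
    (by rw [hcard]; exact ((Nat.prime_three.coprime_iff_not_dvd).2 hindex).pow_left 3)
    H0 (by
      intro m hm
      obtain ⟨⟨A, hA⟩, e⟩ := mem_subgroupOf.1 hm
      exact mem_subgroupOf.2 (e ▸ mem_NN.2 ⟨A, 0, hA, rfl⟩))
    ((eq_bot_iff_forall _).2 fun m hm => by
      obtain ⟨⟨A, hA⟩, e⟩ := mem_subgroupOf.1 (mem_inf.1 hm).1
      obtain ⟨v, hv⟩ := mem_subgroupOf.1 (mem_inf.1 hm).2
      have h1 : A = 1 := act_fun (e ▸ act_jH hA) (hv ▸ act_d2 v)
      subst h1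
      refine Subtype.ext (e.symm.trans ?_)
      exact map_one (jH B))
    (by
      refine le_antisymm (sup_le ((fun x hx => hKN hx)) ?_) fun m hm => ?_
      · intro m hm
        obtain ⟨⟨A, hA⟩, e⟩ := mem_subgroupOf.1 hm
        exact mem_subgroupOf.2 (e ▸ mem_NN.2 ⟨A, 0, hA, rfl⟩)
      · obtain ⟨A, v, hA, e⟩ := mem_NN.1 (mem_subgroupOf.1 hm)
        have e' : m = ⟨d2 B v, hKM ⟨v, rfl⟩⟩ * ⟨jH B ⟨A, hA⟩, hHM ⟨_, rfl⟩⟩ := Subtype.ext (by
          show (m : G) = d2 B v * jH B ⟨A, hA⟩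
          rw [e, d2, tP_eq]
          show _ = B.ι (jP 1 v Stab.one) * B.ι (jP A 0 hA)
          rw [← map_mul, jP_mul]
          exact congrArg B.ι (jP_congr _ _ (one_mul A).symm (by simp)))
        rw [e']
        exact mul_mem_sup (mem_subgroupOf.2 ⟨v, rfl⟩) (mem_subgroupOf.2 ⟨⟨A, hA⟩, rfl⟩))
  have hex : ∀ A : S3, ∃ h : M2 B, h ∈ H ∧ Act B (h : G) A.1 := by
    intro A
    obtain ⟨m, hm⟩ := act_all hD A
    obtain ⟨k, hk, h, hh, e⟩ := mem_sup_of_normal_left.1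
      (hH.sup_eq_top ▸ mem_top (⟨m, A, hm⟩ : M2 B) : (⟨m, A, hm⟩ : M2 B) ∈ K ⊔ H)
    obtain ⟨v, hv⟩ := mem_subgroupOf.1 hk
    refine ⟨h, hh, ?_⟩
    have h' := (act_d2 (B := B) v).inv.mul hm
    rw [← Matrix.SpecialLinearGroup.coe_mul, inv_one, one_mul] at h'
    have e' : (h : G) = (d2 B v)⁻¹ * m := by
      have := congrArg Subtype.val e
      rw [← hv]
      exact eq_inv_mul_of_mul_eq this
    rw [e']; exact h'
  choose h hhH hhA using hex
  have huniq : ∀ (A : S3) (k : M2 B), k ∈ H → Act B (k : G) A.1 → k = h A := by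
    intro A k hk hkA
    obtain ⟨v, hv⟩ := diff hkA (hhA A)
    have hmem : k * (h A)⁻¹ ∈ K ⊓ H := mem_inf.2 ⟨mem_subgroupOf.2 ⟨v, by
      show (k : G) * (h A : G)⁻¹ = _
      rw [hv, mul_inv_cancel_right]⟩, mul_mem hk (inv_mem (hhH A))⟩
    rw [hH.disjoint.eq_bot, mem_bot, mul_inv_eq_one] at hmem
    exact hmem
  refine ⟨MonoidHom.mk' (fun A => ((h A : M2 B) : G)) fun A A' => ?_, fun A => hhA A⟩
  have h2 := huniq (A * A') (h A * h A') (mul_mem (hhH A) (hhH A')) (by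
    rw [Matrix.SpecialLinearGroup.coe_mul]
    exact (hhA A).mul (hhA A'))
  exact (congrArg Subtype.val h2).symm

/-- `J A = d · L A` -/
def Off (B : Base G) (L : S3 →* G) (A : S3) (a : V) : Prop :=
  ∃ hA : Stab A, jH B ⟨A, hA⟩ = d2 B a * L A

variable {L : S3 →* G}

theorem Off.mul (hL : ∀ A, Act B (L A) A.1) {A A' : S3} {a a' : V} (h : Off B L A a)
    (h' : Off B L A' a') : Off B L (A * A') (a + Matrix.mulVec A.1 a') := by
  obtain ⟨hA, e⟩ := h
  obtain ⟨hA', e'⟩ := h'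
  refine ⟨hA.mul hA', ?_⟩
  rw [show (⟨A * A', hA.mul hA'⟩ : stabG) = ⟨A, hA⟩ * ⟨A', hA'⟩ from rfl, map_mul, e, e', map_mul,
    d2_add, ← hL A a']
  group

theorem Off.unique {A : S3} {a a' : V} (h : Off B L A a) (h' : Off B L A a') : a = a' := by
  obtain ⟨hA, e⟩ := h
  obtain ⟨hA', e'⟩ := h'
  exact d2_inj (mul_right_cancel (e.symm.trans e'))

theorem Off.one : Off B L 1 0 := ⟨Stab.one, by
  rw [show (⟨1, Stab.one⟩ : stabG) = 1 from rfl, map_one, d2_zero, map_one, one_mul]⟩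

theorem exists_off (hL : ∀ A, Act B (L A) A.1) {A : S3} (hA : Stab A) : ∃ a, Off B L A a := by
  obtain ⟨v, hv⟩ := diff (act_jH (B := B) hA) (hL A)
  exact ⟨v, hA, hv⟩

/-- The relation form of a commutation. -/
theorem Off.rel (hL : ∀ A, Act B (L A) A.1) {A A' C C' : S3} {a a' c c' : V} (h : Off B L A a)
    (h' : Off B L A' a') (k : Off B L C c) (k' : Off B L C' c') (e : A * A' = C * C') :
    a + Matrix.mulVec A.1 a' = c + Matrix.mulVec C.1 c' :=
  (e ▸ h.mul hL h').unique (k.mul hL k')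

theorem cls_D1 (a : ZMod 3) (ha : a ≠ 0) : IsConj (B.ι zP) (B.ι (uP 0 a 0 0 0 0)) :=
  B.ι.map_isConj (conj_D1 (Or.inl ha))

theorem mulVec_zero_add (A : S3) (a : V) : a + Matrix.mulVec A.1 0 = a := by simp

/-- A section agreeing with `ι` on the stabilizer. -/
theorem exists_good (hD : HasD2 B) :
    ∃ L : S3 →* G, (∀ A, Act B (L A) A.1) ∧ ∀ A, Stab A → Off B L A 0 := by
  obtain ⟨L₀, hL₀⟩ := exists_section hD
  obtain ⟨e12, e11, e22, e3, -⟩ := rel_h
  -- the translation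
  obtain ⟨a, ha⟩ := exists_off hL₀ h1_stab
  obtain ⟨b, hb⟩ := exists_off hL₀ h2_stab
  have ra : a + Matrix.mulVec h1.1 a = 0 := (e11 ▸ ha.mul hL₀ ha).unique Off.one
  have rb : b + Matrix.mulVec h2.1 b = 0 := (e22 ▸ hb.mul hL₀ hb).unique Off.one
  have rab := ha.rel hL₀ hb hb ha e12
  have a0 := congrFun ra 0
  have b1 := congrFun rb 1
  have ab2 := congrFun rab 2
  simp [h1, h2, Matrix.mulVec, dotProduct, Fin.sum_univ_three] at a0 b1 ab2
  set v : V := ![-b 0, -a 1, -a 2] with hv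
  let L : S3 →* G := (MulAut.conj (d2 B v)).toMonoidHom.comp L₀
  have hLA : ∀ A, L A = d2 B v * L₀ A * (d2 B v)⁻¹ := fun A => rfl
  have hL : ∀ A, Act B (L A) A.1 := fun A => by
    have h := ((act_d2 (B := B) v).mul (hL₀ A)).mul (act_d2 v).inv
    rw [← Matrix.SpecialLinearGroup.coe_mul, ← Matrix.SpecialLinearGroup.coe_mul, one_mul, inv_one,
      mul_one] at h
    rw [hLA]; exact h
  have hchange : ∀ {A : S3} {x : V}, Off B L₀ A x → x = v - Matrix.mulVec A.1 v → Off B L A 0 := by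
    rintro A x ⟨hA, e⟩ hx
    refine ⟨hA, ?_⟩
    have hc : L₀ A * (d2 B v)⁻¹ = d2 B (Matrix.mulVec A.1 (-v)) * L₀ A := by
      rw [← hL₀ A, d2_neg]; group
    rw [d2_zero, one_mul, hLA, mul_assoc, hc, e, ← mul_assoc, ← d2_add, hx, Matrix.mulVec_neg,
      sub_eq_add_neg]
  have key3 : ∀ x y : ZMod 3, x + x = 0 → x = 0 := by decide +kernel
  have key4 : ∀ x y : ZMod 3, x - y = y - x → x = y := by decide +kernel
  have k1 : Off B L h1 0 := hchange ha (by
    ext i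
    fin_cases i <;> simp [hv, h1, Matrix.mulVec, dotProduct, Fin.sum_univ_three]
    · exact key3 _ 0 a0
    · exact (by decide +kernel : ∀ x : ZMod 3, x = -x - x) _
    · exact (by decide +kernel : ∀ x : ZMod 3, x = -x - x) _)
  have k2 : Off B L h2 0 := hchange hb (by
    ext i
    fin_cases i <;> simp [hv, h2, Matrix.mulVec, dotProduct, Fin.sum_univ_three]
    · exact (by decide +kernel : ∀ x : ZMod 3, x = -x - x) _
    · exact key3 _ 0 b1
    · exact (by decide +kernel : ∀ x y : ZMod 3, x + -y = y + -x → y = -x - x) _ _ ab2)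
  have k3 : Off B L h3 0 := by
    have := k1.mul hL k2
    rwa [mulVec_zero_add, ← e3] at this
  obtain ⟨-, -, -, -, r1x, r2x, rxi, r2y, r1z, rcomm, rs1, rs2, rs4, rcyc⟩ := rel_h
  -- the unipotent generators
  obtain ⟨p, hp⟩ := exists_off hL (uA_stab 0 1 0)
  obtain ⟨p', hp'⟩ := exists_off hL (uA_stab 0 (-1) 0)
  have q1 := k1.rel hL hp hp' k1 r1x
  have q2 := k2.rel hL hp hp' k2 r2x
  have qi : p' + Matrix.mulVec (uA 0 (-1) 0).1 p = 0 := (rxi ▸ hp'.mul hL hp).unique Off.one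
  rw [zero_add, mulVec_zero_add] at q1 q2
  rw [← q1] at qi
  have qi2 := qi
  rw [q1, ← q2] at qi2
  have q10 := congrFun qi 0
  have q20 := congrFun qi2 0
  have q21 := congrFun qi2 1
  simp [h1, h2, uA, Matrix.mulVec, dotProduct, Fin.sum_univ_three] at q10 q20 q21
  have hp0 : p 0 = 0 ∧ p 1 = 0 := ⟨(by decide +kernel : ∀ x y : ZMod 3,
    x + (x + -y) = 0 → y = 0 → x = 0) _ _ q10 q20, q20⟩
  obtain ⟨q, hq⟩ := exists_off hL (uA_stab 0 0 1)
  have q3 := k2.rel hL hq hq k2 r2y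
  rw [zero_add, mulVec_zero_add] at q3
  have hq0 : q 0 = 0 ∧ q 2 = 0 := by
    have a := congrFun q3 0
    have b := congrFun q3 2
    simp [h2, Matrix.mulVec, dotProduct, Fin.sum_univ_three] at a b
    have key : ∀ x : ZMod 3, -x = x → x = 0 := by decide +kernel
    exact ⟨key _ a, key _ b⟩
  obtain ⟨r, hr⟩ := exists_off hL (uA_stab 1 0 0)
  have q4 := k1.rel hL hr hr k1 r1z
  rw [zero_add, mulVec_zero_add] at q4
  have hr0 : r 1 = 0 ∧ r 2 = 0 := by
    have a := congrFun q4 1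
    have b := congrFun q4 2
    simp [h1, Matrix.mulVec, dotProduct, Fin.sum_univ_three] at a b
    have key : ∀ x : ZMod 3, -x = x → x = 0 := by decide +kernel
    exact ⟨key _ a, key _ b⟩
  have q5 := hp.rel hL hr hq (hr.mul hL hp) rcomm
  have c0 := congrFun q5 0
  have c1 := congrFun q5 1
  simp [uA, Matrix.mulVec, dotProduct, Fin.sum_univ_three, hp0.1, hp0.2, hq0.1, hq0.2, hr0.1,
    hr0.2, Matrix.vecHead, Matrix.vecTail] at c0 c1
  have hp2 : p 2 = 0 := c0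
  have hq1 : q 1 = 0 := by rw [hp2] at c1; simpa using c1.symm
  have kx : Off B L (uA 0 1 0) 0 := by
    rwa [show p = 0 by ext i; fin_cases i <;> simp [hp0.1, hp0.2, hp2]] at hp
  have ky : Off B L (uA 0 0 1) 0 := by
    rwa [show q = 0 by ext i; fin_cases i <;> simp [hq0.1, hq0.2, hq1]] at hq
  -- no conjugate of `z` is `x₂₃ z^c`
  have kz : Off B L (uA 1 0 0) 0 := by
    have hval : L (uA 1 0 0) = B.ι (uP 1 0 0 (-r 0) 0 0) := by
      obtain ⟨_, e⟩ := hr
      rw [← inv_mul_cancel_left (d2 B r) (L (uA 1 0 0)), ← e, ← d2_neg, d2, tP_eq]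
      show B.ι (jP 1 (-r) Stab.one) * B.ι (jP (uA 1 0 0) 0 _) = _
      rw [← map_mul]
      exact congrArg B.ι (((jP_mul _ _ _ _).trans (jP_congr _ _ (one_mul _)
        (by ext i; fin_cases i <;> simp [hr0.1, hr0.2]))).trans (uP_eq ..).symm)
    have hx : L (uA 0 1 0) = B.ι (uP 0 1 0 0 0 0) := by
      obtain ⟨_, e⟩ := kx
      rw [d2_zero, one_mul] at e
      rw [← e, uP_eq]
      exact congrArg B.ι (jP_congr _ _ rfl (by ext i; fin_cases i <;> rfl))
    have hcls : IsConj (B.ι zP) (B.ι (uP 1 0 0 (-r 0) 0 0)) := by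
      refine (cls_D1 (B := B) 1 one_ne_zero).trans ?_
      rw [← hx, ← hval]
      exact isConj_iff.2 ⟨L cyc, by rw [← map_mul, rcyc, map_mul, mul_inv_cancel_right]⟩
    have hr00 : r 0 = 0 := by
      by_contra h
      exact not_cls_x23 one_ne_zero (neg_ne_zero.2 h) hcls
    rwa [show r = 0 by ext i; fin_cases i <;> simp [hr00, hr0.1, hr0.2]] at hr
  obtain ⟨s, hs⟩ := exists_off hL sw_stab
  have ks : Off B L sw 0 := by
    have u1 := hs.rel hL k1 k1 hs rs1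
    have u2 := hs.rel hL k2 k3 hs rs2
    rw [mulVec_zero_add, zero_add] at u1 u2
    have a1 := congrFun u1 1
    have a2 := congrFun u1 2
    have a0' := congrFun u2 0
    simp [h1, h3, Matrix.mulVec, dotProduct, Fin.sum_univ_three] at a1 a2 a0'
    have key : ∀ x : ZMod 3, x = -x → x = 0 := by decide +kernel
    rwa [show s = 0 by ext i; fin_cases i <;> simp [key _ a1, key _ a2, key _ a0']] at hs
  -- generation
  refine ⟨L, hL, ?_⟩
  have hmul : ∀ {A A' : S3}, Off B L A 0 → Off B L A' 0 → Off B L (A * A') 0 := by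
    intro A A' h h'
    have := h.mul hL h'
    rwa [mulVec_zero_add] at this
  have hthree : ∀ (f : ZMod 3 → S3), Off B L (f 1) 0 → f 0 = 1 → (∀ x y, f x * f y = f (x + y)) →
      ∀ x, Off B L (f x) 0 := by
    intro f hf h0 hadd x
    rcases (by decide +kernel : ∀ x : ZMod 3, x = 0 ∨ x = 1 ∨ x = 1 + 1) x with rfl | rfl | rfl
    · rw [h0]; exact Off.one
    · exact hf
    · rw [← hadd]; exact hmul hf hf
  have hU : ∀ k a b, Off B L (uA k a b) 0 := fun k a b => by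
    rw [uA_split]
    exact hmul (hthree (fun x => uA 0 0 x) ky uA_zero (fun x y => (uA_add x y).2.2) b)
      (hmul (hthree (fun x => uA x 0 0) kz uA_zero (fun x y => (uA_add x y).1) k)
        (hthree (fun x => uA 0 x 0) kx uA_zero (fun x y => (uA_add x y).2.1) a))
  have hupper : ∀ A : S3, Stab A → A.1 2 1 = 0 → Off B L A 0 := by
    intro A hA h21
    have hdet : A.1 0 0 * A.1 1 1 * A.1 2 2 = 1 := by
      have h := A.2
      rw [Matrix.det_fin_three, hA.1, hA.2, h21] at h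
      simpa using h
    obtain ⟨hsplit, hd⟩ := upper_split (A.1 0 0) (A.1 0 1) (A.1 0 2) (A.1 1 1) (A.1 1 2) (A.1 2 2) hdet
    have hA' : A.1 = !![A.1 0 0, A.1 0 1, A.1 0 2; 0, A.1 1 1, A.1 1 2; 0, 0, A.1 2 2] := by
      ext i j; fin_cases i <;> fin_cases j <;> simp [hA.1, hA.2, h21]
    rw [hsplit] at hA'
    have key : ∀ T : S3, T.1 = !![A.1 0 0, 0, 0; 0, A.1 1 1, 0; 0, 0, A.1 2 2] → Off B L T 0 →
        Off B L A 0 := by
      intro T hT hoff
      rw [show A = T * uA (A.1 1 1 * A.1 1 2) (A.1 0 0 * A.1 0 1) (A.1 0 0 * A.1 0 2) from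
        Subtype.ext (by rw [Matrix.SpecialLinearGroup.coe_mul, hT]; exact hA')]
      exact hmul hoff (hU _ _ _)
    rcases hd with ⟨t0, t1, t2⟩ | ⟨t0, t1, t2⟩ | ⟨t0, t1, t2⟩ | ⟨t0, t1, t2⟩
    · refine key 1 ?_ Off.one
      rw [t0, t1, t2, Matrix.SpecialLinearGroup.coe_one]
      ext i j; fin_cases i <;> fin_cases j <;> simp
    · exact key h1 (by rw [t0, t1, t2]; rfl) k1
    · exact key h2 (by rw [t0, t1, t2]; rfl) k2
    · exact key h3 (by rw [t0, t1, t2]; rfl) k3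
  intro A hA
  by_cases h21 : A.1 2 1 = 0
  · exact hupper A hA h21
  set k := A.1 1 1 * A.1 2 1 with hk
  have hA2 : A = uA k 0 0 * (sw * (sw * sw * sw * (uA (-k) 0 0 * A))) := by
    rw [← mul_assoc sw, ← mul_assoc sw, ← mul_assoc sw, rs4, one_mul, ← mul_assoc, (uA_add _ _).1,
      add_neg_cancel, uA_zero, one_mul]
  rw [hA2]
  refine hmul (hU _ _ _) (hmul ks (hupper _ (((sw_stab.mul sw_stab).mul sw_stab).mul
    ((uA_stab _ _ _).mul hA)) ?_))
  rw [Matrix.SpecialLinearGroup.coe_mul, Matrix.SpecialLinearGroup.coe_mul,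
    Matrix.SpecialLinearGroup.coe_mul, Matrix.SpecialLinearGroup.coe_mul]
  simp [sw, uA, Matrix.mul_apply, Matrix.vecMul, dotProduct, Fin.sum_univ_three]
  rw [hk]
  linear_combination -(elim_key (A.1 1 1) (A.1 2 1) h21)

end CfsgLib.L43Three.Dual

namespace CfsgLib.L43Three

universe u

open CfsgLib.L43Three.Dual in
theorem dual : StmtDual.{u} := by
  intro G _ _ B hD
  obtain ⟨L, hL, hgood⟩ := exists_good hD
  have hpar : ∀ x : P', ∃ A v, (x : L4) = mk (jS A v) := fun x => exists_param x.2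
  choose A v hAv using hpar
  let ι' : P' →* G := MonoidHom.mk' (fun x => d2 B (v x) * L (A x)) fun x y => by
    obtain ⟨e1, e2⟩ := mk_jS_inj ((hAv (x * y)).symm.trans
      (show ((x * y : P') : L4) = mk (jS (A x * A y) (Matrix.mulVec (A x).1 (v y) + v x)) by
        rw [← jS_mul, map_mul, ← hAv, ← hAv]; rfl))
    rw [e1, e2, map_mul, add_comm, d2_add, ← hL (A x) (v y)]
    group
  refine ⟨ι', ?_, ?_⟩
  · rw [injective_iff_map_eq_one]
    intro x hx
    change d2 B (v x) * L (A x) = 1 at hx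
    have hA : A x = 1 := by
      refine act_fun (hL (A x)) ?_
      rw [← inv_eq_of_mul_eq_one_right hx, ← d2_neg]
      exact act_d2 _
    rw [hA, map_one, mul_one, ← d2_zero (B := B)] at hx
    apply Subtype.ext
    rw [hAv, hA, d2_inj hx, jS_one, map_one]
    rfl
  · intro x h h'
    have e := hAv ⟨x, h'⟩
    have hst : Stab (A ⟨x, h'⟩) := stab_of_mem (v := v ⟨x, h'⟩) (by rw [← e]; exact h)
    obtain ⟨_, e'⟩ := hgood _ hst
    rw [d2_zero, one_mul] at e'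
    show _ = d2 B (v ⟨x, h'⟩) * L (A ⟨x, h'⟩)
    rw [← e', d2, tP_eq]
    show _ = B.ι (jP 1 _ Stab.one) * B.ι (jP _ 0 hst)
    rw [← map_mul, jP_mul]
    exact congrArg B.ι (Subtype.ext (e.trans (congrArg mk (by
      congr 1
      · exact (one_mul _).symm
      · simp))))

end CfsgLib.L43Three
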