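import Cfsg.Agent.Lib.L43Three.Cases

/-!
# The hyperplane stabilizer as an affine group (statement S3373, piece Dual)

`jS A v` has block `A`, last column `v` and last row `(0,0,0,1)`; these elements represent `P'`, and
those with `A` fixing the line of the first coordinate represent `P ∩ P'`.
-/

set_option autoImplicit false
set_option maxRecDepth 100000
set_option linter.unusedSectionVars false

namespace CfsgLib.L43Three.Dual

open Subgroup CfsgLib.L43Three.Cases

/-- The vectors. -/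
abbrev V : Type := Fin 3 → ZMod 3

/-- The affine matrices. -/
def jM (A : Matrix (Fin 3) (Fin 3) (ZMod 3)) (v : V) : Matrix (Fin 4) (Fin 4) (ZMod 3) :=
  !![A 0 0, A 0 1, A 0 2, v 0; A 1 0, A 1 1, A 1 2, v 1; A 2 0, A 2 1, A 2 2, v 2; 0, 0, 0, 1]

theorem det_jM (A : Matrix (Fin 3) (Fin 3) (ZMod 3)) (v : V) : (jM A v).det = A.det := by
  rw [Matrix.det_succ_row _ 3, Matrix.det_fin_three A, Finset.sum_eq_single (3 : Fin 4)]
  · rw [Matrix.det_fin_three]
    simp [jM, Fin.succAbove]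
    ring
  · intro j _ hj
    fin_cases j <;> simp_all [jM]
  · simp

/-- The affine elements. -/
def jS (A : S3) (v : V) : S4 := ⟨jM A.1 v, (det_jM A.1 v).trans A.2⟩

theorem jS_mul (A B : S3) (v w : V) :
    jS A v * jS B w = jS (A * B) (Matrix.mulVec A.1 w + v) := by
  apply Subtype.ext
  show (jS A v).1 * (jS B w).1 = _
  simp only [jS]
  ext i j
  fin_cases i <;> fin_cases j <;>
    simp [jM, Matrix.mul_apply, Matrix.mulVec, dotProduct, Fin.sum_univ_four, Fin.sum_univ_three]

theorem jS_one : jS 1 0 = 1 := by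
  apply Subtype.ext
  simp only [Matrix.SpecialLinearGroup.coe_one, jS]
  ext i j
  fin_cases i <;> fin_cases j <;> simp [jM]

/-- The stabilizer of the line of the first coordinate. -/
def Stab (A : S3) : Prop := A.1 1 0 = 0 ∧ A.1 2 0 = 0

theorem Stab.one : Stab 1 := by simp [Stab]

theorem Stab.mul {A B : S3} (hA : Stab A) (hB : Stab B) : Stab (A * B) := by
  obtain ⟨a1, a2⟩ := hA
  obtain ⟨b1, b2⟩ := hB
  constructor <;>
    simp [Matrix.SpecialLinearGroup.coe_mul, Matrix.mul_apply, Fin.sum_univ_three, a1, a2, b1, b2]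

theorem Stab.pm {A : S3} (hA : Stab A) : A.1 0 0 = 1 ∨ A.1 0 0 = -1 := by
  have h := A.2
  rw [Matrix.det_fin_three, hA.1, hA.2] at h
  have key : ∀ t u : ZMod 3, t * u = 1 → t = 1 ∨ t = -1 := by decide +kernel
  refine key _ (A.1 1 1 * A.1 2 2 - A.1 1 2 * A.1 2 1) (Eq.trans ?_ h)
  ring

theorem jS_mem_PS (A : S3) (v : V) (hA : Stab A) : jS A v ∈ PS := by
  rcases hA.pm with h | h
  · left
    ext i
    fin_cases i <;>
      simp [jS, jM, e0, Matrix.mulVec, dotProduct, Fin.sum_univ_four, hA.1, hA.2, h]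
  · right
    ext i
    fin_cases i <;>
      simp [jS, jM, e0, Matrix.mulVec, dotProduct, Fin.sum_univ_four, hA.1, hA.2, h]

theorem jS_mem_PS' (A : S3) (v : V) : jS A v ∈ PS' := by
  left
  ext i
  fin_cases i <;> simp [jS, jM, f3, Matrix.vecMul, dotProduct, Fin.sum_univ_four]

/-- The elements of `P'`. -/
def j' (A : S3) (v : V) : P' := ⟨mk (jS A v), ⟨_, jS_mem_PS' A v, rfl⟩⟩

/-- The elements of `P ∩ P'`. -/
def jP (A : S3) (v : V) (hA : Stab A) : P := ⟨mk (jS A v), ⟨_, jS_mem_PS A v hA, rfl⟩⟩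

theorem jP_mul {A B : S3} (hA : Stab A) (hB : Stab B) (v w : V) :
    jP A v hA * jP B w hB = jP (A * B) (Matrix.mulVec A.1 w + v) (hA.mul hB) := by
  apply Subtype.ext
  show mk _ * mk _ = mk _
  rw [← map_mul, jS_mul]

theorem j'_mul (A B : S3) (v w : V) : j' A v * j' B w = j' (A * B) (Matrix.mulVec A.1 w + v) := by
  apply Subtype.ext
  show mk _ * mk _ = mk _
  rw [← map_mul, jS_mul]

theorem jP_one : jP 1 0 Stab.one = 1 := Subtype.ext (show mk _ = 1 by rw [jS_one, map_one])

theorem jP_congr {A B : S3} (hA : Stab A) (hB : Stab B) {v w : V} (h : A = B) (h' : v = w) :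
    jP A v hA = jP B w hB := by subst h h'; rfl

/-- Equal images have equal parameters. -/
theorem mk_jS_inj {A B : S3} {v w : V} (h : mk (jS A v) = mk (jS B w)) : A = B ∧ v = w := by
  obtain ⟨r, -, hr⟩ := Matrix.SpecialLinearGroup.mem_center_iff.1 (QuotientGroup.eq.1 h)
  have h2 : (jS B w).1 = (jS A v).1 * Matrix.scalar (Fin 4) r := by
    rw [hr, ← Matrix.SpecialLinearGroup.coe_mul, mul_inv_cancel_left]
  rw [Matrix.scalar_apply, ← Matrix.smul_one_eq_diagonal, Matrix.mul_smul, mul_one] at h2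
  have h33 := congrFun (congrFun h2 3) 3
  simp [jS, jM] at h33
  rw [← h33, one_smul] at h2
  refine ⟨Subtype.ext ?_, funext fun i => ?_⟩
  · ext i j
    have := congrFun (congrFun h2 i.castSucc) j.castSucc
    fin_cases i <;> fin_cases j <;> simpa [jS, jM] using this.symm
  · have := congrFun (congrFun h2 i.castSucc) 3
    fin_cases i <;> simpa [jS, jM] using this.symm

/-- `-1` -/
def negS : S4 := ⟨-1, by rw [Matrix.det_neg, Matrix.det_one]; decide +kernel⟩

theorem mk_negS : mk negS = 1 := by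
  refine (QuotientGroup.eq_one_iff _).2 (Subgroup.mem_center_iff.2 fun g => Subtype.ext ?_)
  show g.1 * negS.1 = negS.1 * g.1
  simp [negS]

/-- The elements of `P'` are affine. -/
theorem exists_param {x : L4} (hx : x ∈ P') : ∃ A v, x = mk (jS A v) := by
  obtain ⟨g, hg, rfl⟩ := hx
  suffices key : ∀ g : S4, Matrix.vecMul f3 g.1 = f3 → ∃ A v, mk g = mk (jS A v) by
    rcases hg with h | h
    · exact key g h
    · obtain ⟨A, v, e⟩ := key (g * negS) (by
        show Matrix.vecMul f3 (g.1 * negS.1) = f3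
        simp [negS, Matrix.vecMul_neg, h])
      exact ⟨A, v, by rw [map_mul, mk_negS, mul_one] at e; exact e⟩
  intro g h
  let A : Matrix (Fin 3) (Fin 3) (ZMod 3) := Matrix.of fun i j => g.1 i.castSucc j.castSucc
  let v : V := fun i => g.1 i.castSucc 3
  have e : g.1 = jM A v := by
    ext i j
    have := congrFun h j
    simp [f3, Matrix.vecMul, dotProduct, Fin.sum_univ_four] at this
    fin_cases i <;> fin_cases j <;> simp [jM, A, v] <;> simpa using this
  refine ⟨⟨A, ?_⟩, v, ?_⟩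
  · rw [← det_jM A v, ← e]; exact g.2
  · exact congrArg mk (Subtype.ext e)

/-- The first column of an element of the point stabilizer. -/
theorem PS_col {g : S4} (hg : g ∈ PS) :
    (g.1 0 0 = 1 ∨ g.1 0 0 = -1) ∧ g.1 1 0 = 0 ∧ g.1 2 0 = 0 ∧ g.1 3 0 = 0 := by
  have hv : ∀ i, Matrix.mulVec g.1 e0 i = g.1 i 0 := fun i => by
    simp [e0, Matrix.mulVec, dotProduct, Fin.sum_univ_four]
  rcases hg with h | h
  · refine ⟨Or.inl ?_, ?_, ?_, ?_⟩ <;> rw [← hv, h] <;> rfl
  · refine ⟨Or.inr ?_, ?_, ?_, ?_⟩ <;> rw [← hv, h] <;> rfl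

/-- An element of `P'` lying in `P` fixes the line. -/
theorem stab_of_mem {A : S3} {v : V} (h : mk (jS A v) ∈ P) : Stab A := by
  obtain ⟨g, hg, he⟩ := h
  obtain ⟨r, -, hr⟩ := Matrix.SpecialLinearGroup.mem_center_iff.1 (QuotientGroup.eq.1 he)
  have h2 : (jS A v).1 = g.1 * Matrix.scalar (Fin 4) r := by
    rw [hr, ← Matrix.SpecialLinearGroup.coe_mul, mul_inv_cancel_left]
  obtain ⟨-, c1, c2, -⟩ := PS_col hg
  have key : ∀ i : Fin 4, g.1 i 0 = 0 → (jS A v).1 i 0 = 0 := by
    intro i h0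
    rw [h2, Matrix.scalar_apply, Matrix.mul_diagonal, h0, zero_mul]
  exact ⟨by simpa [jS, jM] using key 1 c1, by simpa [jS, jM] using key 2 c2⟩

/-- The elements of `P` fixing `z` are in `P'`. -/
theorem mem_P'_of_fix {p : P} (h : p * zP = zP * p) : (p : L4) ∈ P' := by
  obtain ⟨g, hg, he⟩ := p.2
  have h1 : mk (g * uS 0 0 0 1 0 0) = mk (uS 0 0 0 1 0 0 * g) := by
    rw [map_mul, map_mul, he]
    exact congrArg Subtype.val h
  obtain ⟨r, -, hr⟩ := Matrix.SpecialLinearGroup.mem_center_iff.1 (QuotientGroup.eq.1 h1)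
  have h2 : uM 0 0 0 1 0 0 * g.1 = g.1 * uM 0 0 0 1 0 0 * Matrix.scalar (Fin 4) r := by
    rw [hr, show g.1 * uM 0 0 0 1 0 0 = (g * uS 0 0 0 1 0 0).1 from
      (Matrix.SpecialLinearGroup.coe_mul g (uS 0 0 0 1 0 0)).symm,
      ← Matrix.SpecialLinearGroup.coe_mul, mul_inv_cancel_left, Matrix.SpecialLinearGroup.coe_mul]
    rfl
  rw [Matrix.scalar_apply, ← Matrix.smul_one_eq_diagonal, Matrix.mul_smul, mul_one] at h2
  refine ⟨g, ?_, he⟩
  obtain ⟨h00, -, -, c3⟩ := PS_col hg
  have r0 := congrFun (congrFun h2 0) 0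
  have r1 := congrFun (congrFun h2 0) 1
  have r2 := congrFun (congrFun h2 0) 2
  have r3 := congrFun (congrFun h2 0) 3
  simp [uM, Matrix.mul_apply, Fin.sum_univ_four, c3] at r0 r1 r2 r3
  have hr1 : r = 1 := by
    rcases h00 with e | e <;> rw [e] at r0 <;> simpa using r0.symm
  subst hr1
  simp at r1 r2 r3
  rcases h00 with e | e <;> rw [e] at r3
  · left
    ext j
    fin_cases j <;> simp [f3, Matrix.vecMul, dotProduct, Fin.sum_univ_four, c3, r1,
      r2] <;> linear_combination r3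
  · right
    ext j
    fin_cases j <;> simp [f3, Matrix.vecMul, dotProduct, Fin.sum_univ_four, c3, r1,
      r2] <;> linear_combination r3

theorem exists_jP {p : P} (h : p * zP = zP * p) : ∃ A v, ∃ hA : Stab A, p = jP A v hA := by
  obtain ⟨A, v, e⟩ := exists_param (mem_P'_of_fix h)
  exact ⟨A, v, stab_of_mem (e ▸ p.2), Subtype.ext e⟩

/-- A unitriangular block. -/
def uA (k a b : ZMod 3) : S3 := ⟨!![1, a, b; 0, 1, k; 0, 0, 1], by
  rw [Matrix.det_fin_three]; simp⟩

theorem uA_stab (k a b : ZMod 3) : Stab (uA k a b) := by simp [Stab, uA]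

theorem uP_eq (k a b c d e : ZMod 3) : uP k a b c d e = jP (uA k a b) ![c, d, e] (uA_stab k a b) := by
  apply Subtype.ext
  show mk _ = mk _
  refine congrArg mk (Subtype.ext ?_)
  ext i j
  fin_cases i <;> fin_cases j <;> simp [uS, uM, jS, jM, uA]

theorem uA_zero : uA 0 0 0 = 1 := by
  apply Subtype.ext
  simp only [Matrix.SpecialLinearGroup.coe_one, uA]
  ext i j
  fin_cases i <;> fin_cases j <;> simp

/-- The translations. -/
theorem uP_translation (v : V) : uP 0 0 0 (v 0) (v 1) (v 2) = jP 1 v Stab.one := by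
  rw [uP_eq]
  exact jP_congr _ _ uA_zero (by ext i; fin_cases i <;> rfl)

/-- The action on the translations. -/
theorem jP_conj {A : S3} (hA : Stab A) (u v : V) :
    jP A u hA * jP 1 v Stab.one = jP 1 (Matrix.mulVec A.1 v) Stab.one * jP A u hA := by
  rw [jP_mul, jP_mul]
  refine jP_congr _ _ (by rw [mul_one, one_mul]) ?_
  simp [add_comm]

end CfsgLib.L43Three.Dual
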