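import Cfsg.Agent.Lib.L43Three.DualTools

/-!
# An element exchanging `z` and `x₂₄` (statement S3373, piece Dual)

`x₂₄` is conjugate to `z`; its conjugate by the moving element lies in `D2`, which gives an element `w`
exchanging `z` and `x₂₄`.  By the action of the diagonal elements on `C(z, x₂₄)`, `w` normalises `D2`, so
all of `SL₃(3)` is induced on `D2`.
-/

set_option autoImplicit false
set_option maxRecDepth 100000
set_option linter.unusedSectionVars false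

namespace CfsgLib.L43Three.Dual

open Subgroup CfsgLib.L43Three.Cases

universe u

/-- The block sending the first two coordinates to `(1,0,0)` and `y`. -/
def toV (c d e : ZMod 3) (h : d ≠ 0 ∨ e ≠ 0) : S3 :=
  ⟨if d = 0 then !![1, c, 0; 0, d, -e; 0, e, 0] else !![1, c, 0; 0, d, 0; 0, e, d], by
    have key : ∀ x : ZMod 3, x ≠ 0 → x * x = 1 := by decide +kernel
    by_cases hd : d = 0
    · rw [if_pos hd, Matrix.det_fin_three]
      simp [hd, key e (h.resolve_left fun h' => h' hd)]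
    · rw [if_neg hd, Matrix.det_fin_three]
      simp [key d hd]⟩

theorem toV_spec (c d e : ZMod 3) (h : d ≠ 0 ∨ e ≠ 0) :
    Stab (toV c d e h) ∧ Matrix.mulVec (toV c d e h).1 ![1, 0, 0] = ![1, 0, 0] ∧
      Matrix.mulVec (toV c d e h).1 ![0, 1, 0] = ![c, d, e] := by
  by_cases hd : d = 0
  · refine ⟨by simp [toV, hd, Stab], ?_, ?_⟩ <;> ext i <;> fin_cases i <;>
      simp [toV, hd, Matrix.mulVec, dotProduct, Fin.sum_univ_three]
  · refine ⟨by simp [toV, hd, Stab], ?_, ?_⟩ <;> ext i <;> fin_cases i <;>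
      simp [toV, hd, Matrix.mulVec, dotProduct, Fin.sum_univ_three]

theorem sq_one : ∀ x : ZMod 3, x ≠ 0 → x * x = 1 := by decide +kernel

/-- `diag (1,-1,-1)` -/
def h1 : S3 := ⟨!![1, 0, 0; 0, -1, 0; 0, 0, -1], by rw [Matrix.det_fin_three]; decide +kernel⟩
/-- `diag (-1,1,-1)` -/
def h2 : S3 := ⟨!![-1, 0, 0; 0, 1, 0; 0, 0, -1], by rw [Matrix.det_fin_three]; decide +kernel⟩
/-- `diag (-1,-1,1)` -/
def h3 : S3 := ⟨!![-1, 0, 0; 0, -1, 0; 0, 0, 1], by rw [Matrix.det_fin_three]; decide +kernel⟩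
/-- A signed transposition of the last two coordinates. -/
def sw : S3 := ⟨!![1, 0, 0; 0, 0, -1; 0, 1, 0], by rw [Matrix.det_fin_three]; decide +kernel⟩

theorem h1_stab : Stab h1 := by simp [Stab, h1]
theorem h2_stab : Stab h2 := by simp [Stab, h2]
theorem h3_stab : Stab h3 := by simp [Stab, h3]
theorem sw_stab : Stab sw := by simp [Stab, sw]

/-- The elements of `P` centralising `z` and `x₂₄`. -/
def TT : Subgroup P where
  carrier := {x | ∃ k b c d e, x = uP k 0 b c d e}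
  one_mem' := ⟨0, 0, 0, 0, 0, uP_zero.symm⟩
  mul_mem' := by
    rintro _ _ ⟨k, b, c, d, e, rfl⟩ ⟨k', b', c', d', e', rfl⟩
    rw [uP_mul, add_zero]
    exact ⟨_, _, _, _, _, rfl⟩
  inv_mem' := by
    rintro _ ⟨k, b, c, d, e, rfl⟩
    rw [uP_inv, neg_zero]
    exact ⟨_, _, _, _, _, rfl⟩

theorem card_TT : Nat.card TT = 3 ^ 5 := by
  let f : ZMod 3 × ZMod 3 × ZMod 3 × ZMod 3 × ZMod 3 → TT := fun p =>
    ⟨uP p.1 0 p.2.1 p.2.2.1 p.2.2.2.1 p.2.2.2.2, _, _, _, _, _, rfl⟩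
  have hf : Function.Bijective f := by
    refine ⟨fun p q h => ?_, ?_⟩
    · obtain ⟨e1, -, e3, e4, e5, e6⟩ := uP_inj (congrArg Subtype.val h)
      exact Prod.ext e1 (Prod.ext e3 (Prod.ext e4 (Prod.ext e5 e6)))
    · rintro ⟨_, k, b, c, d, e, rfl⟩
      exact ⟨(k, b, c, d, e), rfl⟩
  rw [← Nat.card_congr (Equiv.ofBijective f hf)]
  simp

theorem TT_comm_z {x : P} (hx : x ∈ TT) : x * zP = zP * x := by
  obtain ⟨k, b, c, d, e, rfl⟩ := hx
  exact (zP_comm ..).symm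

theorem TT_comm_t {x : P} (hx : x ∈ TT) :
    x * uP 0 0 0 0 1 0 = uP 0 0 0 0 1 0 * x := by
  obtain ⟨k, b, c, d, e, rfl⟩ := hx
  rw [uP_mul, uP_mul]
  congr 1 <;> ring

/-- The translation with coordinates `v`. -/
def tP (v : V) : P := uP 0 0 0 (v 0) (v 1) (v 2)

theorem tP_eq (v : V) : tP v = jP 1 v Stab.one := uP_translation v

theorem tP_add (v w : V) : tP (v + w) = tP v * tP w := by
  rw [tP_eq, tP_eq, tP_eq, jP_mul]
  refine jP_congr _ _ (mul_one 1).symm ?_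
  simp [add_comm]

theorem tP_inj {v w : V} (h : tP v = tP w) : v = w := by
  obtain ⟨-, -, -, e1, e2, e3⟩ := uP_inj h
  ext i
  fin_cases i
  · exact e1
  · exact e2
  · exact e3

theorem tP_z : tP ![1, 0, 0] = zP := rfl
theorem tP_t : tP ![0, 1, 0] = uP 0 0 0 0 1 0 := rfl

theorem tP_conj {A : S3} (hA : Stab A) (u v : V) :
    jP A u hA * tP v * (jP A u hA)⁻¹ = tP (Matrix.mulVec A.1 v) := by
  rw [tP_eq, tP_eq, jP_conj, mul_inv_cancel_right]

/-- The centralizer of `z` and `x₂₄` in `P`. -/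
theorem mem_TT {p : P} (hz : p * zP = zP * p)
    (ht : p * uP 0 0 0 0 1 0 = uP 0 0 0 0 1 0 * p) : p ∈ TT := by
  obtain ⟨A, v, hA, rfl⟩ := exists_jP hz
  rw [← tP_z] at hz
  rw [← tP_t] at ht
  have e1 := tP_inj ((tP_conj hA v ![1, 0, 0]).symm.trans (by rw [hz, mul_inv_cancel_right]))
  have e2 := tP_inj ((tP_conj hA v ![0, 1, 0]).symm.trans (by rw [ht, mul_inv_cancel_right]))
  have a00 := congrFun e1 0
  have a01 := congrFun e2 0
  have a11 := congrFun e2 1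
  have a21 := congrFun e2 2
  simp [Matrix.mulVec, dotProduct, Fin.sum_univ_three] at a00 a01 a11 a21
  have a22 : A.1 2 2 = 1 := by
    have h := A.2
    rw [Matrix.det_fin_three, hA.1, hA.2, a00, a01, a11, a21] at h
    simpa using h
  refine ⟨A.1 1 2, A.1 0 2, v 0, v 1, v 2, ?_⟩
  rw [uP_eq]
  refine jP_congr _ _ (Subtype.ext ?_) (by ext i; fin_cases i <;> rfl)
  ext i j
  fin_cases i <;> fin_cases j <;> simp [uA, hA.1, hA.2, a00, a01, a11, a21, a22]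

variable {G : Type u} [Group G] [Finite G] (B : Base G)

/-- `D2` in `G`. -/
def d2 (v : V) : G := B.ι (tP v)

/-- `m` acts on `D2` by the matrix `M`. -/
def Act (m : G) (M : Matrix (Fin 3) (Fin 3) (ZMod 3)) : Prop :=
  ∀ v, m * d2 B v * m⁻¹ = d2 B (Matrix.mulVec M v)

variable {B}

theorem d2_add (v w : V) : d2 B (v + w) = d2 B v * d2 B w := by
  rw [d2, d2, d2, tP_add, map_mul]

theorem d2_zero : d2 B 0 = 1 := by
  have h := d2_add (B := B) 0 0
  rw [add_zero] at h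
  exact left_eq_mul.1 h

theorem d2_neg (v : V) : d2 B (-v) = (d2 B v)⁻¹ := by
  refine eq_inv_of_mul_eq_one_left ?_
  rw [← d2_add, neg_add_cancel, d2_zero]

theorem d2_inj {v w : V} (h : d2 B v = d2 B w) : v = w := tP_inj (B.inj h)

theorem d2_comm (v w : V) : d2 B v * d2 B w = d2 B w * d2 B v := by
  rw [← d2_add, ← d2_add, add_comm]

theorem act_jP {A : S3} (hA : Stab A) (u : V) : Act B (B.ι (jP A u hA)) A.1 := fun v => by
  rw [d2, d2, ← map_inv, ← map_mul, ← map_mul, tP_conj]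

theorem Act.mul {m n : G} {M N : Matrix (Fin 3) (Fin 3) (ZMod 3)} (hm : Act B m M) (hn : Act B n N) :
    Act B (m * n) (M * N) := fun v => by
  rw [← Matrix.mulVec_mulVec, ← hm, ← hn]
  group

theorem Act.unique {m : G} {M N : Matrix (Fin 3) (Fin 3) (ZMod 3)} (h : Act B m M) (h' : Act B m N) :
    M = N := Matrix.ext_of_mulVec_single fun i => d2_inj ((h _).symm.trans (h' _))

/-- An element centralising `z` is in `ι(P ∩ P')`. -/
theorem fix_z {m : G} (h : m * B.ι zP = B.ι zP * m) :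
    ∃ A v, ∃ hA : Stab A, m = B.ι (jP A v hA) := by
  obtain ⟨p, rfl⟩ := mem_range h
  obtain ⟨A, v, hA, rfl⟩ := exists_jP (B.inj (by rw [map_mul, map_mul, h]) : p * zP = zP * p)
  exact ⟨A, v, hA, rfl⟩

/-- The non-conjugacy of `z` and `x₂₄` in `P`. -/
theorem not_conj_t : ¬ IsConj zP (uP 0 0 0 0 1 0) := by
  intro h
  obtain ⟨⟨p, ⟨H, hH, rfl⟩⟩, hp⟩ := isConj_iff.1 h
  have h1 : mk (H * uS 0 0 0 1 0 0) = mk (uS 0 0 0 0 1 0 * H) := by
    rw [map_mul, map_mul]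
    exact mul_inv_eq_iff_eq_mul.1 (congrArg Subtype.val hp)
  obtain ⟨r, -, hr⟩ := Matrix.SpecialLinearGroup.mem_center_iff.1 (QuotientGroup.eq.1 h1)
  have h2 : uM 0 0 0 0 1 0 * H.1 = H.1 * uM 0 0 0 1 0 0 * Matrix.scalar (Fin 4) r := by
    rw [hr, show H.1 * uM 0 0 0 1 0 0 = (H * uS 0 0 0 1 0 0).1 from
      (Matrix.SpecialLinearGroup.coe_mul H (uS 0 0 0 1 0 0)).symm,
      ← Matrix.SpecialLinearGroup.coe_mul, mul_inv_cancel_left,
      Matrix.SpecialLinearGroup.coe_mul]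
    rfl
  rw [Matrix.scalar_apply, ← Matrix.smul_one_eq_diagonal, Matrix.mul_smul, mul_one] at h2
  obtain ⟨h00, c1, c2, c3⟩ := PS_col hH
  have e0' := congrFun (congrFun h2 0) 0
  simp [uM, Matrix.mul_apply, Fin.sum_univ_four] at e0'
  have hr1 : r = 1 := by
    rcases h00 with e | e <;> rw [e] at e0' <;> simpa using e0'.symm
  subst hr1
  rw [one_smul] at h2
  -- the last row of `H` vanishes
  have f0 := congrFun (congrFun h2 1) 0
  have f1 := congrFun (congrFun h2 1) 1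
  have f2 := congrFun (congrFun h2 1) 2
  have f3' := congrFun (congrFun h2 1) 3
  simp [uM, Matrix.mul_apply, Fin.sum_univ_four, c1] at f0 f1 f2 f3'
  have hdet := H.2
  rw [Matrix.det_eq_zero_of_row_eq_zero 3 (fun j => by fin_cases j <;> simp [f0, f1, f2, f3'])] at hdet
  exact zero_ne_one hdet

theorem cls_t (hD : HasD2 B) : IsConj (B.ι zP) (B.ι (uP 0 0 0 0 1 0)) := by
  obtain ⟨c, d, e, hde, h⟩ := hD
  obtain ⟨hA, -, e2⟩ := toV_spec c d e hde
  refine h.trans (B.ι.map_isConj (IsConj.symm (isConj_iff.2 ⟨jP _ 0 hA, ?_⟩)))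
  rw [← tP_t, tP_conj, e2]
  rfl

/-- An element exchanging `z` and `x₂₄`. -/
theorem exists_swap (hD : HasD2 B) : ∃ w : G, w * d2 B ![1, 0, 0] * w⁻¹ = d2 B ![0, 1, 0] ∧
    w * d2 B ![0, 1, 0] * w⁻¹ = d2 B ![1, 0, 0] := by
  have : Fact (Nat.Prime 3) := ⟨Nat.prime_three⟩
  obtain ⟨g, hg⟩ := isConj_iff.1 (cls_t hD)
  set t := uP 0 0 0 0 1 0 with ht
  have htz : B.ι t * B.ι zP = B.ι zP * B.ι t := by rw [← map_mul, ← map_mul, ht, zP_comm]
  obtain ⟨y, hy⟩ : ∃ y, B.ι y = g⁻¹ * B.ι zP * g := mem_range (B := B) (by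
    have hzt : B.ι zP = g⁻¹ * B.ι t * g := by rw [← hg]; group
    have h2' : g⁻¹ * B.ι zP * g * (g⁻¹ * B.ι t * g) = g⁻¹ * B.ι t * g * (g⁻¹ * B.ι zP * g) := by
      calc g⁻¹ * B.ι zP * g * (g⁻¹ * B.ι t * g) = g⁻¹ * (B.ι zP * B.ι t) * g := by group
        _ = g⁻¹ * (B.ι t * B.ι zP) * g := by rw [htz]
        _ = _ := by group
    rwa [← hzt] at h2')
  -- the image of `C(z, x₂₄)`
  set T' : Subgroup P := ((TT.map B.ι).map (MulAut.conj g⁻¹).toMonoidHom).comap B.ι with hT'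
  have hmem : ∀ p : P, p ∈ T' → ∃ τ ∈ TT, B.ι p = g⁻¹ * B.ι τ * g := by
    intro p hp
    obtain ⟨_, ⟨τ, hτ, rfl⟩, e⟩ := hp
    refine ⟨τ, hτ, ?_⟩
    rw [← e]
    show g⁻¹ * B.ι τ * (g⁻¹)⁻¹ = _
    rw [inv_inv]
  have himg : ∀ τ ∈ TT, ∃ p ∈ T', B.ι p = g⁻¹ * B.ι τ * g := by
    intro τ hτ
    obtain ⟨p, hp⟩ := mem_range (B := B) (w := g⁻¹ * B.ι τ * g) (by
      have hzt : B.ι zP = g⁻¹ * B.ι t * g := by rw [← hg]; group
      rw [hzt]
      have h' : B.ι τ * B.ι t = B.ι t * B.ι τ := by rw [← map_mul, ← map_mul, ht, TT_comm_t hτ]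
      calc g⁻¹ * B.ι τ * g * (g⁻¹ * B.ι t * g) = g⁻¹ * (B.ι τ * B.ι t) * g := by group
        _ = g⁻¹ * (B.ι t * B.ι τ) * g := by rw [h']
        _ = _ := by group)
    refine ⟨p, ⟨B.ι τ, ⟨τ, hτ, rfl⟩, ?_⟩, hp⟩
    show g⁻¹ * B.ι τ * (g⁻¹)⁻¹ = _
    rw [inv_inv, hp]
  have hcardT' : Nat.card T' = 3 ^ 5 := by
    have hle : (TT.map B.ι).map (MulAut.conj g⁻¹).toMonoidHom ≤ B.ι.range := by
      rintro _ ⟨_, ⟨τ, hτ, rfl⟩, rfl⟩
      obtain ⟨p, -, hp⟩ := himg τ hτ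
      exact ⟨p, by rw [hp]; show _ = g⁻¹ * B.ι τ * (g⁻¹)⁻¹; rw [inv_inv]⟩
    rw [← card_map_of_injective B.inj, hT', map_comap_eq_self hle,
      card_map_of_injective (MulAut.conj g⁻¹).injective, card_map_of_injective B.inj, card_TT]
  have hT'y : ∀ p ∈ T', p * y = y * p ∧ p * zP = zP * p := by
    intro p hp
    obtain ⟨τ, hτ, e⟩ := hmem p hp
    have hzt : B.ι zP = g⁻¹ * B.ι t * g := by rw [← hg]; group
    constructor <;> refine B.inj ?_ <;> rw [map_mul, map_mul, e]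
    · rw [hy]
      have h' : B.ι τ * B.ι zP = B.ι zP * B.ι τ := by rw [← map_mul, ← map_mul, TT_comm_z hτ]
      calc g⁻¹ * B.ι τ * g * (g⁻¹ * B.ι zP * g) = g⁻¹ * (B.ι τ * B.ι zP) * g := by group
        _ = g⁻¹ * (B.ι zP * B.ι τ) * g := by rw [h']
        _ = _ := by group
    · rw [hzt]
      have h' : B.ι τ * B.ι t = B.ι t * B.ι τ := by rw [← map_mul, ← map_mul, ht, TT_comm_t hτ]
      calc g⁻¹ * B.ι τ * g * (g⁻¹ * B.ι t * g) = g⁻¹ * (B.ι τ * B.ι t) * g := by group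
        _ = g⁻¹ * (B.ι t * B.ι τ) * g := by rw [h']
        _ = _ := by group
  have hyT' : y ∈ T' := by
    obtain ⟨p, hp, e⟩ := himg zP ⟨0, 0, 1, 0, 0, zP_eq⟩
    rwa [B.inj (hy.trans e.symm)]
  have hK : U ≤ centralizer ({zP} : Set P) := by
    rintro _ ⟨k', a', b', c', d', e', rfl⟩
    exact mem_centralizer_singleton_iff.2 (zP_comm ..).symm
  obtain ⟨m, hm, hmU⟩ := Transfer.exists_conj_le_of_isPGroup (p := 3)
    (K := centralizer ({zP} : Set P)) (U := U) (V := T')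
    (IsPGroup.of_card (n := 6) card_U) hK
    (fun hd => B.sylow (by
      refine dvd_trans ?_ (Subgroup.card_dvd_of_injective B.ι B.inj)
      rw [← U.card_mul_index, card_U, pow_succ]
      exact mul_dvd_mul_left _ (hd.trans ⟨_, (relIndex_mul_index hK).symm⟩)))
    (IsPGroup.of_card (n := 5) hcardT')
    (fun p hp => mem_centralizer_singleton_iff.2 (hT'y p hp).2)
  have hmz : m * zP = zP * m := mem_centralizer_singleton_iff.1 hm
  obtain ⟨K, A, Bb, C, D, E, hyU⟩ := hmU y hyT'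
  -- the image lies in `Q`
  have hK0 : K = 0 := by
    by_contra hK0
    have hpar : ∀ p : T', ∃ k a b c d e, m⁻¹ * (p : P) * m = uP k a b c d e ∧
        (A * k = a * K ∧ k * E = K * e) := by
      intro p
      obtain ⟨k, a, b, c, d, e, hp⟩ := hmU p p.2
      refine ⟨k, a, b, c, d, e, hp, ?_⟩
      have hcomm : uP k a b c d e * uP K A Bb C D E = uP K A Bb C D E * uP k a b c d e := by
        rw [← hp, ← hyU]
        calc m⁻¹ * (p : P) * m * (m⁻¹ * y * m) = m⁻¹ * ((p : P) * y) * m := by group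
          _ = m⁻¹ * (y * (p : P)) * m := by rw [(hT'y p p.2).1]
          _ = _ := by group
      rw [uP_mul, uP_mul] at hcomm
      obtain ⟨-, -, eb, -, ed, -⟩ := uP_inj hcomm
      exact ⟨by linear_combination -eb, by linear_combination ed⟩
    choose k a b c d e hp hrel using hpar
    have hKK : K * K = 1 := sq_one K hK0
    have hinj : Function.Injective (fun p : T' => (k p, b p, c p, d p)) := by
      intro p q hpq
      simp only [Prod.mk.injEq] at hpq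
      obtain ⟨h1, h2, h3, h4⟩ := hpq
      have ha : a p = a q := by
        linear_combination (-(hrel p).1 + (hrel q).1) * K + (A * K) * h1 - (a p - a q) * hKK
      have he : e p = e q := by
        linear_combination (-(hrel p).2 + (hrel q).2) * K + (E * K) * h1 - (e p - e q) * hKK
      have e' : m⁻¹ * (p : P) * m = m⁻¹ * (q : P) * m := by
        rw [hp p, hp q, h1, h2, h3, h4, ha, he]
      exact Subtype.ext (mul_left_cancel (mul_right_cancel e'))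
    have := Nat.card_le_card_of_injective _ hinj
    rw [hcardT'] at this
    simp at this
  subst hK0
  have hclsy : IsConj (B.ι zP) (B.ι (uP 0 A Bb C D E)) := by
    refine isConj_iff.2 ⟨(B.ι m)⁻¹ * g⁻¹, ?_⟩
    rw [← hyU, map_mul, map_mul, map_inv, hy]; group
  have hab : A = 0 ∧ Bb = 0 ∧ (D ≠ 0 ∨ E ≠ 0) := by
    suffices h : ¬ (D = 0 ∧ E = 0) by
      rcases B.fusQ A Bb C D E hclsy with ⟨h1, h2⟩ | ⟨h1, h2⟩
      · exact ⟨h1, h2, not_and_or.1 h⟩
      · exact absurd ⟨h1, h2⟩ h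
    rintro ⟨rfl, rfl⟩
    have hne : A ≠ 0 ∨ Bb ≠ 0 ∨ C ≠ 0 := by
      by_contra hz
      push Not at hz
      obtain ⟨rfl, rfl, rfl⟩ := hz
      rw [uP_zero, map_one] at hclsy
      obtain ⟨c', hc'⟩ := isConj_iff.1 hclsy
      rw [conj_eq_one_iff, ← map_one B.ι] at hc'
      exact z_ne (B.inj hc')
    obtain ⟨p, hp⟩ := isConj_iff.1 (conj_D1 hne)
    obtain ⟨q, hq⟩ := mem_range (B := B) (w := g * B.ι m * B.ι p) (by
      rw [← mul_inv_eq_iff_eq_mul]
      calc g * B.ι m * B.ι p * B.ι zP * (g * B.ι m * B.ι p)⁻¹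
          = g * B.ι m * (B.ι p * B.ι zP * (B.ι p)⁻¹) * (B.ι m)⁻¹ * g⁻¹ := by group
        _ = B.ι zP := by
            rw [← map_inv B.ι p, ← map_mul, ← map_mul B.ι _ p⁻¹, hp, ← hyU, map_mul, map_mul,
              map_inv, hy]
            group)
    refine not_conj_t (isConj_iff.2 ⟨q * p⁻¹, B.inj ?_⟩)
    rw [map_mul, map_mul, map_inv, map_mul, map_inv, hq, ← ht, ← hg]
    have hmz' : B.ι m * B.ι zP = B.ι zP * B.ι m := by rw [← map_mul, ← map_mul, hmz]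
    calc g * B.ι m * B.ι p * (B.ι p)⁻¹ * B.ι zP * (g * B.ι m * B.ι p * (B.ι p)⁻¹)⁻¹
        = g * (B.ι m * B.ι zP * (B.ι m)⁻¹) * g⁻¹ := by group
      _ = _ := by rw [hmz', mul_inv_cancel_right]
  obtain ⟨rfl, rfl, hde⟩ := hab
  obtain ⟨hA, e1, e2⟩ := toV_spec C D E hde
  refine ⟨g * B.ι m * B.ι (jP _ 0 hA), ?_, ?_⟩
  · have h1 := act_jP (B := B) hA 0 ![1, 0, 0]
    rw [e1] at h1
    have hmz' : B.ι m * B.ι zP = B.ι zP * B.ι m := by rw [← map_mul, ← map_mul, hmz]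
    calc g * B.ι m * B.ι (jP _ 0 hA) * d2 B ![1, 0, 0] * (g * B.ι m * B.ι (jP _ 0 hA))⁻¹
        = g * B.ι m * (B.ι (jP _ 0 hA) * d2 B ![1, 0, 0] * (B.ι (jP _ 0 hA))⁻¹) * (B.ι m)⁻¹ * g⁻¹ := by
          group
      _ = g * (B.ι m * B.ι zP * (B.ι m)⁻¹) * g⁻¹ := by rw [h1, d2, tP_z]; group
      _ = _ := by rw [hmz', mul_inv_cancel_right, hg, d2, tP_t]
  · have h1 := act_jP (B := B) hA 0 ![0, 1, 0]
    rw [e2] at h1
    calc g * B.ι m * B.ι (jP _ 0 hA) * d2 B ![0, 1, 0] * (g * B.ι m * B.ι (jP _ 0 hA))⁻¹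
        = g * (B.ι m * (B.ι (jP _ 0 hA) * d2 B ![0, 1, 0] * (B.ι (jP _ 0 hA))⁻¹) * (B.ι m)⁻¹) * g⁻¹ := by
          group
      _ = g * (B.ι m * B.ι (uP 0 0 0 C D E) * (B.ι m)⁻¹) * g⁻¹ := by rw [h1]; rfl
      _ = _ := by
          rw [← hyU, map_mul, map_mul, map_inv, hy, d2, tP_z]; group

/-- Unequal parameters: no conjugate of `z`. -/
theorem not_cls_x13 {b c d : ZMod 3} (hb : b ≠ 0) (hd : d ≠ 0) :
    ¬ IsConj (B.ι zP) (B.ι (uP 0 0 b c d 0)) := by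
  intro h
  rcases B.fusQ 0 b c d 0 h with ⟨-, h'⟩ | ⟨h', -⟩
  · exact hb h'
  · exact hd h'

theorem not_cls_x23 {k c d : ZMod 3} (hk : k ≠ 0) (hc : c ≠ 0) :
    ¬ IsConj (B.ι zP) (B.ι (uP k 0 0 c d 0)) := by
  intro h
  have hconj : IsConj (uP k 0 0 c d 0) (uP 0 0 c 0 (-k) 0) := by
    refine IsConj.trans (isConj_iff.2 ⟨uP 0 0 0 0 0 (d * k), ?_⟩)
      (isConj_of_rel (A := uS 0 0 c 0 (-k) 0) (B := uS k 0 0 c 0 0) wS_mem (uS_mem ..) (uS_mem ..) ?_)
    · rw [uP_inv, uP_mul, uP_mul]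
      have key : ∀ k d : ZMod 3, k ≠ 0 → d - k * (d * k) = 0 := by decide +kernel
      have := key k d hk
      show uP _ _ _ _ _ _ = uP k 0 0 c 0 0
      congr 1 <;> first | ring1 | linear_combination this
    · have := wS_rel k 0 0 c
      rwa [neg_zero] at this
  rcases B.fusQ 0 c 0 (-k) 0 (h.trans (B.ι.map_isConj hconj)) with ⟨-, h'⟩ | ⟨h', -⟩
  · exact hc h'
  · exact hk (neg_eq_zero.1 h')

theorem torus_k : ∀ k b e l₁ l₂ : ZMod 3, k = l₁ * k → -b = l₁ * b → -e = l₁ * e →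
    -k = l₂ * k → b = l₂ * b → -e = l₂ * e → (k = 0 ∧ b = 0) ∨ (e = 0 ∧ (k = 0 ∨ b = 0)) := by
  decide +kernel

theorem cls_d2 (hD : HasD2 B) {v : V} (hv : v ≠ 0) : IsConj (B.ι zP) (d2 B v) := by
  by_cases h : v 1 = 0 ∧ v 2 = 0
  · have hv0 : v 0 ≠ 0 := fun h0 => hv (by ext i; fin_cases i <;> simp [h0, h.1, h.2])
    refine B.ι.map_isConj ?_
    rw [tP, h.1, h.2]
    exact conj_D1 (Or.inr (Or.inr hv0))
  · obtain ⟨hA, -, e2⟩ := toV_spec (v 0) (v 1) (v 2) (not_and_or.1 h)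
    refine (cls_t hD).trans (isConj_iff.2 ⟨B.ι (jP _ 0 hA), ?_⟩)
    have h1 := act_jP (B := B) hA 0 ![0, 1, 0]
    rw [e2, show (![v 0, v 1, v 2] : V) = v by ext i; fin_cases i <;> rfl] at h1
    exact h1

/-- The element `w` normalises `D2`. -/
theorem swap_act (hD : HasD2 B) {w : G} (hz : w * d2 B ![1, 0, 0] * w⁻¹ = d2 B ![0, 1, 0])
    (ht : w * d2 B ![0, 1, 0] * w⁻¹ = d2 B ![1, 0, 0]) :
    ∃ y, w * d2 B ![0, 0, 1] * w⁻¹ = d2 B y := by
  have hwT : ∀ τ ∈ TT, ∃ σ ∈ TT, w * B.ι τ * w⁻¹ = B.ι σ := by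
    intro τ hτ
    have hz' : w * B.ι τ * w⁻¹ * B.ι zP = B.ι zP * (w * B.ι τ * w⁻¹) := by
      have e : B.ι zP = w * d2 B ![0, 1, 0] * w⁻¹ := by rw [ht]; rfl
      have h' : B.ι τ * d2 B ![0, 1, 0] = d2 B ![0, 1, 0] * B.ι τ := by
        rw [d2, ← map_mul, ← map_mul, tP_t, TT_comm_t hτ]
      rw [e]
      calc w * B.ι τ * w⁻¹ * (w * d2 B ![0, 1, 0] * w⁻¹) = w * (B.ι τ * d2 B ![0, 1, 0]) * w⁻¹ := by
            group
        _ = w * (d2 B ![0, 1, 0] * B.ι τ) * w⁻¹ := by rw [h']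
        _ = _ := by group
    obtain ⟨σ, hσ⟩ := mem_range hz'
    refine ⟨σ, mem_TT (B.inj ?_) (B.inj ?_), hσ.symm⟩
    · rw [map_mul, map_mul, hσ, hz']
    · rw [map_mul, map_mul, hσ, ← tP_t, show B.ι (tP ![0, 1, 0]) = w * d2 B ![1, 0, 0] * w⁻¹ from hz.symm]
      have h' : B.ι τ * d2 B ![1, 0, 0] = d2 B ![1, 0, 0] * B.ι τ := by
        rw [d2, ← map_mul, ← map_mul, tP_z, TT_comm_z hτ]
      calc w * B.ι τ * w⁻¹ * (w * d2 B ![1, 0, 0] * w⁻¹) = w * (B.ι τ * d2 B ![1, 0, 0]) * w⁻¹ := by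
            group
        _ = w * (d2 B ![1, 0, 0] * B.ι τ) * w⁻¹ := by rw [h']
        _ = _ := by group
  obtain ⟨_, ⟨k, b, c, d, e, rfl⟩, hu⟩ := hwT (tP ![0, 0, 1]) ⟨0, 0, _, _, _, rfl⟩
  change w * d2 B ![0, 0, 1] * w⁻¹ = _ at hu
  have hgen : ∀ v : V, ∃ c' d', w * d2 B v * w⁻¹ = B.ι (uP (v 2 * k) 0 (v 2 * b) c' d' (v 2 * e)) := by
    intro v
    have hnat : ∀ (n : ℕ) (x : V), d2 B (n • x) = d2 B x ^ n := by
      intro n x
      induction n with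
      | zero => rw [zero_nsmul, d2_zero, pow_zero]
      | succ n ih => rw [succ_nsmul, d2_add, ih, pow_succ]
    have hsplit : v = (v 0).val • ![1, 0, 0] + (v 1).val • ![0, 1, 0] + (v 2).val • ![0, 0, 1] := by
      ext i; fin_cases i <;> simp
    obtain ⟨a', b', c', d', e', hpow⟩ := k_pow (K := k) (A := 0) (Bb := b) (C := c) (D := d) (E := e) (v 2).val
    have hpow' : ∀ n : ℕ, ∃ c' d', uP k 0 b c d e ^ n = uP ((n : ZMod 3) * k) 0 ((n : ZMod 3) * b) c' d'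
        ((n : ZMod 3) * e) := by
      intro n
      induction n with
      | zero => exact ⟨0, 0, by rw [pow_zero, Nat.cast_zero, zero_mul, zero_mul, zero_mul, uP_zero]⟩
      | succ n ih =>
        obtain ⟨c', d', hc⟩ := ih
        refine ⟨c + ((n : ZMod 3) * b) * e + c', d + ((n : ZMod 3) * k) * e + d', ?_⟩
        rw [pow_succ, hc, uP_mul]
        congr 1 <;> (push_cast; ring)
    obtain ⟨c₂, d₂, h₂⟩ := hpow' (v 2).val
    refine ⟨c₂ + (v 1), d₂ + (v 0), ?_⟩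
    rw [hsplit, d2_add, d2_add, hnat, hnat, hnat,
      show w * (d2 B ![1, 0, 0] ^ (v 0).val * d2 B ![0, 1, 0] ^ (v 1).val *
        d2 B ![0, 0, 1] ^ (v 2).val) * w⁻¹ = (w * d2 B ![1, 0, 0] * w⁻¹) ^ (v 0).val *
        (w * d2 B ![0, 1, 0] * w⁻¹) ^ (v 1).val * (w * d2 B ![0, 0, 1] * w⁻¹) ^ (v 2).val by
      rw [conj_pow, conj_pow, conj_pow]; group,
      hz, ht, hu, ← hnat, ← hnat, ← d2_add, d2, ← map_pow, ← map_mul, h₂, tP, uP_mul, ← hsplit]
    congr 1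
    simp
  -- invariance under the diagonal elements
  have htor : ∀ (h : S3) (hs : Stab h) (s₀ s₁ : ZMod 3),
      Matrix.mulVec h.1 ![1, 0, 0] = s₀ • ![1, 0, 0] → Matrix.mulVec h.1 ![0, 1, 0] = s₁ • ![0, 1, 0] →
      (s₀ = 1 ∨ s₀ = -1) → (s₁ = 1 ∨ s₁ = -1) →
      ∀ k' b' c' d' e', jP h 0 hs * uP k 0 b c d e * (jP h 0 hs)⁻¹ = uP k' 0 b' c' d' e' →
      ∃ l, k' = l * k ∧ b' = l * b ∧ e' = l * e := by
    intro h hs s₀ s₁ h0 h1 hs0 hs1 k' b' c' d' e' heq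
    have hsgn : ∀ s : ZMod 3, (s = 1 ∨ s = -1) → ∀ x : V, d2 B (s • x) = d2 B x ∨ d2 B (s • x) = (d2 B x)⁻¹ := by
      rintro s (rfl | rfl) x
      · exact Or.inl (by rw [one_smul])
      · exact Or.inr (by rw [neg_one_smul, d2_neg])
    set n := w⁻¹ * B.ι (jP h 0 hs) * w with hn
    have hnz : n * d2 B ![1, 0, 0] * n⁻¹ = d2 B (s₁ • ![1, 0, 0]) := by
      have e1 := act_jP (B := B) hs 0 ![0, 1, 0]
      rw [h1] at e1
      have e2 : n * d2 B ![1, 0, 0] * n⁻¹ = w⁻¹ * d2 B (s₁ • ![0, 1, 0]) * w := by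
        rw [← e1, ← hz, hn]; group
      rw [e2]
      rcases hs1 with rfl | rfl
      · rw [one_smul, one_smul, ← hz]; group
      · rw [neg_one_smul, neg_one_smul, d2_neg, d2_neg, ← hz]; group
    obtain ⟨A, u, hA, hnA⟩ : ∃ A u, ∃ hA : Stab A, n = B.ι (jP A u hA) := by
      rcases hs1 with rfl | rfl
      · rw [one_smul] at hnz
        exact fix_z (mul_inv_eq_iff_eq_mul.1 hnz)
      · rw [neg_one_smul] at hnz
        obtain ⟨A, u, hA, hA'⟩ := fix_z (B := B) (m := B.ι (jP h3 0 h3_stab) * n) (by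
          rw [← mul_inv_eq_iff_eq_mul]
          have e3 := act_jP (B := B) h3_stab 0 (-![1, 0, 0])
          rw [show Matrix.mulVec h3.1 (-![1, 0, 0]) = ![1, 0, 0] by
            ext i; fin_cases i <;> simp [h3, Matrix.mulVec, dotProduct, Fin.sum_univ_three]] at e3
          show B.ι (jP h3 0 h3_stab) * n * d2 B ![1, 0, 0] * (B.ι (jP h3 0 h3_stab) * n)⁻¹ = d2 B ![1, 0, 0]
          nth_rewrite 2 [← e3]
          rw [← hnz]; group)
        refine ⟨h3 * A, Matrix.mulVec h3.1 u + 0, h3_stab.mul hA, ?_⟩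
        rw [← jP_mul h3_stab hA, map_mul, ← hA']
        have h33 : jP h3 0 h3_stab * jP h3 0 h3_stab = 1 := by
          rw [jP_mul, ← jP_one]
          exact jP_congr _ _ (Subtype.ext (by
            simp only [Matrix.SpecialLinearGroup.coe_mul, Matrix.SpecialLinearGroup.coe_one]
            decide +kernel)) (by simp)
        rw [← mul_assoc, ← map_mul, h33, map_one, one_mul]
    obtain ⟨c₃, d₃, h₃⟩ := hgen (Matrix.mulVec A.1 ![0, 0, 1])
    have e4 : B.ι (uP k' 0 b' c' d' e') = w * d2 B (Matrix.mulVec A.1 ![0, 0, 1]) * w⁻¹ := by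
      rw [← heq, map_mul, map_mul, map_inv, ← act_jP (B := B) hA u ![0, 0, 1], ← hnA, hn, ← hu]
      group
    obtain ⟨r1, -, r2, -, -, r3⟩ := uP_inj (B.inj (e4.trans h₃))
    exact ⟨_, r1, r2, r3⟩
  have ht1 := htor h1 h1_stab 1 (-1) (by ext i; fin_cases i <;> simp [h1, Matrix.mulVec, dotProduct, Fin.sum_univ_three])
    (by ext i; fin_cases i <;> simp [h1, Matrix.mulVec, dotProduct, Fin.sum_univ_three]) (Or.inl rfl) (Or.inr rfl)
    k (-b) c (-d) (-e) (by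
      rw [mul_inv_eq_iff_eq_mul, uP_eq, uP_eq, jP_mul, jP_mul]
      refine jP_congr _ _ (Subtype.ext ?_) ?_
      · simp only [Matrix.SpecialLinearGroup.coe_mul]
        ext i j
        fin_cases i <;> fin_cases j <;> simp [h1, uA, Matrix.mul_apply, Fin.sum_univ_three]
      · ext i
        fin_cases i <;> simp [h1, uA, Matrix.mulVec, dotProduct, Fin.sum_univ_three])
  have ht2 := htor h2 h2_stab (-1) 1 (by ext i; fin_cases i <;> simp [h2, Matrix.mulVec, dotProduct, Fin.sum_univ_three])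
    (by ext i; fin_cases i <;> simp [h2, Matrix.mulVec, dotProduct, Fin.sum_univ_three]) (Or.inr rfl) (Or.inl rfl)
    (-k) b (-c) d (-e) (by
      rw [mul_inv_eq_iff_eq_mul, uP_eq, uP_eq, jP_mul, jP_mul]
      refine jP_congr _ _ (Subtype.ext ?_) ?_
      · simp only [Matrix.SpecialLinearGroup.coe_mul]
        ext i j
        fin_cases i <;> fin_cases j <;> simp [h2, uA, Matrix.mul_apply, Fin.sum_univ_three]
      · ext i
        fin_cases i <;> simp [h2, uA, Matrix.mulVec, dotProduct, Fin.sum_univ_three])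
  obtain ⟨l₁, p1, p2, p3⟩ := ht1
  obtain ⟨l₂, q1, q2, q3⟩ := ht2
  rcases torus_k k b e l₁ l₂ p1 p2 p3 q1 q2 q3 with ⟨rfl, rfl⟩ | ⟨he, hkb⟩
  · exact ⟨![c, d, e], hu⟩
  by_cases hk : k = 0
  · by_cases hb : b = 0
    · subst hk hb; exact ⟨![c, d, e], hu⟩
    exfalso
    subst hk he
    obtain ⟨j, hj⟩ : ∃ j : ZMod 3, d + j ≠ 0 := ⟨1 - d, by simp⟩
    refine not_cls_x13 (B := B) (c := c) hb hj ?_
    have hv : (![j, 0, 1] : V) ≠ 0 := fun h => one_ne_zero (congrFun h 2 : (1 : ZMod 3) = 0)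
    refine (cls_d2 hD hv).trans (isConj_iff.2 ⟨w, ?_⟩)
    rw [show (![j, 0, 1] : V) = j.val • ![1, 0, 0] + ![0, 0, 1] by ext i; fin_cases i <;> simp,
      d2_add, show w * (d2 B (j.val • ![1, 0, 0]) * d2 B ![0, 0, 1]) * w⁻¹ =
        (w * d2 B (j.val • ![1, 0, 0]) * w⁻¹) * (w * d2 B ![0, 0, 1] * w⁻¹) by group, hu]
    have hzj : w * d2 B (j.val • ![1, 0, 0]) * w⁻¹ = d2 B (j.val • ![0, 1, 0]) := by
      generalize j.val = n
      induction n with
      | zero => simp [d2_zero]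
      | succ n ih => rw [succ_nsmul, succ_nsmul, d2_add, d2_add, ← ih, ← hz]; group
    rw [hzj, d2, ← map_mul, tP, uP_mul]
    congr 1
    simp [add_comm]
  · exfalso
    have hb : b = 0 := hkb.resolve_left hk
    subst hb he
    obtain ⟨j, hj⟩ : ∃ j : ZMod 3, c + j ≠ 0 := ⟨1 - c, by simp⟩
    refine not_cls_x23 (B := B) (d := d) hk hj ?_
    have hv : (![0, j, 1] : V) ≠ 0 := fun h => one_ne_zero (congrFun h 2 : (1 : ZMod 3) = 0)
    refine (cls_d2 hD hv).trans (isConj_iff.2 ⟨w, ?_⟩)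
    rw [show (![0, j, 1] : V) = j.val • ![0, 1, 0] + ![0, 0, 1] by ext i; fin_cases i <;> simp,
      d2_add, show w * (d2 B (j.val • ![0, 1, 0]) * d2 B ![0, 0, 1]) * w⁻¹ =
        (w * d2 B (j.val • ![0, 1, 0]) * w⁻¹) * (w * d2 B ![0, 0, 1] * w⁻¹) by group, hu]
    have hzj : w * d2 B (j.val • ![0, 1, 0]) * w⁻¹ = d2 B (j.val • ![1, 0, 0]) := by
      generalize j.val = n
      induction n with
      | zero => simp [d2_zero]
      | succ n ih => rw [succ_nsmul, succ_nsmul, d2_add, d2_add, ← ih, ← ht]; group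
    rw [hzj, d2, ← map_mul, tP, uP_mul]
    congr 1
    simp [add_comm]

end CfsgLib.L43Three.Dual
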