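import Cfsg.Agent.Lib.L43Three.EndAModel
import Cfsg.Agent.Lib.SNineThree.CentTauTools
import Cfsg.Agent.Lib.OddOrder.PLengthOne
import Cfsg.Agent.S1225
import Cfsg.Agent.S3347

/-!
The end of case A of S3373: the centralizer of an involution lies in the parabolic subgroup, which
would then be strongly embedded; the odd transitive subgroup meets `D`.
-/

set_option autoImplicit false
set_option maxRecDepth 100000
set_option linter.style.haveILetI false
set_option linter.unusedSectionVars false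

namespace CfsgLib.L43Three

open Subgroup

universe u

namespace EndAux

variable {G : Type u} [Group G] [Finite G] (B : Base G)

theorem one_facts : (1 : ZMod 3) ≠ -1 ∧ (1 : ZMod 3) ≠ 0 := by decide

/-- The mover of an element into the image lies in the image. -/
theorem move (hA : FusA B) {g : G} {x : P} (hx : IsConj zP x)
    (hg : g * B.ι x * g⁻¹ ∈ B.ι.range) : g ∈ B.ι.range := by
  obtain ⟨y, hy⟩ := hg
  obtain ⟨h, rfl⟩ := isConj_iff.1 hx
  obtain ⟨k, hk⟩ := isConj_iff.1 (hA y (isConj_iff.2 ⟨g * B.ι h, by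
    rw [hy, map_mul, map_mul, map_inv]; group⟩))
  rw [← hk, map_mul, map_mul, map_inv, map_mul, map_mul, map_inv] at hy
  have hc : (B.ι k)⁻¹ * g * B.ι h ∈ normalizer (zpowers (B.ι zP) : Set G) := by
    have e : (B.ι k)⁻¹ * g * B.ι h * B.ι zP * ((B.ι k)⁻¹ * g * B.ι h)⁻¹ = B.ι zP := by
      calc _ = (B.ι k)⁻¹ * (g * (B.ι h * B.ι zP * (B.ι h)⁻¹) * g⁻¹) * B.ι k := by group
        _ = _ := by rw [← hy]; group
    refine mem_normalizer_fintype fun q hq => ?_
    obtain ⟨n, rfl⟩ := mem_zpowers_iff.1 hq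
    rw [← conj_zpow, e]
    exact zpow_mem (mem_zpowers _) _
  have h1 := mul_mem (mul_mem (⟨k, rfl⟩ : B.ι k ∈ B.ι.range) (B.norm_z hc))
    (inv_mem (⟨h, rfl⟩ : B.ι h ∈ B.ι.range))
  rwa [show B.ι k * ((B.ι k)⁻¹ * g * B.ι h) * (B.ι h)⁻¹ = g by group] at h1

/-- The centralizer of the image lies in the image. -/
def CentM (x : P) : Prop := centralizer ({B.ι x} : Set G) ≤ B.ι.range

theorem centM_conj {x y : P} (h : IsConj x y) (hx : CentM B x) : CentM B y := by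
  obtain ⟨k, rfl⟩ := isConj_iff.1 h
  intro c hc
  rw [mem_centralizer_singleton_iff, map_mul, map_mul, map_inv] at hc
  have h1 : (B.ι k)⁻¹ * c * B.ι k ∈ B.ι.range := hx (mem_centralizer_singleton_iff.2 (by
    calc (B.ι k)⁻¹ * c * B.ι k * B.ι x
        = (B.ι k)⁻¹ * (c * (B.ι k * B.ι x * (B.ι k)⁻¹)) * B.ι k := by group
      _ = B.ι x * ((B.ι k)⁻¹ * c * B.ι k) := by rw [hc]; group))
  have := mul_mem (mul_mem (⟨k, rfl⟩ : B.ι k ∈ B.ι.range) h1)
    (inv_mem (⟨k, rfl⟩ : B.ι k ∈ B.ι.range))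
  rwa [show B.ι k * ((B.ι k)⁻¹ * c * B.ι k) * (B.ι k)⁻¹ = c by group] at this

theorem centM_inv {x : P} (hx : CentM B x) : CentM B x⁻¹ := by
  intro c hc
  rw [mem_centralizer_singleton_iff, map_inv] at hc
  refine hx (mem_centralizer_singleton_iff.2 ?_)
  have := (Commute.inv_right (show Commute c (B.ι x)⁻¹ from hc)).eq
  rwa [inv_inv] at this

theorem centM_z : CentM B zP := fun c hc => B.norm_z (mem_normalizer_fintype fun q hq => by
  obtain ⟨n, rfl⟩ := mem_zpowers_iff.1 hq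
  rw [← conj_zpow, mem_centralizer_singleton_iff.1 hc, mul_inv_cancel_right]
  exact zpow_mem (mem_zpowers _) _)

/-- The hypotheses on the centralizers. -/
structure Cents : Prop where
  t0 : CentM B (qP 0 0 0 1 0)
  wp : CentM B (qP 1 0 0 0 1)
  wm : CentM B (qP 1 0 0 0 2)

theorem centM_EP (hC : Cents B) {p : P} (hp : p ∈ EP) (hp1 : p ≠ 1) : CentM B p := by
  obtain ⟨a, e, rfl⟩ := hp
  have h34 : CentM B (qP 0 0 0 0 1) ∧ CentM B (qP 0 0 0 0 2) := by
    have k : (qP 0 0 0 0 1)⁻¹ = qP 0 0 0 0 2 := by rw [q_inv]; rfl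
    rcases t0_conj with h | h
    · have h1 := centM_conj B h hC.t0
      exact ⟨h1, k ▸ centM_inv B h1⟩
    · have h2 := centM_conj B h hC.t0
      refine ⟨?_, h2⟩
      have := centM_inv B h2
      rwa [← k, inv_inv] at this
  have hw : CentM B (qP 2 0 0 0 2) ∧ CentM B (qP 2 0 0 0 1) := by
    have k1 : (qP 1 0 0 0 1)⁻¹ = qP 2 0 0 0 2 := by rw [q_inv]; rfl
    have k2 : (qP 1 0 0 0 2)⁻¹ = qP 2 0 0 0 1 := by rw [q_inv]; rfl
    exact ⟨k1 ▸ centM_inv B hC.wp, k2 ▸ centM_inv B hC.wm⟩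
  have key : ∀ a e : ZMod 3, (a = 0 ∧ e = 0) ∨ (a ≠ 0 ∧ e = 0) ∨ (a = 0 ∧ e = 1) ∨ (a = 0 ∧ e = 2) ∨
      (a = 1 ∧ e = 1) ∨ (a = 1 ∧ e = 2) ∨ (a = 2 ∧ e = 2) ∨ (a = 2 ∧ e = 1) := by decide
  rcases key a e with ⟨rfl, rfl⟩ | ⟨ha, rfl⟩ | ⟨rfl, rfl⟩ | ⟨rfl, rfl⟩ | ⟨rfl, rfl⟩ | ⟨rfl, rfl⟩ |
      ⟨rfl, rfl⟩ | ⟨rfl, rfl⟩
  · exact absurd qS_zero hp1
  · exact centM_conj B (row_conj a 0 0 (Or.inl ha)) (centM_z B)
  · exact h34.1
  · exact h34.2
  · exact hC.wp
  · exact hC.wm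
  · exact hw.1
  · exact hw.2

/-- `⟨x₁₂, x₃₄⟩` in `G`. -/
def EG : Subgroup G := EP.map B.ι

theorem card_EG : Nat.card (EG B) = 9 := by rw [EG, card_map_of_injective B.inj, card_EP]

theorem EG_comm {x y : G} (hx : x ∈ EG B) (hy : y ∈ EG B) : x * y = y * x := by
  obtain ⟨_, ⟨a, e, rfl⟩, rfl⟩ := hx
  obtain ⟨_, ⟨a', e', rfl⟩, rfl⟩ := hy
  rw [← map_mul, ← map_mul, q_mul, q_mul, add_comm a, add_comm e]

theorem EP_isPGroup : IsPGroup 3 EP := IsPGroup.of_card (n := 2) (by rw [card_EP]; norm_num)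

theorem EG_cube {x : G} (hx : x ∈ EG B) : x ^ 3 = 1 := by
  obtain ⟨_, ⟨a, e, rfl⟩, rfl⟩ := hx
  rw [← map_pow, pow_succ, pow_two, q_mul, q_mul]
  have k : ∀ x : ZMod 3, x + x + x = 0 := by decide
  rw [k, k, qS_zero, map_one]

theorem P_three {t : P} (hi : t * i0P = i0P * t) (h3 : ∃ k, t ^ 3 ^ k = 1)
    (hn : t * qP 0 0 0 0 1 * t⁻¹ ∈ EP) : t ∈ EP := by
  obtain ⟨_, -, h2, -⟩ := norm_form t hi hn
  obtain ⟨k, hk⟩ := h3
  obtain ⟨j, hj⟩ := Odd.pow (by decide : Odd 3) (n := k)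
  have e : (t * t) ^ (j + 1) = t := by
    rw [← pow_two, ← pow_mul, show 2 * (j + 1) = 3 ^ k + 1 by omega, pow_succ, hk, one_mul]
  rw [← e]; exact pow_mem h2 _

variable (hA : FusA B)

include hA in
/-- An element normalizing `E` inside the centralizer of `i₀`. -/
theorem norm_lift {t : G} (ht : t ∈ centralizer ({B.ι i0P} : Set G))
    (hn : t ∈ normalizer (EG B : Set G)) :
    ∃ p : P, B.ι p = t ∧ p * i0P = i0P * p ∧ p * qP 0 0 0 0 1 * p⁻¹ ∈ EP := by
  have h12 : IsConj zP (qP 1 0 0 0 0) := row_conj 1 0 0 (Or.inl one_facts.2)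
  have hx : B.ι (qP 1 0 0 0 0) ∈ EG B := mem_map_of_mem _ ⟨1, 0, rfl⟩
  obtain ⟨q, -, hq⟩ := (mem_set_normalizer_iff.1 hn _).1 hx
  obtain ⟨p, rfl⟩ := move B hA h12 ⟨q, hq⟩
  refine ⟨p, rfl, B.inj ?_, ?_⟩
  · rw [map_mul, map_mul]; exact mem_centralizer_singleton_iff.1 ht
  · obtain ⟨q', hq', e⟩ := (mem_set_normalizer_iff.1 hn _).1
      (mem_map_of_mem B.ι (⟨0, 1, rfl⟩ : qP 0 0 0 0 1 ∈ EP))
    rw [← map_inv, ← map_mul, ← map_mul] at e
    exact B.inj e ▸ hq'

include hA in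
theorem Y_three {t : G} (ht : t ∈ centralizer ({B.ι i0P} : Set G)) (h3 : ∃ k, t ^ 3 ^ k = 1)
    (hn : t ∈ normalizer (EG B : Set G)) : t ∈ EG B := by
  obtain ⟨p, rfl, hi, hp⟩ := norm_lift B hA ht hn
  obtain ⟨k, hk⟩ := h3
  exact mem_map_of_mem _ (P_three hi ⟨k, B.inj (by rw [map_pow, hk, map_one])⟩ hp)

variable (hC : Cents B)

include hA hC in
/-- The centralizer of `i₀` lies in the image. -/
theorem cent_i0 : centralizer ({B.ι i0P} : Set G) ≤ B.ι.range := by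
  haveI : Fact (Nat.Prime 3) := ⟨Nat.prime_three⟩
  set Y := centralizer ({B.ι i0P} : Set G) with hY
  have hEY : EG B ≤ Y := by
    rintro _ ⟨_, ⟨a, e, rfl⟩, rfl⟩
    rw [mem_centralizer_singleton_iff, ← map_mul, ← map_mul, EP_comm_i0]
  have hE3 : IsPGroup 3 (EG B) := EP_isPGroup.map _
  have hd1 := dP_facts
  have hdY : B.ι dP ∈ Y := by
    rw [mem_centralizer_singleton_iff, ← map_mul, ← map_mul, hd1.1]
  have hinv : ∀ {x : G}, x ∈ EG B → B.ι dP * x * (B.ι dP)⁻¹ = x⁻¹ := by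
    rintro _ ⟨_, ⟨a, e, rfl⟩, rfl⟩
    rw [← map_inv, ← map_inv, ← map_mul, ← map_mul, hd1.2.2, q_inv]
  obtain ⟨S, hS⟩ := SNineThree.CentTau.sylow_exists hEY hE3
    (fun t ht h3 hn => Y_three B hA ht h3 hn)
  have hab : IsMulCommutative (S : Subgroup Y) := ⟨⟨fun a b => by
    refine Subtype.ext (Subtype.ext ?_)
    have ha := a.2
    have hb := b.2
    simp only [hS, mem_subgroupOf] at ha hb
    exact EG_comm B ha hb⟩⟩
  have hncE : ¬ IsCyclic (EG B) := by
    intro hc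
    obtain ⟨q, hq⟩ := hc.exists_generator
    have h9 := orderOf_eq_card_of_forall_mem_zpowers hq
    rw [card_EG] at h9
    have h3 : q ^ 3 = 1 := Subtype.ext (EG_cube B q.2)
    have := Nat.le_of_dvd (by norm_num) (orderOf_dvd_of_pow_eq_one h3)
    omega
  have hnc : ¬ IsCyclic (S : Subgroup Y) := by
    rw [hS]
    intro hc
    exact hncE (isCyclic_of_surjective _ (subgroupOfEquivOfLe hEY).surjective)
  have hidx : ((centralizer ((S : Subgroup Y) : Set Y)).subgroupOf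
      (normalizer ((S : Subgroup Y) : Set Y))).index = 2 := by
    rw [index_eq_two_iff]
    have hdN : (⟨_, hdY⟩ : Y) ∈ normalizer ((S : Subgroup Y) : Set Y) := by
      refine mem_normalizer_fintype fun q hq => ?_
      simp only [hS, SetLike.mem_coe, mem_subgroupOf, coe_mul, coe_inv] at hq ⊢
      rw [hinv hq]; exact inv_mem hq
    refine ⟨⟨_, hdN⟩, fun b => ?_⟩
    have hbn : ((b : Y) : G) ∈ normalizer (EG B : Set G) := mem_normalizer_fintype fun x hx => by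
      have := (mem_set_normalizer_iff.1 b.2 ⟨x, hEY hx⟩).1 (by simpa [hS, mem_subgroupOf] using hx)
      simpa [hS, mem_subgroupOf] using this
    obtain ⟨p, hp, hpi, hpe⟩ := norm_lift B hA (b : Y).2 hbn
    obtain ⟨k, hk, -, hkc⟩ := norm_form p hpi hpe
    have hcent : ∀ {g : Y}, g ∈ centralizer ((S : Subgroup Y) : Set Y) ↔
        ∀ {y : G}, y ∈ EG B → (g : G) * y * (g : G)⁻¹ = y := by
      intro g
      rw [mem_centralizer_iff]
      constructor
      · intro h y hy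
        rw [mul_inv_eq_iff_eq_mul]
        exact (congrArg Subtype.val (h ⟨y, hEY hy⟩ (by simpa [hS, mem_subgroupOf] using hy))).symm
      · intro h y hy
        have := h (y := (y : G)) (by simpa [hS, mem_subgroupOf] using hy)
        exact Subtype.ext (mul_inv_eq_iff_eq_mul.1 this).symm
    have hne : B.ι (qP 1 0 0 0 0) ≠ (B.ι (qP 1 0 0 0 0))⁻¹ := by
      rw [← map_inv, q_inv]
      intro h
      exact absurd (q_inj (B.inj h)).1 one_facts.1
    have hx : B.ι (qP 1 0 0 0 0) ∈ EG B := mem_map_of_mem _ ⟨1, 0, rfl⟩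
    have hconj : ∀ {y : G}, y ∈ EG B → (k = 1 → ((b : Y) : G) * y * ((b : Y) : G)⁻¹ = y) ∧
        (k = -1 → ((b : Y) : G) * y * ((b : Y) : G)⁻¹ = y⁻¹) := by
      rintro _ ⟨_, ⟨a, e, rfl⟩, rfl⟩
      rw [← hp, ← map_inv, ← map_inv, ← map_mul, ← map_mul, hkc, q_inv]
      exact ⟨fun h => by rw [h, one_mul, one_mul], fun h => by rw [h, neg_one_mul, neg_one_mul]⟩
    simp only [mem_subgroupOf, coe_mul, hcent]
    rcases hk with hk1 | hk1
    · refine Or.inr ⟨fun {y} hy => (hconj hy).1 hk1, fun h => hne ?_⟩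
      have h1 := h hx
      rw [show ((b : Y) : G) * B.ι dP * B.ι (qP 1 0 0 0 0) * (((b : Y) : G) * B.ι dP)⁻¹ =
        ((b : Y) : G) * (B.ι dP * B.ι (qP 1 0 0 0 0) * (B.ι dP)⁻¹) * ((b : Y) : G)⁻¹ by group,
        hinv hx, (hconj (inv_mem hx)).1 hk1] at h1
      exact h1.symm
    · refine Or.inl ⟨fun {y} hy => ?_, fun h => hne ?_⟩
      · rw [show ((b : Y) : G) * B.ι dP * y * (((b : Y) : G) * B.ι dP)⁻¹ =
          ((b : Y) : G) * (B.ι dP * y * (B.ι dP)⁻¹) * ((b : Y) : G)⁻¹ by group,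
          hinv hy, (hconj (inv_mem hy)).2 hk1, inv_inv]
      · exact (h hx).symm.trans ((hconj hx).2 hk1)
  rcases Cfsg.Agent.S3347.result 3 (by norm_num) S hab hnc hidx with hres | hlen
  · exfalso
    apply hres
    haveI := CfsgLib.Transfer.pResidual_normal (G := Y) (p := 3)
    set R := Cfsg.pResidual 3 Y with hR
    have hdR : (⟨_, hdY⟩ : Y) ∈ R := subset_closure (by
      refine Nat.Coprime.coprime_dvd_left (orderOf_dvd_of_pow_eq_one (n := 2)
        (Subtype.ext ?_)) (by norm_num)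
      show B.ι dP ^ 2 = 1
      rw [← map_pow, pow_two, hd1.2.1, map_one])
    have hSR : (S : Subgroup Y) ≤ R := by
      intro q hq
      have hqE : (q : G) ∈ EG B := by rw [hS] at hq; exact hq
      have h1 : (⟨_, hdY⟩ : Y) * (q * (⟨_, hdY⟩ : Y)⁻¹ * q⁻¹) ∈ R :=
        mul_mem hdR ((‹R.Normal›).conj_mem _ (inv_mem hdR) q)
      have e : (⟨_, hdY⟩ : Y) * (q * (⟨_, hdY⟩ : Y)⁻¹ * q⁻¹) = (q * q)⁻¹ := by
        refine Subtype.ext ?_
        show B.ι dP * ((q : G) * (B.ι dP)⁻¹ * (q : G)⁻¹) = ((q : G) * q)⁻¹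
        rw [← mul_assoc, ← mul_assoc, hinv hqE, mul_inv_rev]
      rw [e, inv_mem_iff] at h1
      have h3 : q * q * (q * q) = q := by
        refine Subtype.ext ?_
        show (q : G) * q * (q * q) = q
        calc (q : G) * q * (q * q) = (q : G) ^ 3 * q := by
              simp only [pow_succ, pow_zero, one_mul, mul_assoc]
          _ = q := by rw [EG_cube B hqE, one_mul]
      exact h3 ▸ mul_mem h1 h1
    have hco : ¬ 3 ∣ R.index := fun hd => S.not_dvd_index (hd.trans (index_dvd_of_le hSR))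
    refine (eq_top_iff' R).2 fun g => ?_
    obtain ⟨m, hm⟩ := SNineThree.CentTau.three_pow_mem_residual g
    rw [← hR] at hm
    have hmi : g ^ R.index ∈ R := pow_index_mem R g
    rw [← QuotientGroup.eq_one_iff] at hm hmi ⊢
    rw [QuotientGroup.mk_pow] at hm hmi
    exact SNineThree.CentTau.eq_one_of_pow_three_pow
      ((Nat.Prime.coprime_iff_not_dvd Nat.prime_three).2 hco).symm hmi hm
  set O := Cfsg.pPrimeCore 3 Y with hO
  haveI : O.Normal := Cfsg.pPrimeCore_normal 3 Y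
  have hON : O.map Y.subtype ≤ B.ι.range := by
    haveI : IsMulCommutative (EG B) := ⟨⟨fun a b => Subtype.ext (EG_comm B a.2 b.2)⟩⟩
    refine CfsgLib.Coprime.le_of_centralizer_le_of_not_isCyclic (A := EG B) hncE ?_ ?_
      fun a ha ha1 => ?_
    · exact hEY.trans (Base.le_normalizer_map_pPrimeCore Y)
    · rw [card_EG, show 9 = 3 ^ 2 by norm_num, card_map_of_injective Y.subtype_injective]
      exact (Base.pPrimeCore_coprime 3 Y).symm.pow_left 2
    · obtain ⟨p, hp, rfl⟩ := ha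
      exact inf_le_right.trans (centM_EP B hC hp fun h => ha1 (by rw [h, map_one]))
  have hmap := OddOrder.map_le_pCore_quotient hlen S.2
  have hle : Cfsg.pCore 3 (Y ⧸ O) ≤ (S : Subgroup Y).map (QuotientGroup.mk' O) :=
    Base.pCore_le_sylow (S.mapSurjective (QuotientGroup.mk'_surjective O))
  haveI : (Cfsg.pCore 3 (Y ⧸ O)).Normal := Cfsg.pCore_normal 3 (Y ⧸ O)
  intro g hg
  have hx : B.ι (qP 1 0 0 0 0) ∈ EG B := mem_map_of_mem _ ⟨1, 0, rfl⟩
  have hq : (⟨_, hEY hx⟩ : Y) ∈ (S : Subgroup Y) := by rw [hS]; exact hx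
  obtain ⟨q, hq', hqe⟩ := hle ((‹(Cfsg.pCore 3 (Y ⧸ O)).Normal›).conj_mem _
    (hmap (mem_map_of_mem _ hq)) (QuotientGroup.mk' O ⟨g, hg⟩))
  rw [← map_inv, ← map_mul, ← map_mul] at hqe
  have ho := hON (mem_map_of_mem Y.subtype (QuotientGroup.eq.1 hqe))
  have hqE : (q : G) ∈ B.ι.range := by
    rw [hS] at hq'
    exact map_le_range _ _ hq'
  refine move B hA (row_conj 1 0 0 (Or.inl one_facts.2)) ?_
  have := mul_mem hqE ho
  simpa [mul_assoc] using this

/-- The row subgroup. -/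
def DP : Subgroup P where
  carrier := {p | ∃ a b c : ZMod 3, p = qP a b c 0 0}
  one_mem' := ⟨0, 0, 0, qS_zero.symm⟩
  mul_mem' := by
    rintro _ _ ⟨a, b, c, rfl⟩ ⟨a', b', c', rfl⟩
    exact ⟨a + a', b' + b, c' + c, by rw [← u_row, ← u_row, ← u_row, u_mul]; congr 1 <;> ring⟩
  inv_mem' := by
    rintro _ ⟨a, b, c, rfl⟩
    refine ⟨-a, -b, -c, inv_eq_of_mul_eq_one_right ?_⟩
    rw [← u_row, ← u_row, u_mul, ← u_zero]
    congr 1 <;> ring

theorem card_DP : Nat.card DP = 27 := by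
  let f : ZMod 3 × ZMod 3 × ZMod 3 → DP := fun p => ⟨_, p.1, p.2.1, p.2.2, rfl⟩
  rw [← Nat.card_eq_of_bijective f ⟨?_, ?_⟩, Nat.card_eq_fintype_card]
  · rfl
  · intro p q h
    obtain ⟨h1, h2, h3, -, -⟩ := q_inj (congrArg Subtype.val h)
    exact Prod.ext h1 (Prod.ext h2 h3)
  · rintro ⟨g, a, b, c, rfl⟩
    exact ⟨(a, b, c), rfl⟩

theorem DP_le_UP : DP ≤ UP := by
  rintro _ ⟨a, b, c, rfl⟩
  exact ⟨a, b, c, 0, 0, 0, (u_row a b c).symm⟩

include B in
/-- A subgroup transitive on the involutions meets the transvections of a row. -/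
theorem transitive_meets (D0 : Subgroup P)
    (htr : ∀ m : P, ∃ d ∈ D0, d * i0P * d⁻¹ = m * i0P * m⁻¹) :
    ∃ x ∈ D0, IsConj zP x := by
  haveI : Fact (Nat.Prime 3) := ⟨Nat.prime_three⟩
  set C := centralizer ({i0P} : Set P) with hC
  -- the index of the centralizer divides the order
  have hd : C.index ∣ Nat.card D0 := by
    let f : D0 ⧸ C.subgroupOf D0 → P ⧸ C := Quotient.map' (fun d => (d : P)) fun a b h => by
      rw [QuotientGroup.leftRel_apply] at h ⊢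
      exact h
    have hf : Function.Bijective f := by
      constructor
      · rintro ⟨a⟩ ⟨b⟩ h
        exact Quotient.sound' (QuotientGroup.leftRel_apply.2
          ((QuotientGroup.eq (s := C) (a := (a : P)) (b := (b : P))).1 h))
      · rintro ⟨m⟩
        obtain ⟨d, hd, e⟩ := htr m
        refine ⟨QuotientGroup.mk ⟨d, hd⟩, Quotient.sound' (QuotientGroup.leftRel_apply.2 ?_)⟩
        show d⁻¹ * m ∈ C
        rw [mem_centralizer_singleton_iff]
        calc d⁻¹ * m * i0P = d⁻¹ * (m * i0P * m⁻¹) * m := by group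
          _ = i0P * (d⁻¹ * m) := by rw [← e]; group
    rw [index, ← Nat.card_eq_of_bijective f hf]
    exact card_quotient_dvd_card _
  have hEC : EP ≤ C := by
    rintro _ ⟨a, e, rfl⟩
    exact mem_centralizer_singleton_iff.2 (EP_comm_i0 a e).symm
  obtain ⟨T, hT⟩ := SNineThree.CentTau.sylow_exists hEC EP_isPGroup (fun t ht h3 hn =>
    P_three (mem_centralizer_singleton_iff.1 ht) h3
      ((mem_set_normalizer_iff.1 hn _).1 ⟨0, 1, rfl⟩))
  have h27 : ¬ 27 ∣ Nat.card C := SNineThree.CentTau.not_dvd_of_sylow_nine (T := T) (by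
    rw [hT, Nat.card_congr (subgroupOfEquivOfLe hEC).toEquiv, card_EP])
  have h729 : 729 ∣ Nat.card C * C.index := by
    rw [C.card_mul_index, ← card_UP]; exact card_subgroup_dvd_card _
  have h81 : 3 ^ 4 ∣ Nat.card D0 := by
    refine dvd_trans ?_ hd
    obtain ⟨k, m, hm, hkm⟩ := Nat.exists_eq_pow_mul_and_not_dvd
      (Nat.card_pos (α := C)).ne' 3 (by norm_num)
    have hk : k ≤ 2 := by
      by_contra hk
      exact h27 (hkm ▸ dvd_mul_of_dvd_left (pow_dvd_pow 3 (show 3 ≤ k by omega)) m)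
    rw [hkm] at h729
    have h1 : 3 ^ 4 ∣ m * C.index := by
      refine Nat.dvd_of_mul_dvd_mul_left (by norm_num : 0 < 3 ^ 2) ?_
      have h2 : 3 ^ k ∣ 3 ^ 2 := pow_dvd_pow 3 hk
      have := h729.trans (mul_dvd_mul_right (mul_dvd_mul_right h2 m) C.index)
      rw [mul_assoc] at this
      norm_num at this ⊢
      exact this
    exact (Nat.Coprime.pow_left 4 ((Nat.Prime.coprime_iff_not_dvd Nat.prime_three).2 hm)).dvd_of_dvd_mul_left h1
  obtain ⟨S0, hS0⟩ := Sylow.exists_subgroup_card_pow_prime 3 (G := D0) h81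
  set S1 := S0.map D0.subtype with hS1
  have hS1c : Nat.card S1 = 81 := by
    rw [hS1, card_map_of_injective D0.subtype_injective, hS0]; norm_num
  have hU : ¬ 3 ∣ UP.index := fun h => by
    refine B.sylow (dvd_trans ?_ ((Nat.card_congr (MonoidHom.ofInjective B.inj).toEquiv).symm ▸ card_subgroup_dvd_card B.ι.range))
    rw [← UP.card_mul_index, card_UP]
    obtain ⟨i, hi⟩ := h
    exact ⟨i, by rw [hi]; ring⟩
  let SU : Sylow 3 P := (IsPGroup.of_card (n := 6) (by rw [card_UP]; norm_num)).toSylow hU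
  obtain ⟨Q, hQ⟩ := (IsPGroup.of_card (p := 3) (G := S1) (n := 4)
    (by rw [hS1c]; norm_num)).exists_le_sylow
  obtain ⟨g, hg⟩ := MulAction.exists_smul_eq P Q SU
  have hmem : ∀ {s : P}, s ∈ S1 → g * s * g⁻¹ ∈ UP := fun {s} hs => by
    have h1 : g * s * g⁻¹ ∈ (SU : Subgroup P) := by
      rw [← hg, Sylow.coe_subgroup_smul]
      exact mem_map_of_mem _ (hQ hs)
    exact h1
  by_contra hno
  push Not at hno
  have hinj : Function.Injective (fun p : S1 × DP =>
      (⟨g * p.1 * g⁻¹ * p.2, mul_mem (hmem p.1.2) (DP_le_UP p.2.2)⟩ : UP)) := by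
    rintro ⟨s, d⟩ ⟨s', d'⟩ h
    have h := congrArg Subtype.val h
    simp only at h
    have hm : g⁻¹ * ((d : P) * (d' : P)⁻¹) * g = (s : P)⁻¹ * s' := by
      have e : (d : P) = g * (s : P)⁻¹ * g⁻¹ * (g * s' * g⁻¹ * d') := by rw [← h]; group
      rw [e]; group
    have hdd : (d : P) * (d' : P)⁻¹ = 1 := by
      by_contra hne
      obtain ⟨a, b, c, e⟩ := mul_mem d.2 (inv_mem d'.2)
      have h0 : a ≠ 0 ∨ b ≠ 0 ∨ c ≠ 0 := by
        by_contra hh
        push Not at hh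
        obtain ⟨rfl, rfl, rfl⟩ := hh
        exact hne (e.trans qS_zero)
      refine hno ((s : P)⁻¹ * s') (map_subtype_le S0 (mul_mem (inv_mem s.2) s'.2)) ?_
      rw [← hm, e]
      exact (row_conj a b c h0).trans (isConj_iff.2 ⟨g⁻¹, by group⟩)
    have hd' : d = d' := Subtype.ext (mul_inv_eq_one.1 hdd)
    subst hd'
    exact Prod.ext (Subtype.ext (mul_left_cancel (mul_right_cancel (mul_right_cancel h)))) rfl
  have := Nat.card_le_card_of_injective _ hinj
  rw [Nat.card_prod, hS1c, card_DP, card_UP] at this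
  omega

include hA hC in
/-- The image is the whole group. -/
theorem range_top : B.ι.range = ⊤ := by
  by_contra hne
  set M := B.ι.range with hM
  have hci := cent_i0 B hA hC
  have hiM : B.ι i0P ∈ M := ⟨_, rfl⟩
  have hord : ∀ p : P, orderOf (B.ι p) = orderOf p := fun p => orderOf_injective B.ι B.inj p
  have hmove : ∀ {g : G} {x y : P}, IsConj i0P x → IsConj i0P y →
      g * B.ι x * g⁻¹ = B.ι y → g ∈ M := by
    intro g x y hx hy e
    obtain ⟨h, rfl⟩ := isConj_iff.1 hx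
    obtain ⟨k, rfl⟩ := isConj_iff.1 hy
    rw [map_mul, map_mul, map_inv, map_mul, map_mul, map_inv] at e
    have hc : (B.ι k)⁻¹ * g * B.ι h ∈ M := hci (mem_centralizer_singleton_iff.2 (by
      calc (B.ι k)⁻¹ * g * B.ι h * B.ι i0P
          = (B.ι k)⁻¹ * (g * (B.ι h * B.ι i0P * (B.ι h)⁻¹) * g⁻¹) * g * B.ι h := by group
        _ = B.ι i0P * ((B.ι k)⁻¹ * g * B.ι h) := by rw [e]; group))
    have := mul_mem (mul_mem (⟨k, rfl⟩ : B.ι k ∈ M) hc) (inv_mem (⟨h, rfl⟩ : B.ι h ∈ M))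
    rwa [show B.ι k * ((B.ι k)⁻¹ * g * B.ι h) * (B.ι h)⁻¹ = g by group] at this
  have hodd : ∀ g : G, g ∉ M → Odd (Nat.card ↥(M ⊓ M.map (MulAut.conj g).toMonoidHom)) := by
    intro g hg
    rw [← Nat.not_even_iff_odd, even_iff_two_dvd]
    intro hd
    haveI : Fact (Nat.Prime 2) := ⟨Nat.prime_two⟩
    obtain ⟨x, hx⟩ := exists_prime_orderOf_dvd_card' 2 hd
    obtain ⟨⟨p, hp⟩, y, ⟨p', rfl⟩, e⟩ := x.2
    rw [← orderOf_coe, ← hp, hord] at hx
    have hx' : orderOf p' = 2 := by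
      rw [← hord, ← hx, ← hord p, hp, ← e]
      exact (MulEquiv.orderOf_eq (MulAut.conj g) _).symm
    exact hg (hmove (invol_conj p' hx') (invol_conj p hx) (e.trans hp.symm))
  have hSE : Cfsg.IsStronglyEmbedded M := by
    refine ⟨hne, ?_, hodd⟩
    rw [even_iff_two_dvd, ← i0P_order, ← hord i0P, ← orderOf_mk _ hiM]
    exact orderOf_dvd_natCard _
  obtain ⟨u, hu, huM⟩ : ∃ u : G, orderOf u = 2 ∧ u ∉ M := by
    by_contra hall
    push Not at hall
    refine hne ((eq_top_iff' M).2 fun g => ?_)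
    have ho : orderOf (g * B.ι i0P * g⁻¹) = 2 :=
      (MulEquiv.orderOf_eq (MulAut.conj g) _).trans ((hord _).trans i0P_order)
    obtain ⟨p, hp⟩ := hall _ ho
    rw [← hp, hord] at ho
    exact hmove (IsConj.refl _) (invol_conj p ho) hp.symm
  set D0 : Subgroup P := (M ⊓ M.map (MulAut.conj u).toMonoidHom).comap B.ι with hD0
  have htr : ∀ m : P, ∃ d ∈ D0, d * i0P * d⁻¹ = m * i0P * m⁻¹ := by
    intro m
    have ho : orderOf (B.ι (m * i0P * m⁻¹)) = 2 :=
      (hord _).trans ((MulEquiv.orderOf_eq (MulAut.conj m) _).trans i0P_order)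
    obtain ⟨⟨d, hd, e⟩, -⟩ := Cfsg.Agent.S1225.result M hSE u hu huM (B.ι i0P)
      (B.ι (m * i0P * m⁻¹)) ((hord _).trans i0P_order) hiM ho ⟨_, rfl⟩
    obtain ⟨d', rfl⟩ := hd.1
    refine ⟨d', hd, B.inj ?_⟩
    rw [map_mul, map_mul, map_inv]
    exact e
  obtain ⟨x, hx, hxz⟩ := transitive_meets B D0 htr
  obtain ⟨-, y, hy, e⟩ := hx
  refine huM (inv_mem_iff.1 (move B hA hxz (?_ : u⁻¹ * B.ι x * u⁻¹⁻¹ ∈ M)))
  rw [inv_inv, ← e]
  simp only [MulEquiv.toMonoidHom_eq_coe, MonoidHom.coe_coe, MulAut.conj_apply]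
  rw [show u⁻¹ * (u * y * u⁻¹) * u = y by group]
  exact hy

end EndAux

/-- The end of case A. -/
theorem endA : StmtEndA.{u} := by
  intro G _ _ B hA h1 h2 h3
  exact EndAux.range_top B hA ⟨h1, h2, h3⟩

end CfsgLib.L43Three
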