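import Cfsg.Agent.Lib.L43Three.Defs

/-!
The point stabilizer of `PSL₄(3)` for the end of case A of S3373: one class of involutions, the
transvections of the first row, the centralizer of `i₀` at the prime three.
-/

set_option autoImplicit false
set_option maxRecDepth 100000

namespace CfsgLib.L43Three.EndAux

open Matrix

/-- A matrix from nine digits. -/
def mOf (c : ℕ) : Matrix (Fin 3) (Fin 3) (ZMod 3) :=
  Matrix.of fun i j => ((c / 3 ^ (3 * i.val + j.val) % 3 : ℕ) : ZMod 3)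

/-- The matrix `(1 v; 0 B)`. -/
def blockM (v : Fin 3 → ZMod 3) (B : Matrix (Fin 3) (Fin 3) (ZMod 3)) :
    Matrix (Fin 4) (Fin 4) (ZMod 3) :=
  !![1, v 0, v 1, v 2; 0, B 0 0, B 0 1, B 0 2; 0, B 1 0, B 1 1, B 1 2; 0, B 2 0, B 2 1, B 2 2]

theorem det_blockM (v : Fin 3 → ZMod 3) (B : Matrix (Fin 3) (Fin 3) (ZMod 3)) :
    (blockM v B).det = B.det := by
  simp [blockM, Matrix.det_succ_row_zero, Fin.sum_univ_succ, Fin.succAbove]

theorem blockM_mul (v w : Fin 3 → ZMod 3) (A B : Matrix (Fin 3) (Fin 3) (ZMod 3)) :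
    blockM v A * blockM w B = blockM (fun j => w j + (v ᵥ* B) j) (A * B) := by
  ext i j
  fin_cases i <;> fin_cases j <;>
    simp [blockM, Matrix.mul_apply, Fin.sum_univ_four, Fin.sum_univ_three, Matrix.vecMul,
      dotProduct] <;> ring

/-- The element `(1 v; 0 B)`. -/
def bS (v : Fin 3 → ZMod 3) (B : Matrix (Fin 3) (Fin 3) (ZMod 3)) (h : B.det = 1) : S4 :=
  ⟨blockM v B, (det_blockM v B).trans h⟩

theorem bS_mem (v : Fin 3 → ZMod 3) (B : Matrix (Fin 3) (Fin 3) (ZMod 3)) (h : B.det = 1) :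
    bS v B h ∈ PS := by
  refine Or.inl ?_
  ext i
  fin_cases i <;> simp [bS, blockM, e0, Matrix.mulVec, dotProduct, Fin.sum_univ_four]

/-- An element of the point stabilizer. -/
def bP (v : Fin 3 → ZMod 3) (B : Matrix (Fin 3) (Fin 3) (ZMod 3)) (h : B.det = 1) : P :=
  ⟨mk (bS v B h), _, bS_mem v B h, rfl⟩

/-- The diagonal involution of degree three. -/
def d3 : Matrix (Fin 3) (Fin 3) (ZMod 3) := !![1, 0, 0; 0, -1, 0; 0, 0, -1]

theorem i0_block : i0S.1 = blockM 0 d3 := by decide +kernel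

/-- The involutions of degree three with the matrices carrying them to the diagonal one. -/
def invList : List (ℕ × ℕ) := [(900, 13942), (1170, 14428), (1440, 14185), (1638, 14680), (1935, 15166), (2151, 14923), (2432, 1308), (2444, 14430), (2456, 7869), (3090, 13945), (3188, 1309), (3562, 7627), (3831, 14686), (3944, 2050), (4252, 8368), (4862, 1803), (4877, 8364), (4883, 14925), (5280, 13948), (5476, 7873), (5645, 1069), (6015, 14683), (6226, 8608), (6347, 1804), (6725, 1548), (6734, 14670), (6743, 8109), (6968, 1791), (6977, 14913), (6986, 8352), (7211, 2034), (7220, 15156), (7229, 8595), (7454, 829), (7751, 1072), (7967, 1315), (8183, 1549), (8453, 1792), (8723, 2035), (8912, 831), (8927, 7392), (8933, 13953), (9641, 832), (9876, 14197), (10006, 7879), (10370, 1555), (10572, 14920), (10768, 8602), (11099, 1551), (11111, 14673), (11123, 8112), (11828, 835), (11974, 7639), (12282, 14443), (12557, 1552), (12688, 8356), (13026, 15160), (13152,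 3892), (13182, 3166), (13205, 975), (13208, 3162), (13211, 5349), (13232, 1708), (13259, 976), (13285, 4618), (13288, 4624), (13291, 4621), (13294, 4636), (13297, 4642), (13300, 4639), (13303, 4627), (13306, 4633), (13309, 4630), (13312, 6076), (13339, 5347), (13404, 3901), (13443, 3184), (13448, 993), (13463, 5367), (13469, 3180), (13475, 1717), (13502, 994), (13573, 6085), (13591, 5365), (13656, 3910), (13677, 3175), (13691, 984), (13703, 3171), (13715, 5358), (13718, 1726), (13745, 985), (13807, 6094), (13843, 5356), (14014, 7372), (14041, 7858), (14068, 7615), (14743, 8101), (14770, 8344), (14797, 8587), (15392, 1056), (15395, 14178), (15398, 7617), (16068, 14422), (16175, 1057), (16207, 7375), (16827, 15154), (16877, 1789), (16933, 8107), (17579, 2028), (17582, 15150), (17585, 8589), (18285, 14182), (18335, 1303), (18391, 7378), (18984, 14908), (19091, 2029), (19123, 8104)]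

/-- Matrices carrying the nonzero row vectors to the last one. -/
def vecList : List ℕ := [6618, 13152, 975, 7347, 13881, 1947, 8076, 14610, 1548, 10992, 15339, 1137, 11721, 16068, 2028, 12450, 16797, 828, 8805, 17526, 1056, 9534, 18255, 2109, 10263, 18984]

theorem invList_ok : ∀ p ∈ invList,
    (mOf p.2).det = 1 ∧ mOf p.2 * mOf p.1 = d3 * mOf p.2 := by decide +kernel

/-- The code of nine digits. -/
def code9 (a b c d e f g h i : ZMod 3) : ℕ :=
  a.val + 3 * (b.val + 3 * (c.val + 3 * (d.val + 3 * (e.val + 3 * (f.val + 3 * (g.val +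
    3 * (h.val + 3 * i.val)))))))

/-- The equations of an involution of determinant one. -/
def invB (a b c d e f g h i : ZMod 3) : Bool :=
  a * a + b * d + c * g == 1 && a * b + b * e + c * h == 0 && a * c + b * f + c * i == 0 &&
    d * a + e * d + f * g == 0 && d * b + e * e + f * h == 1 && d * c + e * f + f * i == 0 &&
    g * a + h * d + i * g == 0 && g * b + h * e + i * h == 0 && g * c + h * f + i * i == 1 &&
    a * e * i - a * f * h - b * d * i + b * f * g + c * d * h - c * e * g == 1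

/-- The code is listed. -/
def inList (n : ℕ) : Bool := Nat.beq n 6643 || (invList.any fun p => Nat.beq p.1 n)

theorem inv_three : ∀ p q r : ZMod 3 × ZMod 3 × ZMod 3,
    (!invB p.1 p.2.1 p.2.2 q.1 q.2.1 q.2.2 r.1 r.2.1 r.2.2 ||
      inList (code9 p.1 p.2.1 p.2.2 q.1 q.2.1 q.2.2 r.1 r.2.1 r.2.2)) = true := by
  decide +kernel

theorem code9_mOf (A : Matrix (Fin 3) (Fin 3) (ZMod 3)) :
    mOf (code9 (A 0 0) (A 0 1) (A 0 2) (A 1 0) (A 1 1) (A 1 2) (A 2 0) (A 2 1) (A 2 2)) = A := by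
  have h : ∀ x : ZMod 3, x.val < 3 := fun x => ZMod.val_lt x
  have := h (A 0 0); have := h (A 0 1); have := h (A 0 2); have := h (A 1 0); have := h (A 1 1)
  have := h (A 1 2); have := h (A 2 0); have := h (A 2 1); have := h (A 2 2)
  ext i j
  conv_rhs => rw [← ZMod.natCast_zmod_val (A i j)]
  show ((_ : ℕ) : ZMod 3) = _
  congr 1
  have hd : ∀ (r x : ℕ), r < 3 → (r + 3 * x) / 3 = x ∧ (r + 3 * x) % 3 = r := fun r x hr => by omega
  fin_cases i <;> fin_cases j <;>
    simp [code9, Nat.pow_succ, ← Nat.div_div_eq_div_mul, hd, *] <;> omega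

theorem exists_diag {A : Matrix (Fin 3) (Fin 3) (ZMod 3)} (h2 : A * A = 1) (hd : A.det = 1)
    (h1 : A ≠ 1) : ∃ B, B.det = 1 ∧ B * A = d3 * B := by
  have e : ∀ i j, (A * A) i j = (1 : Matrix (Fin 3) (Fin 3) (ZMod 3)) i j := fun i j => by rw [h2]
  rw [Matrix.det_fin_three] at hd
  simp only [Matrix.mul_apply, Fin.sum_univ_three] at e
  have hb : invB (A 0 0) (A 0 1) (A 0 2) (A 1 0) (A 1 1) (A 1 2) (A 2 0) (A 2 1) (A 2 2) = true := by
    simp only [invB, Bool.and_eq_true, beq_iff_eq, and_assoc]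
    exact ⟨e 0 0, e 0 1, e 0 2, e 1 0, e 1 1, e 1 2, e 2 0, e 2 1, e 2 2, by linear_combination hd⟩
  have hl := inv_three (A 0 0, A 0 1, A 0 2) (A 1 0, A 1 1, A 1 2) (A 2 0, A 2 1, A 2 2)
  simp only [hb, Bool.not_true, Bool.false_or, inList, Bool.or_eq_true, Nat.beq_eq,
    List.any_eq_true] at hl
  rcases hl with h | h
  · refine absurd ?_ h1
    rw [← code9_mOf A, h]; decide +kernel
  · obtain ⟨⟨c, b⟩, hm, hc⟩ := h
    obtain ⟨h3, h4⟩ := invList_ok _ hm
    refine ⟨mOf b, h3, ?_⟩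
    simp only at hc h4
    rwa [hc, code9_mOf A] at h4

theorem vec_check : ∀ a b c : ZMod 3, (a ≠ 0 ∨ b ≠ 0 ∨ c ≠ 0) →
    ∃ n ∈ vecList, (mOf n).det = 1 ∧ ![a, b, c] ᵥ* mOf n = ![0, 0, 1] := by decide +kernel

theorem mk_eq {x y : S4} (h : mk x = mk y) : ∃ r : ZMod 3, (r = 1 ∨ r = -1) ∧ y.1 = r • x.1 := by
  rw [mk, QuotientGroup.mk'_apply, QuotientGroup.mk'_apply, QuotientGroup.eq] at h
  obtain ⟨r, hr, e⟩ := Matrix.SpecialLinearGroup.mem_center_iff.1 h
  refine ⟨r, ?_, ?_⟩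
  · rw [Fintype.card_fin] at hr
    clear e
    revert r
    decide +kernel
  · calc y.1 = x.1 * (x⁻¹ * y).1 := by
          rw [← Matrix.SpecialLinearGroup.coe_mul, mul_inv_cancel_left]
      _ = r • x.1 := by rw [← e, Matrix.scalar_apply, ← Matrix.smul_one_eq_diagonal,
            Matrix.mul_smul, Matrix.mul_one]

theorem mk_neg {x y : S4} (h : y.1 = -x.1) : mk y = mk x := by
  rw [mk, QuotientGroup.mk'_apply, QuotientGroup.mk'_apply, QuotientGroup.eq]
  refine Matrix.SpecialLinearGroup.mem_center_iff.2 ⟨-1, ?_, ?_⟩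
  · rw [Fintype.card_fin]; decide
  · rw [Matrix.SpecialLinearGroup.coe_mul]
    have h1 : (y⁻¹).1 * y.1 = 1 := by
      rw [← Matrix.SpecialLinearGroup.coe_mul, inv_mul_cancel, Matrix.SpecialLinearGroup.coe_one]
    rw [h, Matrix.mul_neg] at h1
    rw [Matrix.scalar_apply, ← Matrix.smul_one_eq_diagonal, neg_one_smul, ← h1, neg_neg]

/-- The first-row transvections are conjugate to the long root element. -/
theorem row_conj (a b c : ZMod 3) (h : a ≠ 0 ∨ b ≠ 0 ∨ c ≠ 0) :
    IsConj zP (qP a b c 0 0) := by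
  obtain ⟨n, -, hd, hv⟩ := vec_check a b c h
  refine isConj_iff.2 ⟨bP 0 (mOf n) hd, ?_⟩
  rw [mul_inv_eq_iff_eq_mul]
  refine Subtype.ext ?_
  show mk (bS 0 (mOf n) hd) * mk (qS 0 0 1 0 0) = mk (qS a b c 0 0) * mk (bS 0 (mOf n) hd)
  rw [← map_mul, ← map_mul]
  refine congrArg mk (Subtype.ext ?_)
  have e : ∀ a b c : ZMod 3, qM a b c 0 0 = blockM ![a, b, c] 1 := fun a b c => by
    ext i j; fin_cases i <;> fin_cases j <;> rfl
  show blockM 0 (mOf n) * qM 0 0 1 0 0 = qM a b c 0 0 * blockM 0 (mOf n)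
  rw [e, e, blockM_mul, blockM_mul, one_mul, mul_one, hv]
  congr 1
  funext j
  simp [Matrix.vecMul_one]

/-- One class of involutions. -/
theorem invol_conj (p : P) (hp : orderOf p = 2) : IsConj i0P p := by
  obtain ⟨g₀, hg₀, hgp⟩ := p.2
  obtain ⟨g, hge, hgp⟩ : ∃ g : S4, g.1 *ᵥ e0 = e0 ∧ mk g = (p : L4) := by
    rcases hg₀ with h | h
    · exact ⟨g₀, h, hgp⟩
    · refine ⟨⟨-g₀.1, by rw [Matrix.det_neg, g₀.2]; decide⟩, ?_, ?_⟩
      · show (-g₀.1) *ᵥ e0 = e0
        rw [Matrix.neg_mulVec, h, neg_neg]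
      · rw [← hgp]; exact mk_neg rfl
  have hcol : ∀ i, g.1 i 0 = e0 i := fun i => by
    have := congrFun hge i
    simpa [Matrix.mulVec, dotProduct, Fin.sum_univ_four, e0] using this
  set v : Fin 3 → ZMod 3 := fun j => g.1 0 j.succ with hv
  set A : Matrix (Fin 3) (Fin 3) (ZMod 3) := Matrix.of fun i j => g.1 i.succ j.succ with hA
  have hg : g.1 = blockM v A := by
    ext i j
    fin_cases j
    · fin_cases i <;> exact hcol _
    all_goals fin_cases i <;> rfl
  have hAd : A.det = 1 := by rw [← det_blockM v A, ← hg]; exact g.2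
  have hsq : g.1 * g.1 = 1 := by
    have h : mk (g * g) = mk 1 := by
      rw [map_mul, map_one, hgp, ← Subgroup.coe_mul, ← pow_two, ← hp, pow_orderOf_eq_one]
      rfl
    obtain ⟨r, hr, e⟩ := mk_eq h.symm
    rw [Matrix.SpecialLinearGroup.coe_mul, Matrix.SpecialLinearGroup.coe_one] at e
    have h0 := congrArg (fun M : Matrix (Fin 4) (Fin 4) (ZMod 3) => M *ᵥ e0) e
    simp only [← Matrix.mulVec_mulVec, hge, Matrix.smul_mulVec, Matrix.one_mulVec] at h0
    have := congrFun h0 0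
    simp [e0] at this
    rw [e, ← this, one_smul]
  rw [hg, blockM_mul] at hsq
  have hA2 : A * A = 1 := by
    ext i j
    have := congrFun (congrFun hsq i.succ) j.succ
    fin_cases i <;> fin_cases j <;> simpa [blockM, Matrix.one_apply] using this
  have hvA : ∀ j, v j + (v ᵥ* A) j = 0 := fun j => by
    have := congrFun (congrFun hsq 0) j.succ
    fin_cases j <;> simpa [blockM, Matrix.one_apply] using this
  have three : ∀ x : ZMod 3, x + x = 0 → x = 0 := by decide
  have hA1 : A ≠ 1 := fun e => by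
    have hv0 : v = 0 := funext fun j => three _ (by have := hvA j; rwa [e, Matrix.vecMul_one] at this)
    have hg1 : g = 1 := Subtype.ext (by
      rw [hg, hv0, e, Matrix.SpecialLinearGroup.coe_one]; decide +kernel)
    have : p = 1 := Subtype.ext (by rw [← hgp, hg1, map_one]; rfl)
    rw [this, orderOf_one] at hp
    norm_num at hp
  obtain ⟨B, hB, hBA⟩ := exists_diag hA2 hAd hA1
  have h1 : (1 : Matrix (Fin 3) (Fin 3) (ZMod 3)).det = 1 := Matrix.det_one
  refine (isConj_iff.2 ⟨bP 0 B hB * bP (-v) 1 h1, ?_⟩ : IsConj p i0P).symm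
  rw [mul_inv_eq_iff_eq_mul]
  refine Subtype.ext ?_
  show mk (bS 0 B hB) * mk (bS (-v) 1 h1) * (p : L4) =
    mk i0S * (mk (bS 0 B hB) * mk (bS (-v) 1 h1))
  rw [← hgp, ← map_mul, ← map_mul, ← map_mul]
  refine congrArg mk (Subtype.ext ?_)
  show blockM 0 B * blockM (-v) 1 * g.1 = i0S.1 * (blockM 0 B * blockM (-v) 1)
  rw [hg, i0_block, blockM_mul, blockM_mul, blockM_mul]
  simp only [Matrix.zero_vecMul, Matrix.vecMul_one, Pi.zero_apply, add_zero, mul_one]
  rw [hBA]
  congr 1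
  funext j
  have := hvA j
  have key : ∀ x y : ZMod 3, x + y = 0 → x + -y = -x := by decide
  show v j + ((-v) ᵥ* A) j = -v j
  rw [Matrix.neg_vecMul, Pi.neg_apply]
  exact key _ _ this

/-- The swap of the two middle coordinates. -/
def wS : S4 := ⟨!![1, 0, 0, 0; 0, 0, 1, 0; 0, -1, 0, 0; 0, 0, 0, 1], by decide +kernel⟩

theorem t0_conj : IsConj (qP 0 0 0 1 0) (qP 0 0 0 0 1) ∨ IsConj (qP 0 0 0 1 0) (qP 0 0 0 0 2) := by
  have hw : mk wS ∈ P := ⟨wS, Or.inl (by decide +kernel), rfl⟩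
  have key : wS.1 * qM 0 0 0 1 0 = qM 0 0 0 0 1 * wS.1 ∨ wS.1 * qM 0 0 0 1 0 = qM 0 0 0 0 2 * wS.1 := by
    decide +kernel
  rcases key with h | h
  · left
    refine isConj_iff.2 ⟨⟨mk wS, hw⟩, mul_inv_eq_iff_eq_mul.2 (Subtype.ext ?_)⟩
    show mk wS * mk (qS 0 0 0 1 0) = mk (qS 0 0 0 0 1) * mk wS
    rw [← map_mul, ← map_mul]
    exact congrArg mk (Subtype.ext h)
  · right
    refine isConj_iff.2 ⟨⟨mk wS, hw⟩, mul_inv_eq_iff_eq_mul.2 (Subtype.ext ?_)⟩
    show mk wS * mk (qS 0 0 0 1 0) = mk (qS 0 0 0 0 2) * mk wS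
    rw [← map_mul, ← map_mul]
    exact congrArg mk (Subtype.ext h)

theorem q_mul (a e a' e' : ZMod 3) :
    qP a 0 0 0 e * qP a' 0 0 0 e' = qP (a + a') 0 0 0 (e + e') := by
  refine Subtype.ext ?_
  show mk (qS a 0 0 0 e) * mk (qS a' 0 0 0 e') = mk (qS (a + a') 0 0 0 (e + e'))
  rw [← map_mul]
  refine congrArg mk (Subtype.ext ?_)
  revert a e a' e'
  decide +kernel

theorem qS_zero : qP 0 0 0 0 0 = 1 := by
  refine Subtype.ext ?_
  show mk (qS 0 0 0 0 0) = 1
  rw [show qS 0 0 0 0 0 = 1 from Subtype.ext (by decide +kernel), map_one]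

theorem q_inv (a e : ZMod 3) : (qP a 0 0 0 e)⁻¹ = qP (-a) 0 0 0 (-e) :=
  inv_eq_of_mul_eq_one_right (by rw [q_mul, add_neg_cancel, add_neg_cancel, qS_zero])

theorem q_inj {a b c d e a' b' c' d' e' : ZMod 3} (h : qP a b c d e = qP a' b' c' d' e') :
    a = a' ∧ b = b' ∧ c = c' ∧ d = d' ∧ e = e' := by
  obtain ⟨r, -, hr⟩ := mk_eq (congrArg Subtype.val h : mk (qS a b c d e) = mk (qS a' b' c' d' e'))
  have e00 := congrFun (congrFun hr 0) 0
  simp [qS, qM] at e00
  subst e00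
  rw [one_smul] at hr
  refine ⟨?_, ?_, ?_, ?_, ?_⟩
  · simpa [qS, qM] using (congrFun (congrFun hr 0) 1).symm
  · simpa [qS, qM] using (congrFun (congrFun hr 0) 2).symm
  · simpa [qS, qM] using (congrFun (congrFun hr 0) 3).symm
  · simpa [qS, qM] using (congrFun (congrFun hr 1) 3).symm
  · simpa [qS, qM] using (congrFun (congrFun hr 2) 3).symm

/-- `⟨x₁₂, x₃₄⟩` -/
def EP : Subgroup P where
  carrier := {p | ∃ a e : ZMod 3, p = qP a 0 0 0 e}
  one_mem' := ⟨0, 0, qS_zero.symm⟩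
  mul_mem' := by
    rintro _ _ ⟨a, e, rfl⟩ ⟨a', e', rfl⟩
    exact ⟨a + a', e + e', q_mul a e a' e'⟩
  inv_mem' := by
    rintro _ ⟨a, e, rfl⟩
    exact ⟨-a, -e, q_inv a e⟩

theorem card_EP : Nat.card EP = 9 := by
  let f : ZMod 3 × ZMod 3 → EP := fun p => ⟨_, p.1, p.2, rfl⟩
  rw [← Nat.card_eq_of_bijective f ⟨?_, ?_⟩, Nat.card_eq_fintype_card]
  · rfl
  · intro p q h
    obtain ⟨h1, -, -, -, h5⟩ := q_inj (congrArg Subtype.val h)
    exact Prod.ext h1 h5
  · rintro ⟨g, a, e, rfl⟩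
    exact ⟨(a, e), rfl⟩

theorem EP_comm_i0 (a e : ZMod 3) : i0P * qP a 0 0 0 e = qP a 0 0 0 e * i0P := by
  refine Subtype.ext ?_
  show mk i0S * mk (qS a 0 0 0 e) = mk (qS a 0 0 0 e) * mk i0S
  rw [← map_mul, ← map_mul]
  refine congrArg mk (Subtype.ext ?_)
  revert a e
  decide +kernel

/-- The normalizer of `⟨x₁₂, x₃₄⟩` in the centralizer of `i₀`, as matrices. -/
def mE (s a t b c d : ZMod 3) : Matrix (Fin 4) (Fin 4) (ZMod 3) :=
  !![s, a, 0, 0; 0, t, 0, 0; 0, 0, b, c; 0, 0, 0, d]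

theorem mE_facts : ∀ s a t b c d : ZMod 3, s * t * b * d = 1 →
    (mE s a t b c d * mE s a t b c d = qM (a * (s + t)) 0 0 0 (c * (b + d)) ∧
      (s * t = 1 ∨ s * t = -1) ∧
      mE s a t b c d * qM 1 0 0 0 0 = qM (s * t) 0 0 0 0 * mE s a t b c d ∧
      mE s a t b c d * qM 0 0 0 0 1 = qM 0 0 0 0 (s * t) * mE s a t b c d) := by
  decide +kernel

theorem norm_form (p : P) (hi : p * i0P = i0P * p)
    (hn : p * qP 0 0 0 0 1 * p⁻¹ ∈ EP) :
    ∃ k : ZMod 3, (k = 1 ∨ k = -1) ∧ p * p ∈ EP ∧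
      ∀ u w : ZMod 3, p * qP u 0 0 0 w * p⁻¹ = qP (k * u) 0 0 0 (k * w) := by
  obtain ⟨g, hgP, hgp⟩ := p.2
  obtain ⟨a', e', hn⟩ := hn
  have h10 : g.1 1 0 = 0 ∧ g.1 2 0 = 0 ∧ g.1 3 0 = 0 ∧ g.1 0 0 ≠ 0 := by
    rcases hgP with h | h <;>
    · have h0 := congrFun h 0
      have h1 := congrFun h 1
      have h2 := congrFun h 2
      have h3 := congrFun h 3
      simp [Matrix.mulVec, dotProduct, Fin.sum_univ_four, e0] at h0 h1 h2 h3
      exact ⟨h1, h2, h3, by rw [h0]; decide⟩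
  obtain ⟨g10, g20, g30, g00⟩ := h10
  have hgi : g.1 * i0S.1 = i0S.1 * g.1 := by
    have h : mk (i0S * g) = mk (g * i0S) := by
      rw [map_mul, map_mul, hgp]
      exact congrArg Subtype.val hi.symm
    obtain ⟨r, hr, e⟩ := mk_eq h
    rw [Matrix.SpecialLinearGroup.coe_mul, Matrix.SpecialLinearGroup.coe_mul] at e
    rcases hr with rfl | rfl
    · simpa using e
    · refine absurd ?_ g00
      have h0 := congrFun (congrFun e 0) 0
      simp [i0S, Matrix.mul_diagonal, Matrix.diagonal_mul] at h0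
      revert h0
      generalize g.1 0 0 = x
      revert x
      decide +kernel
  have hz : ∀ i j, (![1, 1, -1, -1] : Fin 4 → ZMod 3) i ≠ ![1, 1, -1, -1] j → g.1 i j = 0 := by
    intro i j hij
    have h0 := congrFun (congrFun hgi i) j
    simp [i0S, Matrix.mul_diagonal, Matrix.diagonal_mul] at h0
    revert h0 hij
    generalize g.1 i j = x
    generalize (![1, 1, -1, -1] : Fin 4 → ZMod 3) i = u
    generalize (![1, 1, -1, -1] : Fin 4 → ZMod 3) j = w
    revert x u w
    decide +kernel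
  have g02 := hz 0 2 (by decide); have g03 := hz 0 3 (by decide)
  have g12 := hz 1 2 (by decide); have g13 := hz 1 3 (by decide)
  have g21 := hz 2 1 (by decide); have g31 := hz 3 1 (by decide)
  have g32 : g.1 3 2 = 0 := by
    have h : mk (qS a' 0 0 0 e' * g) = mk (g * qS 0 0 0 0 1) := by
      rw [map_mul, map_mul, hgp]
      exact (congrArg Subtype.val (mul_inv_eq_iff_eq_mul.1 hn)).symm
    obtain ⟨r, hr, e⟩ := mk_eq h
    rw [Matrix.SpecialLinearGroup.coe_mul, Matrix.SpecialLinearGroup.coe_mul] at e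
    have h2 := congrFun (congrFun e 3) 2
    have h3 := congrFun (congrFun e 3) 3
    simp [qS, qM, Matrix.mul_apply, Matrix.vecMul, dotProduct, Fin.sum_univ_four] at h2 h3
    clear e
    revert h2 h3 hr
    generalize g.1 3 2 = x
    generalize g.1 3 3 = y
    revert x y r
    decide +kernel
  have hg : g.1 = mE (g.1 0 0) (g.1 0 1) (g.1 1 1) (g.1 2 2) (g.1 2 3) (g.1 3 3) := by
    ext i j
    fin_cases i <;> fin_cases j <;>
      simp [mE, g10, g20, g30, g02, g03, g12, g13, g21, g31, g32]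
  have hdet : g.1 0 0 * g.1 1 1 * g.1 2 2 * g.1 3 3 = 1 := by
    have h := g.2
    rw [hg, Matrix.det_of_isUpperTriangular] at h
    · simpa [mE, Fin.prod_univ_four] using h
    · intro i j h
      fin_cases i <;> fin_cases j <;> first | rfl | exact absurd h (by decide)
  obtain ⟨f1, f2, f3, f4⟩ := mE_facts _ (g.1 0 1) _ _ (g.1 2 3) _ hdet
  rw [← hg] at f1 f3 f4
  refine ⟨_, f2, ⟨g.1 0 1 * (g.1 0 0 + g.1 1 1), g.1 2 3 * (g.1 2 2 + g.1 3 3), Subtype.ext ?_⟩,
    fun u w => ?_⟩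
  · show (p : L4) * (p : L4) = mk (qS _ 0 0 0 _)
    rw [← hgp, ← map_mul]
    exact congrArg mk (Subtype.ext f1)
  · have c1 : p * qP 1 0 0 0 0 * p⁻¹ = qP (g.1 0 0 * g.1 1 1) 0 0 0 0 := by
      refine mul_inv_eq_iff_eq_mul.2 (Subtype.ext ?_)
      show (p : L4) * mk (qS 1 0 0 0 0) = mk (qS _ 0 0 0 0) * (p : L4)
      rw [← hgp, ← map_mul, ← map_mul]
      exact congrArg mk (Subtype.ext f3)
    have c2 : p * qP 0 0 0 0 1 * p⁻¹ = qP 0 0 0 0 (g.1 0 0 * g.1 1 1) := by
      refine mul_inv_eq_iff_eq_mul.2 (Subtype.ext ?_)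
      show (p : L4) * mk (qS 0 0 0 0 1) = mk (qS 0 0 0 0 _) * (p : L4)
      rw [← hgp, ← map_mul, ← map_mul]
      exact congrArg mk (Subtype.ext f4)
    have hpow : ∀ (n : ℕ) (x y : ZMod 3), qP x 0 0 0 y ^ n = qP (n * x) 0 0 0 (n * y) := by
      intro n x y
      induction n with
      | zero => rw [pow_zero, Nat.cast_zero, zero_mul, zero_mul, qS_zero]
      | succ n ih => rw [pow_succ, ih, q_mul, Nat.cast_succ, add_mul, add_mul, one_mul, one_mul]
    have hu : qP u 0 0 0 w = qP 1 0 0 0 0 ^ u.val * qP 0 0 0 0 1 ^ w.val := by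
      rw [hpow, hpow, q_mul, ZMod.natCast_zmod_val, ZMod.natCast_zmod_val]
      simp
    rw [hu, show p * (qP 1 0 0 0 0 ^ u.val * qP 0 0 0 0 1 ^ w.val) * p⁻¹ =
      p * qP 1 0 0 0 0 ^ u.val * p⁻¹ * (p * qP 0 0 0 0 1 ^ w.val * p⁻¹) by group, ← conj_pow,
      ← conj_pow, c1, c2, hpow, hpow, q_mul, ZMod.natCast_zmod_val, ZMod.natCast_zmod_val]
    congr 1 <;> ring

/-- `diag (1, -1, 1, -1)` -/
def dS : S4 := ⟨Matrix.diagonal ![1, -1, 1, -1], by rw [Matrix.det_diagonal]; decide +kernel⟩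

/-- `diag (1, -1, 1, -1)` in the point stabilizer. -/
def dP : P := ⟨mk dS, dS, Or.inl (by decide +kernel), rfl⟩

theorem dP_facts : dP * i0P = i0P * dP ∧ dP * dP = 1 ∧
    ∀ u w : ZMod 3, dP * qP u 0 0 0 w * dP⁻¹ = qP (-u) 0 0 0 (-w) := by
  refine ⟨Subtype.ext ?_, Subtype.ext ?_, fun u w => mul_inv_eq_iff_eq_mul.2 (Subtype.ext ?_)⟩
  · show mk dS * mk i0S = mk i0S * mk dS
    rw [← map_mul, ← map_mul]
    exact congrArg mk (Subtype.ext (by decide +kernel))
  · show mk dS * mk dS = 1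
    rw [← map_mul, show dS * dS = 1 from Subtype.ext (by decide +kernel), map_one]
  · show mk dS * mk (qS u 0 0 0 w) = mk (qS (-u) 0 0 0 (-w)) * mk dS
    rw [← map_mul, ← map_mul]
    refine congrArg mk (Subtype.ext ?_)
    revert u w
    decide +kernel

theorem i0P_order : orderOf i0P = 2 := by
  refine orderOf_eq_prime ?_ fun h => ?_
  · refine Subtype.ext ?_
    rw [Subgroup.coe_pow, pow_two]
    show mk i0S * mk i0S = 1
    rw [← map_mul, show i0S * i0S = 1 from Subtype.ext (by decide +kernel), map_one]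
  · have h' : mk i0S = mk 1 := by rw [map_one]; exact congrArg Subtype.val h
    obtain ⟨r, hr, e⟩ := mk_eq h'
    rcases hr with rfl | rfl <;> revert e <;> decide +kernel

/-- The unitriangular matrix. -/
def uM (a b c f d e : ZMod 3) : Matrix (Fin 4) (Fin 4) (ZMod 3) :=
  !![1, a, b, c; 0, 1, f, d; 0, 0, 1, e; 0, 0, 0, 1]

/-- The unitriangular element. -/
def uS (a b c f d e : ZMod 3) : S4 := ⟨uM a b c f d e, by
  rw [Matrix.det_of_isUpperTriangular]
  · simp [uM, Fin.prod_univ_four]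
  · intro i j h
    fin_cases i <;> fin_cases j <;> first | rfl | exact absurd h (by decide)⟩

/-- The unitriangular element in the point stabilizer. -/
def uP (a b c f d e : ZMod 3) : P := ⟨mk (uS a b c f d e), uS a b c f d e, Or.inl (by
  ext i; fin_cases i <;> simp [uS, uM, e0, Matrix.mulVec, dotProduct, Fin.sum_univ_four]), rfl⟩

theorem u_mul (a b c f d e a' b' c' f' d' e' : ZMod 3) :
    uP a b c f d e * uP a' b' c' f' d' e' = uP (a + a') (b' + a * f' + b) (c' + a * d' + b * e' + c)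
      (f + f') (d' + f * e' + d) (e + e') := by
  refine Subtype.ext ?_
  show mk (uS a b c f d e) * mk (uS a' b' c' f' d' e') = mk (uS _ _ _ _ _ _)
  rw [← map_mul]
  refine congrArg mk (Subtype.ext ?_)
  show uM a b c f d e * uM a' b' c' f' d' e' = uM _ _ _ _ _ _
  ext i j
  fin_cases i <;> fin_cases j <;> simp [uM, Matrix.mul_apply, Fin.sum_univ_four] <;> ring

theorem u_zero : uP 0 0 0 0 0 0 = 1 := by
  refine Subtype.ext ?_
  show mk (uS 0 0 0 0 0 0) = 1
  rw [show uS 0 0 0 0 0 0 = 1 from Subtype.ext (by decide +kernel), map_one]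

/-- The Sylow three-subgroup. -/
def UP : Subgroup P where
  carrier := {p | ∃ a b c f d e : ZMod 3, p = uP a b c f d e}
  one_mem' := ⟨0, 0, 0, 0, 0, 0, u_zero.symm⟩
  mul_mem' := by
    rintro _ _ ⟨a, b, c, f, d, e, rfl⟩ ⟨a', b', c', f', d', e', rfl⟩
    exact ⟨_, _, _, _, _, _, u_mul a b c f d e a' b' c' f' d' e'⟩
  inv_mem' := by
    rintro _ ⟨a, b, c, f, d, e, rfl⟩
    refine ⟨-a, a * f - b, a * d + b * e - a * f * e - c, -f, f * e - d, -e,
      inv_eq_of_mul_eq_one_right ?_⟩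
    rw [u_mul, ← u_zero]
    congr 1 <;> ring

theorem u_inj {a b c f d e a' b' c' f' d' e' : ZMod 3}
    (h : uP a b c f d e = uP a' b' c' f' d' e') :
    (a, b, c, f, d, e) = (a', b', c', f', d', e') := by
  obtain ⟨r, -, hr⟩ := mk_eq (congrArg Subtype.val h : mk (uS a b c f d e) = mk (uS a' b' c' f' d' e'))
  have e00 := congrFun (congrFun hr 0) 0
  simp [uS, uM] at e00
  subst e00
  rw [one_smul] at hr
  have h1 := congrFun (congrFun hr 0) 1
  have h2 := congrFun (congrFun hr 0) 2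
  have h3 := congrFun (congrFun hr 0) 3
  have h4 := congrFun (congrFun hr 1) 2
  have h5 := congrFun (congrFun hr 1) 3
  have h6 := congrFun (congrFun hr 2) 3
  simp [uS, uM] at h1 h2 h3 h4 h5 h6
  subst h1; subst h2; subst h3; subst h4; subst h5; subst h6
  rfl

theorem card_UP : Nat.card UP = 729 := by
  let f : ZMod 3 × ZMod 3 × ZMod 3 × ZMod 3 × ZMod 3 × ZMod 3 → UP :=
    fun p => ⟨_, p.1, p.2.1, p.2.2.1, p.2.2.2.1, p.2.2.2.2.1, p.2.2.2.2.2, rfl⟩
  rw [← Nat.card_eq_of_bijective f ⟨?_, ?_⟩, Nat.card_eq_fintype_card]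
  · simp [Fintype.card_prod, ZMod.card]
  · intro p q h
    exact u_inj (congrArg Subtype.val h)
  · rintro ⟨g, a, b, c, f, d, e, rfl⟩
    exact ⟨(a, b, c, f, d, e), rfl⟩

theorem u_row (a b c : ZMod 3) : uP a b c 0 0 0 = qP a b c 0 0 := by
  refine Subtype.ext ?_
  show mk (uS a b c 0 0 0) = mk (qS a b c 0 0)
  exact congrArg mk (Subtype.ext rfl)

end CfsgLib.L43Three.EndAux
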