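import Cfsg.Agent.Lib.L43Three.CentJ3
import Cfsg.Agent.Lib.L43Three.ModelThreeData
import Cfsg.Agent.Lib.Classical.Order

/-!
# The elements of order three of `PSL₄(3)` (piece ModelThree of S3373)

A lift of exponent three is conjugate into the unitriangular group, and there a table gives a conjugating
matrix to one of four representatives.  The classes are separated by the number of fixed vectors.
-/

set_option autoImplicit false
set_option maxRecDepth 100000

namespace CfsgLib.L43Three.ModelThree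

open Subgroup CfsgLib.L43Three CfsgLib.L43Three.CentJ3

local notation "M4" => Matrix (Fin 4) (Fin 4) (ZMod 3)

/-- A matrix from its digits. -/
def ofCode (k : ℕ) : M4 := Matrix.of fun i j => ((k / 3 ^ (4 * i.val + j.val) % 3 : ℕ) : ZMod 3)

/-- Product of matrices, unfolded. -/
def mul4 (A B : M4) : M4 :=
  Matrix.of fun i j => A i 0 * B 0 j + A i 1 * B 1 j + A i 2 * B 2 j + A i 3 * B 3 j

theorem mul4_eq (A B : M4) : mul4 A B = A * B := by
  ext i j
  simp [mul4, Matrix.mul_apply, Fin.sum_univ_four]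

/-- Determinant, unfolded. -/
def det4 (A : M4) : ZMod 3 :=
  A 0 0 * (A 1 1 * (A 2 2 * A 3 3 - A 2 3 * A 3 2) - A 1 2 * (A 2 1 * A 3 3 - A 2 3 * A 3 1)
    + A 1 3 * (A 2 1 * A 3 2 - A 2 2 * A 3 1))
  - A 0 1 * (A 1 0 * (A 2 2 * A 3 3 - A 2 3 * A 3 2) - A 1 2 * (A 2 0 * A 3 3 - A 2 3 * A 3 0)
    + A 1 3 * (A 2 0 * A 3 2 - A 2 2 * A 3 0))
  + A 0 2 * (A 1 0 * (A 2 1 * A 3 3 - A 2 3 * A 3 1) - A 1 1 * (A 2 0 * A 3 3 - A 2 3 * A 3 0)
    + A 1 3 * (A 2 0 * A 3 1 - A 2 1 * A 3 0))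
  - A 0 3 * (A 1 0 * (A 2 1 * A 3 2 - A 2 2 * A 3 1) - A 1 1 * (A 2 0 * A 3 2 - A 2 2 * A 3 0)
    + A 1 2 * (A 2 0 * A 3 1 - A 2 1 * A 3 0))

theorem det4_eq (A : M4) : det4 A = A.det := by
  simp [det4, Matrix.det_succ_row_zero, Fin.sum_univ_succ, Fin.succAbove]
  ring

/-- A unitriangular matrix. -/
def triM (a b c d e f : ZMod 3) : M4 := !![1, a, b, c; 0, 1, d, e; 0, 0, 1, f; 0, 0, 0, 1]

/-- The unitriangular matrix of a number. -/
def uM (n : ℕ) : M4 :=
  triM ((n / 243 % 3 : ℕ) : ZMod 3) ((n / 81 % 3 : ℕ) : ZMod 3) ((n / 27 % 3 : ℕ) : ZMod 3)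
    ((n / 9 % 3 : ℕ) : ZMod 3) ((n / 3 % 3 : ℕ) : ZMod 3) ((n % 3 : ℕ) : ZMod 3)

theorem uM_surj : ∀ a b c d e f : ZMod 3,
    uM (a.val * 243 + b.val * 81 + c.val * 27 + d.val * 9 + e.val * 3 + f.val) = triM a b c d e f := by
  decide +kernel

/-- The representatives. -/
def repS (r : ℕ) : S4 :=
  if r = 1 then qS 0 0 1 0 0 else if r = 2 then qS 1 0 0 0 1 else if r = 3 then qS 1 0 0 0 2
  else if r = 4 then qS 1 0 0 1 0 else 1

/-- One line of the table. -/
def ok (n k : ℕ) : Bool :=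
  decide (mul4 (mul4 (uM n) (uM n)) (uM n) 0 3 = 0 →
    det4 (ofCode k) = 1 ∧ mul4 (repS (k / 3 ^ 16)).1 (ofCode k) = mul4 (ofCode k) (uM n))

/-- One part of the table. -/
def okList (i : ℕ) (l : List ℕ) : Bool :=
  decide (l.length = 81) && l.zipIdx.all (fun p => ok (81 * i + p.2) p.1)

theorem ok0 : okList 0 tbl0 = true := by decide +kernel
theorem ok1 : okList 1 tbl1 = true := by decide +kernel
theorem ok2 : okList 2 tbl2 = true := by decide +kernel
theorem ok3 : okList 3 tbl3 = true := by decide +kernel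
theorem ok4 : okList 4 tbl4 = true := by decide +kernel
theorem ok5 : okList 5 tbl5 = true := by decide +kernel
theorem ok6 : okList 6 tbl6 = true := by decide +kernel
theorem ok7 : okList 7 tbl7 = true := by decide +kernel
theorem ok8 : okList 8 tbl8 = true := by decide +kernel

theorem exists_ok {i j : ℕ} {l : List ℕ} (h : okList i l = true) (hj : j < 81) : ∃ k, ok (81 * i + j) k = true := by
  rw [okList, Bool.and_eq_true, decide_eq_true_iff, List.all_eq_true] at h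
  obtain ⟨hl, hall⟩ := h
  refine ⟨l[j]'(by omega), hall (_, j) ?_⟩
  rw [List.mk_mem_zipIdx_iff_getElem?]
  exact List.getElem?_eq_getElem _

theorem exists_code {n : ℕ} (hn : n < 729) : ∃ k, ok n k = true := by
  have hj : n % 81 < 81 := Nat.mod_lt _ (by norm_num)
  have hi : n / 81 < 9 := by omega
  rw [← Nat.div_add_mod n 81]
  interval_cases (n / 81)
  exacts [exists_ok ok0 hj, exists_ok ok1 hj, exists_ok ok2 hj, exists_ok ok3 hj, exists_ok ok4 hj,
    exists_ok ok5 hj, exists_ok ok6 hj, exists_ok ok7 hj, exists_ok ok8 hj]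

theorem triM_mul (a b c d e f a' b' c' d' e' f' : ZMod 3) :
    triM a b c d e f * triM a' b' c' d' e' f' =
      triM (a + a') (b' + a * d' + b) (c' + a * e' + b * f' + c) (d + d') (e' + d * f' + e) (f + f') := by
  ext i j
  fin_cases i <;> fin_cases j <;> simp [triM, Matrix.mul_apply, Fin.sum_univ_four] <;> ring

theorem det_triM (a b c d e f : ZMod 3) : (triM a b c d e f).det = 1 := by
  rw [← det4_eq]
  simp [det4, triM]

/-- The unitriangular elements as a submonoid. -/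
def uMon : Submonoid S4 where
  carrier := {g | ∃ a b c d e f, g.1 = triM a b c d e f}
  one_mem' := ⟨0, 0, 0, 0, 0, 0, by decide +kernel⟩
  mul_mem' := by
    rintro g h ⟨a, b, c, d, e, f, hg⟩ ⟨a', b', c', d', e', f', hh⟩
    exact ⟨_, _, _, _, _, _, by rw [Matrix.SpecialLinearGroup.coe_mul, hg, hh, triM_mul]⟩

/-- The unitriangular group. -/
noncomputable def uGrp : Subgroup S4 where
  toSubmonoid := uMon
  inv_mem' {g} hg := by
    have h : g⁻¹ = g ^ (orderOf g - 1) := inv_eq_of_mul_eq_one_right (by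
      rw [← pow_succ', Nat.sub_add_cancel (orderOf_pos g), pow_orderOf_eq_one])
    rw [h]
    exact Submonoid.pow_mem uMon hg _

theorem card_uGrp : Nat.card uGrp = 729 := by
  let φ : ZMod 3 × ZMod 3 × ZMod 3 × ZMod 3 × ZMod 3 × ZMod 3 → uGrp := fun v =>
    ⟨⟨triM v.1 v.2.1 v.2.2.1 v.2.2.2.1 v.2.2.2.2.1 v.2.2.2.2.2, det_triM _ _ _ _ _ _⟩,
      v.1, v.2.1, v.2.2.1, v.2.2.2.1, v.2.2.2.2.1, v.2.2.2.2.2, rfl⟩
  have hφ : Function.Bijective φ := by
    refine ⟨fun v w h => ?_, fun ⟨g, a, b, c, d, e, f, hg⟩ => ⟨(a, b, c, d, e, f), Subtype.ext (Subtype.ext hg.symm)⟩⟩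
    obtain ⟨a, b, c, d, e, f⟩ := v
    obtain ⟨a', b', c', d', e', f'⟩ := w
    have h' := fun i j => congrFun (congrFun (congrArg (fun x : uGrp => (x : S4).1) h) i) j
    have := h' 0 1; have := h' 0 2; have := h' 0 3; have := h' 1 2; have := h' 1 3; have := h' 2 3
    simp [φ, triM] at *
    simp [*]
  rw [← Nat.card_congr (Equiv.ofBijective φ hφ)]
  simp [Nat.card_prod]

/-- An element of exponent three is conjugate into the unitriangular group. -/
theorem exists_conj {g : S4} (hg : g ^ 3 = 1) : ∃ h : S4, h * g * h⁻¹ ∈ uGrp := by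
  haveI : Fact (Nat.Prime 3) := ⟨Nat.prime_three⟩
  have hU : IsPGroup 3 uGrp := IsPGroup.of_card (n := 6) (by rw [card_uGrp]; norm_num)
  have hidx : ¬ 3 ∣ uGrp.index := by
    have h1 := Subgroup.card_mul_index uGrp
    rw [card_uGrp, CfsgLib.Classical.card_SL_fin', Nat.card_zmod] at h1
    simp [Finset.prod_range_succ] at h1
    omega
  obtain ⟨Q, hQ⟩ := (show IsPGroup 3 (zpowers g) from fun ⟨x, hx⟩ => ⟨1, Subtype.ext (by
    obtain ⟨k, rfl⟩ := hx
    show (g ^ k) ^ (3 ^ 1) = 1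
    rw [pow_one, ← zpow_natCast, ← zpow_mul, mul_comm, zpow_mul, zpow_natCast, hg, one_zpow])⟩).exists_le_sylow
  obtain ⟨h, hh⟩ := MulAction.exists_smul_eq S4 Q (hU.toSylow hidx)
  refine ⟨h, ?_⟩
  have h1 : h * g * h⁻¹ ∈ (h • Q : Sylow 3 S4) := by
    rw [← SetLike.mem_coe]
    exact Set.smul_mem_smul_set (a := MulAut.conj h) (hQ (mem_zpowers g))
  rw [hh] at h1
  exact h1

/-- The number of fixed vectors. -/
def fixCard (A : M4) : ℕ :=
  (Finset.univ.filter fun v : Fin 4 → ZMod 3 => Matrix.mulVec A v = v).card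

theorem fixCard_conj {A B : M4} {K : S4} (h : A * K.1 = K.1 * B) : fixCard B = fixCard A := by
  refine Finset.card_bij' (fun v _ => Matrix.mulVec K.1 v) (fun v _ => Matrix.mulVec (K⁻¹).1 v) ?_ ?_ ?_ ?_
  · intro v hv
    simp only [Finset.mem_filter, Finset.mem_univ, true_and] at hv ⊢
    rw [Matrix.mulVec_mulVec, h, ← Matrix.mulVec_mulVec, hv]
  · intro v hv
    simp only [Finset.mem_filter, Finset.mem_univ, true_and] at hv ⊢
    have hB : B * (K⁻¹).1 = (K⁻¹).1 * A := by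
      have e : (K⁻¹).1 * K.1 = 1 := by rw [← Matrix.SpecialLinearGroup.coe_mul, inv_mul_cancel]; rfl
      have e' : K.1 * (K⁻¹).1 = 1 := by rw [← Matrix.SpecialLinearGroup.coe_mul, mul_inv_cancel]; rfl
      calc B * (K⁻¹).1 = (K⁻¹).1 * (K.1 * B) * (K⁻¹).1 := by rw [← mul_assoc (K⁻¹).1, e, one_mul]
        _ = (K⁻¹).1 * A * (K.1 * (K⁻¹).1) := by rw [← h]; simp only [mul_assoc]
        _ = (K⁻¹).1 * A := by rw [e', mul_one]
    rw [Matrix.mulVec_mulVec, hB, ← Matrix.mulVec_mulVec, hv]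
  · intro v _
    rw [Matrix.mulVec_mulVec, ← Matrix.SpecialLinearGroup.coe_mul, inv_mul_cancel,
      Matrix.SpecialLinearGroup.coe_one, Matrix.one_mulVec]
  · intro v _
    rw [Matrix.mulVec_mulVec, ← Matrix.SpecialLinearGroup.coe_mul, mul_inv_cancel,
      Matrix.SpecialLinearGroup.coe_one, Matrix.one_mulVec]

theorem not_isConj_of_fixCard {x y : S4} (h1 : fixCard y.1 ≠ fixCard x.1) (h2 : fixCard (-y.1) ≠ fixCard x.1) :
    ¬ IsConj (mk x) (mk y) := fun h => by
  obtain ⟨c, hc⟩ := isConj_iff.1 h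
  obtain ⟨K, rfl⟩ := QuotientGroup.mk'_surjective _ c
  change mk K * mk x * (mk K)⁻¹ = mk y at hc
  rw [← map_inv, ← map_mul, ← map_mul] at hc
  have key : x.1 * (K⁻¹).1 = (K⁻¹).1 * (K * x * K⁻¹).1 := by
    rw [← Matrix.SpecialLinearGroup.coe_mul, ← Matrix.SpecialLinearGroup.coe_mul]
    exact congrArg Subtype.val (show x * K⁻¹ = K⁻¹ * (K * x * K⁻¹) by rw [mul_assoc K, inv_mul_cancel_left])
  rcases mk_eq_iff.1 hc with e | e
  · exact h1 (fixCard_conj (K := K⁻¹) (by rw [e]; exact key))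
  · exact h2 (fixCard_conj (K := K⁻¹) (by rw [e, neg_neg]; exact key))

theorem not_wp : fixCard (qM 1 0 0 0 1) ≠ fixCard (qM 0 0 1 0 0) ∧
    fixCard (-qM 1 0 0 0 1) ≠ fixCard (qM 0 0 1 0 0) := by decide +kernel

theorem not_wm : fixCard (qM 1 0 0 0 2) ≠ fixCard (qM 0 0 1 0 0) ∧
    fixCard (-qM 1 0 0 0 2) ≠ fixCard (qM 0 0 1 0 0) := by decide +kernel

theorem not_j3 : fixCard (qM 1 0 0 1 0) ≠ fixCard (qM 0 0 1 0 0) ∧
    fixCard (-qM 1 0 0 1 0) ≠ fixCard (qM 0 0 1 0 0) := by decide +kernel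

/-- A lift of exponent three. -/
theorem exists_lift {x : L4} (hx : x ^ 3 = 1) : ∃ g : S4, mk g = x ∧ g ^ 3 = 1 := by
  obtain ⟨g, rfl⟩ := QuotientGroup.mk'_surjective _ x
  change mk g ^ 3 = 1 at hx
  rw [← map_pow, ← map_one mk] at hx
  rcases mk_eq_iff.1 hx with h | h
  · exact ⟨g, rfl, Subtype.ext h.symm⟩
  · refine ⟨⟨-g.1, by rw [Matrix.det_neg, g.2]; decide⟩, mk_eq_iff.2 (Or.inr (neg_neg g.1).symm), Subtype.ext ?_⟩
    show (-g.1) ^ 3 = (1 : M4)
    have h' : (1 : M4) = -(g.1 ^ 3) := by rw [← Matrix.SpecialLinearGroup.coe_pow]; exact h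
    rw [Odd.neg_pow (by decide), ← h']

theorem classes {x : L4} (hx : orderOf x = 3) :
    IsConj zL x ∨ IsConj wpL x ∨ IsConj wmL x ∨ IsConj j3L x := by
  obtain ⟨g, hgx, hg⟩ := exists_lift (hx ▸ pow_orderOf_eq_one x)
  obtain ⟨h, a, b, c, d, e, f, hu⟩ := exists_conj hg
  have hlt : ∀ s : ZMod 3, s.val < 3 := fun s => ZMod.val_lt s
  have := hlt a; have := hlt b; have := hlt c; have := hlt d; have := hlt e; have := hlt f
  obtain ⟨k, hk⟩ := exists_code
    (n := a.val * 243 + b.val * 81 + c.val * 27 + d.val * 9 + e.val * 3 + f.val) (by omega)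
  rw [ok, decide_eq_true_iff, uM_surj, ← hu] at hk
  have hcube : (h * g * h⁻¹) ^ 3 = 1 := by rw [conj_pow, hg, mul_one, mul_inv_cancel]
  have h03 : mul4 (mul4 (h * g * h⁻¹).1 (h * g * h⁻¹).1) (h * g * h⁻¹).1 0 3 = 0 := by
    rw [mul4_eq, mul4_eq, ← Matrix.SpecialLinearGroup.coe_mul, ← Matrix.SpecialLinearGroup.coe_mul, ← pow_three',
      hcube]
    rfl
  obtain ⟨hdet, hcomm⟩ := hk h03
  rw [det4_eq] at hdet
  rw [mul4_eq, mul4_eq] at hcomm
  have h1 : IsConj (mk (repS (k / 3 ^ 16))) x := by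
    refine (CentJ3.conj_of_comm (y := h * g * h⁻¹) (K := ⟨ofCode k, hdet⟩) (Subtype.ext hcomm)).trans
      (isConj_iff.2 ⟨(mk h)⁻¹, ?_⟩)
    rw [← hgx, map_mul, map_mul, map_inv]
    group
  by_cases r1 : k / 3 ^ 16 = 1
  · left; rw [repS, if_pos r1] at h1; exact h1
  by_cases r2 : k / 3 ^ 16 = 2
  · right; left; rw [repS, if_neg r1, if_pos r2] at h1; exact h1
  by_cases r3 : k / 3 ^ 16 = 3
  · right; right; left; rw [repS, if_neg r1, if_neg r2, if_pos r3] at h1; exact h1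
  by_cases r4 : k / 3 ^ 16 = 4
  · right; right; right; rw [repS, if_neg r1, if_neg r2, if_neg r3, if_pos r4] at h1; exact h1
  exfalso
  rw [repS, if_neg r1, if_neg r2, if_neg r3, if_neg r4, map_one] at h1
  have h2 : x = 1 := by simpa [isConj_one_right, eq_comm] using h1
  rw [h2, orderOf_one] at hx
  omega

end CfsgLib.L43Three.ModelThree

namespace CfsgLib.L43Three

open ModelThree in
/-- Piece ModelThree. -/
theorem modelThree : StmtModelThree :=
  ⟨fun _ hx => classes hx, not_isConj_of_fixCard (x := qS 0 0 1 0 0) (y := qS 1 0 0 0 1) not_wp.1 not_wp.2,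
    not_isConj_of_fixCard (x := qS 0 0 1 0 0) (y := qS 1 0 0 0 2) not_wm.1 not_wm.2,
    not_isConj_of_fixCard (x := qS 0 0 1 0 0) (y := qS 1 0 0 1 0) not_j3.1 not_j3.2⟩

end CfsgLib.L43Three
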