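import Cfsg.Agent.Lib.L43Three.Present
import Cfsg.Agent.Lib.Base.Cores
import Cfsg.Agent.Lib.Classical.PSLSimple

/-!
# The parabolic subgroup is a maximal subgroup `3^3:SL₃(3)` (S3373, seat 5)
-/

set_option autoImplicit false
set_option maxRecDepth 100000
set_option synthInstance.maxSize 512

namespace CfsgLib.L43Three

open Matrix

namespace ParModel

open Amalgam (gS gL vec appW word_mulVec mem_PS_of_mk gL_mem center_scalar coe_mulS mk_eq_one)

/-- The lower block, normalised by the sign at the first point. -/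
def blockM (M : Matrix (Fin 4) (Fin 4) (ZMod 3)) : Matrix (Fin 3) (Fin 3) (ZMod 3) :=
  M 0 0 • M.submatrix Fin.succ Fin.succ

theorem PS_col {S : S4} (h : S ∈ PS) :
    (∀ k : Fin 3, S.1 k.succ 0 = 0) ∧ (S.1 0 0 = 1 ∨ S.1 0 0 = -1) := by
  change S.1 *ᵥ e0 = e0 ∨ S.1 *ᵥ e0 = -e0 at h
  have e : ∀ i, (S.1 *ᵥ e0) i = S.1 i 0 := fun i => by
    simp [e0, mulVec, dotProduct, Fin.sum_univ_four]
  refine ⟨fun k => ?_, ?_⟩
  · rcases h with h | h <;> rw [← e, h] <;> fin_cases k <;> simp [e0]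
  · rcases h with h | h <;> rw [← e, h] <;> simp [e0]

theorem det_block {S : S4} (h : S ∈ PS) : (blockM S.1).det = 1 := by
  obtain ⟨hc, ha⟩ := PS_col h
  have hd : S.1 0 0 * (S.1.submatrix Fin.succ Fin.succ).det = 1 := by
    have h1 := Matrix.det_succ_column_zero S.1
    rw [S.2, Fin.sum_univ_succ, Finset.sum_eq_zero fun k _ => by rw [hc k]; ring] at h1
    simpa using h1.symm
  rw [blockM, Matrix.det_smul, Fintype.card_fin]
  have hsq : S.1 0 0 * S.1 0 0 = 1 := by rcases ha with h | h <;> rw [h] <;> decide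
  rw [pow_succ, pow_two, hsq, one_mul, hd]

theorem block_mul {S T : S4} (hS : S ∈ PS) (hT : T ∈ PS) :
    blockM (S.1 * T.1) = blockM S.1 * blockM T.1 := by
  obtain ⟨hc, -⟩ := PS_col hS
  obtain ⟨hc', -⟩ := PS_col hT
  have h00 : (S.1 * T.1) 0 0 = S.1 0 0 * T.1 0 0 := by
    rw [mul_apply, Fin.sum_univ_succ, Finset.sum_eq_zero fun k _ => by rw [hc' k, mul_zero], add_zero]
  have hsub : (S.1 * T.1).submatrix Fin.succ Fin.succ =
      S.1.submatrix Fin.succ Fin.succ * T.1.submatrix Fin.succ Fin.succ := by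
    ext i j
    simp only [submatrix_apply, mul_apply]
    rw [Fin.sum_univ_succ, hc i, zero_mul, zero_add]
  rw [blockM, blockM, blockM, h00, hsub, Matrix.smul_mul, Matrix.mul_smul, smul_smul]

/-- The projection onto the Levi part, on matrices. -/
def psi : PS →* S3 where
  toFun S := ⟨blockM S.1.1, det_block S.2⟩
  map_one' := Subtype.ext (by
    show blockM (1 : Matrix (Fin 4) (Fin 4) (ZMod 3)) = 1
    decide +kernel)
  map_mul' S T := Subtype.ext (block_mul S.2 T.2)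

/-- The restriction of the projection. -/
def toP : PS →* P := mk.subgroupMap PS

theorem toP_surjective : Function.Surjective toP := MonoidHom.subgroupMap_surjective mk PS

theorem ker_le : toP.ker ≤ psi.ker := by
  intro S hS
  obtain ⟨r, hr, e⟩ := center_scalar ((QuotientGroup.eq_one_iff _).1 (congrArg Subtype.val hS))
  refine Subtype.ext ?_
  show blockM S.1.1 = 1
  rw [e]
  have hd : ∀ r : ZMod 3, r * r = 1 → blockM (r • (1 : Matrix (Fin 4) (Fin 4) (ZMod 3))) = 1 := by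
    decide +kernel
  exact hd r hr

/-- The projection onto the Levi part. -/
noncomputable def pi : P →* S3 := toP.liftOfSurjective toP_surjective ⟨psi, ker_le⟩

theorem pi_toP (S : PS) : pi (toP S) = psi S :=
  MonoidHom.liftOfRightInverse_comp_apply _ _ _ ⟨psi, ker_le⟩ S

/-- The Levi part. -/
def liftM (A : Matrix (Fin 3) (Fin 3) (ZMod 3)) : Matrix (Fin 4) (Fin 4) (ZMod 3) :=
  Matrix.of (Fin.cons (Fin.cons 1 0) fun i => Fin.cons 0 (A i))

theorem pi_surjective : Function.Surjective pi := by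
  intro A
  have h0 : ∀ k : Fin 3, liftM A.1 k.succ 0 = 0 := fun k => by simp [liftM]
  have hsub : (liftM A.1).submatrix Fin.succ Fin.succ = A.1 := by
    ext i j; simp [liftM]
  have hdet : (liftM A.1).det = 1 := by
    rw [Matrix.det_succ_column_zero, Fin.sum_univ_succ,
      Finset.sum_eq_zero fun k _ => by rw [h0 k]; ring]
    have h1 : liftM A.1 0 0 = 1 := by simp [liftM]
    simp [h1, hsub, A.2]
  let S : S4 := ⟨liftM A.1, hdet⟩
  have hS : S ∈ PS := by
    left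
    show liftM A.1 *ᵥ e0 = e0
    ext i
    have e : (liftM A.1 *ᵥ e0) i = liftM A.1 i 0 := by
      simp [e0, mulVec, dotProduct, Fin.sum_univ_four]
    rw [e]
    refine Fin.cases ?_ (fun k => ?_) i
    · simp [liftM, e0]
    · rw [h0 k]; fin_cases k <;> rfl
  refine ⟨toP ⟨S, hS⟩, ?_⟩
  rw [pi_toP]
  refine Subtype.ext ?_
  show blockM (liftM A.1) = A.1
  rw [blockM, hsub]
  simp [liftM]

/-- An element of the radical. -/
def rowS (v : ZMod 3 × ZMod 3 × ZMod 3) : S4 := qS v.1 v.2.1 v.2.2 0 0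

theorem row_mem (v : ZMod 3 × ZMod 3 × ZMod 3) : rowS v ∈ PS := by
  left
  ext i
  fin_cases i <;> simp [rowS, qS, qM, e0, mulVec, dotProduct, Fin.sum_univ_four]

theorem card_ker : Nat.card pi.ker = 27 := by
  have hk : ∀ v, toP ⟨rowS v, row_mem v⟩ ∈ pi.ker := by
    intro v
    rw [MonoidHom.mem_ker, pi_toP]
    refine Subtype.ext ?_
    show blockM (qM v.1 v.2.1 v.2.2 0 0) = 1
    revert v; decide +kernel
  let f : ZMod 3 × ZMod 3 × ZMod 3 → pi.ker := fun v => ⟨_, hk v⟩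
  have hinj : Function.Injective f := by
    intro v w e
    have e1 : mk (rowS v) = mk (rowS w) := congrArg (fun x : pi.ker => ((x.1 : P) : L4)) e
    obtain ⟨r, hr, hr'⟩ := center_scalar (QuotientGroup.eq.1 e1)
    have e2 : (rowS w).1 = r • (rowS v).1 := by
      rw [show rowS w = rowS v * ((rowS v)⁻¹ * rowS w) by group, coe_mulS, hr', Matrix.mul_smul,
        Matrix.mul_one]
    have e0' := congrFun (congrFun e2 0) 0
    have hr1 : r = 1 := by simpa [rowS, qS, qM] using e0'.symm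
    subst hr1
    rw [one_smul] at e2
    have a := congrFun (congrFun e2 0) 1
    have b := congrFun (congrFun e2 0) 2
    have c := congrFun (congrFun e2 0) 3
    simp [rowS, qS, qM] at a b c
    exact Prod.ext a.symm (Prod.ext b.symm c.symm)
  have hsur : Function.Surjective f := by
    rintro ⟨x, hx⟩
    obtain ⟨⟨S, hS⟩, rfl⟩ := toP_surjective x
    rw [MonoidHom.mem_ker, pi_toP] at hx
    have hb : blockM S.1 = 1 := congrArg Subtype.val hx
    obtain ⟨hc, ha⟩ := PS_col hS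
    have hsq : S.1 0 0 * S.1 0 0 = 1 := by rcases ha with h | h <;> rw [h] <;> decide
    refine ⟨(S.1 0 0 * S.1 0 1, S.1 0 0 * S.1 0 2, S.1 0 0 * S.1 0 3), Subtype.ext (Subtype.ext ?_)⟩
    show mk (rowS _) = mk S
    refine inv_mul_eq_one.1 ?_
    rw [← map_inv, ← map_mul]
    refine mk_eq_one ?_
    have hS' : S.1 = S.1 0 0 • (rowS (S.1 0 0 * S.1 0 1, S.1 0 0 * S.1 0 2, S.1 0 0 * S.1 0 3)).1 := by
      have hb' : ∀ i j : Fin 3, S.1 i.succ j.succ = S.1 0 0 * (1 : Matrix (Fin 3) (Fin 3) (ZMod 3)) i j := by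
        intro i j
        have := congrFun (congrFun hb i) j
        simp only [blockM, Matrix.smul_apply, submatrix_apply, smul_eq_mul] at this
        rw [← this, ← mul_assoc, hsq, one_mul]
      ext i j
      refine Fin.cases ?_ (fun k => ?_) i
      · fin_cases j <;> simp [rowS, qS, qM, ← mul_assoc, hsq]
      · refine Fin.cases ?_ (fun l => ?_) j
        · rw [hc k]; fin_cases k <;> simp [rowS, qS, qM]
        · rw [hb']; fin_cases k <;> fin_cases l <;> simp [rowS, qS, qM, Matrix.one_apply]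
    set R := rowS (S.1 0 0 * S.1 0 1, S.1 0 0 * S.1 0 2, S.1 0 0 * S.1 0 3)
    have e : (R⁻¹ * S).1 = S.1 0 0 • (1 : Matrix (Fin 4) (Fin 4) (ZMod 3)) := by
      rw [coe_mulS]
      conv_lhs => rw [hS']
      rw [Matrix.mul_smul, ← coe_mulS, inv_mul_cancel]
      rfl
    rcases ha with h | h
    · left; rw [e, h, one_smul]
    · right; rw [e, h, neg_one_smul]
  rw [← Nat.card_eq_of_bijective f ⟨hinj, hsur⟩]
  simp [Nat.card_prod]

theorem center_S3 : Subgroup.center S3 = ⊥ := by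
  rw [Subgroup.eq_bot_iff_forall]
  intro A hA
  obtain ⟨r, hr, e⟩ := Matrix.SpecialLinearGroup.mem_center_iff.1 hA
  have hd : ∀ r : ZMod 3, r ^ 3 = 1 → r = 1 := by decide
  have hr1 : r = 1 := hd r (by simpa using hr)
  subst hr1
  refine Subtype.ext ?_
  rw [← e]
  simp

theorem d_facts : (!![2, 0, 0; 0, 2, 0; 0, 0, 1] : Matrix (Fin 3) (Fin 3) (ZMod 3)).det = 1 ∧
    (!![2, 0, 0; 0, 2, 0; 0, 0, 1] : Matrix (Fin 3) (Fin 3) (ZMod 3)) ^ 2 = 1 ∧
    (!![2, 0, 0; 0, 2, 0; 0, 0, 1] : Matrix (Fin 3) (Fin 3) (ZMod 3)) ≠ 1 := by decide +kernel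

theorem pCore_eq : Cfsg.pCore 3 P = pi.ker := by
  haveI : Fact (Nat.Prime 3) := ⟨Nat.prime_three⟩
  refine le_antisymm ?_ (CfsgLib.Base.le_pCore (IsPGroup.of_card (n := 3) (by rw [card_ker]; norm_num)))
  haveI : ((Cfsg.pCore 3 P).map pi).Normal := Subgroup.Normal.map inferInstance _ pi_surjective
  have hperf := Classical.SL_fin_commutator_eq_top (F := ZMod 3) 3 (by norm_num) (by norm_num)
  rcases Classical.normal_SL_le_center_or_eq_top hperf ((Cfsg.pCore 3 P).map pi) with h | h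
  · rw [center_S3] at h
    exact (Subgroup.map_eq_bot_iff _).1 (eq_bot_iff.2 h)
  · exfalso
    have hp : IsPGroup 3 ((Cfsg.pCore 3 P).map pi) := (CfsgLib.Base.isPGroup_pCore 3 P).map pi
    rw [h] at hp
    let d : S3 := ⟨_, d_facts.1⟩
    obtain ⟨n, hn⟩ := hp ⟨d, Subgroup.mem_top _⟩
    have hd2 : d ^ 2 = 1 := Subtype.ext d_facts.2.1
    have hd1 : d ≠ 1 := fun e => d_facts.2.2 (congrArg Subtype.val e)
    have hn' : d ^ 3 ^ n = 1 := congrArg Subtype.val hn
    obtain ⟨k, hk⟩ := (Odd.pow (by decide) : Odd (3 ^ n))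
    rw [hk, pow_succ, pow_mul, hd2, one_pow, one_mul] at hn'
    exact hd1 hn'

/-- Words in `P` moving a point to every point other than the first. -/
def wP : List (List ℕ) := [[], [0, 1], [1], [3, 4], [3, 4, 0, 1], [3, 4, 1], [0, 4], [1, 4, 1], [1, 4], [4], [4, 0, 1], [4, 1], [5, 6, 3, 4], [5, 3, 1, 6, 4], [5, 6, 3, 4, 1], [4, 6, 0, 4], [4, 6, 1, 4, 1], [4, 6, 1, 4], [5, 6, 4], [1, 5, 6, 4], [5, 6, 4, 1], [3, 6, 0, 4], [3, 6, 1, 4, 1], [3, 6, 1, 4], [3, 6, 4], [1, 6, 1, 4], [3, 6, 4, 1], [0, 6, 4], [1, 6, 4], [0, 6, 4, 1], [6, 3, 4], [6, 3, 4, 1], [3, 1, 6, 4], [6, 0, 4], [6, 1, 4], [6, 1, 4, 1], [6, 4], [6, 4, 1], [6, 4, 0, 1]]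

theorem wP_facts : (∀ w ∈ wP, ∀ x ∈ w, x < 7 ∧ x ≠ 2) ∧ wP.length = 39 ∧
    ∀ v < 81, v ≠ 0 → Amalgam.vec v = e0 ∨ Amalgam.vec v = -e0 ∨ ∃ k < 39,
      Amalgam.vec (appW (wP.getD k []) 3) = Amalgam.vec v ∨ Amalgam.vec (appW (wP.getD k []) 3) = -Amalgam.vec v := by
  decide +kernel

theorem vec_surj : ∀ f : Fin 4 → ZMod 3, ∃ v < 81, Amalgam.vec v = f := by decide +kernel

theorem orbit {S : S4} (hS : mk S ∉ P) :
    ∃ T : S4, mk T ∈ P ∧ (S.1 *ᵥ e0 = T.1 *ᵥ Amalgam.vec 3 ∨ S.1 *ᵥ e0 = -(T.1 *ᵥ Amalgam.vec 3)) := by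
  obtain ⟨v, hv, e⟩ := vec_surj (S.1 *ᵥ e0)
  have h0 : v ≠ 0 := fun h => by
    subst h
    have he : (S⁻¹).1 *ᵥ (S.1 *ᵥ e0) = e0 := by
      rw [mulVec_mulVec, ← coe_mulS, inv_mul_cancel]; exact one_mulVec _
    rw [← e, show Amalgam.vec 0 = 0 by decide +kernel, mulVec_zero] at he
    have := congrFun he 0
    simp [e0] at this
  rcases wP_facts.2.2 v hv h0 with h | h | ⟨k, hk, h⟩
  · exact absurd ⟨S, Or.inl (e ▸ h), rfl⟩ hS
  · exact absurd ⟨S, Or.inr (e ▸ h), rfl⟩ hS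
  · rw [List.getD_eq_getElem _ _ (wP_facts.2.1.symm ▸ hk)] at h
    obtain ⟨w, hw, h⟩ : ∃ w ∈ wP, Amalgam.vec (appW w 3) = Amalgam.vec v ∨
        Amalgam.vec (appW w 3) = -Amalgam.vec v := ⟨_, List.getElem_mem _, h⟩
    have hwm : ∀ x ∈ w, x < 7 ∧ x ≠ 2 := wP_facts.1 w hw
    refine ⟨(w.map gS).prod, ?_, ?_⟩
    · rw [map_list_prod, List.map_map]
      refine Subgroup.list_prod_mem _ fun y hy => ?_
      obtain ⟨x, hx, rfl⟩ := List.mem_map.1 hy
      exact gL_mem.1 x (hwm x hx).1 (hwm x hx).2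
    · rw [(word_mulVec w (fun x hx => (hwm x hx).1) 3 (by norm_num)).2, ← e]
      rcases h with h | h
      · exact Or.inl h.symm
      · exact Or.inr (neg_eq_iff_eq_neg.1 h.symm)

theorem isCoatom : IsCoatom P := by
  constructor
  · intro h
    have h1 := Amalgam.index_P
    rw [h, Subgroup.index_top] at h1
    norm_num at h1
  · intro H hlt
    obtain ⟨g, hgH, hgP⟩ := Set.exists_of_ssubset hlt
    obtain ⟨S, rfl⟩ := QuotientGroup.mk'_surjective _ g
    rw [eq_top_iff]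
    intro x _
    obtain ⟨U, rfl⟩ := QuotientGroup.mk'_surjective _ x
    by_cases hU : mk U ∈ P
    · exact hlt.le hU
    obtain ⟨T1, hT1, e1⟩ := orbit (S := S) hgP
    obtain ⟨T2, hT2, e2⟩ := orbit hU
    -- `T2 * T1⁻¹ * S` sends the first point where `U` does
    have key : (T2 * T1⁻¹ * S)⁻¹ * U ∈ PS := by
      have hinv : ∀ (A : S4) (u : Fin 4 → ZMod 3), (A⁻¹).1 *ᵥ (A.1 *ᵥ u) = u := fun A u => by
        rw [mulVec_mulVec, ← coe_mulS, inv_mul_cancel]; exact one_mulVec _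
      have hA : (T2 * T1⁻¹ * S).1 *ᵥ e0 = U.1 *ᵥ e0 ∨ (T2 * T1⁻¹ * S).1 *ᵥ e0 = -(U.1 *ᵥ e0) := by
        rw [coe_mulS, coe_mulS, ← mulVec_mulVec, ← mulVec_mulVec]
        rcases e1 with e1 | e1 <;> rcases e2 with e2 | e2 <;> rw [e1] <;>
          simp only [hinv, mulVec_neg, e2, neg_neg, true_or, or_true]
      show ((T2 * T1⁻¹ * S)⁻¹ * U).1 *ᵥ e0 = e0 ∨ ((T2 * T1⁻¹ * S)⁻¹ * U).1 *ᵥ e0 = -e0
      rw [coe_mulS, ← mulVec_mulVec]
      rcases hA with hA | hA
      · left; rw [← hA, hinv]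
      · right; rw [← neg_eq_iff_eq_neg.2 hA, mulVec_neg, hinv]
    have hk : mk ((T2 * T1⁻¹ * S)⁻¹ * U) ∈ P := ⟨_, key, rfl⟩
    rw [show U = T2 * T1⁻¹ * S * ((T2 * T1⁻¹ * S)⁻¹ * U) by group, map_mul, map_mul, map_mul, map_inv]
    exact mul_mem (mul_mem (mul_mem (hlt.le hT2) (inv_mem (hlt.le hT1))) hgH) (hlt.le hk)

end ParModel

/-- The parabolic subgroup is as the statement wants. -/
theorem parModel : StmtParModel :=
  ⟨ParModel.isCoatom, by rw [ParModel.pCore_eq]; exact ParModel.card_ker,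
    ⟨(QuotientGroup.quotientMulEquivOfEq ParModel.pCore_eq).trans
      (QuotientGroup.quotientKerEquivOfSurjective ParModel.pi ParModel.pi_surjective)⟩⟩

end CfsgLib.L43Three
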