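import Cfsg.Agent.Lib.L43Three.PreD

/-!
S3373, piece Pre: assembly.
-/

set_option autoImplicit false
set_option maxRecDepth 100000
set_option linter.unusedSectionVars false
set_option linter.style.haveILetI false

namespace CfsgLib.L43Three.PrePf

open Subgroup

universe u

variable {G : Type u} [Group G] [Finite G]

theorem exists_core (S : Sylow 3 G) (Z : Subgroup G) (hZ : Z = (S : Subgroup G) ⊓ centralizer ((S : Subgroup G) : Set G))
    (C : Subgroup G) (hC : C = centralizer (Z : Set G))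
    (Q : Subgroup G) (hQ : Q = (Cfsg.pCore 3 C).map C.subtype)
    (hQex : Cfsg.IsExtraspecial 3 Q) (hQcard : Nat.card Q = 3 ^ 5) (hQexp : ∀ a ∈ Q, a ^ 3 = 1)
    (hCQ : centralizer (Q : Set G) ≤ Q)
    (hZQ : ∃ x : G, Z.map (MulAut.conj x).toMonoidHom ≤ Q ∧ Z.map (MulAut.conj x).toMonoidHom ≠ Z)
    (K : Subgroup G)
    (hK : K = ((Cfsg.pResidual 2 (C ⧸ Cfsg.pCore 3 C)).comap (QuotientGroup.mk' (Cfsg.pCore 3 C))).map C.subtype)
    (r : ℕ) (A : Fin (r + 1) → Subgroup G) (hA0 : A 0 = Z) (hAr : A (Fin.last r) = Q)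
    (hmono : ∀ i : Fin r, A i.castSucc < A i.succ)
    (hinv : ∀ i : Fin (r + 1), ∀ k ∈ K, ∀ a ∈ A i, k * a * k⁻¹ ∈ A i)
    (hmax : ∀ i : Fin r, ∀ B : Subgroup G, A i.castSucc < B → B < A i.succ → ∃ k ∈ K, ∃ b ∈ B, k * b * k⁻¹ ∉ B)
    (e : C ⧸ Cfsg.pCore 3 C ≃* S2)
    (htwo : ∃ i j : Fin r, i ≠ j ∧ (∃ k ∈ K, ∃ a ∈ A i.succ, k * a * k⁻¹ * a⁻¹ ∉ A i.castSucc) ∧
      (∃ k ∈ K, ∃ a ∈ A j.succ, k * a * k⁻¹ * a⁻¹ ∉ A j.castSucc) ∧
        ∀ l : Fin r, (∃ k ∈ K, ∃ a ∈ A l.succ, k * a * k⁻¹ * a⁻¹ ∉ A l.castSucc) → l = i ∨ l = j) :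
    ∃ R : Core G, Nonempty (Conj R) := by
  classical
  haveI : Fact (Nat.Prime 3) := ⟨Nat.prime_three⟩
  -- the centre
  have hQC : Q ≤ C := hQ ▸ map_subtype_le _
  have hSC : (S : Subgroup G) ≤ C := by
    intro s hs
    rw [hC, mem_centralizer_iff]
    intro t ht
    rw [hZ] at ht
    exact (mem_centralizer_iff.1 ht.2 s hs).symm
  have hQS : Q ≤ (S : Subgroup G) := by
    rw [hQ]
    rintro _ ⟨x, hx, rfl⟩
    exact CfsgLib.Base.pCore_le_sylow (S.subtype hSC) hx
  have hZS : Z ≤ (S : Subgroup G) := hZ ▸ inf_le_left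
  have hZcQ : Z ≤ centralizer (Q : Set G) := by
    intro t ht
    rw [mem_centralizer_iff]
    intro q hq
    rw [hZ] at ht
    exact mem_centralizer_iff.1 ht.2 q (hQS hq)
  have hZQ' : Z ≤ Q := hZcQ.trans hCQ
  have hZcen : Z ≤ (center Q).map Q.subtype := fun t ht =>
    ⟨⟨t, hZQ' ht⟩, mem_center_iff.2 fun q => Subtype.ext (mem_centralizer_iff.1 (hZcQ ht) q q.2), rfl⟩
  have hZne : Z ≠ ⊥ := by
    have hcard : 3 ^ 5 ≤ Nat.card (S : Subgroup G) := hQcard ▸ card_le_of_le hQS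
    haveI : Nontrivial (S : Subgroup G) := Finite.one_lt_card_iff_nontrivial.1 (by omega)
    haveI := S.2.center_nontrivial
    obtain ⟨⟨c, hc⟩, hc1⟩ := exists_ne (1 : center (S : Subgroup G))
    intro h
    refine hc1 (Subtype.ext (Subtype.ext ?_))
    have hcZ : (c : G) ∈ Z := by
      rw [hZ]
      exact ⟨c.2, mem_centralizer_iff.2 fun s hs => congrArg Subtype.val (mem_center_iff.1 hc ⟨s, hs⟩)⟩
    rw [h, mem_bot] at hcZ
    exact hcZ
  have hcc : Nat.card ((center Q).map Q.subtype) = 3 := by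
    rw [card_map_of_injective Q.subtype_injective, hQex.2]
  have hZ3 : Nat.card Z = 3 := by
    rcases (Nat.dvd_prime Nat.prime_three).1 (hcc ▸ card_dvd_of_le hZcen) with h | h
    · exact absurd (card_eq_one.1 h) hZne
    · exact h
  have hZeq : Z = (center Q).map Q.subtype := eq_of_le_of_card_ge hZcen (by rw [hcc, hZ3])
  obtain ⟨⟨z, hzZ⟩, hz1'⟩ := Subgroup.ne_bot_iff_exists_ne_one.1 hZne
  have hz1 : z ≠ 1 := fun h => hz1' (Subtype.ext h)
  have hz3 : z ^ 3 = 1 := hQexp z (hZQ' hzZ)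
  have hZz : Z = zpowers z := (eq_of_le_of_card_ge (zpowers_le.2 hzZ) (by
    rw [hZ3, Nat.card_zpowers, orderOf_eq_prime hz3 hz1])).symm
  have hCz : C = centralizer ({z} : Set G) := by
    rw [hC, hZz, zpowers_eq_closure, centralizer_closure]
  have hcomm : ∀ q ∈ Q, q * z = z * q := fun q hq => mem_centralizer_iff.1 (hZcQ hzZ) q hq
  let f : ↥(centralizer ({z} : Set G)) →* C := Subgroup.inclusion hCz.ge
  let π : ↥(centralizer ({z} : Set G)) →* S2 := (e.toMonoidHom.comp (QuotientGroup.mk' (Cfsg.pCore 3 C))).comp f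
  have hmemQ : ∀ x : C, x ∈ Cfsg.pCore 3 C ↔ (x : G) ∈ Q := fun x => by
    rw [hQ]; exact (mem_map_iff_mem C.subtype_injective).symm
  have hπk : ∀ c, π c = 1 ↔ (c : G) ∈ Q := fun c => by
    show e (QuotientGroup.mk (f c)) = 1 ↔ _
    rw [MulEquiv.map_eq_one_iff, QuotientGroup.eq_one_iff, hmemQ]
    rfl
  -- all factors of the chain are non-trivial
  have hAZ : ∀ i : Fin (r + 1), Z ≤ A i := by
    intro i
    induction i using Fin.induction with
    | zero => exact hA0.ge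
    | succ i ih => exact ih.trans (hmono i).le
  have hAQ : ∀ i : Fin (r + 1), A i ≤ Q := by
    intro i
    induction i using Fin.reverseInduction with
    | last => exact hAr.le
    | cast i ih => exact (hmono i).le.trans ih
  have hnorm : ∀ (i : Fin (r + 1)), ∀ q ∈ Q, ∀ a ∈ A i, q * a * q⁻¹ ∈ A i := by
    intro i q hq a ha
    have h1 : q * a * q⁻¹ * a⁻¹ ∈ Z := by
      rw [hZeq]
      refine ⟨⟨q, hq⟩ * ⟨a, hAQ i ha⟩ * ⟨q, hq⟩⁻¹ * ⟨a, hAQ i ha⟩⁻¹, ?_, rfl⟩
      rw [← hQex.1.2.2, commutator_eq_closure]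
      exact subset_closure ⟨⟨q, hq⟩, ⟨a, hAQ i ha⟩, commutatorElement_def _ _⟩
    have := mul_mem (hAZ i h1) ha
    simpa [mul_assoc] using this
  have hKC : K ≤ C := hK ▸ map_subtype_le _
  have hcube : ∀ {a : G}, a ∈ Q → a * a * a = 1 := fun ha => by rw [← pow_three']; exact hQexp _ ha
  -- a factor of order three is centralised
  have hthree : ∀ l : Fin r, Nat.card (A l.succ) = 3 * Nat.card (A l.castSucc) →
      ∀ k ∈ K, ∀ a ∈ A l.succ, k * a * k⁻¹ * a⁻¹ ∈ A l.castSucc := by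
    intro l hl
    obtain ⟨q, hq, hq'⟩ : ∃ q ∈ A l.succ, q ∉ A l.castSucc := SetLike.exists_of_lt (hmono l)
    let B := A l.castSucc
    have hqn : ∀ a ∈ A l.succ, ∃ i : Fin 3, a * (q ^ i.val)⁻¹ ∈ B := by
      let φ : Fin 3 × B → A l.succ := fun t =>
        ⟨t.2 * q ^ t.1.val, mul_mem ((hmono l).le t.2.2) (pow_mem hq _)⟩
      have hinj : Function.Injective φ := by
        rintro ⟨i, d⟩ ⟨i', d'⟩ h
        have e' : (d : G) * q ^ i.val = d' * q ^ i'.val := congrArg Subtype.val h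
        have q3 := hQexp q (hAQ _ hq)
        have hmem : q ^ ((i.val + 2 * i'.val) % 3) ∈ B := by
          rw [← pow_eq_pow_mod _ q3]
          have h0 : q ^ i'.val * q ^ (2 * i'.val) = 1 := by
            rw [← pow_add, show i'.val + 2 * i'.val = 3 * i'.val by ring, pow_mul, q3, one_pow]
          rw [show q ^ (i.val + 2 * i'.val) = (d : G)⁻¹ * d' by
            rw [pow_add, eq_inv_mul_iff_mul_eq, ← mul_assoc, e', mul_assoc, h0, mul_one]]
          exact mul_mem (inv_mem d.2) d'.2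
        rcases (show (i.val + 2 * i'.val) % 3 = 0 ∨ (i.val + 2 * i'.val) % 3 = 1 ∨ (i.val + 2 * i'.val) % 3 = 2 by omega)
          with h | h | h
        · obtain rfl : i = i' := Fin.ext (by omega)
          exact Prod.ext rfl (Subtype.ext (mul_right_cancel e'))
        · rw [h, pow_one] at hmem; exact absurd hmem hq'
        · rw [h] at hmem
          have := mul_mem hmem hmem
          rw [← pow_add, show 2 + 2 = 3 + 1 by rfl, pow_add, q3, one_mul, pow_one] at this
          exact absurd this hq'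
      intro a ha
      obtain ⟨⟨i, d⟩, h⟩ := (hinj.bijective_of_nat_card_le (by
        rw [hl, Nat.card_prod, Nat.card_fin])).2 ⟨a, ha⟩
      exact ⟨i, by rw [show a = (d : G) * q ^ i.val from (congrArg Subtype.val h).symm, mul_inv_cancel_right]; exact d.2⟩
    let P : C ⧸ Cfsg.pCore 3 C → Prop := fun x => ∀ c : C, QuotientGroup.mk c = x →
      (c : G) ∈ K ∧ ∀ a ∈ A l.succ, (c : G) * a * (c : G)⁻¹ * a⁻¹ ∈ B
    have hKmem : ∀ c : C, QuotientGroup.mk c ∈ Cfsg.pResidual 2 (C ⧸ Cfsg.pCore 3 C) → (c : G) ∈ K := fun c h => by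
      rw [hK]; exact ⟨c, h, rfl⟩
    have hQfix : ∀ q ∈ Q, ∀ a ∈ A l.succ, q * a * q⁻¹ * a⁻¹ ∈ B := by
      intro q hq a ha
      refine hAZ l.castSucc ?_
      rw [hZeq]
      refine ⟨⟨q, hq⟩ * ⟨a, hAQ _ ha⟩ * ⟨q, hq⟩⁻¹ * ⟨a, hAQ _ ha⟩⁻¹, ?_, rfl⟩
      rw [← hQex.1.2.2, commutator_eq_closure]
      exact subset_closure ⟨⟨q, hq⟩, ⟨a, hAQ _ ha⟩, commutatorElement_def _ _⟩
    have hP : ∀ x ∈ Cfsg.pResidual 2 (C ⧸ Cfsg.pCore 3 C), P x := by
      intro x hx
      induction hx using Subgroup.closure_induction with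
      | mem x hx =>
        intro c hc
        have hcK : (c : G) ∈ K := hKmem c (hc ▸ subset_closure hx)
        refine ⟨hcK, ?_⟩
        -- an element of odd order modulo `Q`
        obtain ⟨m, hm, hmQ⟩ : ∃ m : ℕ, Odd m ∧ (c : G) ^ m ∈ Q := by
          refine ⟨orderOf x, (Nat.coprime_two_right).1 hx, ?_⟩
          rw [← SubmonoidClass.coe_pow, ← hmemQ, ← QuotientGroup.eq_one_iff, QuotientGroup.mk_pow, hc, pow_orderOf_eq_one]
        obtain ⟨j, hj⟩ : ∃ j : Fin 3, ((c : G) * q * (c : G)⁻¹) * (q ^ j.val)⁻¹ ∈ B := hqn _ (hinv _ _ hcK q hq)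
        have hpow : ∀ n : ℕ, ∃ b ∈ B, (c : G) ^ n * q * ((c : G) ^ n)⁻¹ = b * q ^ (j.val ^ n) := by
          intro n
          induction n with
          | zero => exact ⟨1, one_mem _, by simp⟩
          | succ n ih =>
            obtain ⟨b, hb, hbn⟩ := ih
            have hnj : ∀ t : ℕ, ∃ b ∈ B, (c : G) * q ^ t * (c : G)⁻¹ = b * q ^ (j.val * t) := by
              intro t
              induction t with
              | zero => exact ⟨1, one_mem _, by simp⟩
              | succ t iht =>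
                obtain ⟨b', hb', ht'⟩ := iht
                refine ⟨b' * (q ^ (j.val * t) * ((c : G) * q * (c : G)⁻¹ * (q ^ j.val)⁻¹) * (q ^ (j.val * t))⁻¹),
                  mul_mem hb' (hnorm _ _ (pow_mem (hAQ _ hq) _) _ hj), ?_⟩
                calc (c : G) * q ^ (t + 1) * (c : G)⁻¹
                    = ((c : G) * q ^ t * (c : G)⁻¹) * ((c : G) * q * (c : G)⁻¹) := by rw [pow_succ]; group
                  _ = b' * q ^ (j.val * t) * ((c : G) * q * (c : G)⁻¹) := by rw [ht']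
                  _ = _ := by rw [mul_add_one, pow_add]; group
            obtain ⟨b', hb', hn'⟩ := hnj (j.val ^ n)
            refine ⟨(c : G) * b * (c : G)⁻¹ * b', mul_mem (hinv _ _ hcK b hb) hb', ?_⟩
            calc (c : G) ^ (n + 1) * q * ((c : G) ^ (n + 1))⁻¹
                = (c : G) * ((c : G) ^ n * q * ((c : G) ^ n)⁻¹) * (c : G)⁻¹ := by rw [pow_succ']; group
              _ = (c : G) * b * (c : G)⁻¹ * ((c : G) * q ^ (j.val ^ n) * (c : G)⁻¹) := by rw [hbn]; group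
              _ = _ := by rw [hn', pow_succ']; group
        obtain ⟨b, hb, hbm⟩ := hpow m
        have hqm : q ^ (j.val ^ m) * q⁻¹ ∈ B := by
          have h1 := hQfix _ hmQ q hq
          rw [hbm] at h1
          have := mul_mem (inv_mem hb) h1
          simpa [mul_assoc] using this
        have hj1 : j.val = 1 := by
          obtain ⟨k, rfl⟩ := hm
          fin_cases j
          · exfalso
            simp at hqm
            exact hq' hqm
          · rfl
          · exfalso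
            have h2 : 2 ^ (2 * k + 1) % 3 = 2 := by
              rw [pow_succ, pow_mul, Nat.mul_mod, Nat.pow_mod]; norm_num
            refine hq' ?_
            simp only at hqm
            rw [pow_eq_pow_mod _ (hQexp q (hAQ _ hq)), h2, sq, mul_inv_cancel_right] at hqm
            exact hqm
        rw [hj1, pow_one] at hj
        intro a ha
        obtain ⟨i, hi⟩ := hqn a ha
        have key : ∀ n : ℕ, (c : G) * q ^ n * (c : G)⁻¹ * (q ^ n)⁻¹ ∈ B := by
          intro n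
          induction n with
          | zero => simp
          | succ n ih =>
            have := mul_mem ih (hnorm _ _ (pow_mem (hAQ _ hq) n) _ hj)
            convert this using 1
            rw [pow_succ]; group
        obtain ⟨b, hb, rfl⟩ : ∃ b ∈ B, a = b * q ^ i.val := ⟨_, hi, by rw [inv_mul_cancel_right]⟩
        have := mul_mem (mul_mem (hinv _ _ hcK b hb) (key i.val)) (inv_mem hb)
        convert this using 1
        group
      | one =>
        intro c hc
        have hcQ : (c : G) ∈ Q := (hmemQ c).1 ((QuotientGroup.eq_one_iff c).1 hc)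
        exact ⟨hKmem c (by rw [hc]; exact one_mem _), hQfix _ hcQ⟩
      | mul x y hx hy ihx ihy =>
        intro c hc
        obtain ⟨a', ha'⟩ := QuotientGroup.mk_surjective x
        obtain ⟨a, haK⟩ := ihx a' ha'
        obtain ⟨b, hbK⟩ := ihy (a'⁻¹ * c) (by rw [QuotientGroup.mk_mul, QuotientGroup.mk_inv, ha', hc, inv_mul_cancel_left])
        refine ⟨hKmem c (by rw [hc]; exact mul_mem hx hy), fun t ht => ?_⟩
        have h1 := hbK t ht
        have h2 := hinv _ _ a _ h1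
        have := mul_mem h2 (haK t ht)
        convert this using 1
        simp [mul_assoc]
      | inv x hx ih =>
        intro c hc
        obtain ⟨hK', hfix⟩ := ih c⁻¹ (by rw [QuotientGroup.mk_inv, hc, inv_inv])
        have hcK : (c : G) ∈ K := hKmem c (by rw [hc]; exact inv_mem hx)
        refine ⟨hcK, fun t ht => ?_⟩
        have h1 := hfix _ (hinv _ _ hcK t ht)
        convert inv_mem h1 using 1
        simp [mul_assoc]
    intro k hk a ha
    have hk' := hk
    rw [hK] at hk'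
    obtain ⟨c, hc, rfl⟩ := hk'
    exact (hP _ hc c rfl).2 a ha
  have hfac : ∀ l : Fin r, 3 * Nat.card (A l.castSucc) ≤ Nat.card (A l.succ) ∧
      ((∃ k ∈ K, ∃ a ∈ A l.succ, k * a * k⁻¹ * a⁻¹ ∉ A l.castSucc) →
        9 * Nat.card (A l.castSucc) ≤ Nat.card (A l.succ)) := by
    intro l
    obtain ⟨m, hm⟩ := card_dvd_of_le (hmono l).le
    have h3 : IsPGroup 3 (A l.succ) := fun a => ⟨1, Subtype.ext (by
      rw [pow_one, SubmonoidClass.coe_pow]; exact hQexp _ (hAQ _ a.2))⟩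
    obtain ⟨n, hn⟩ := IsPGroup.iff_card.1 h3
    obtain ⟨s, hs, hms⟩ := (Nat.dvd_prime_pow Nat.prime_three).1 (⟨Nat.card (A l.castSucc), by rw [← hn, hm, mul_comm]⟩ : m ∣ 3 ^ n)
    subst hms
    have hs0 : s ≠ 0 := fun h0 => by
      rw [h0, pow_zero, mul_one] at hm
      exact (hmono l).ne (eq_of_le_of_card_ge (hmono l).le hm.le)
    refine ⟨?_, fun hnt => ?_⟩
    · rw [hm, mul_comm]
      exact Nat.mul_le_mul_left _ (by calc 3 = 3 ^ 1 := rfl
                                        _ ≤ 3 ^ s := Nat.pow_le_pow_right (by norm_num) (by omega))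
    · have hs2 : 2 ≤ s := by
        by_contra hlt
        obtain rfl : s = 1 := by omega
        obtain ⟨k, hk, a, ha, hne⟩ := hnt
        exact hne (hthree l (by rw [hm, pow_one, mul_comm]) k hk a ha)
      rw [hm, mul_comm]
      exact Nat.mul_le_mul_left _ (by calc 9 = 3 ^ 2 := rfl
                                        _ ≤ 3 ^ s := Nat.pow_le_pow_right (by norm_num) hs2)
  obtain ⟨i, j, hij, hi, hj, -⟩ := htwo
  have hcount : ∀ m : Fin (r + 1),
      3 ^ (1 + m.val + (if i.val < m.val then 1 else 0) + (if j.val < m.val then 1 else 0)) ≤ Nat.card (A m) := by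
    intro m
    induction m using Fin.induction with
    | zero => simp [hA0, hZ3]
    | succ m ih =>
      obtain ⟨h3, h9⟩ := hfac m
      by_cases hm : m = i ∨ m = j
      · have h9' := h9 (by rcases hm with rfl | rfl <;> assumption)
        refine le_trans ?_ (le_trans (Nat.mul_le_mul_left 9 ih) h9')
        rw [show (9 : ℕ) = 3 ^ 2 by rfl, ← pow_add]
        refine Nat.pow_le_pow_right (by norm_num) ?_
        have hne : i.val ≠ j.val := fun h => hij (Fin.ext h)
        simp only [Fin.val_succ, Fin.val_castSucc]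
        rcases hm with rfl | rfl <;> split_ifs <;> omega
      · refine le_trans ?_ (le_trans (Nat.mul_le_mul_left 3 ih) h3)
        rw [← pow_succ']
        refine Nat.pow_le_pow_right (by norm_num) ?_
        have h1 : m.val ≠ i.val := fun h => hm (.inl (Fin.ext h))
        have h2 : m.val ≠ j.val := fun h => hm (.inr (Fin.ext h))
        simp only [Fin.val_succ, Fin.val_castSucc]
        split_ifs <;> omega
  have hr2 : r ≤ 2 := by
    have h := hcount (Fin.last r)
    rw [hAr, hQcard, Fin.val_last, if_pos i.2, if_pos j.2] at h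
    have := (Nat.pow_le_pow_iff_right (by norm_num : 1 < 3)).1 h
    omega
  have hall : ∀ l : Fin r, ∃ k ∈ K, ∃ a ∈ A l.succ, k * a * k⁻¹ * a⁻¹ ∉ A l.castSucc := by
    intro l
    have hne : i.val ≠ j.val := fun h => hij (Fin.ext h)
    have := i.2
    have := j.2
    have := l.2
    rcases (show l.val = i.val ∨ l.val = j.val by omega) with h | h
    · rw [Fin.ext h]; exact hi
    · rw [Fin.ext h]; exact hj
  -- no common fixed point
  have hfix : ∀ q ∈ Q, (∀ c, c * z = z * c → c * q * c⁻¹ * q⁻¹ ∈ zpowers z) → q ∈ zpowers z := by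
    intro q hq hqf
    by_contra hqZ
    rw [← hZz] at hqZ
    obtain ⟨l, hl1, hl2⟩ : ∃ l : Fin r, q ∉ A l.castSucc ∧ q ∈ A l.succ := by
      by_contra h
      push Not at h
      have : ∀ m : Fin (r + 1), q ∉ A m := by
        intro m
        induction m using Fin.induction with
        | zero => rwa [hA0]
        | succ m ih => exact h m ih
      exact this (Fin.last r) (hAr ▸ hq)
    have hkq : ∀ k ∈ K, k * q * k⁻¹ * q⁻¹ ∈ A l.castSucc := fun k hk => hAZ _ (by
      rw [hZz]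
      exact hqf k (mem_centralizer_singleton_iff.1 (hCz ▸ hKC hk)))
    let B : Subgroup G := A l.castSucc ⊔ zpowers q
    have hB : B = A l.succ := by
      by_contra hne
      have hlt : A l.castSucc < B := lt_of_le_of_ne le_sup_left fun h =>
        hl1 (by rw [h]; exact mem_sup_right (mem_zpowers q))
      have hle : B ≤ A l.succ := sup_le (hmono l).le (zpowers_le.2 hl2)
      obtain ⟨k, hk, b, hb, hkb⟩ := hmax l B hlt (lt_of_le_of_ne hle hne)
      refine hkb ?_
      have hmap : B.map (MulAut.conj k).toMonoidHom ≤ B := by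
        rw [map_le_iff_le_comap]
        refine sup_le (fun a ha => mem_sup_left (hinv _ k hk a ha)) (zpowers_le.2 ?_)
        show k * q * k⁻¹ ∈ B
        have := mul_mem (mem_sup_left (hkq k hk) : _ ∈ B) (mem_sup_right (mem_zpowers q))
        rwa [inv_mul_cancel_right] at this
      exact hmap ⟨b, hb, rfl⟩
    obtain ⟨k, hk, a, ha, hne⟩ := hall l
    refine hne ?_
    rw [← hB] at ha
    let T : Subgroup G :=
      { carrier := {a | a ∈ A l.succ ∧ k * a * k⁻¹ * a⁻¹ ∈ A l.castSucc}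
        one_mem' := ⟨one_mem _, by simp⟩
        mul_mem' := fun {x y} hx hy => ⟨mul_mem hx.1 hy.1, by
          have := mul_mem hx.2 (hnorm _ x (hAQ _ hx.1) _ hy.2)
          convert this using 1
          group⟩
        inv_mem' := fun {x} hx => ⟨inv_mem hx.1, by
          have := hnorm _ x⁻¹ (inv_mem (hAQ _ hx.1)) _ (inv_mem hx.2)
          convert this using 1
          group⟩ }
    have hBT : B ≤ T := sup_le (fun x hx => ⟨(hmono l).le hx, mul_mem (hinv _ k hk x hx) (inv_mem hx)⟩)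
      (zpowers_le.2 ⟨hl2, hkq k hk⟩)
    exact (hBT ha).2
  -- the structure
  have hQn : ∀ g, g * z * g⁻¹ ∈ zpowers z → ∀ q ∈ Q, g * q * g⁻¹ ∈ Q := by
    intro g hg
    have hgen : z ∈ zpowers (g * z * g⁻¹) := by
      rw [eq_of_le_of_card_ge (zpowers_le.2 hg) (by
        rw [Nat.card_zpowers, Nat.card_zpowers, orderOf_eq_prime hz3 hz1,
          orderOf_eq_prime (by rw [conj_pow, hz3, mul_one, mul_inv_cancel]) (fun h => hz1 (conj_eq_one_iff.1 h))])]
      exact mem_zpowers _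
    have hconjC : ∀ c ∈ C, g * c * g⁻¹ ∈ C := by
      intro c hc
      rw [hCz, mem_centralizer_singleton_iff] at hc ⊢
      obtain ⟨i, hi⟩ := mem_zpowers_iff.1 hgen
      have h : Commute (g * c * g⁻¹) (g * z * g⁻¹) := by
        show _ = _
        simp [mul_assoc, ← mul_assoc c, hc]
      have h' := (h.zpow_right i).eq
      rwa [hi] at h'
    let g' := (MulAut.conj g).toMonoidHom
    have hle : Q.map g' ≤ C := by
      rintro _ ⟨q, hq, rfl⟩; exact hconjC q (hQC hq)
    have hmapC : C.map g' = C := eq_of_le_of_card_ge (by rintro _ ⟨c, hc, rfl⟩; exact hconjC c hc)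
      (by rw [card_map_of_injective (MulAut.conj g).injective])
    have hn : C ≤ normalizer ((Q.map g' : Subgroup G) : Set G) := by
      rw [← hmapC]
      refine (map_mono (hQ ▸ CfsgLib.Base.le_normalizer_map_pCore C)).trans ?_
      exact le_normalizer_map _
    have hp : IsPGroup 3 (Q.map g') := (show IsPGroup 3 Q from fun a => ⟨1, Subtype.ext (by
      rw [pow_one, SubmonoidClass.coe_pow]; exact hQexp _ a.2)⟩).map _
    intro q hq
    have := CfsgLib.Base.le_map_pCore hle hn hp ⟨q, hq, rfl⟩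
    rwa [← hQ] at this
  have hcardC : Nat.card C = 243 * 24 := by
    rw [card_eq_card_quotient_mul_card_subgroup (Cfsg.pCore 3 C), Nat.card_congr e.toEquiv,
      show Nat.card (Cfsg.pCore 3 C) = 243 by
        rw [← card_map_of_injective C.subtype_injective, ← hQ, hQcard]; norm_num,
      Nat.card_eq_fintype_card, show Fintype.card S2 = 24 by decide +kernel]
  let R : Core G :=
    { z := z
      Q := Q
      z_cube := hz3
      z_ne := hz1
      z_mem := hZQ' hzZ
      card_Q := by rw [hQcard]; norm_num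
      Q_cube := hQexp
      Q_comm := hcomm
      Q_center := fun q hq hc => by
        rw [← hZz, hZeq]
        exact ⟨⟨q, hq⟩, mem_center_iff.2 fun r' => Subtype.ext (hc r' r'.2).symm, rfl⟩
      Q_derived := fun q hq r' hr => by
        rw [← hZz, hZeq]
        refine ⟨⟨q, hq⟩ * ⟨r', hr⟩ * ⟨q, hq⟩⁻¹ * ⟨r', hr⟩⁻¹, ?_, rfl⟩
        rw [← hQex.1.2.2, commutator_eq_closure]
        exact subset_closure ⟨⟨q, hq⟩, ⟨r', hr⟩, commutatorElement_def _ _⟩
      Q_norm := hQn
      π := π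
      π_surj := (e.surjective.comp (QuotientGroup.mk'_surjective _)).comp fun c => ⟨⟨c, hCz.le c.2⟩, Subtype.ext rfl⟩
      π_ker := hπk
      cent_Q := fun g hg => by
        have hgQ : g ∈ Q := hCQ (mem_centralizer_iff.2 fun q hq => (hg q hq).symm)
        rw [← hZz, hZeq]
        exact ⟨⟨g, hgQ⟩, mem_center_iff.2 fun r' => Subtype.ext (hg r' r'.2).symm, rfl⟩
      fix := hfix
      sylow := fun h => by
        have h7 : 3 ^ 7 ∣ Nat.card (S : Subgroup G) := by
          rw [S.card_eq_multiplicity]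
          exact pow_dvd_pow 3 ((Nat.Prime.pow_dvd_iff_le_factorization Nat.prime_three Nat.card_pos.ne').1 h)
        have h8 := h7.trans (card_dvd_of_le hSC)
        rw [hcardC] at h8
        norm_num at h8 }
  obtain ⟨x, hx, hx'⟩ := hZQ
  refine ⟨R, ⟨⟨x, x * z * x⁻¹, rfl, hx ⟨z, hzZ, rfl⟩, fun h => hx' ?_⟩⟩⟩
  refine eq_of_le_of_card_ge ?_ (by rw [card_map_of_injective (MulAut.conj x).injective])
  rintro _ ⟨t, ht, rfl⟩
  rw [hZz] at ht ⊢
  obtain ⟨i, rfl⟩ := mem_zpowers_iff.1 ht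
  rw [map_zpow]
  exact zpow_mem h i

theorem exists_column : ∀ x : Fin 3 → ZMod 3, x ≠ 0 → ∃ M : S3, Matrix.mulVec M.1 ![0, 0, 1] = x := by
  intro x hx
  by_cases h2 : x 2 = 0
  · by_cases h0 : x 0 = 0
    · have h1 : x 1 ≠ 0 := fun h1 => hx (by funext i; fin_cases i <;> simp [h0, h1, h2])
      refine ⟨⟨!![1, 0, 0; 0, 0, x 1; 0, -x 1, 0], ?_⟩, ?_⟩
      · rw [Matrix.det_fin_three]; simp
        revert h1; generalize x 1 = y; revert y; decide
      · funext i; fin_cases i <;> simp [Matrix.mulVec, dotProduct, Fin.sum_univ_three, h0, h2]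
    · refine ⟨⟨!![0, 0, x 0; 0, 1, x 1; -x 0, 0, 0], ?_⟩, ?_⟩
      · rw [Matrix.det_fin_three]; simp
        revert h0; generalize x 0 = y; revert y; decide
      · funext i; fin_cases i <;> simp [Matrix.mulVec, dotProduct, Fin.sum_univ_three, h2]
  · refine ⟨⟨!![x 2, 0, x 0; 0, 1, x 1; 0, 0, x 2], ?_⟩, ?_⟩
    · rw [Matrix.det_fin_three]; simp
      revert h2; generalize x 2 = y; revert y; decide
    · funext i; fin_cases i <;> simp [Matrix.mulVec, dotProduct, Fin.sum_univ_three]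

namespace Frame

variable (R : Frame G)

theorem plane_span {d : G} (hd : d ∈ R.L.D) :
    ∃ i j : ZMod 3, R.K.cl d (R.L.D_le_Q hd) = i • R.pb + j • R.ub := by
  obtain ⟨j, k, hjk⟩ := R.D_span hd
  obtain ⟨j', k', hp⟩ := R.D_span R.p_mem_D
  have hk' : k' = -1 := by
    have h := congrArg R.N hp
    rw [show R.K.cl R.p _ = R.pb from rfl, R.N_pb, map_add, R.N_smul, R.N_smul, R.N_ub, R.N_δb, smul_zero,
      zero_add] at h
    have h' : (k' + 1) • R.ub = 0 := by rw [add_smul, one_smul, ← h, neg_add_cancel]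
    linear_combination R.K.smul_eq_zero h' R.ub_ne
  refine ⟨-k, j + k * j', ?_⟩
  rw [hjk, show R.pb = j' • R.ub + k' • R.δb from hp, hk']
  module

/-- The coordinates of `D`. -/
noncomputable def vv (x : Fin 3 → ZMod 3) : G := R.p ^ (x 0).val * (R.L.u ^ (x 1).val * R.K.z ^ (x 2).val)

theorem vv_mem (x : Fin 3 → ZMod 3) : R.vv x ∈ R.L.D :=
  mul_mem (pow_mem R.p_mem_D _) (mul_mem (pow_mem R.L.u_mem_D _) (pow_mem R.L.z_mem_D _))

theorem cl_vv (x : Fin 3 → ZMod 3) : R.K.cl (R.vv x) (R.L.D_le_Q (R.vv_mem x)) = x 0 • R.pb + x 1 • R.ub := by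
  rw [pb, ub, R.K.cl_smul, R.K.cl_smul, ← R.K.cl_mul]
  refine (R.K.cl_eq _ _).2 ?_
  show (R.p ^ (x 0).val * (R.L.u ^ (x 1).val * R.K.z ^ (x 2).val))⁻¹ * _ ∈ _
  rw [mul_inv_rev, mul_inv_rev, mul_assoc, inv_mul_cancel_left, mul_assoc, inv_mul_cancel, mul_one]
  exact inv_mem (pow_mem (mem_zpowers R.K.z) (x 2).val)

theorem z_power {x : G} (hx : x ∈ zpowers R.K.z) : ∃ k : ZMod 3, R.K.z ^ k.val = x := by
  rcases R.K.Z_cases hx with h | h | h
  · exact ⟨0, by simp [h]⟩
  · exact ⟨1, by simp [h, ZMod.val_one]⟩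
  · exact ⟨2, by rw [h, show (2 : ZMod 3).val = 2 from rfl, sq]⟩

theorem vv_surj {d : G} (hd : d ∈ R.L.D) : ∃ x, R.vv x = d := by
  obtain ⟨i, j, hij⟩ := R.plane_span hd
  rw [pb, ub, R.K.cl_smul, R.K.cl_smul, ← R.K.cl_mul, R.K.cl_eq] at hij
  obtain ⟨k, hk⟩ := R.z_power (inv_mem hij)
  refine ⟨![i, j, -(-k)], ?_⟩
  show R.p ^ i.val * (R.L.u ^ j.val * R.K.z ^ (-(-k)).val) = d
  rw [neg_neg, hk, ← mul_assoc]
  have hzd := R.K.Z_central (R.K.Q_comm _ (mul_mem (pow_mem R.p_Q i.val) (pow_mem R.L.u_mem j.val))) (inv_mem hij)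
  rw [hzd, mul_inv_rev, inv_inv]
  have hdc : d * (R.p ^ i.val * R.L.u ^ j.val) = R.p ^ i.val * R.L.u ^ j.val * d :=
    R.L.D_comm _ hd _ (mul_mem (pow_mem R.p_mem_D _) (pow_mem R.L.u_mem_D _))
  rw [mul_assoc, hdc, ← mul_assoc, inv_mul_cancel, one_mul]

theorem pow_val_add {y : G} (hy : y ^ 3 = 1) (a b : ZMod 3) : y ^ (a + b).val = y ^ a.val * y ^ b.val := by
  rw [ZMod.val_add, ← pow_eq_pow_mod _ hy, pow_add]

theorem vv_add (x y : Fin 3 → ZMod 3) : R.vv (x + y) = R.vv x * R.vv y := by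
  have hp := R.K.Q_cube _ R.p_Q
  simp only [vv, Pi.add_apply, pow_val_add hp, pow_val_add R.L.u_cube, pow_val_add R.K.z_cube]
  have h1 : Commute (R.L.u ^ (x 1).val * R.K.z ^ (x 2).val) (R.p ^ (y 0).val) :=
    R.L.D_comm _ (mul_mem (pow_mem R.L.u_mem_D _) (pow_mem R.L.z_mem_D _)) _ (pow_mem R.p_mem_D _)
  have h2 : Commute (R.K.z ^ (x 2).val) (R.L.u ^ (y 1).val) :=
    R.L.D_comm _ (pow_mem R.L.z_mem_D _) _ (pow_mem R.L.u_mem_D _)
  rw [h1.mul_mul_mul_comm, h2.mul_mul_mul_comm]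

theorem vv_inj : Function.Injective R.vv := by
  let φ : (Fin 3 → ZMod 3) → R.L.D := fun x => ⟨R.vv x, R.vv_mem x⟩
  have hs : Function.Surjective φ := fun ⟨d, hd⟩ => by
    obtain ⟨x, hx⟩ := R.vv_surj hd
    exact ⟨x, Subtype.ext hx⟩
  have hb := hs.bijective_of_nat_card_le (by rw [R.L.card_D, Nat.card_fun, Nat.card_zmod, Nat.card_fin]; norm_num)
  exact fun x y h => hb.1 (Subtype.ext h)

theorem vv_z : R.vv ![0, 0, 1] = R.K.z := by simp [vv, ZMod.val_one]

theorem vv_u : R.vv ![0, 1, 0] = R.L.u := by simp [vv, ZMod.val_one]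

theorem vv_p : R.vv ![1, 0, 0] = R.p := by simp [vv, ZMod.val_one]

theorem vv_pow (x : Fin 3 → ZMod 3) (n : ℕ) : R.vv x ^ n = R.vv ((n : ZMod 3) • x) := by
  induction n with
  | zero => simp [vv]
  | succ n ih => rw [pow_succ, ih, ← R.vv_add]; congr 1; push_cast; module

/-- Realised matrices. -/
def Real (A : S3) (g : G) : Prop := ∀ x, g * R.vv x * g⁻¹ = R.vv (Matrix.mulVec A.1 x)

theorem real_of_gens {A : S3} {g : G}
    (h0 : g * R.p * g⁻¹ = R.vv (fun i => A.1 i 0)) (h1 : g * R.L.u * g⁻¹ = R.vv (fun i => A.1 i 1))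
    (h2 : g * R.K.z * g⁻¹ = R.vv (fun i => A.1 i 2)) : R.Real A g := by
  intro x
  have hx : Matrix.mulVec A.1 x = (fun i => A.1 i 0 * x 0 + (A.1 i 1 * x 1 + A.1 i 2 * x 2)) := by
    funext i
    simp [Matrix.mulVec, dotProduct, Fin.sum_univ_three, add_assoc]
  have key : ∀ (y : G) (n : ℕ), g * y ^ n * g⁻¹ = (g * y * g⁻¹) ^ n := fun y n => (conj_pow).symm
  calc g * R.vv x * g⁻¹ = (g * R.p ^ (x 0).val * g⁻¹) * ((g * R.L.u ^ (x 1).val * g⁻¹) * (g * R.K.z ^ (x 2).val * g⁻¹)) := by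
        rw [vv]; group
    _ = _ := by
      rw [key, key, key, h0, h1, h2, R.vv_pow, R.vv_pow, R.vv_pow, ← R.vv_add, ← R.vv_add, hx]
      congr 1
      funext i
      simp [mul_comm]

/-- The matrix of an element of the centralizer. -/
theorem real_cent {c : G} (hc : c * R.K.z = R.K.z * c) :
    ∃ A : S3, R.Real A c ∧ A.1 0 0 = (R.K.img c hc).1 0 0 ∧ A.1 1 0 = (R.K.img c hc).1 1 0 ∧
      A.1 0 1 = (R.K.img c hc).1 0 1 ∧ A.1 1 1 = (R.K.img c hc).1 1 1 ∧
      (fun i => A.1 i 2) = ![0, 0, 1] := by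
  obtain ⟨a, ha⟩ := R.vv_surj (R.conj_D hc R.p_mem_D)
  obtain ⟨b, hb⟩ := R.vv_surj (R.conj_D hc R.L.u_mem_D)
  have hind : ∀ {i j i' j' : ZMod 3}, i • R.pb + j • R.ub = i' • R.pb + j' • R.ub → i = i' ∧ j = j' := by
    intro i j i' j' h
    have hi : i = i' := by
      have h' := congrArg R.N h
      rw [map_add, map_add, R.N_smul, R.N_smul, R.N_smul, R.N_smul, R.N_pb, R.N_ub, smul_zero, smul_zero, add_zero,
        add_zero] at h'
      have h'' : (i' - i) • R.ub = 0 := by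
        rw [sub_smul]; linear_combination (norm := module) h'
      exact (sub_eq_zero.1 (R.K.smul_eq_zero h'' R.ub_ne)).symm
    subst hi
    have h'' : (j - j') • R.ub = 0 := by rw [sub_smul]; linear_combination (norm := module) h
    exact ⟨rfl, sub_eq_zero.1 (R.K.smul_eq_zero h'' R.ub_ne)⟩
  have ha' : a 0 = (R.K.img c hc).1 0 0 ∧ a 1 = (R.K.img c hc).1 1 0 := by
    refine hind ?_
    rw [← R.cl_vv, ← (R.mat hc).1, show R.K.op c hc R.pb = _ from R.K.op_cl hc R.p_Q]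
    exact R.cl_eq' _ _ ha
  have hb' : b 0 = (R.K.img c hc).1 0 1 ∧ b 1 = (R.K.img c hc).1 1 1 := by
    refine hind ?_
    rw [← R.cl_vv, ← (R.mat hc).2, show R.K.op c hc R.ub = _ from R.K.op_cl hc R.L.u_mem]
    exact R.cl_eq' _ _ hb
  have hd := (R.K.img c hc).2
  rw [Matrix.det_fin_two] at hd
  have hdet : (!![a 0, b 0, 0; a 1, b 1, 0; a 2, b 2, 1] : Matrix (Fin 3) (Fin 3) (ZMod 3)).det = 1 := by
    rw [Matrix.det_fin_three]
    simp [ha'.1, ha'.2, hb'.1, hb'.2]
    linear_combination hd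
  refine ⟨⟨_, hdet⟩, R.real_of_gens ?_ ?_ ?_, ha'.1, ha'.2, hb'.1, hb'.2, ?_⟩
  · rw [← ha]; congr 1; funext i; fin_cases i <;> rfl
  · rw [← hb]; congr 1; funext i; fin_cases i <;> rfl
  · rw [hc, mul_inv_cancel_right, ← R.vv_z]; congr 1; funext i; fin_cases i <;> rfl
  · funext i; fin_cases i <;> rfl

theorem real_mul {A B : S3} {g h : G} (hA : R.Real A g) (hB : R.Real B h) : R.Real (A * B) (g * h) := fun x => by
  rw [show g * h * R.vv x * (g * h)⁻¹ = g * (h * R.vv x * h⁻¹) * g⁻¹ by group, hB, hA,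
    Matrix.SpecialLinearGroup.coe_mul, Matrix.mulVec_mulVec]

theorem real_inv {A : S3} {g : G} (hA : R.Real A g) : R.Real A⁻¹ g⁻¹ := fun x => by
  have h := hA (Matrix.mulVec (A⁻¹).1 x)
  rw [Matrix.mulVec_mulVec, ← Matrix.SpecialLinearGroup.coe_mul, mul_inv_cancel,
    Matrix.SpecialLinearGroup.coe_one, Matrix.one_mulVec] at h
  rw [← h]; group

theorem real_unique {A B : S3} {g : G} (hA : R.Real A g) (hB : R.Real B g) : A = B := by
  refine Subtype.ext (Matrix.ext_iff_mulVec.2 fun x => ?_)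
  exact R.vv_inj ((hA x).symm.trans (hB x))

set_option maxHeartbeats 1000000 in
theorem real_block (M : S3) (hM : (fun i => M.1 i 2) = ![0, 0, 1]) : ∃ g, R.Real M g := by
  have h02 : M.1 0 2 = 0 := congrFun hM 0
  have h12 : M.1 1 2 = 0 := congrFun hM 1
  have h22 : M.1 2 2 = 1 := congrFun hM 2
  have hd := M.2
  rw [Matrix.det_fin_three, h02, h12, h22] at hd
  have hd2 : (!![M.1 0 0, M.1 0 1; M.1 1 0, M.1 1 1] : Matrix (Fin 2) (Fin 2) (ZMod 3)).det = 1 := by
    rw [Matrix.det_fin_two_of]; linear_combination hd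
  obtain ⟨c, hc, himg⟩ := R.K.exists_img ⟨_, hd2⟩
  obtain ⟨A, hA, e00, e10, e01, e11, ecol⟩ := R.real_cent hc
  rw [himg] at e00 e10 e01 e11
  simp at e00 e10 e01 e11
  -- elements of `Q`
  have hq : ∀ {q : G}, q ∈ R.K.Q → ∀ {s t : ZMod 3}, q * R.p * q⁻¹ * R.p⁻¹ = R.K.z ^ s.val →
      q * R.L.u * q⁻¹ * R.L.u⁻¹ = R.K.z ^ t.val → ∃ hdet, R.Real ⟨!![1, 0, 0; 0, 1, 0; s, t, 1], hdet⟩ q := by
    intro q hq s t hs ht
    refine ⟨by rw [Matrix.det_fin_three]; simp, R.real_of_gens ?_ ?_ ?_⟩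
    · rw [mul_inv_eq_iff_eq_mul.1 hs, ← R.L.D_comm _ R.p_mem_D _ (pow_mem R.L.z_mem_D s.val)]
      show _ = R.p ^ (1 : ZMod 3).val * (R.L.u ^ (0 : ZMod 3).val * R.K.z ^ s.val)
      simp [ZMod.val_one]
    · rw [mul_inv_eq_iff_eq_mul.1 ht, ← R.L.D_comm _ R.L.u_mem_D _ (pow_mem R.L.z_mem_D t.val)]
      show _ = R.p ^ (0 : ZMod 3).val * (R.L.u ^ (1 : ZMod 3).val * R.K.z ^ t.val)
      simp [ZMod.val_one]
    · rw [R.K.Q_comm q hq, mul_inv_cancel_right, ← R.vv_z]
      congr 1; funext i; fin_cases i <;> rfl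
  -- normalised generators
  have haQ := (R.L.mem_CQ.1 R.a_mem).1
  obtain ⟨sa, hsa⟩ := R.z_power (R.K.cm_mem haQ R.p_Q)
  obtain ⟨sf, hsf⟩ := R.z_power (R.K.cm_mem R.f_mem R.p_Q)
  obtain ⟨_, hRa⟩ := hq haQ (s := sa) (t := 0) hsa.symm (by
    rw [(R.L.mem_CQ.1 R.a_mem).2, mul_inv_cancel_right, mul_inv_cancel, ZMod.val_zero, pow_zero])
  obtain ⟨_, hRf⟩ := hq R.f_mem (s := sf) (t := 1) hsf.symm (by
    rw [R.f_u, mul_inv_cancel_right, ZMod.val_one, pow_one])
  have hsa0 : sa ≠ 0 := fun h0 => by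
    rw [h0, ZMod.val_zero, pow_zero] at hsa
    refine R.a_out (R.L.mem_D_of_comm haQ fun d hd => ?_)
    obtain ⟨x, rfl⟩ := R.vv_surj hd
    exact (((show Commute R.a R.p from mul_inv_eq_iff_eq_mul.1 (mul_inv_eq_one.1 hsa.symm)).pow_right _).mul_right
      (((show Commute R.a R.L.u from (R.L.mem_CQ.1 R.a_mem).2).pow_right _).mul_right
        ((show Commute R.a R.K.z from R.K.Q_comm _ haQ).pow_right _))).eq
  have hpow : ∀ {B : S3} {g : G}, R.Real B g → ∀ n : ℕ, R.Real (B ^ n) (g ^ n) := by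
    intro B g hB n
    induction n with
    | zero => intro x; simp
    | succ n ih => rw [pow_succ, pow_succ]; exact R.real_mul ih hB
  have hlow : ∀ s t : ZMod 3, ∃ g hdet, R.Real ⟨!![1, 0, 0; 0, 1, 0; s, t, 1], hdet⟩ g := by
    intro s t
    have hcomb := R.real_mul (hpow hRa (sa * (s - t * sf)).val) (hpow hRf t.val)
    have hdet : (!![1, 0, 0; 0, 1, 0; s, t, 1] : Matrix (Fin 3) (Fin 3) (ZMod 3)).det = 1 := by
      rw [Matrix.det_fin_three]; simp
    refine ⟨R.a ^ (sa * (s - t * sf)).val * R.f ^ t.val, hdet, ?_⟩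
    refine (congrArg (fun B : S3 => R.Real B _) ?_).mpr hcomb
    have hsq : sa * sa = 1 := (by decide : ∀ y : ZMod 3, y ≠ 0 → y * y = 1) sa hsa0
    refine Subtype.ext ?_
    have hn : ∀ (a b : ZMod 3) (n : ℕ), (!![1, 0, 0; 0, 1, 0; a, b, 1] : Matrix (Fin 3) (Fin 3) (ZMod 3)) ^ n =
        !![1, 0, 0; 0, 1, 0; n * a, n * b, 1] := by
      intro a b n
      induction n with
      | zero => ext i j; fin_cases i <;> fin_cases j <;> simp
      | succ n ih =>
        rw [pow_succ, ih]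
        ext i j
        fin_cases i <;> fin_cases j <;> simp [Matrix.mul_apply, Fin.sum_univ_three] <;> ring
    show _ = (!![1, 0, 0; 0, 1, 0; sa, 0, 1] : Matrix (Fin 3) (Fin 3) (ZMod 3)) ^ _ *
      (!![1, 0, 0; 0, 1, 0; sf, 1, 1] : Matrix (Fin 3) (Fin 3) (ZMod 3)) ^ _
    rw [hn, hn, ZMod.natCast_zmod_val, ZMod.natCast_zmod_val]
    ext i j
    fin_cases i <;> fin_cases j <;> simp [Matrix.mul_apply, Fin.sum_univ_three]
    linear_combination -(s - t * sf) * hsq
  -- correct the last row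
  have hA' := R.real_inv hA
  obtain ⟨g, hdet, hg⟩ := hlow ((M * A⁻¹).1 2 0) ((M * A⁻¹).1 2 1)
  refine ⟨g * c, ?_⟩
  have hM' : M * A⁻¹ = ⟨!![1, 0, 0; 0, 1, 0; (M * A⁻¹).1 2 0, (M * A⁻¹).1 2 1, 1], hdet⟩ := by
    have hMA : ∀ i : Fin 3, i ≠ 2 → ∀ j, (M * A⁻¹).1 i j = (1 : Matrix (Fin 3) (Fin 3) (ZMod 3)) i j := by
      intro i hi j
      have hrow : ∀ k, M.1 i k = A.1 i k := by
        intro k
        fin_cases i <;> fin_cases k <;> simp at hi ⊢ <;>
          first
          | exact e00.symm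
          | exact e01.symm
          | exact e10.symm
          | exact e11.symm
          | (rw [h02]; exact (congrFun ecol 0).symm)
          | (rw [h12]; exact (congrFun ecol 1).symm)
      have : (M * A⁻¹).1 i j = (A * A⁻¹).1 i j := by
        rw [Matrix.SpecialLinearGroup.coe_mul, Matrix.SpecialLinearGroup.coe_mul, Matrix.mul_apply, Matrix.mul_apply]
        exact Finset.sum_congr rfl fun k _ => by rw [hrow k]
      rw [this, mul_inv_cancel, Matrix.SpecialLinearGroup.coe_one]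
    have h22' : (M * A⁻¹).1 2 2 = 1 := by
      have hA2 : A⁻¹.1 2 2 = 1 ∧ A⁻¹.1 0 2 = 0 ∧ A⁻¹.1 1 2 = 0 := by
        have hfix : Matrix.mulVec A.1 ![0, 0, 1] = ![0, 0, 1] := by
          rw [← ecol]; funext i; simp [Matrix.mulVec, dotProduct, Fin.sum_univ_three, congrFun ecol]
        have h := congrArg (Matrix.mulVec (A⁻¹).1) hfix
        rw [Matrix.mulVec_mulVec, ← Matrix.SpecialLinearGroup.coe_mul, inv_mul_cancel,
          Matrix.SpecialLinearGroup.coe_one, Matrix.one_mulVec] at h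
        have g0 := congrFun h 0
        have g1 := congrFun h 1
        have g2 := congrFun h 2
        simp [Matrix.mulVec, dotProduct, Fin.sum_univ_three] at g0 g1 g2
        exact ⟨g2.symm, g0.symm, g1.symm⟩
      obtain ⟨B, hB⟩ : ∃ B, A⁻¹ = B := ⟨_, rfl⟩
      rw [hB] at hA2 ⊢
      simp [Matrix.SpecialLinearGroup.coe_mul, Matrix.mul_apply, Fin.sum_univ_three, hA2, h22]
    refine Subtype.ext ?_
    show (M * A⁻¹).1 = !![1, 0, 0; 0, 1, 0; (M * A⁻¹).1 2 0, (M * A⁻¹).1 2 1, 1]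
    obtain ⟨P, hP⟩ : ∃ P, (M * A⁻¹).1 = P := ⟨_, rfl⟩
    rw [hP] at hMA h22' ⊢
    ext i j
    fin_cases i <;> fin_cases j <;> simp [hMA 0 (by decide), hMA 1 (by decide), h22']
  have := R.real_mul hg hA
  rwa [← hM', inv_mul_cancel_right] at this

/-- The exchanging element. -/
theorem real_w : ∃ W : S3, R.Real W R.w ∧ (fun i => W.1 i 2) = ![0, -1, 0] := by
  obtain ⟨A, hA, -, -, -, -, -⟩ := R.real_cent (R.K.Q_comm _ R.f_mem)
  have hcm : R.f' * R.p * R.f'⁻¹ * R.p⁻¹ ∈ zpowers R.L.u := by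
    have h := R.K.cm_mem (R.L.mem_Qu.1 R.f'_mem) (R.L.mem_Qu.1 R.p_mem_D.2)
    obtain ⟨i, hi⟩ := mem_zpowers_iff.1 h
    refine mem_zpowers_iff.2 ⟨i, ?_⟩
    rw [← R.L.x_z, conj_zpow, hi]; group
  obtain ⟨k, hk⟩ : ∃ k : ZMod 3, R.f' * R.p * R.f'⁻¹ * R.p⁻¹ = R.L.u ^ k.val := by
    rw [← mem_powers_iff_mem_zpowers] at hcm
    obtain ⟨n, hn⟩ := hcm
    refine ⟨n, ?_⟩
    rw [ZMod.val_natCast, ← pow_eq_pow_mod _ R.L.u_cube]
    exact hn.symm
  have hdet : (!![1, 0, 0; k, 1, -1; 0, 0, 1] : Matrix (Fin 3) (Fin 3) (ZMod 3)).det = 1 := by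
    rw [Matrix.det_fin_three]; simp
  have hB : R.Real ⟨_, hdet⟩ R.f' := by
    refine R.real_of_gens ?_ ?_ ?_
    · rw [mul_inv_eq_iff_eq_mul.1 hk, R.L.D_comm _ (pow_mem R.L.u_mem_D _) _ R.p_mem_D]
      show _ = R.p ^ (1 : ZMod 3).val * (R.L.u ^ k.val * R.K.z ^ (0 : ZMod 3).val)
      simp [ZMod.val_one]
    · rw [R.f'_u, ← R.vv_u]
      congr 1; funext i; fin_cases i <;> rfl
    · rw [R.f'_z]
      show _ = R.p ^ (0 : ZMod 3).val * (R.L.u ^ (-1 : ZMod 3).val * R.K.z ^ (1 : ZMod 3).val)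
      rw [show R.L.u⁻¹ = R.L.u ^ 2 from inv_eq_of_mul_eq_one_left (by rw [← pow_succ, R.L.u_cube]),
        show (-1 : ZMod 3).val = 2 from rfl]
      simp [ZMod.val_one]
  have hW := R.real_mul (R.real_mul hA hB) hA
  refine ⟨_, hW, ?_⟩
  have h := hW ![0, 0, 1]
  rw [R.vv_z, show R.f * R.f' * R.f = R.w from rfl, R.w_z,
    show R.L.u⁻¹ = R.vv ![0, -1, 0] from by
      simp only [vv, Matrix.cons_val_zero, Matrix.cons_val_one, Matrix.cons_val, ZMod.val_zero, pow_zero, one_mul, mul_one]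
      exact (inv_eq_of_mul_eq_one_left (by rw [← pow_succ, show (-1 : ZMod 3).val + 1 = 3 from rfl, R.L.u_cube]))] at h
  rw [R.vv_inj h]
  funext i
  simp [Matrix.mulVec, dotProduct, Fin.sum_univ_three]

theorem column : ∀ a b : ZMod 3, (a ≠ 0 ∨ b ≠ 0) → ∃ M : S2, M.1 0 1 = a ∧ M.1 1 1 = b := by decide +kernel

theorem real_all (M : S3) : ∃ g, R.Real M g := by
  obtain ⟨W, hW, hWc⟩ := R.real_w
  suffices h : ∀ x : Fin 3 → ZMod 3, x ≠ 0 → ∃ (B : S3) (g : G), R.Real B g ∧ (fun i => B.1 i 2) = x by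
    obtain ⟨B, g, hB, hBc⟩ := h (fun i => M.1 i 2) (fun h0 => by
      have h := M.2
      rw [Matrix.det_fin_three] at h
      simp [show M.1 0 2 = 0 from congrFun h0 0, show M.1 1 2 = 0 from congrFun h0 1,
        show M.1 2 2 = 0 from congrFun h0 2] at h)
    obtain ⟨g', hg'⟩ := R.real_block (B⁻¹ * M) (by
      have h1 : Matrix.mulVec B.1 ![0, 0, 1] = fun i => M.1 i 2 := by
        rw [← hBc]; funext i; simp [Matrix.mulVec, dotProduct, Fin.sum_univ_three]
      have h2 : Matrix.mulVec M.1 ![0, 0, 1] = fun i => M.1 i 2 := by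
        funext i; simp [Matrix.mulVec, dotProduct, Fin.sum_univ_three]
      have h3 : Matrix.mulVec (B⁻¹ * M).1 ![0, 0, 1] = ![0, 0, 1] := by
        rw [Matrix.SpecialLinearGroup.coe_mul, ← Matrix.mulVec_mulVec, h2, ← h1, Matrix.mulVec_mulVec,
          ← Matrix.SpecialLinearGroup.coe_mul, inv_mul_cancel, Matrix.SpecialLinearGroup.coe_one, Matrix.one_mulVec]
      rw [← h3]; funext i; simp [Matrix.mulVec, dotProduct, Fin.sum_univ_three])
    exact ⟨g * g', by simpa using R.real_mul hB hg'⟩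
  intro x hx
  by_cases h : x 0 ≠ 0 ∨ x 1 ≠ 0
  · -- move `u⁻¹` to `x`
    obtain ⟨M2, hM0, hM1⟩ := column (-x 0) (-x 1) (by simpa using h)
    have hd := M2.2
    rw [Matrix.det_fin_two] at hd
    have hdet : (!![M2.1 0 0, M2.1 0 1, 0; M2.1 1 0, M2.1 1 1, 0; 0, -x 2, 1] : Matrix (Fin 3) (Fin 3) (ZMod 3)).det = 1 := by
      rw [Matrix.det_fin_three]; simp; linear_combination hd
    obtain ⟨g, hg⟩ := R.real_block ⟨_, hdet⟩ (by funext i; fin_cases i <;> rfl)
    refine ⟨_, _, R.real_mul hg hW, ?_⟩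
    funext i
    show ((!![M2.1 0 0, M2.1 0 1, 0; M2.1 1 0, M2.1 1 1, 0; 0, -x 2, 1] : Matrix (Fin 3) (Fin 3) (ZMod 3)) * W.1) i 2 = x i
    rw [Matrix.mul_apply, Fin.sum_univ_three,
      show W.1 0 2 = 0 from congrFun hWc 0, show W.1 1 2 = -1 from congrFun hWc 1, show W.1 2 2 = 0 from congrFun hWc 2]
    fin_cases i <;> simp [hM0, hM1]
  · push Not at h
    have hx2 : x 2 ≠ 0 := fun h2 => hx (by funext i; fin_cases i <;> simp [h.1, h.2, h2])
    rcases (show x 2 = 1 ∨ x 2 = -1 by revert hx2; generalize x 2 = y; revert y; decide) with e | e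
    · refine ⟨1, 1, fun y => by simp, ?_⟩
      funext i; fin_cases i <;> simp [h.1, h.2, e]
    · refine ⟨_, _, R.real_mul hW hW, ?_⟩
      have h1 := R.real_mul hW hW ![0, 0, 1]
      rw [R.vv_z, R.c_inv.1, show R.K.z⁻¹ = R.vv ![0, 0, -1] from by
        simp only [vv, Matrix.cons_val_zero, Matrix.cons_val_one, Matrix.cons_val, ZMod.val_zero, pow_zero, one_mul]
        exact inv_eq_of_mul_eq_one_left (by rw [← pow_succ, show (-1 : ZMod 3).val + 1 = 3 from rfl, R.K.z_cube])] at h1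
      have h2 := R.vv_inj h1
      funext i
      have h3 := congrFun h2 i
      simp [Matrix.mulVec, dotProduct, Fin.sum_univ_three] at h3 ⊢
      rw [← h3]
      fin_cases i <;> simp [h.1, h.2, e]

end Frame

/-- Piece Pre. -/
theorem pre : StmtPre.{u} := by
  intro G _ _ S Z hZ C hC Q hQ hQex hQcard hQexp hCQ hZQ K hK r A hA0 hAr hmono hinv hmax e htwo
  obtain ⟨K0, ⟨L⟩⟩ := exists_core S Z hZ C hC Q hQ hQex hQcard hQexp hCQ hZQ K hK r A hA0 hAr hmono hinv hmax e htwo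
  obtain ⟨R, hRz, hRQ, -⟩ := exists_frame L
  have hz : R.vv ![0, 0, 1] = R.K.z := R.vv_z
  have hcn : ∀ c : G, c * R.K.z = R.K.z * c → c ∈ normalizer (R.L.D : Set G) := by
    intro c hc
    refine mem_normalizer_iff.2 fun d => ⟨fun hd => R.conj_D hc hd, fun hd => ?_⟩
    have := R.conj_D (R.K.comm_inv hc) hd
    simpa [mul_assoc] using this
  have hwn : R.w ∈ normalizer (R.L.D : Set G) := by
    have hmap : R.L.D.map (MulAut.conj R.w).toMonoidHom = R.L.D :=
      eq_of_le_of_card_ge (by rintro _ ⟨d, hd, rfl⟩; exact R.w_D hd)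
        (by rw [card_map_of_injective (MulAut.conj R.w).injective])
    refine mem_normalizer_iff.2 fun d => ⟨fun hd => R.w_D hd, fun hd => ?_⟩
    obtain ⟨d', hd', h⟩ := hmap.symm ▸ hd
    have : d' = d := (MulAut.conj R.w).injective h
    rwa [← this]
  refine ⟨{
    v := R.vv
    v_add := R.vv_add
    v_inj := R.vv_inj
    D := R.L.D
    mem_D := fun g => ⟨fun hg => R.vv_surj hg, fun ⟨x, hx⟩ => hx ▸ R.vv_mem x⟩
    cent_D := ?_
    act := fun M => R.real_all M
    mon := ?_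
    norm_z := ?_
    Q := R.K.Q
    card_Q := R.K.card_Q
    Q_cube := R.K.Q_cube
    D_le_Q := R.L.D_le_Q
    Q_le := fun q hq => by rw [hz]; exact mem_centralizer_singleton_iff.2 (R.K.Q_comm q hq)
    Q_normal := ?_
    sylow := R.K.sylow
    fusQ := ?_ }⟩
  · refine le_antisymm (fun g hg => ?_) (fun d hd => mem_centralizer_iff.2 fun d' hd' => (R.L.D_comm d' hd' d hd))
    have hgc : ∀ d ∈ R.L.D, g * d = d * g := fun d hd => (mem_centralizer_iff.1 hg d hd).symm
    have hgz := hgc _ R.L.z_mem_D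
    obtain ⟨A, hA, e00, e10, e01, e11, -⟩ := R.real_cent hgz
    have hA1 : A = 1 := R.real_unique hA fun x => by
      rw [hgc _ (R.vv_mem x), mul_inv_cancel_right]
      simp
    rw [hA1] at e00 e10 e01 e11
    simp at e00 e10 e01 e11
    have hgQ : g ∈ R.K.Q := (R.K.img_eq_one hgz).1 (Subtype.ext (by
      ext i j; fin_cases i <;> fin_cases j <;> simp [← e00, ← e10, ← e01, ← e11]))
    exact R.L.mem_D_of_comm hgQ hgc
  · intro g hg
    have hgz : g * R.K.z * g⁻¹ ∈ R.L.D := (mem_normalizer_iff.1 hg _).1 R.L.z_mem_D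
    obtain ⟨x, hx⟩ := R.vv_surj hgz
    have hx0 : x ≠ 0 := fun h0 => by
      rw [h0] at hx
      exact R.K.z_ne (conj_eq_one_iff.1 (hx.symm.trans (by simp [Frame.vv])))
    -- an element with the same image of `z`
    obtain ⟨v0, v1, hv⟩ : ∃ M : S3, ∃ h : G, R.Real M h ∧ Matrix.mulVec M.1 ![0, 0, 1] = x := by
      obtain ⟨M, hM⟩ : ∃ M : S3, Matrix.mulVec M.1 ![0, 0, 1] = x := by
        revert hx0
        clear hx
        revert x
        exact exists_column
      obtain ⟨h, hh⟩ := R.real_all M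
      exact ⟨M, h, hh, hM⟩
    have hh := hv.1 ![0, 0, 1]
    rw [hv.2, hz, hx] at hh
    have hc : v1⁻¹ * g * R.K.z = R.K.z * (v1⁻¹ * g) := by
      have h2 : v1 * R.K.z = g * R.K.z * g⁻¹ * v1 := mul_inv_eq_iff_eq_mul.1 hh
      calc v1⁻¹ * g * R.K.z = v1⁻¹ * (g * R.K.z * g⁻¹ * v1) * v1⁻¹ * g := by group
        _ = _ := by rw [← h2]; group
    obtain ⟨A, hA, -⟩ := R.real_cent hc
    refine ⟨v0 * A, ?_⟩
    have := R.real_mul hv.1 hA
    rwa [mul_inv_cancel_left] at this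
  · intro g hg
    rw [hz] at hg
    have hmem : g * R.K.z * g⁻¹ ∈ zpowers R.K.z := (mem_normalizer_iff.1 hg _).1 (mem_zpowers _)
    rcases R.K.Z_cases hmem with h | h | h
    · exact absurd (conj_eq_one_iff.1 h) R.K.z_ne
    · exact hcn g (mul_inv_eq_iff_eq_mul.1 h)
    · have hzi : R.K.z * R.K.z = R.K.z⁻¹ := eq_inv_of_mul_eq_one_left (by rw [← pow_three']; exact R.K.z_cube)
      rw [hzi] at h
      have hc : R.w * R.w * g * R.K.z = R.K.z * (R.w * R.w * g) := by
        refine mul_inv_eq_iff_eq_mul.1 ?_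
        calc R.w * R.w * g * R.K.z * (R.w * R.w * g)⁻¹ = R.w * R.w * (g * R.K.z * g⁻¹) * (R.w * R.w)⁻¹ := by group
          _ = (R.w * R.w * R.K.z * (R.w * R.w)⁻¹)⁻¹ := by rw [h, conj_inv]
          _ = _ := by rw [R.c_inv.1, inv_inv]
      have := mul_mem (inv_mem (mul_mem hwn hwn)) (hcn _ hc)
      rwa [inv_mul_cancel_left] at this
  · intro c hc
    rw [hz] at hc
    have hc' := mem_centralizer_singleton_iff.1 hc
    refine mem_normalizer_iff.2 fun q => ⟨fun hq => R.K.conj_Q hc' hq, fun hq => ?_⟩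
    have := R.K.conj_Q (R.K.comm_inv hc') hq
    simpa [mul_assoc] using this
  · intro x hxQ hxD hconj c hc
    rw [hz] at hc hconj
    have hc' := mem_centralizer_singleton_iff.1 hc
    obtain ⟨g, hg⟩ := isConj_iff.1 hconj
    have hxZ : x ∉ zpowers R.K.z := fun h => hxD (zpowers_le.2 R.L.z_mem_D h)
    let L' : Conj R.K := ⟨g, x, hg, hxQ, hxZ⟩
    obtain ⟨R', hz', -, hu'⟩ := exists_frame L'
    have hc'' : c * R'.K.z = R'.K.z * c := by rw [hz']; exact hc'
    have hxmem : x ∈ R'.L.D := by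
      have := R'.L.u_mem_D
      rwa [show R'.L.u = x from hu'] at this
    exact R'.L.D_comm _ (R'.conj_D hc'' hxmem) _ hxmem

end CfsgLib.L43Three.PrePf
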