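import Cfsg.Agent.Lib.L43Three.Defs
import Cfsg.Agent.Lib.Base.Cores

/-!
S3373, piece Pre: the centralizer of `z` and the quotient `W = Q / ⟨z⟩`.
-/

set_option autoImplicit false
set_option maxRecDepth 100000
set_option linter.unusedSectionVars false
set_option linter.style.haveILetI false

namespace CfsgLib.L43Three.PrePf

open Subgroup

universe u

/-- `SL₂(3)`. -/
abbrev S2 : Type := Matrix.SpecialLinearGroup (Fin 2) (ZMod 3)

/-- The lower transvection. -/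
def sLow : S2 := ⟨!![1, 0; -1, 1], by decide⟩
/-- The upper transvection. -/
def sUp : S2 := ⟨!![1, 1; 0, 1], by decide⟩

/-- An outer automorphism of `SL₂(3)`. -/
def θf (A : S2) : S2 := ⟨!![A.1 0 0, -(A.1 0 1); -(A.1 1 0), A.1 1 1], by
  have h := A.2
  rw [Matrix.det_fin_two] at h
  rw [Matrix.det_fin_two]; simp [h]⟩

theorem θf_mul : ∀ A B : S2, θf (A * B) = θf A * θf B := by decide +kernel

theorem θf_inv : ∀ A : S2, θf (θf A) = A := by decide +kernel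

/-- The automorphism. -/
def θ : S2 ≃* S2 := { toFun := θf, invFun := θf, left_inv := θf_inv, right_inv := θf_inv, map_mul' := θf_mul }

theorem to_low : ∀ s : S2, s * s * s = 1 → s ≠ 1 → ∃ h : S2, h * s * h⁻¹ = sLow ∨ h * θf s * h⁻¹ = sLow := by
  decide +kernel

theorem low_up : sUp * sUp * sUp = 1 ∧
    sLow * sUp⁻¹ * (sLow * sUp⁻¹) * (sLow * sUp⁻¹ * (sLow * sUp⁻¹)) = 1 := by decide +kernel

theorem up_conj : ∃ h : S2, h * sLow * h⁻¹ = sUp := by decide +kernel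

theorem words : ∀ A : S2, ∃ a b c d e : Fin 3,
    A = sLow ^ a.val * sUp ^ b.val * sLow ^ c.val * sUp ^ d.val * sLow ^ e.val := by decide +kernel

theorem no_core : ∀ A : S2, A * A * A = 1 → A ≠ 1 → ∃ B : S2, ∀ (k : Fin 3), B * A * B⁻¹ ≠ A ^ k.val := by
  decide +kernel

/-- The local hypotheses. -/
structure Core (G : Type u) [Group G] where
  z : G
  Q : Subgroup G
  z_cube : z ^ 3 = 1
  z_ne : z ≠ 1
  z_mem : z ∈ Q
  card_Q : Nat.card Q = 243
  Q_cube : ∀ q ∈ Q, q ^ 3 = 1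
  Q_comm : ∀ q ∈ Q, q * z = z * q
  Q_center : ∀ q ∈ Q, (∀ r ∈ Q, q * r = r * q) → q ∈ zpowers z
  Q_derived : ∀ q ∈ Q, ∀ r ∈ Q, q * r * q⁻¹ * r⁻¹ ∈ zpowers z
  Q_norm : ∀ g, g * z * g⁻¹ ∈ zpowers z → ∀ q ∈ Q, g * q * g⁻¹ ∈ Q
  π : ↥(centralizer ({z} : Set G)) →* S2
  π_surj : Function.Surjective π
  π_ker : ∀ c, π c = 1 ↔ (c : G) ∈ Q
  cent_Q : ∀ g, (∀ q ∈ Q, g * q = q * g) → g ∈ zpowers z
  fix : ∀ q ∈ Q, (∀ c, c * z = z * c → c * q * c⁻¹ * q⁻¹ ∈ zpowers z) → q ∈ zpowers z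
  sylow : ¬ 3 ^ 7 ∣ Nat.card G

variable {G : Type u} [Group G] [Finite G]

namespace Core

variable (K : Core G)

theorem orderOf_z : orderOf K.z = 3 :=
  haveI : Fact (Nat.Prime 3) := ⟨Nat.prime_three⟩
  orderOf_eq_prime K.z_cube K.z_ne

theorem card_Z : Nat.card (zpowers K.z) = 3 := by rw [Nat.card_zpowers, K.orderOf_z]

theorem Z_le : zpowers K.z ≤ K.Q := zpowers_le.2 K.z_mem

theorem Z_cases {x : G} (h : x ∈ zpowers K.z) : x = 1 ∨ x = K.z ∨ x = K.z * K.z := by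
  obtain ⟨i, rfl⟩ := mem_zpowers_iff.1 h
  rw [← zpow_mod_orderOf, K.orderOf_z]
  rcases (show i % ((3 : ℕ) : ℤ) = 0 ∨ i % ((3 : ℕ) : ℤ) = 1 ∨ i % ((3 : ℕ) : ℤ) = 2 by omega)
    with e | e | e <;> rw [e]
  · exact Or.inl (zpow_zero _)
  · exact Or.inr (Or.inl (zpow_one _))
  · exact Or.inr (Or.inr (zpow_two _))

theorem Z_central {g x : G} (hg : g * K.z = K.z * g) (hx : x ∈ zpowers K.z) : g * x = x * g := by
  obtain ⟨i, rfl⟩ := mem_zpowers_iff.1 hx
  exact ((show Commute g K.z from hg).zpow_right i).eq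

theorem Z_conj {g x : G} (hg : g * K.z = K.z * g) (hx : x ∈ zpowers K.z) : g * x * g⁻¹ = x := by
  rw [K.Z_central hg hx, mul_inv_cancel_right]

theorem mem_cent {c : G} : c ∈ centralizer ({K.z} : Set G) ↔ c * K.z = K.z * c :=
  mem_centralizer_singleton_iff

theorem conj_Q {c q : G} (hc : c * K.z = K.z * c) (hq : q ∈ K.Q) : c * q * c⁻¹ ∈ K.Q :=
  K.Q_norm c (by rw [hc, mul_inv_cancel_right]; exact mem_zpowers _) q hq

theorem cm_mem {q r : G} (hq : q ∈ K.Q) (hr : r ∈ K.Q) : q * r * q⁻¹ * r⁻¹ ∈ zpowers K.z :=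
  K.Q_derived q hq r hr

theorem cm_mul_left {q q' r : G} (hq : q ∈ K.Q) (hq' : q' ∈ K.Q) (hr : r ∈ K.Q) :
    q * q' * r * (q * q')⁻¹ * r⁻¹ = q * r * q⁻¹ * r⁻¹ * (q' * r * q'⁻¹ * r⁻¹) := by
  have h := K.cm_mem hq' hr
  calc q * q' * r * (q * q')⁻¹ * r⁻¹ = q * (q' * r * q'⁻¹ * r⁻¹) * r * q⁻¹ * r⁻¹ := by group
    _ = q' * r * q'⁻¹ * r⁻¹ * q * r * q⁻¹ * r⁻¹ := by rw [K.Z_central (K.Q_comm q hq) h]
    _ = q' * r * q'⁻¹ * r⁻¹ * (q * r * q⁻¹ * r⁻¹) := by group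
    _ = _ := K.Z_central (mem_centralizer_singleton_iff.1 (zpowers_le.2 (mem_centralizer_singleton_iff.2 rfl) h))
        (K.cm_mem hq hr)

theorem cm_mul_right {q r r' : G} (hq : q ∈ K.Q) (hr : r ∈ K.Q) (hr' : r' ∈ K.Q) :
    q * (r * r') * q⁻¹ * (r * r')⁻¹ = q * r * q⁻¹ * r⁻¹ * (q * r' * q⁻¹ * r'⁻¹) := by
  have h := K.cm_mem hq hr'
  calc q * (r * r') * q⁻¹ * (r * r')⁻¹ = q * r * q⁻¹ * ((q * r' * q⁻¹ * r'⁻¹) * r⁻¹) := by group
    _ = q * r * q⁻¹ * (r⁻¹ * (q * r' * q⁻¹ * r'⁻¹)) := by rw [K.Z_central (K.Q_comm _ (inv_mem hr)) h]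
    _ = _ := by group

theorem cm_conj {c q r : G} (hc : c * K.z = K.z * c) (hq : q ∈ K.Q) (hr : r ∈ K.Q) :
    (c * q * c⁻¹) * (c * r * c⁻¹) * (c * q * c⁻¹)⁻¹ * (c * r * c⁻¹)⁻¹ = q * r * q⁻¹ * r⁻¹ := by
  calc _ = c * (q * r * q⁻¹ * r⁻¹) * c⁻¹ := by group
    _ = _ := K.Z_conj hc (K.cm_mem hq hr)

/-- An abelian subgroup of `Q` has order less than 81. -/
theorem abelian_small (A : Subgroup G) (hA : A ≤ K.Q) (hab : ∀ a ∈ A, ∀ b ∈ A, a * b = b * a) :
    Nat.card A < 81 := by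
  classical
  by_contra hlt
  haveI : Fact (Nat.Prime 3) := ⟨Nat.prime_three⟩
  obtain ⟨n, hn⟩ := IsPGroup.iff_card.1 (show IsPGroup 3 A from fun a => ⟨1, Subtype.ext (by
    rw [pow_one, SubmonoidClass.coe_pow]; exact K.Q_cube _ (hA a.2))⟩)
  have h4 : 4 ≤ n := by
    by_contra hn4
    have : 3 ^ n ≤ 3 ^ 3 := Nat.pow_le_pow_right (by norm_num) (by omega)
    omega
  obtain ⟨q, hq, hqA⟩ : ∃ q ∈ K.Q, ∀ r ∈ K.Q, ∃ i : Fin 3, ∃ a ∈ A, r = q ^ i.val * a := by
    by_cases hAQ : A = K.Q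
    · exact ⟨1, one_mem _, fun r hr => ⟨0, r, hAQ ▸ hr, by simp⟩⟩
    obtain ⟨q, hq, hq'⟩ : ∃ q ∈ K.Q, q ∉ A := by
      by_contra h
      push Not at h
      exact hAQ (le_antisymm hA h)
    refine ⟨q, hq, ?_⟩
    have hi : ∀ i j : Fin 3, ∀ a ∈ A, ∀ b ∈ A, q ^ i.val * a = q ^ j.val * b → i = j := by
      intro i j a ha b hb e
      have h1 : (q ^ j.val)⁻¹ * q ^ i.val ∈ A := by
        rw [show (q ^ j.val)⁻¹ * q ^ i.val = b * a⁻¹ by rw [eq_mul_inv_iff_mul_eq, mul_assoc, e, inv_mul_cancel_left]]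
        exact mul_mem hb (inv_mem ha)
      have q3 := K.Q_cube q hq
      have q2 : q ^ 2 ∉ A := fun h2 => hq' (by
        have := mul_mem h2 h2
        rwa [← pow_add, show 2 + 2 = 3 + 1 by rfl, pow_add, q3, one_mul, pow_one] at this)
      have key : (q ^ j.val)⁻¹ * q ^ i.val = q ^ ((i.val + 2 * j.val) % 3) := by
        rw [← pow_eq_pow_mod _ q3, inv_mul_eq_iff_eq_mul, ← pow_add,
          show j.val + (i.val + 2 * j.val) = i.val + 3 * j.val by ring, pow_add, pow_mul, q3, one_pow, mul_one]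
      rw [key] at h1
      rcases (show (i.val + 2 * j.val) % 3 = 0 ∨ (i.val + 2 * j.val) % 3 = 1 ∨ (i.val + 2 * j.val) % 3 = 2 by omega)
        with e' | e' | e'
      · exact Fin.ext (by omega)
      · rw [e', pow_one] at h1; exact absurd h1 hq'
      · rw [e'] at h1; exact absurd h1 q2
    have hinj : Function.Injective fun p : Fin 3 × A =>
        (⟨q ^ p.1.val * p.2, mul_mem (pow_mem hq _) (hA p.2.2)⟩ : K.Q) := by
      rintro ⟨i, a⟩ ⟨j, b⟩ e
      simp only [Subtype.mk.injEq] at e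
      obtain rfl := hi i j a a.2 b b.2 e
      exact Prod.ext rfl (Subtype.ext (mul_left_cancel e))
    have hle := Nat.card_le_card_of_injective _ hinj
    rw [Nat.card_prod, Nat.card_fin, hn, K.card_Q] at hle
    have : 3 ^ 4 ≤ 3 ^ n := Nat.pow_le_pow_right (by norm_num) h4
    have hs := hinj.bijective_of_nat_card_le (by rw [Nat.card_prod, Nat.card_fin, hn, K.card_Q]; omega) |>.2
    intro r hr
    obtain ⟨⟨i, a⟩, e⟩ := hs ⟨r, hr⟩
    exact ⟨i, a, a.2, (congrArg Subtype.val e).symm⟩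
  -- the kernel of the commutator map with `q` is central
  have hcen : ∀ a ∈ A, q * a = a * q → a ∈ zpowers K.z := by
    intro a ha hc
    refine K.Q_center a (hA ha) fun r hr => ?_
    obtain ⟨i, b, hb, rfl⟩ := hqA r hr
    exact ((show Commute a q from hc.symm).pow_right _ |>.mul_right (show Commute a b from hab a ha b hb)).eq
  let ψ : A →* zpowers K.z :=
    { toFun := fun a => ⟨q * a * q⁻¹ * (a : G)⁻¹, K.cm_mem hq (hA a.2)⟩
      map_one' := Subtype.ext (by simp)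
      map_mul' := fun a b => Subtype.ext (K.cm_mul_right hq (hA a.2) (hA b.2)) }
  have hk : Nat.card ψ.ker ≤ 3 := by
    rw [← K.card_Z]
    refine Nat.card_le_card_of_injective (fun a : ψ.ker => (⟨((a : A) : G), hcen _ (a : A).2 ?_⟩ : zpowers K.z))
      fun x y e => Subtype.ext (Subtype.ext (congrArg (fun t : zpowers K.z => (t : G)) e :))
    exact mul_inv_eq_iff_eq_mul.1 (mul_inv_eq_one.1 (congrArg Subtype.val (MonoidHom.mem_ker.1 a.2)))
  have hr : Nat.card ψ.range ≤ 3 := (Subgroup.card_le_card_group _).trans K.card_Z.le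
  have := ψ.ker.card_mul_index
  rw [Subgroup.index_ker] at this
  have : Nat.card A ≤ 3 * 3 := this.symm.le.trans (Nat.mul_le_mul hk hr)
  omega

/-! ### The quotient `W` -/

/-- `⟨z⟩` inside `Q`. -/
def Zq : Subgroup K.Q := (zpowers K.z).subgroupOf K.Q

instance Zq_normal : K.Zq.Normal := ⟨fun x hx q => by
  show (q : G) * x * (q : G)⁻¹ ∈ zpowers K.z
  exact (K.Z_conj (K.Q_comm q q.2) (mem_subgroupOf.1 hx)).symm ▸ mem_subgroupOf.1 hx⟩

/-- `W = Q / ⟨z⟩`, written additively. -/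
abbrev W : Type u := Additive (K.Q ⧸ K.Zq)

instance W_comm : AddCommGroup K.W :=
  { (inferInstance : AddGroup K.W) with
    add_comm := fun a b => by
      induction a using Additive.rec with | ofMul a => ?_
      induction b using Additive.rec with | ofMul b => ?_
      induction a using QuotientGroup.induction_on with | H a => ?_
      induction b using QuotientGroup.induction_on with | H b => ?_
      show Additive.ofMul ((a : K.Q ⧸ K.Zq) * b) = Additive.ofMul ((b : K.Q ⧸ K.Zq) * a)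
      refine congrArg Additive.ofMul ?_
      rw [← QuotientGroup.mk_mul, ← QuotientGroup.mk_mul, QuotientGroup.eq]
      show ((a * b : K.Q) : G)⁻¹ * (b * a : K.Q) ∈ zpowers K.z
      have := K.cm_mem (inv_mem b.2) (inv_mem a.2)
      simpa [mul_assoc] using this }

/-- The class of an element. -/
def cl (q : G) (hq : q ∈ K.Q) : K.W := Additive.ofMul (QuotientGroup.mk ⟨q, hq⟩)

theorem cl_surj (x : K.W) : ∃ q hq, K.cl q hq = x := by
  induction x using Additive.rec with | ofMul x => ?_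
  induction x using QuotientGroup.induction_on with | H x => ?_
  exact ⟨x, x.2, rfl⟩

theorem cl_mul {q r : G} (hq : q ∈ K.Q) (hr : r ∈ K.Q) : K.cl (q * r) (mul_mem hq hr) = K.cl q hq + K.cl r hr := rfl

theorem cl_inv {q : G} (hq : q ∈ K.Q) : K.cl q⁻¹ (inv_mem hq) = -K.cl q hq := rfl

theorem cl_eq {q r : G} (hq : q ∈ K.Q) (hr : r ∈ K.Q) : K.cl q hq = K.cl r hr ↔ q⁻¹ * r ∈ zpowers K.z :=
  (Equiv.apply_eq_iff_eq Additive.ofMul).trans QuotientGroup.eq

theorem cl_zero {q : G} (hq : q ∈ K.Q) : K.cl q hq = 0 ↔ q ∈ zpowers K.z :=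
  (Equiv.apply_eq_iff_eq Additive.ofMul).trans (QuotientGroup.eq_one_iff _)

theorem three_smul (x : K.W) : 3 • x = 0 := by
  obtain ⟨q, hq, rfl⟩ := K.cl_surj x
  show Additive.ofMul ((QuotientGroup.mk ⟨q, hq⟩ : K.Q ⧸ K.Zq) ^ 3) = Additive.ofMul 1
  refine congrArg Additive.ofMul ?_
  rw [← QuotientGroup.mk_pow, show (⟨q, hq⟩ : K.Q) ^ 3 = 1 from Subtype.ext (K.Q_cube q hq), QuotientGroup.mk_one]

instance W_module : Module (ZMod 3) K.W := AddCommGroup.zmodModule K.three_smul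

/-- Conjugation on `Q`. -/
def conjQ (c : G) (hc : c * K.z = K.z * c) : K.Q →* K.Q where
  toFun q := ⟨c * q * c⁻¹, K.conj_Q hc q.2⟩
  map_one' := Subtype.ext (by simp)
  map_mul' q r := Subtype.ext (by simp [mul_assoc])

/-- The operator of an element of `C(z)` on `W`. -/
def op (c : G) (hc : c * K.z = K.z * c) : K.W →+ K.W :=
  (QuotientGroup.map K.Zq K.Zq (K.conjQ c hc) fun x hx => by
    show c * (x : G) * c⁻¹ ∈ zpowers K.z
    exact (K.Z_conj hc (mem_subgroupOf.1 hx)).symm ▸ mem_subgroupOf.1 hx).toAdditive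

theorem op_cl {c q : G} (hc : c * K.z = K.z * c) (hq : q ∈ K.Q) :
    K.op c hc (K.cl q hq) = K.cl (c * q * c⁻¹) (K.conj_Q hc hq) := rfl

theorem comm_mul {c d : G} (hc : c * K.z = K.z * c) (hd : d * K.z = K.z * d) : c * d * K.z = K.z * (c * d) :=
  ((show Commute c K.z from hc).mul_left (show Commute d K.z from hd)).eq

theorem comm_inv {c : G} (hc : c * K.z = K.z * c) : c⁻¹ * K.z = K.z * c⁻¹ :=
  (show Commute c K.z from hc).inv_left.eq

theorem op_mul {c d : G} (hc : c * K.z = K.z * c) (hd : d * K.z = K.z * d) (x : K.W) :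
    K.op (c * d) (K.comm_mul hc hd) x = K.op c hc (K.op d hd x) := by
  obtain ⟨q, hq, rfl⟩ := K.cl_surj x
  rw [op_cl, op_cl, op_cl]
  congr 1
  group

theorem op_Q {c : G} (hc : c ∈ K.Q) (x : K.W) : K.op c (K.Q_comm c hc) x = x := by
  obtain ⟨q, hq, rfl⟩ := K.cl_surj x
  rw [op_cl, cl_eq]
  have := K.cm_mem hc (inv_mem hq)
  simpa [mul_assoc] using this

/-- The image in `SL₂(3)`. -/
def img (c : G) (hc : c * K.z = K.z * c) : S2 := K.π ⟨c, K.mem_cent.2 hc⟩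

theorem img_mul {c d : G} (hc : c * K.z = K.z * c) (hd : d * K.z = K.z * d) :
    K.img (c * d) (K.comm_mul hc hd) = K.img c hc * K.img d hd :=
  map_mul K.π ⟨c, K.mem_cent.2 hc⟩ ⟨d, K.mem_cent.2 hd⟩

theorem img_inv {c : G} (hc : c * K.z = K.z * c) : K.img c⁻¹ (K.comm_inv hc) = (K.img c hc)⁻¹ :=
  map_inv K.π ⟨c, K.mem_cent.2 hc⟩

theorem img_eq_one {c : G} (hc : c * K.z = K.z * c) : K.img c hc = 1 ↔ c ∈ K.Q := K.π_ker _

theorem exists_img (A : S2) : ∃ (c : G) (hc : c * K.z = K.z * c), K.img c hc = A := by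
  obtain ⟨⟨c, hc⟩, h⟩ := K.π_surj A
  exact ⟨c, K.mem_cent.1 hc, h⟩

theorem op_congr {c d : G} (hc : c * K.z = K.z * c) (hd : d * K.z = K.z * d) (e : K.img c hc = K.img d hd)
    (x : K.W) : K.op c hc x = K.op d hd x := by
  have hq : d⁻¹ * c ∈ K.Q := by
    rw [← K.img_eq_one (K.comm_mul (K.comm_inv hd) hc), K.img_mul (K.comm_inv hd) hc, K.img_inv hd, e,
      inv_mul_cancel]
  have h := K.op_mul hd (K.Q_comm _ hq) x
  rw [K.op_Q hq] at h
  simpa [mul_inv_cancel_left] using h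

/-- Change the identification of the quotient by an automorphism. -/
def twist (α : S2 ≃* S2) : Core G :=
  { K with
    π := α.toMonoidHom.comp K.π
    π_surj := α.surjective.comp K.π_surj
    π_ker := fun c => by
      show α (K.π c) = 1 ↔ _
      rw [MulEquiv.map_eq_one_iff, K.π_ker] }

end Core

end CfsgLib.L43Three.PrePf
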