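import Cfsg.Agent.Lib.L43Three.PrePlane

/-!
S3373, piece Pre: `D` is the plane spanned by `u` under the centralizer of `z`.
-/

set_option autoImplicit false
set_option maxRecDepth 100000
set_option linter.unusedSectionVars false
set_option linter.style.haveILetI false

namespace CfsgLib.L43Three.PrePf

open Subgroup

universe u

variable {G : Type u} [Group G] [Finite G]

theorem Core.cl_smul (K : Core G) {q : G} (hq : q ∈ K.Q) (i : ZMod 3) :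
    i • K.cl q hq = K.cl (q ^ i.val) (pow_mem hq _) := by
  rw [K.cl_pow hq, ← Nat.cast_smul_eq_nsmul (ZMod 3), ZMod.natCast_zmod_val]

theorem Core.smul_eq_zero (K : Core G) {i : ZMod 3} {x : K.W} (h : i • x = 0) (hx : x ≠ 0) : i = 0 := by
  haveI : Fact (Nat.Prime 3) := ⟨Nat.prime_three⟩
  by_contra hi
  exact hx (by simpa [smul_smul, inv_mul_cancel₀ hi] using congrArg (fun y => i⁻¹ • y) h)

theorem Core.op_smul (K : Core G) {c : G} (hc : c * K.z = K.z * c) (i : ZMod 3) (x : K.W) :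
    K.op c hc (i • x) = i • K.op c hc x := ZMod.map_smul (K.op c hc) i x

namespace Frame

variable (R : Frame G)

/-- An element of `D` moved by `v`. -/
noncomputable def δ : G := R.D_moved.choose

theorem δ_mem : R.δ ∈ R.L.D := R.D_moved.choose_spec.choose

/-- Its class. -/
noncomputable def δb : R.K.W := R.K.cl R.δ (R.L.D_le_Q R.δ_mem)

theorem N_δb : R.N R.δb = R.ub := R.D_moved.choose_spec.choose_spec

theorem N_smul (i : ZMod 3) (x : R.K.W) : R.N (i • x) = i • R.N x := ZMod.map_smul R.N i x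

theorem D_indep {j k : ZMod 3} (h : j • R.ub + k • R.δb = 0) : j = 0 ∧ k = 0 := by
  have hk : k = 0 := by
    have h' := congrArg R.N h
    rw [map_add, R.N_smul, R.N_smul, R.N_ub, R.N_δb, smul_zero, zero_add, map_zero] at h'
    exact R.K.smul_eq_zero h' R.ub_ne
  subst hk
  rw [zero_smul, add_zero] at h
  exact ⟨R.K.smul_eq_zero h R.ub_ne, rfl⟩

theorem cl_eq' {q r : G} (hq : q ∈ R.K.Q) (hr : r ∈ R.K.Q) (h : q = r) : R.K.cl q hq = R.K.cl r hr := by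
  subst h; rfl

theorem D_span {d : G} (hd : d ∈ R.L.D) :
    ∃ j k : ZMod 3, R.K.cl d (R.L.D_le_Q hd) = j • R.ub + k • R.δb := by
  have hzQ := R.K.z_mem
  have huQ := R.L.u_mem
  have hδQ := R.L.D_le_Q R.δ_mem
  let φ : ZMod 3 × ZMod 3 × ZMod 3 → R.L.D := fun t => ⟨R.K.z ^ t.1.val * (R.L.u ^ t.2.1.val * R.δ ^ t.2.2.val),
    mul_mem (pow_mem R.L.z_mem_D _) (mul_mem (pow_mem R.L.u_mem_D _) (pow_mem R.δ_mem _))⟩
  have hcl : ∀ t, R.K.cl (φ t : G) (R.L.D_le_Q (φ t).2) = t.2.1 • R.ub + t.2.2 • R.δb := fun t => by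
    rw [ub, δb, R.K.cl_smul huQ, R.K.cl_smul hδQ, ← R.K.cl_mul]
    refine (R.K.cl_eq _ _).2 ?_
    show (R.K.z ^ t.1.val * (R.L.u ^ t.2.1.val * R.δ ^ t.2.2.val))⁻¹ * _ ∈ _
    rw [mul_inv_rev, mul_assoc]
    have h := R.K.Z_central (R.K.Q_comm _ (mul_mem (pow_mem huQ t.2.1.val) (pow_mem hδQ t.2.2.val)))
      (inv_mem (pow_mem (mem_zpowers R.K.z) t.1.val))
    rw [← h, inv_mul_cancel_left]
    exact inv_mem (pow_mem (mem_zpowers _) _)
  have hinj : Function.Injective φ := by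
    rintro ⟨i, j, k⟩ ⟨i', j', k'⟩ e
    have h : j • R.ub + k • R.δb = j' • R.ub + k' • R.δb := by
      rw [← hcl (i, j, k), ← hcl (i', j', k')]
      exact R.cl_eq' _ _ (congrArg Subtype.val e)
    obtain ⟨h1, h2⟩ := R.D_indep (j := j - j') (k := k - k') (by
      rw [sub_smul, sub_smul, sub_add_sub_comm, h, sub_self])
    rw [sub_eq_zero] at h1 h2
    subst h1 h2
    have h3 : R.K.z ^ i.val = R.K.z ^ i'.val := mul_right_cancel (congrArg Subtype.val e)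
    have h4 := pow_injOn_Iio_orderOf (by rw [R.K.orderOf_z]; exact ZMod.val_lt i)
      (by rw [R.K.orderOf_z]; exact ZMod.val_lt i') h3
    exact Prod.ext (ZMod.val_injective _ h4) rfl
  have hs := (hinj.bijective_of_nat_card_le (by
    rw [R.L.card_D, Nat.card_prod, Nat.card_prod, Nat.card_zmod])).2 ⟨d, hd⟩
  obtain ⟨t, ht⟩ := hs
  refine ⟨t.2.1, t.2.2, ?_⟩
  rw [← hcl t]
  exact R.cl_eq' _ _ (congrArg Subtype.val ht).symm

theorem exists_a : ∃ a, ∃ ha : a ∈ R.L.CQ, a ∉ R.L.D ∧ R.N (R.K.cl a (R.L.mem_CQ.1 ha).1) = 0 := by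
  obtain ⟨a, ha, haD⟩ : ∃ a ∈ R.L.CQ, a ∉ R.L.D := by
    by_contra h
    push Not at h
    have := card_le_of_le (show R.L.CQ ≤ R.L.D from h)
    rw [R.L.card_CQ, R.L.card_D] at this
    omega
  have haQ := (R.L.mem_CQ.1 ha).1
  obtain ⟨j, k, hjk⟩ := R.D_span (R.conj_CQ ha)
  rw [← R.N_cl haQ] at hjk
  have h2 := congrArg R.N hjk
  rw [R.N_sq, map_add, R.N_smul, R.N_smul, R.N_ub, R.N_δb, smul_zero, zero_add] at h2
  rw [R.K.smul_eq_zero h2.symm R.ub_ne, zero_smul, add_zero] at hjk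
  have hδC : R.δ ∈ R.L.CQ := R.δ_mem.1
  refine ⟨a * R.δ ^ (-j).val, mul_mem ha (pow_mem hδC _), fun h => haD ?_, ?_⟩
  · have := mul_mem h (inv_mem (pow_mem R.δ_mem (-j).val))
    rwa [mul_inv_cancel_right] at this
  · rw [R.K.cl_mul haQ (pow_mem (R.L.D_le_Q R.δ_mem) _), map_add, hjk, ← R.K.cl_smul (R.L.D_le_Q R.δ_mem), R.N_smul,
      show R.N (R.K.cl R.δ (R.L.D_le_Q R.δ_mem)) = R.ub from R.N_δb, neg_smul, add_neg_cancel]

/-- A fixed element of `C_Q(u)` outside `D`. -/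
noncomputable def a : G := R.exists_a.choose

theorem a_mem : R.a ∈ R.L.CQ := R.exists_a.choose_spec.choose

theorem a_out : R.a ∉ R.L.D := R.exists_a.choose_spec.choose_spec.1

/-- Its class. -/
noncomputable def ab : R.K.W := R.K.cl R.a (R.L.mem_CQ.1 R.a_mem).1

theorem N_ab : R.N R.ab = 0 := R.exists_a.choose_spec.choose_spec.2

theorem indep {j k l : ZMod 3} (h : j • R.ub + k • R.δb + l • R.ab = 0) : j = 0 ∧ k = 0 ∧ l = 0 := by
  have hk : k = 0 := by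
    have h' := congrArg R.N h
    rw [map_add, map_add, R.N_smul, R.N_smul, R.N_smul, R.N_ub, R.N_δb, R.N_ab, smul_zero, smul_zero, zero_add,
      add_zero, map_zero] at h'
    exact R.K.smul_eq_zero h' R.ub_ne
  subst hk
  rw [zero_smul, add_zero] at h
  have hl : l = 0 := by
    by_contra hl
    haveI : Fact (Nat.Prime 3) := ⟨Nat.prime_three⟩
    have hab : R.ab = (-l⁻¹ * j) • R.ub := by
      have h0 : l • R.ab = -(j • R.ub) := eq_neg_of_add_eq_zero_right h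
      have h1 := congrArg (fun y => l⁻¹ • y) h0
      simp only [smul_smul, inv_mul_cancel₀ hl, one_smul, smul_neg] at h1
      rw [h1, neg_mul, neg_smul]
    refine R.a_out ?_
    rw [ub, R.K.cl_smul, ab, R.K.cl_eq] at hab
    have := mul_mem (pow_mem R.L.u_mem_D (-l⁻¹ * j).val) (inv_mem ((zpowers_le.2 R.L.z_mem_D) hab))
    simpa [mul_assoc] using this
  subst hl
  rw [zero_smul, add_zero] at h
  exact ⟨R.K.smul_eq_zero h R.ub_ne, rfl, rfl⟩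

theorem CQ_span {q : G} (hq : q ∈ R.L.CQ) :
    ∃ j k l : ZMod 3, R.K.cl q (R.L.mem_CQ.1 hq).1 = j • R.ub + k • R.δb + l • R.ab := by
  classical
  have hcases : ∀ (q : R.L.CQ), ∃ i : Fin 3, (q : G) * (R.a ^ i.val)⁻¹ ∈ R.L.D := by
    let φ : Fin 3 × R.L.D → R.L.CQ := fun t =>
      ⟨t.2 * R.a ^ t.1.val, mul_mem t.2.2.1 (pow_mem R.a_mem _)⟩
    have hinj : Function.Injective φ := by
      rintro ⟨i, d⟩ ⟨i', d'⟩ e
      have e' : (d : G) * R.a ^ i.val = d' * R.a ^ i'.val := congrArg Subtype.val e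
      have a3 := R.K.Q_cube _ (R.L.mem_CQ.1 R.a_mem).1
      have hmem : R.a ^ ((i.val + 2 * i'.val) % 3) ∈ R.L.D := by
        rw [← pow_eq_pow_mod _ a3]
        have h0 : R.a ^ i'.val * R.a ^ (2 * i'.val) = 1 := by
          rw [← pow_add, show i'.val + 2 * i'.val = 3 * i'.val by ring, pow_mul, a3, one_pow]
        have : R.a ^ (i.val + 2 * i'.val) = (d : G)⁻¹ * d' := by
          rw [pow_add, eq_inv_mul_iff_mul_eq, ← mul_assoc, e', mul_assoc, h0, mul_one]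
        rw [this]
        exact mul_mem (inv_mem d.2) d'.2
      rcases (show (i.val + 2 * i'.val) % 3 = 0 ∨ (i.val + 2 * i'.val) % 3 = 1 ∨ (i.val + 2 * i'.val) % 3 = 2 by omega)
        with h | h | h
      · obtain rfl : i = i' := Fin.ext (by omega)
        exact Prod.ext rfl (Subtype.ext (mul_right_cancel e'))
      · rw [h, pow_one] at hmem; exact absurd hmem R.a_out
      · rw [h] at hmem
        have := mul_mem hmem hmem
        rw [← pow_add, show 2 + 2 = 3 + 1 by rfl, pow_add, a3, one_mul, pow_one] at this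
        exact absurd this R.a_out
    intro q
    obtain ⟨⟨i, d⟩, e⟩ := (hinj.bijective_of_nat_card_le (by
      rw [R.L.card_CQ, Nat.card_prod, Nat.card_fin, R.L.card_D])).2 q
    refine ⟨i, ?_⟩
    rw [← e]
    simp [φ]
  obtain ⟨i, hi⟩ := hcases ⟨q, hq⟩
  obtain ⟨j, k, hjk⟩ := R.D_span hi
  refine ⟨j, k, (i.val : ZMod 3), ?_⟩
  rw [← hjk, ab, Nat.cast_smul_eq_nsmul, ← R.K.cl_pow, ← R.K.cl_mul]
  exact R.cl_eq' _ _ (by simp)

/-- `[v', u]`. -/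
noncomputable def p : G := R.v' * R.L.u * R.v'⁻¹ * R.L.u⁻¹

theorem p_Q : R.p ∈ R.K.Q := mul_mem (R.K.conj_Q R.v'_z R.L.u_mem) (inv_mem R.L.u_mem)

/-- Its class. -/
noncomputable def pb : R.K.W := R.K.cl R.p R.p_Q

theorem N'_ub : R.N' R.ub = R.pb := by
  rw [N'_apply, ub, R.K.op_cl, sub_eq_add_neg, ← R.K.cl_inv R.L.u_mem, ← R.K.cl_mul]
  rfl

theorem N_pb : R.N R.pb = -R.ub := by rw [← N'_ub, R.key R.N_ub]

theorem N'_pb : R.N' R.pb = 0 := by rw [← N'_ub, R.N'_sq]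

theorem p_comm : R.p * R.L.u = R.L.u * R.p := by
  by_contra hne
  obtain ⟨b, hb, hcb⟩ := R.K.cl_surj (R.N' R.ab)
  have hg : R.p * R.L.u * R.p⁻¹ * R.L.u⁻¹ ≠ 1 := fun h =>
    hne (mul_inv_eq_iff_eq_mul.1 (mul_inv_eq_one.1 h))
  obtain ⟨c, hc⟩ : ∃ c : ℕ, b * R.L.u * b⁻¹ * R.L.u⁻¹ * (R.p * R.L.u * R.p⁻¹ * R.L.u⁻¹) ^ c = 1 := by
    rcases R.K.Z_cases (R.K.cm_mem hb R.L.u_mem) with h | h | h <;>
      rcases R.K.Z_cases (R.K.cm_mem R.p_Q R.L.u_mem) with h' | h' | h' <;> first | exact absurd h' hg | skip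
    all_goals
      rw [h, h']
      first
      | (refine ⟨0, ?_⟩; simp; done)
      | (refine ⟨1, ?_⟩; rw [pow_one, ← mul_assoc, ← pow_three']; exact R.K.z_cube; done)
      | (refine ⟨1, ?_⟩; rw [pow_one, ← pow_three']; exact R.K.z_cube; done)
      | (refine ⟨2, ?_⟩; rw [sq, ← mul_assoc, ← pow_three']; exact R.K.z_cube; done)
      | (refine ⟨2, ?_⟩; rw [sq, ← sq R.K.z, ← pow_add, ← pow_add, show 2 + (2 + 2) = 3 * 2 by rfl, pow_mul,
          R.K.z_cube, one_pow]; done)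
  have hwC : b * R.p ^ c ∈ R.L.CQ := by
    refine R.L.mem_CQ.2 ⟨mul_mem hb (pow_mem R.p_Q c), mul_inv_eq_iff_eq_mul.1 (mul_inv_eq_one.1 ?_)⟩
    rw [R.K.cm_mul_left hb (pow_mem R.p_Q c) R.L.u_mem, R.K.cm_pow_left R.p_Q R.L.u_mem, hc]
  obtain ⟨j, k, hjk⟩ := R.D_span (R.conj_CQ hwC)
  rw [← R.N_cl (mul_mem hb (pow_mem R.p_Q c)), R.K.cl_mul hb (pow_mem R.p_Q c), map_add, hcb, R.K.cl_pow R.p_Q,
    map_nsmul, R.key R.N_ab, show R.N (R.K.cl R.p R.p_Q) = -R.ub from R.N_pb, ← Nat.cast_smul_eq_nsmul (ZMod 3)] at hjk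
  have h := R.indep (j := -(c : ZMod 3) - j) (k := -k) (l := -1) (by
    linear_combination (norm := module) hjk)
  exact absurd h.2.2 (by decide)

theorem p_CQ : R.p ∈ R.L.CQ := R.L.mem_CQ.2 ⟨R.p_Q, R.p_comm⟩

theorem cm_a_δ : R.a * R.δ * R.a⁻¹ * R.δ⁻¹ ≠ 1 := fun h => R.a_out (by
  have haQ := (R.L.mem_CQ.1 R.a_mem).1
  refine R.L.mem_D_of_comm haQ fun d hd => ?_
  obtain ⟨j, k, hjk⟩ := R.D_span hd
  rw [ub, δb, R.K.cl_smul, R.K.cl_smul, ← R.K.cl_mul, R.K.cl_eq] at hjk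
  have h1 : Commute R.a R.L.u := (R.L.mem_CQ.1 R.a_mem).2
  have h2 : Commute R.a R.δ := mul_inv_eq_iff_eq_mul.1 (mul_inv_eq_one.1 h)
  have h3 : Commute R.a (d⁻¹ * (R.L.u ^ j.val * R.δ ^ k.val)) := R.K.Z_central (R.K.Q_comm _ haQ) hjk
  have := ((h1.pow_right j.val).mul_right (h2.pow_right k.val)).mul_right h3.inv_right
  simpa [mul_assoc] using this.eq)

theorem pl_invariant {c : G} (hc : c * R.K.z = R.K.z * c) :
    ∃ i j : ZMod 3, R.K.op c hc R.ub = i • R.pb + j • R.ub := by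
  refine R.op_words hc (fun _ y => ∃ i j : ZMod 3, y = i • R.pb + j • R.ub) R.ub ⟨0, 1, by simp⟩ ?_ ?_
  · rintro y ⟨i, j, rfl⟩
    refine ⟨i, j - i, ?_⟩
    rw [map_add, R.K.op_smul, R.K.op_smul, R.op_v, R.op_v, R.N_ub, R.N_pb]
    module
  · rintro y ⟨i, j, rfl⟩
    refine ⟨i + j, j, ?_⟩
    rw [map_add, R.K.op_smul, R.K.op_smul, R.op_v', R.op_v', R.N'_ub, R.N'_pb]
    module

theorem exists_f : ∃ f ∈ R.K.Q, f * R.L.u * f⁻¹ * R.L.u⁻¹ = R.K.z := by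
  obtain ⟨q, hq, hqu⟩ : ∃ q ∈ R.K.Q, q * R.L.u ≠ R.L.u * q := by
    by_contra hc
    push Not at hc
    exact R.L.u_out (R.K.Q_center _ R.L.u_mem fun r hr => (hc r hr).symm)
  rcases R.K.Z_cases (R.K.cm_mem hq R.L.u_mem) with h | h | h
  · exact absurd (mul_inv_eq_iff_eq_mul.1 (mul_inv_eq_one.1 h)) hqu
  · exact ⟨q, hq, h⟩
  · refine ⟨q ^ 2, pow_mem hq 2, ?_⟩
    rw [R.K.cm_pow_left hq R.L.u_mem, h, sq, ← mul_assoc, show R.K.z * R.K.z * R.K.z = 1 by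
      rw [← pow_three']; exact R.K.z_cube, one_mul]

theorem exists_f' : ∃ f ∈ R.L.Qu, f * R.K.z * f⁻¹ * R.K.z⁻¹ = R.L.u⁻¹ := by
  have hy : R.L.x⁻¹ * R.K.z * R.L.x ∈ R.K.Q := R.L.mem_Qu.1 R.L.z_mem_D.2
  obtain ⟨q, hq, hqy⟩ : ∃ q ∈ R.K.Q, q * (R.L.x⁻¹ * R.K.z * R.L.x) ≠ R.L.x⁻¹ * R.K.z * R.L.x * q := by
    by_contra hc
    push Not at hc
    obtain ⟨i, hi⟩ := mem_zpowers_iff.1 (R.K.Q_center _ hy fun r hr => (hc r hr).symm)
    have e : R.K.z = R.L.u ^ i := by rw [← R.L.x_z, conj_zpow, hi]; group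
    exact R.K.z_ne (R.eq_one_of_UZ (mem_zpowers_iff.2 ⟨i, e.symm⟩) (mem_zpowers _))
  have hc := R.K.cm_mem hq hy
  have key : ∀ n : ℕ, R.L.x * q ^ n * R.L.x⁻¹ * R.K.z * (R.L.x * q ^ n * R.L.x⁻¹)⁻¹ * R.K.z⁻¹ =
      R.L.x * (q * (R.L.x⁻¹ * R.K.z * R.L.x) * q⁻¹ * (R.L.x⁻¹ * R.K.z * R.L.x)⁻¹) ^ n * R.L.x⁻¹ := by
    intro n
    rw [← R.K.cm_pow_left hq hy]
    group
  have hui : R.L.u⁻¹ = R.L.x * (R.K.z * R.K.z) * R.L.x⁻¹ := by
    rw [← R.L.x_z, conj_inv]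
    congr 2
    exact inv_eq_of_mul_eq_one_left (by rw [← pow_three']; exact R.K.z_cube)
  rcases R.K.Z_cases hc with h | h | h
  · exact absurd (mul_inv_eq_iff_eq_mul.1 (mul_inv_eq_one.1 h)) hqy
  · exact ⟨R.L.x * q ^ 2 * R.L.x⁻¹, R.L.mem_Qu.2 (by simpa [mul_assoc] using pow_mem hq 2),
      by rw [key, h, hui, sq]⟩
  · exact ⟨R.L.x * q ^ 1 * R.L.x⁻¹, R.L.mem_Qu.2 (by simpa [mul_assoc] using hq),
      by rw [key, h, hui, pow_one]⟩

/-- An element of `Q` moving `u` to `z u`. -/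
noncomputable def f : G := R.exists_f.choose

/-- An element of `Q^x` moving `z` to `u⁻¹ z`. -/
noncomputable def f' : G := R.exists_f'.choose

theorem f_mem : R.f ∈ R.K.Q := R.exists_f.choose_spec.1

theorem f_u : R.f * R.L.u * R.f⁻¹ = R.K.z * R.L.u := mul_inv_eq_iff_eq_mul.1 R.exists_f.choose_spec.2

theorem f'_mem : R.f' ∈ R.L.Qu := R.exists_f'.choose_spec.1

theorem f'_z : R.f' * R.K.z * R.f'⁻¹ = R.L.u⁻¹ * R.K.z := mul_inv_eq_iff_eq_mul.1 R.exists_f'.choose_spec.2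

theorem f_z : R.f * R.K.z * R.f⁻¹ = R.K.z := by rw [R.K.Q_comm _ R.f_mem, mul_inv_cancel_right]

theorem f'_u : R.f' * R.L.u * R.f'⁻¹ = R.L.u := by rw [R.L.Qu_comm R.f'_mem, mul_inv_cancel_right]

/-- The element exchanging the two points. -/
noncomputable def w : G := R.f * R.f' * R.f

theorem w_z : R.w * R.K.z * R.w⁻¹ = R.L.u⁻¹ := by
  calc R.w * R.K.z * R.w⁻¹ = R.f * (R.f' * (R.f * R.K.z * R.f⁻¹) * R.f'⁻¹) * R.f⁻¹ := by rw [w]; group
    _ = R.f * (R.L.u⁻¹ * R.K.z) * R.f⁻¹ := by rw [R.f_z, R.f'_z]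
    _ = (R.f * R.L.u * R.f⁻¹)⁻¹ * (R.f * R.K.z * R.f⁻¹) := by group
    _ = R.L.u⁻¹ := by rw [R.f_u, R.f_z]; group

theorem w_u : R.w * R.L.u * R.w⁻¹ = R.K.z := by
  calc R.w * R.L.u * R.w⁻¹ = R.f * (R.f' * (R.f * R.L.u * R.f⁻¹) * R.f'⁻¹) * R.f⁻¹ := by rw [w]; group
    _ = R.f * ((R.f' * R.K.z * R.f'⁻¹) * (R.f' * R.L.u * R.f'⁻¹)) * R.f⁻¹ := by rw [R.f_u]; group
    _ = R.f * R.K.z * R.f⁻¹ := by rw [R.f'_z, R.f'_u, mul_assoc R.L.u⁻¹, ← R.L.u_z, inv_mul_cancel_left]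
    _ = R.K.z := R.f_z

theorem w_D {d : G} (hd : d ∈ R.L.D) : R.w * d * R.w⁻¹ ∈ R.L.D := by
  have h1 : R.w * d * R.w⁻¹ ∈ R.L.Qu := by
    refine R.L.mem_Qu.2 ?_
    have h : R.L.x⁻¹ * R.w * R.K.z * (R.L.x⁻¹ * R.w)⁻¹ ∈ zpowers R.K.z := by
      refine mem_zpowers_iff.2 ⟨-1, ?_⟩
      calc R.K.z ^ (-1 : ℤ) = R.L.x⁻¹ * (R.L.x * R.K.z * R.L.x⁻¹)⁻¹ * R.L.x := by group
        _ = _ := by rw [R.L.x_z, ← R.w_z]; group
    have := R.K.Q_norm _ h d (R.L.D_le_Q hd)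
    simpa [mul_assoc] using this
  have h2 : R.w * d * R.w⁻¹ ∈ R.K.Q := by
    have h : R.w * R.L.x * R.K.z * (R.w * R.L.x)⁻¹ ∈ zpowers R.K.z := by
      rw [show R.w * R.L.x * R.K.z * (R.w * R.L.x)⁻¹ = R.w * (R.L.x * R.K.z * R.L.x⁻¹) * R.w⁻¹ by group, R.L.x_z,
        R.w_u]
      exact mem_zpowers _
    have := R.K.Q_norm _ h _ (R.L.mem_Qu.1 hd.2)
    simpa [mul_assoc] using this
  exact ⟨R.L.mem_CQ.2 ⟨h2, R.L.Qu_comm h1⟩, h1⟩

theorem v_subgroup {q : G} (hq : q ∈ R.L.Qu) (hqz : q * R.K.z = R.K.z * q) :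
    ∃ i : ZMod 3, ∀ y, R.K.op q hqz y = y + i • R.N y := by
  classical
  have hy : R.L.x⁻¹ * R.K.z * R.L.x ∈ R.K.Q := R.L.mem_Qu.1 R.L.z_mem_D.2
  have hy' : R.L.x⁻¹ * R.K.z * R.L.x ∉ zpowers R.K.z := fun h => by
    obtain ⟨i, hi⟩ := mem_zpowers_iff.1 h
    have e : R.K.z = R.L.u ^ i := by rw [← R.L.x_z, conj_zpow, hi]; group
    exact R.K.z_ne (R.eq_one_of_UZ (mem_zpowers_iff.2 ⟨i, e.symm⟩) (mem_zpowers _))
  let X : Subgroup G := R.L.Qu ⊓ centralizer ({R.K.z} : Set G)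
  have hX : Nat.card X = 81 := by
    rw [← Conj.card_cent hy hy', ← card_map_of_injective (f := (MulAut.conj R.L.x).toMonoidHom) (MulAut.conj R.L.x).injective
      (K := R.K.Q ⊓ centralizer ({R.L.x⁻¹ * R.K.z * R.L.x} : Set G))]
    congr 2
    ext g
    constructor
    · rintro ⟨⟨t, ht, rfl⟩, hg⟩
      refine ⟨t, ⟨ht, mem_centralizer_singleton_iff.2 ?_⟩, rfl⟩
      have := mem_centralizer_singleton_iff.1 hg
      simpa [mul_assoc] using congrArg (fun s => R.L.x⁻¹ * s * R.L.x) this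
    · rintro ⟨t, ⟨ht, ht'⟩, rfl⟩
      refine ⟨⟨t, ht, rfl⟩, mem_centralizer_singleton_iff.2 ?_⟩
      have := mem_centralizer_singleton_iff.1 ht'
      simpa [mul_assoc] using congrArg (fun s => R.L.x * s * R.L.x⁻¹) this
  let T : Subgroup G :=
    { carrier := {g | ∃ (h : g * R.K.z = R.K.z * g) (i : ZMod 3), ∀ y, R.K.op g h y = y + i • R.N y}
      one_mem' := ⟨by simp, 0, fun y => by rw [R.K.op_one]; simp⟩
      mul_mem' := fun ⟨ha, i, hi⟩ ⟨hb, j, hj⟩ => ⟨R.K.comm_mul ha hb, i + j, fun y => by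
        rw [R.K.op_mul ha hb, hj, map_add, R.K.op_smul, hi, hi, R.N_sq]
        module⟩
      inv_mem' := fun {g} ⟨h, i, hi⟩ => ⟨R.K.comm_inv h, -i, fun y => by
        have e : R.K.op g⁻¹ (R.K.comm_inv h) (R.K.op g h (y + (-i) • R.N y)) = y + (-i) • R.N y := by
          rw [← R.K.op_mul]; exact R.K.op_Q (by rw [inv_mul_cancel]; exact one_mem _) _
        rw [hi, map_add R.N, R.N_smul, R.N_sq] at e
        rw [← e]
        congr 1
        module⟩ }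
  have hDX : R.L.D ⊔ zpowers R.v ≤ X := sup_le
    (fun d hd => ⟨hd.2, mem_centralizer_singleton_iff.2 (R.K.Q_comm d (R.L.D_le_Q hd))⟩)
    (zpowers_le.2 ⟨R.v_Qu, mem_centralizer_singleton_iff.2 R.v_z⟩)
  have hDT : R.L.D ⊔ zpowers R.v ≤ T := sup_le
    (fun d hd => ⟨R.K.Q_comm d (R.L.D_le_Q hd), 0, fun y => by rw [R.K.op_Q (R.L.D_le_Q hd)]; simp⟩)
    (zpowers_le.2 ⟨R.v_z, 1, fun y => by rw [R.op_v, one_smul]⟩)
  have hlt : 27 < Nat.card ↥(R.L.D ⊔ zpowers R.v) := by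
    rw [← R.L.card_D]
    refine lt_of_le_of_ne (card_le_of_le le_sup_left) fun e => R.v_out ?_
    exact R.L.D_le_Q ((eq_of_le_of_card_ge le_sup_left e.ge).symm ▸ mem_sup_right (mem_zpowers _))
  have hdvd : Nat.card ↥(R.L.D ⊔ zpowers R.v) ∣ 81 := hX ▸ card_dvd_of_le hDX
  have hdvd' : 27 ∣ Nat.card ↥(R.L.D ⊔ zpowers R.v) := R.L.card_D ▸ card_dvd_of_le le_sup_left
  have heq : R.L.D ⊔ zpowers R.v = X := eq_of_le_of_card_ge hDX (by
    rw [hX]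
    obtain ⟨n, hn⟩ := hdvd'
    rw [hn] at hdvd hlt ⊢
    have : n ∣ 3 := Nat.dvd_of_mul_dvd_mul_left (show 0 < 27 by norm_num) (by simpa using hdvd)
    rcases (Nat.dvd_prime Nat.prime_three).1 this with rfl | rfl <;> omega)
  have hqX : q ∈ R.L.D ⊔ zpowers R.v := by rw [heq]; exact ⟨hq, mem_centralizer_singleton_iff.2 hqz⟩
  obtain ⟨h, i, hi⟩ := hDT hqX
  exact ⟨i, hi⟩

theorem c_inv : R.w * R.w * R.K.z * (R.w * R.w)⁻¹ = R.K.z⁻¹ ∧ R.w * R.w * R.L.u * (R.w * R.w)⁻¹ = R.L.u⁻¹ := by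
  constructor
  · calc _ = R.w * (R.w * R.K.z * R.w⁻¹) * R.w⁻¹ := by group
      _ = (R.w * R.L.u * R.w⁻¹)⁻¹ := by rw [R.w_z]; group
      _ = _ := by rw [R.w_u]
  · calc _ = R.w * (R.w * R.L.u * R.w⁻¹) * R.w⁻¹ := by group
      _ = _ := by rw [R.w_u, R.w_z]

/-- The generic argument separating the three lines. -/
theorem p_mem_D : R.p ∈ R.L.D := by
  by_contra hpD
  obtain ⟨hcz, hcu⟩ := R.c_inv
  obtain ⟨c, hc⟩ : ∃ c, R.w * R.w = c := ⟨_, rfl⟩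
  rw [hc] at hcz hcu
  have hcZ : c * R.K.z * c⁻¹ ∈ zpowers R.K.z := by rw [hcz]; exact inv_mem (mem_zpowers _)
  have hcU : c * R.L.u * c⁻¹ ∈ zpowers R.L.u := by rw [hcu]; exact inv_mem (mem_zpowers _)
  have hcQ : ∀ q ∈ R.K.Q, c * q * c⁻¹ ∈ R.K.Q := R.K.Q_norm c hcZ
  have hcC : ∀ g, g * R.K.z = R.K.z * g → c * g * c⁻¹ * R.K.z = R.K.z * (c * g * c⁻¹) := by
    intro g hg
    have h : (c * g * c⁻¹) * R.K.z⁻¹ = R.K.z⁻¹ * (c * g * c⁻¹) := by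
      rw [← hcz]
      simp [mul_assoc, ← mul_assoc g, hg]
    have h' := (show Commute (c * g * c⁻¹) R.K.z⁻¹ from h).inv_right
    rw [inv_inv] at h'
    exact h'
  -- the action of `c` on `W`
  let cQ : R.K.Q →* R.K.Q :=
    { toFun := fun q => ⟨c * q * c⁻¹, hcQ q q.2⟩
      map_one' := Subtype.ext (by simp)
      map_mul' := fun q r => Subtype.ext (by simp [mul_assoc]) }
  let γ : R.K.W →+ R.K.W := (QuotientGroup.map R.K.Zq R.K.Zq cQ (fun t ht => by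
    show c * (t : G) * c⁻¹ ∈ zpowers R.K.z
    obtain ⟨i, hi⟩ := mem_zpowers_iff.1 (mem_subgroupOf.1 ht)
    rw [← hi, ← conj_zpow, hcz]
    exact zpow_mem (inv_mem (mem_zpowers _)) i)).toAdditive
  have hγ : ∀ (q : G) (hq : q ∈ R.K.Q), γ (R.K.cl q hq) = R.K.cl (c * q * c⁻¹) (hcQ q hq) := fun q hq => rfl
  have hγop : ∀ (g : G) (hg : g * R.K.z = R.K.z * g) (y : R.K.W),
      γ (R.K.op g hg y) = R.K.op (c * g * c⁻¹) (hcC g hg) (γ y) := by
    intro g hg y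
    obtain ⟨q, hq, rfl⟩ := R.K.cl_surj y
    rw [R.K.op_cl, hγ, hγ, R.K.op_cl]
    exact R.cl_eq' _ _ (by group)
  have hγu : γ R.ub = -R.ub := by
    rw [ub, hγ, ← R.K.cl_inv R.L.u_mem]
    exact R.cl_eq' _ _ hcu
  -- the image of `v`
  have hvQu : c * R.v * c⁻¹ ∈ R.L.Qu := by
    refine R.L.mem_Qu.2 ?_
    have h : (R.L.x⁻¹ * c * R.L.x) * R.K.z * (R.L.x⁻¹ * c * R.L.x)⁻¹ ∈ zpowers R.K.z := by
      refine mem_zpowers_iff.2 ⟨-1, ?_⟩
      calc R.K.z ^ (-1 : ℤ) = R.L.x⁻¹ * (R.L.x * R.K.z * R.L.x⁻¹)⁻¹ * R.L.x := by group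
        _ = _ := by rw [R.L.x_z, ← hcu, ← R.L.x_z]; group
    have := R.K.Q_norm _ h _ (R.L.mem_Qu.1 R.v_Qu)
    simpa [mul_assoc] using this
  obtain ⟨i, hi⟩ := R.v_subgroup hvQu (hcC _ R.v_z)
  have hi0 : i ≠ 0 := fun h0 => by
    have h := hγop R.v R.v_z R.δb
    rw [hi, h0, zero_smul, add_zero, R.op_v, R.N_δb, map_add, hγu, add_eq_left, neg_eq_zero] at h
    exact R.ub_ne h
  have hNγa : R.N (γ R.ab) = 0 := by
    have h := hγop R.v R.v_z R.ab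
    rw [hi, R.op_v, R.N_ab, add_zero, left_eq_add] at h
    by_contra hne
    exact hi0 (R.K.smul_eq_zero h hne)
  -- the three lines
  obtain ⟨α, μ, hμ⟩ := R.D_span (R.L.conj_D hcZ hcU R.δ_mem)
  rw [← hγ R.δ (R.L.D_le_Q R.δ_mem)] at hμ
  have haC : c * R.a * c⁻¹ ∈ R.L.CQ := by
    refine R.L.mem_CQ.2 ⟨hcQ _ (R.L.mem_CQ.1 R.a_mem).1, ?_⟩
    have h : c * R.a * c⁻¹ * R.L.u⁻¹ = R.L.u⁻¹ * (c * R.a * c⁻¹) := by
      rw [← hcu]
      simp [mul_assoc, ← mul_assoc R.a, (R.L.mem_CQ.1 R.a_mem).2]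
    have h' := (show Commute (c * R.a * c⁻¹) R.L.u⁻¹ from h).inv_right
    rw [inv_inv] at h'
    exact h'
  obtain ⟨β, k0, ε, hε⟩ := R.CQ_span haC
  rw [← hγ R.a (R.L.mem_CQ.1 R.a_mem).1] at hε
  have hk0 : k0 = 0 := by
    have h := congrArg R.N hε
    rw [show R.K.cl R.a _ = R.ab from rfl, hNγa, map_add, map_add, R.N_smul, R.N_smul, R.N_smul, R.N_ub, R.N_δb,
      R.N_ab, smul_zero, smul_zero, zero_add, add_zero] at h
    exact R.K.smul_eq_zero h.symm R.ub_ne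
  rw [hk0, zero_smul, add_zero, show R.K.cl R.a _ = R.ab from rfl] at hε
  obtain ⟨j1, k1, l1, hp⟩ := R.CQ_span R.p_CQ
  rw [show R.K.cl R.p _ = R.pb from rfl] at hp
  have hk1 : k1 = -1 := by
    have h := congrArg R.N hp
    rw [R.N_pb, map_add, map_add, R.N_smul, R.N_smul, R.N_smul, R.N_ub, R.N_δb, R.N_ab, smul_zero, smul_zero,
      zero_add, add_zero] at h
    have h' : (k1 + 1) • R.ub = 0 := by rw [add_smul, one_smul, ← h, neg_add_cancel]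
    linear_combination R.K.smul_eq_zero h' R.ub_ne
  have hl1 : l1 ≠ 0 := fun h0 => hpD (by
    rw [h0, zero_smul, add_zero, ub, δb, pb, R.K.cl_smul, R.K.cl_smul, ← R.K.cl_mul, R.K.cl_eq] at hp
    have := mul_mem (mul_mem (pow_mem R.L.u_mem_D j1.val) (pow_mem R.δ_mem k1.val))
      (inv_mem (zpowers_le.2 R.L.z_mem_D hp))
    simpa [mul_assoc] using this)
  obtain ⟨m, n, hmn⟩ : ∃ m n : ZMod 3, γ R.pb = m • R.pb + n • R.ub := by
    obtain ⟨i', j', h'⟩ := R.pl_invariant (hcC _ R.v'_z)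
    refine ⟨-i', -j' + 1, ?_⟩
    rw [← R.N'_ub, N'_apply, map_sub, hγop, hγu, map_neg, h', ← N'_apply, R.N'_ub]
    module
  have e1 := congrArg γ hp
  rw [hmn, map_add, map_add, ZMod.map_smul γ, ZMod.map_smul γ, ZMod.map_smul γ, hγu,
    show γ R.δb = _ from hμ, hε, hp] at e1
  obtain ⟨-, ek, el⟩ := R.indep (j := m * j1 + n + j1 - k1 * α - l1 * β) (k := m * k1 - k1 * μ)
    (l := m * l1 - l1 * ε) (by linear_combination (norm := module) e1)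
  haveI : Fact (Nat.Prime 3) := ⟨Nat.prime_three⟩
  have hμm : μ = m := by rw [hk1] at ek; linear_combination ek
  have hεm : ε = m := (mul_left_cancel₀ hl1 (by linear_combination el)).symm
  -- the commutator of `a` and `δ`
  have haQ := (R.L.mem_CQ.1 R.a_mem).1
  have hδQ := R.L.D_le_Q R.δ_mem
  have huQ := R.L.u_mem
  obtain ⟨g, hgdef⟩ : ∃ g, R.a * R.δ * R.a⁻¹ * R.δ⁻¹ = g := ⟨_, rfl⟩
  have hcg : c * g * c⁻¹ = g⁻¹ := by
    obtain ⟨i, hi⟩ := mem_zpowers_iff.1 (hgdef ▸ R.K.cm_mem haQ hδQ)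
    rw [← hi, ← conj_zpow, hcz, inv_zpow]
  have hxa : ∃ t ∈ zpowers R.K.z, c * R.a * c⁻¹ = R.L.u ^ β.val * R.a ^ ε.val * t := by
    rw [ub, ab, R.K.cl_smul, R.K.cl_smul, ← R.K.cl_mul, hγ R.a haQ] at hε
    exact ⟨_, (R.K.cl_eq _ _).1 hε.symm, by group⟩
  have hxd : ∃ t ∈ zpowers R.K.z, c * R.δ * c⁻¹ = R.L.u ^ α.val * R.δ ^ μ.val * t := by
    rw [ub, δb, R.K.cl_smul, R.K.cl_smul, ← R.K.cl_mul, hγ R.δ hδQ] at hμ
    exact ⟨_, (R.K.cl_eq _ _).1 hμ.symm, by group⟩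
  obtain ⟨t, ht, hta⟩ := hxa
  obtain ⟨t', ht', htd⟩ := hxd
  have hau : R.a * R.L.u * R.a⁻¹ * R.L.u⁻¹ = 1 := by
    rw [(R.L.mem_CQ.1 R.a_mem).2, mul_inv_cancel_right, mul_inv_cancel]
  have huu : R.L.u * R.L.u * R.L.u⁻¹ * R.L.u⁻¹ = 1 := by group
  have hud : R.L.u * R.δ * R.L.u⁻¹ * R.δ⁻¹ = 1 := by
    rw [R.L.D_comm _ R.L.u_mem_D _ R.δ_mem, mul_inv_cancel_right, mul_inv_cancel]
  have hup := pow_mem huQ α.val
  have hdp := pow_mem hδQ μ.val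
  have hap := pow_mem haQ ε.val
  have hubp := pow_mem huQ β.val
  have e2 : c * g * c⁻¹ = g ^ (ε.val * μ.val) := by
    rw [← hgdef, show c * (R.a * R.δ * R.a⁻¹ * R.δ⁻¹) * c⁻¹ =
      (c * R.a * c⁻¹) * (c * R.δ * c⁻¹) * (c * R.a * c⁻¹)⁻¹ * (c * R.δ * c⁻¹)⁻¹ by group, hta, htd]
    have hz1 : ∀ {s r : G}, s ∈ zpowers R.K.z → r ∈ R.K.Q → s * r * s⁻¹ * r⁻¹ = 1 := fun hs hr => by
      rw [← R.K.Z_central (R.K.Q_comm _ hr) hs, mul_inv_cancel_right, mul_inv_cancel]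
    have hz2 : ∀ {s r : G}, s ∈ zpowers R.K.z → r ∈ R.K.Q → r * s * r⁻¹ * s⁻¹ = 1 := fun hs hr => by
      rw [R.K.Z_central (R.K.Q_comm _ hr) hs, mul_inv_cancel_right, mul_inv_cancel]
    rw [R.K.cm_mul_left (mul_mem hubp hap) (R.K.Z_le ht) (mul_mem (mul_mem hup hdp) (R.K.Z_le ht')),
      hz1 ht (mul_mem (mul_mem hup hdp) (R.K.Z_le ht')), mul_one,
      R.K.cm_mul_right (mul_mem hubp hap) (mul_mem hup hdp) (R.K.Z_le ht'),
      hz2 ht' (mul_mem hubp hap), mul_one,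
      R.K.cm_mul_left hubp hap (mul_mem hup hdp), R.K.cm_mul_right hubp hup hdp, R.K.cm_mul_right hap hup hdp,
      R.K.cm_pow_left huQ hup, R.K.cm_pow_right huQ huQ, huu, R.K.cm_pow_left huQ hdp, R.K.cm_pow_right huQ hδQ, hud,
      R.K.cm_pow_left haQ hup, R.K.cm_pow_right haQ huQ, hau, R.K.cm_pow_left haQ hdp, R.K.cm_pow_right haQ hδQ]
    simp only [one_pow, one_mul]
    rw [← pow_mul, mul_comm]
  rw [hcg, hεm, hμm] at e2
  have hg1 : g ≠ 1 := hgdef ▸ R.cm_a_δ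
  have hg3 : g ^ 3 = 1 := hgdef ▸ R.K.Q_cube _ (R.K.Z_le (R.K.cm_mem haQ hδQ))
  have h5 : g ^ (m.val * m.val + 1) = 1 := by rw [pow_succ, ← e2, inv_mul_cancel]
  have h6 : 3 ∣ m.val * m.val + 1 := by
    have := orderOf_dvd_of_pow_eq_one h5
    rwa [orderOf_eq_prime hg3 hg1] at this
  rw [Nat.dvd_iff_mod_eq_zero] at h6
  have hm := ZMod.val_lt m
  interval_cases h : m.val <;> simp at h6

theorem pb_ub_D {q : G} (hq : q ∈ R.K.Q) {i j : ZMod 3} (h : R.K.cl q hq = i • R.pb + j • R.ub) : q ∈ R.L.D := by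
  rw [pb, ub, R.K.cl_smul, R.K.cl_smul, ← R.K.cl_mul, R.K.cl_eq] at h
  have := mul_mem (mul_mem (pow_mem R.p_mem_D i.val) (pow_mem R.L.u_mem_D j.val))
    (inv_mem (zpowers_le.2 R.L.z_mem_D h))
  simpa [mul_assoc] using this

/-- The action of the centralizer on the plane. -/
theorem mat {c : G} (hc : c * R.K.z = R.K.z * c) :
    R.K.op c hc R.pb = (R.K.img c hc).1 0 0 • R.pb + (R.K.img c hc).1 1 0 • R.ub ∧
    R.K.op c hc R.ub = (R.K.img c hc).1 0 1 • R.pb + (R.K.img c hc).1 1 1 • R.ub := by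
  let S : Submonoid S2 :=
    { carrier := {A | ∀ (c : G) (hc : c * R.K.z = R.K.z * c), R.K.img c hc = A →
        R.K.op c hc R.pb = A.1 0 0 • R.pb + A.1 1 0 • R.ub ∧ R.K.op c hc R.ub = A.1 0 1 • R.pb + A.1 1 1 • R.ub}
      one_mem' := fun c hc e => by
        rw [R.K.op_Q ((R.K.img_eq_one hc).1 e), R.K.op_Q ((R.K.img_eq_one hc).1 e)]
        simp
      mul_mem' := fun {A B} hA hB c hc e => by
        obtain ⟨a, ha, rfl⟩ := R.K.exists_img A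
        obtain ⟨b, hb, rfl⟩ := R.K.exists_img B
        rw [R.K.op_congr hc (R.K.comm_mul ha hb) (by rw [e, R.K.img_mul ha hb]),
          R.K.op_congr hc (R.K.comm_mul ha hb) (by rw [e, R.K.img_mul ha hb]), R.K.op_mul ha hb, R.K.op_mul ha hb,
          (hB b hb rfl).1, (hB b hb rfl).2, map_add, map_add, R.K.op_smul, R.K.op_smul, R.K.op_smul, R.K.op_smul,
          (hA a ha rfl).1, (hA a ha rfl).2, Matrix.SpecialLinearGroup.coe_mul]
        simp only [Matrix.mul_apply, Fin.sum_univ_two]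
        constructor <;> module }
  have hL : sLow ∈ S := fun c hc e => by
    rw [R.K.op_congr hc R.v_z (by rw [e, R.img_v]), R.K.op_congr hc R.v_z (by rw [e, R.img_v]), R.op_v, R.op_v,
      R.N_pb, R.N_ub]
    simp [sLow]
    try module
  have hU : sUp ∈ S := fun c hc e => by
    rw [R.K.op_congr hc R.v'_z (by rw [e, R.img_v']), R.K.op_congr hc R.v'_z (by rw [e, R.img_v']), R.op_v',
      R.op_v', R.N'_pb, R.N'_ub]
    simp [sUp]
    try module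
  obtain ⟨a, b, c', d, e', he⟩ := words (R.K.img c hc)
  have hmem : R.K.img c hc ∈ S := he ▸
    mul_mem (mul_mem (mul_mem (mul_mem (pow_mem hL _) (pow_mem hU _)) (pow_mem hL _)) (pow_mem hU _)) (pow_mem hL _)
  exact hmem c hc rfl

/-- `D` is normal in the centralizer of `z`. -/
theorem conj_D {c : G} (hc : c * R.K.z = R.K.z * c) {d : G} (hd : d ∈ R.L.D) : c * d * c⁻¹ ∈ R.L.D := by
  obtain ⟨j, k, hjk⟩ := R.D_span hd
  obtain ⟨j', k', hp⟩ := R.D_span R.p_mem_D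
  have hk' : k' = -1 := by
    have h := congrArg R.N hp
    rw [show R.K.cl R.p _ = R.pb from rfl, R.N_pb, map_add, R.N_smul, R.N_smul, R.N_ub, R.N_δb, smul_zero,
      zero_add] at h
    have h' : (k' + 1) • R.ub = 0 := by rw [add_smul, one_smul, ← h, neg_add_cancel]
    linear_combination R.K.smul_eq_zero h' R.ub_ne
  have hδ : R.δb = (-1 : ZMod 3) • R.pb + j' • R.ub := by
    rw [show R.pb = j' • R.ub + k' • R.δb from hp, hk']
    module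
  refine R.pb_ub_D (R.K.conj_Q hc (R.L.D_le_Q hd))
    (i := -k * (R.K.img c hc).1 0 0 + (j + k * j') * (R.K.img c hc).1 0 1)
    (j := -k * (R.K.img c hc).1 1 0 + (j + k * j') * (R.K.img c hc).1 1 1) ?_
  rw [← R.K.op_cl hc (R.L.D_le_Q hd), hjk, hδ, map_add, R.K.op_smul, R.K.op_smul, map_add, R.K.op_smul, R.K.op_smul,
    (R.mat hc).1, (R.mat hc).2]
  module

end Frame

end CfsgLib.L43Three.PrePf
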