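import Cfsg.Agent.Lib.L43Three.PreCore

/-!
S3373, piece Pre: a conjugate `u` of `z` in `Q` and `D = Q ∩ Q^x`.
-/

set_option autoImplicit false
set_option maxRecDepth 100000
set_option linter.unusedSectionVars false
set_option linter.style.haveILetI false

namespace CfsgLib.L43Three.PrePf

open Subgroup

universe u

theorem three_sub : ∀ A B : S2, A * A * A = 1 → A ≠ 1 → B * B * B = 1 → A * B * (A * B) * (A * B) = 1 →
    A * A * B * (A * A * B) * (A * A * B) = 1 → B = 1 ∨ B = A ∨ B = A * A := by decide +kernel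

/-- A conjugate of `z` in `Q` outside `⟨z⟩`. -/
structure Conj {G : Type u} [Group G] (K : Core G) where
  x : G
  u : G
  x_z : x * K.z * x⁻¹ = u
  u_mem : u ∈ K.Q
  u_out : u ∉ zpowers K.z

variable {G : Type u} [Group G] [Finite G] {K : Core G}

namespace Conj

variable (L : Conj K)

/-- `C_Q(u)`. -/
def CQ : Subgroup G := K.Q ⊓ centralizer ({L.u} : Set G)

/-- The conjugate of `Q`. -/
def Qu : Subgroup G := K.Q.map (MulAut.conj L.x).toMonoidHom

/-- `D = Q ∩ Q^x`. -/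
def D : Subgroup G := L.CQ ⊓ L.Qu

theorem mem_CQ {q : G} : q ∈ L.CQ ↔ q ∈ K.Q ∧ q * L.u = L.u * q := by
  rw [CQ, mem_inf, mem_centralizer_singleton_iff]

theorem mem_Qu {q : G} : q ∈ L.Qu ↔ L.x⁻¹ * q * L.x ∈ K.Q := by
  constructor
  · rintro ⟨y, hy, rfl⟩
    simpa [mul_assoc] using hy
  · exact fun h => ⟨_, h, by simp [mul_assoc]⟩

theorem u_cube : L.u ^ 3 = 1 := K.Q_cube _ L.u_mem

theorem u_ne : L.u ≠ 1 := fun h => L.u_out (h ▸ one_mem _)

theorem u_z : L.u * K.z = K.z * L.u := K.Q_comm _ L.u_mem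

theorem Qu_comm {q : G} (h : q ∈ L.Qu) : q * L.u = L.u * q := by
  obtain ⟨y, hy, rfl⟩ := h
  rw [← L.x_z]
  simp [mul_assoc, ← mul_assoc y, K.Q_comm y hy]

theorem u_mem_D : L.u ∈ L.D := by
  refine ⟨L.mem_CQ.2 ⟨L.u_mem, rfl⟩, L.mem_Qu.2 ?_⟩
  rw [← L.x_z]
  simpa [mul_assoc] using K.z_mem

theorem D_le_Q : L.D ≤ K.Q := fun _ h => (L.mem_CQ.1 h.1).1

theorem D_comm : ∀ a ∈ L.D, ∀ b ∈ L.D, a * b = b * a := by
  intro a ha b hb
  have h1 := K.cm_mem (L.D_le_Q ha) (L.D_le_Q hb)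
  have h2 := K.cm_mem (L.mem_Qu.1 ha.2) (L.mem_Qu.1 hb.2)
  obtain ⟨i, hi⟩ := mem_zpowers_iff.1 h2
  have hu : a * b * a⁻¹ * b⁻¹ = L.u ^ i := by
    rw [← L.x_z, conj_zpow, hi]; group
  have h3 : a * b * a⁻¹ * b⁻¹ = 1 := by
    rw [hu] at h1 ⊢
    by_contra hne
    haveI : Fact (Nat.Prime 3) := ⟨Nat.prime_three⟩
    have ho : orderOf L.u = 3 := orderOf_eq_prime L.u_cube L.u_ne
    rw [← zpow_mod_orderOf, ho] at h1 hne
    rcases (show i % ((3 : ℕ) : ℤ) = 0 ∨ i % ((3 : ℕ) : ℤ) = 1 ∨ i % ((3 : ℕ) : ℤ) = 2 by omega)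
      with e | e | e <;> rw [e] at h1 hne
    · exact hne (zpow_zero _)
    · exact L.u_out (by rwa [zpow_one] at h1)
    · refine L.u_out ?_
      have := inv_mem h1
      rwa [zpow_two, show (L.u * L.u)⁻¹ = L.u from inv_eq_of_mul_eq_one_left (by
        rw [← mul_assoc, ← pow_three', L.u_cube])] at this
  exact (commutatorElement_eq_one_iff_mul_comm (g₁ := a) (g₂ := b)).1 (by rw [commutatorElement_def]; exact h3)

/-- The centralizer in `Q` of a non-central element. -/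
theorem card_cent {y : G} (hy : y ∈ K.Q) (hy' : y ∉ zpowers K.z) :
    Nat.card ↥(K.Q ⊓ centralizer ({y} : Set G)) = 81 := by
  let ψ : K.Q →* zpowers K.z :=
    { toFun := fun q => ⟨(q : G) * y * (q : G)⁻¹ * y⁻¹, K.cm_mem q.2 hy⟩
      map_one' := Subtype.ext (by simp)
      map_mul' := fun a b => Subtype.ext (K.cm_mul_left a.2 b.2 hy) }
  have hk : Nat.card ψ.ker = Nat.card ↥(K.Q ⊓ centralizer ({y} : Set G)) := by
    rw [← card_map_of_injective K.Q.subtype_injective]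
    congr 2
    ext q
    constructor
    · rintro ⟨a, ha, rfl⟩
      exact ⟨a.2, mem_centralizer_singleton_iff.2
        (mul_inv_eq_iff_eq_mul.1 (mul_inv_eq_one.1 (congrArg Subtype.val (MonoidHom.mem_ker.1 ha))))⟩
    · rintro ⟨hq, hq'⟩
      refine ⟨⟨q, hq⟩, Subtype.ext ?_, rfl⟩
      show q * y * q⁻¹ * y⁻¹ = 1
      rw [mem_centralizer_singleton_iff.1 hq', mul_inv_cancel_right, mul_inv_cancel]
  have hr : Nat.card ψ.range = 3 := by
    have h1 : Nat.card ψ.range ∣ 3 := K.card_Z ▸ Subgroup.card_subgroup_dvd_card _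
    rcases (Nat.dvd_prime Nat.prime_three).1 h1 with h | h
    · exfalso
      refine hy' (K.Q_center y hy fun r hr => ?_)
      have := (Subgroup.card_eq_one.1 h).le (MonoidHom.mem_range.2 ⟨⟨r, hr⟩, rfl⟩)
      exact (mul_inv_eq_iff_eq_mul.1 (mul_inv_eq_one.1 (congrArg Subtype.val (mem_bot.1 this)))).symm
    · exact h
  have := ψ.ker.card_mul_index
  rw [Subgroup.index_ker, hk, hr, K.card_Q] at this
  omega

theorem card_CQ : Nat.card L.CQ = 81 := card_cent L.u_mem L.u_out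

theorem three_group {A : Subgroup G} (hA : A ≤ K.Q) : ∃ n, Nat.card A = 3 ^ n := by
  haveI : Fact (Nat.Prime 3) := ⟨Nat.prime_three⟩
  exact IsPGroup.iff_card.1 (show IsPGroup 3 A from fun a => ⟨1, Subtype.ext (by
    rw [pow_one, SubmonoidClass.coe_pow]; exact K.Q_cube _ (hA a.2))⟩)

theorem card_D : Nat.card L.D = 27 := by
  have hc : ∀ q : L.CQ, (L.x⁻¹ * q * L.x) * K.z = K.z * (L.x⁻¹ * q * L.x) := fun q => by
    have h := (L.mem_CQ.1 q.2).2
    rw [← L.x_z] at h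
    simpa [mul_assoc] using congrArg (fun y => L.x⁻¹ * y * L.x) h
  let ψ : L.CQ →* S2 :=
    { toFun := fun q => K.img _ (hc q)
      map_one' := (K.img_eq_one _).2 (by simp)
      map_mul' := fun a b => by
        rw [← K.img_mul (hc a) (hc b)]
        congr 1
        simp [mul_assoc] }
  have hcube : ∀ A ∈ ψ.range, A * A * A = 1 := by
    rintro A ⟨q, rfl⟩
    rw [← map_mul, ← map_mul, show q * q * q = 1 from Subtype.ext (by
      show (q : G) * q * q = 1
      rw [← pow_three']; exact K.Q_cube _ (L.mem_CQ.1 q.2).1), map_one]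
  have hr : Nat.card ψ.range ≤ 3 := by
    classical
    by_cases h : ∀ A ∈ ψ.range, A = 1
    · rw [show ψ.range = ⊥ from (eq_bot_iff_forall _).2 h]; simp
    push Not at h
    obtain ⟨A, hA, hA1⟩ := h
    have hsub : (ψ.range : Set S2) ⊆ ({1, A, A * A} : Finset S2) := fun B hB => by
      have := three_sub A B (hcube A hA) hA1 (hcube B hB) (hcube _ (mul_mem hA hB))
        (hcube _ (mul_mem (mul_mem hA hA) hB))
      simpa using this
    rw [show Nat.card ψ.range = Set.ncard (ψ.range : Set S2) from Nat.card_coe_set_eq _]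
    exact (Set.ncard_le_ncard hsub (Finset.finite_toSet _)).trans
      (by rw [Set.ncard_coe_finset]; exact Finset.card_le_three)
  have hk : Nat.card ψ.ker = Nat.card L.D := by
    rw [← card_map_of_injective L.CQ.subtype_injective]
    congr 2
    ext q
    constructor
    · rintro ⟨a, ha, rfl⟩
      exact ⟨a.2, L.mem_Qu.2 ((K.img_eq_one (hc a)).1 (MonoidHom.mem_ker.1 ha))⟩
    · rintro ⟨hq, hq'⟩
      exact ⟨⟨q, hq⟩, MonoidHom.mem_ker.2 ((K.img_eq_one (hc ⟨q, hq⟩)).2 (L.mem_Qu.1 hq')), rfl⟩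
  have hmul := ψ.ker.card_mul_index
  rw [Subgroup.index_ker, hk, L.card_CQ] at hmul
  have hlt := K.abelian_small L.D L.D_le_Q L.D_comm
  obtain ⟨n, hn⟩ := three_group L.D_le_Q
  have : 27 ≤ Nat.card L.D := by nlinarith
  rw [hn] at this hlt ⊢
  have h3 : 3 ≤ n := (Nat.pow_le_pow_iff_right (by norm_num : 1 < 3)).1 (by norm_num; exact this)
  have h4 : n < 4 := (Nat.pow_lt_pow_iff_right (by norm_num : 1 < 3)).1 (by norm_num; exact hlt)
  interval_cases n
  norm_num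

/-- `D` is its own centralizer in `Q`. -/
theorem mem_D_of_comm {q : G} (hq : q ∈ K.Q) (h : ∀ d ∈ L.D, q * d = d * q) : q ∈ L.D := by
  classical
  by_contra hqD
  have hle : L.D ⊔ zpowers q ≤ K.Q := sup_le L.D_le_Q (zpowers_le.2 hq)
  have hab : ∀ a ∈ L.D ⊔ zpowers q, ∀ b ∈ L.D ⊔ zpowers q, a * b = b * a := by
    have h1 : IsMulCommutative (closure ((L.D : Set G) ∪ {q})) := isMulCommutative_closure (by
      rintro a (ha | rfl) b (hb | rfl)
      · exact L.D_comm a ha b hb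
      · exact (h a ha).symm
      · exact h b hb
      · rfl)
    have h2 : L.D ⊔ zpowers q = closure ((L.D : Set G) ∪ {q}) := by
      rw [Subgroup.closure_union, closure_eq, ← zpowers_eq_closure]
    intro a ha b hb
    rw [h2] at ha hb
    exact congrArg Subtype.val (h1.is_comm.comm ⟨a, ha⟩ ⟨b, hb⟩)
  have hlt := K.abelian_small _ hle hab
  obtain ⟨n, hn⟩ := three_group hle
  have h27 : 27 < Nat.card ↥(L.D ⊔ zpowers q) := by
    rw [← L.card_D]
    by_contra hle'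
    exact hqD ((eq_of_le_of_card_ge le_sup_left (not_lt.1 hle')).symm.le (mem_sup_right (mem_zpowers q)))
  rw [hn] at hlt h27
  have h3 : 3 < n := (Nat.pow_lt_pow_iff_right (by norm_num : 1 < 3)).1 (by norm_num; exact h27)
  have h4 : n < 4 := (Nat.pow_lt_pow_iff_right (by norm_num : 1 < 3)).1 (by norm_num; exact hlt)
  omega

theorem z_mem_D : K.z ∈ L.D := L.mem_D_of_comm K.z_mem fun d hd => (K.Q_comm d (L.D_le_Q hd)).symm

theorem conj_Qu {q b : G} (hq : q * L.u = L.u * q) (hb : b ∈ L.Qu) : q * b * q⁻¹ ∈ L.Qu := by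
  rw [mem_Qu] at hb ⊢
  have h : (L.x⁻¹ * q * L.x) * K.z = K.z * (L.x⁻¹ * q * L.x) := by
    rw [← L.x_z] at hq
    simpa [mul_assoc] using congrArg (fun y => L.x⁻¹ * y * L.x) hq
  have := K.conj_Q h hb
  simpa [mul_assoc] using this

/-- Conjugation preserves `D` when it preserves both points. -/
theorem conj_D {c : G} (hz : c * K.z * c⁻¹ ∈ zpowers K.z) (hu : c * L.u * c⁻¹ ∈ zpowers L.u) {d : G} (hd : d ∈ L.D) :
    c * d * c⁻¹ ∈ L.D := by
  obtain ⟨i, hi⟩ := mem_zpowers_iff.1 hu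
  refine ⟨L.mem_CQ.2 ⟨K.Q_norm c hz d (L.D_le_Q hd), ?_⟩, L.mem_Qu.2 ?_⟩
  · have hdu : Commute d L.u := (L.mem_CQ.1 hd.1).2
    have h1 : Commute (c * d * c⁻¹) (L.u ^ i) := by
      rw [hi]
      show _ = _
      simp [mul_assoc, ← mul_assoc d, hdu.eq]
    have h3 : L.u ∈ zpowers (L.u ^ i) := by
      haveI : Fact (Nat.Prime 3) := ⟨Nat.prime_three⟩
      have ho : orderOf L.u = 3 := orderOf_eq_prime L.u_cube L.u_ne
      rw [← zpow_mod_orderOf, ho] at hi ⊢
      rcases (show i % ((3 : ℕ) : ℤ) = 0 ∨ i % ((3 : ℕ) : ℤ) = 1 ∨ i % ((3 : ℕ) : ℤ) = 2 by omega)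
        with e | e | e <;> rw [e] at hi ⊢
      · rw [zpow_zero] at hi
        exact absurd (conj_eq_one_iff.1 hi.symm) L.u_ne
      · simp
      · refine mem_zpowers_iff.2 ⟨2, ?_⟩
        rw [← zpow_mul, show (2 : ℤ) * 2 = 3 + 1 by norm_num, zpow_add, zpow_one]
        norm_cast
        rw [L.u_cube, one_mul]
    obtain ⟨j, hj⟩ := mem_zpowers_iff.1 h3
    have h4 := (h1.zpow_right j).eq
    rwa [hj] at h4
  · have h : (L.x⁻¹ * c * L.x) * K.z * (L.x⁻¹ * c * L.x)⁻¹ ∈ zpowers K.z := by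
      refine mem_zpowers_iff.2 ⟨i, ?_⟩
      rw [← L.x_z, conj_zpow] at hi
      calc K.z ^ i = L.x⁻¹ * (L.x * K.z ^ i * L.x⁻¹) * L.x := by group
        _ = _ := by rw [hi]; group
    have := K.Q_norm _ h _ (L.mem_Qu.1 hd.2)
    simpa [mul_assoc] using this

end Conj

/-- The conjugate with an element of `C_{Q^x}(z)` outside `Q`. -/
structure Frame (G : Type u) [Group G] [Finite G] where
  K : Core G
  L : Conj K
  v : G
  v_Qu : v ∈ L.Qu
  v_z : v * K.z = K.z * v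
  v_out : v ∉ K.Q
  img_v : K.img v v_z = sLow

theorem exists_frame (L : Conj K) : ∃ R : Frame G, R.K.z = K.z ∧ R.K.Q = K.Q ∧ R.L.u = L.u := by
  classical
  have hy : L.x⁻¹ * K.z * L.x ∈ K.Q := L.mem_Qu.1 L.z_mem_D.2
  have hy' : L.x⁻¹ * K.z * L.x ∉ zpowers K.z := fun h => by
    obtain ⟨i, hi⟩ := mem_zpowers_iff.1 h
    refine L.u_out ?_
    have e : K.z = L.u ^ i := by rw [← L.x_z, conj_zpow, hi]; group
    haveI : Fact (Nat.Prime 3) := ⟨Nat.prime_three⟩
    have ho : orderOf L.u = 3 := orderOf_eq_prime L.u_cube L.u_ne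
    have h2 : zpowers K.z ≤ zpowers L.u := zpowers_le.2 (mem_zpowers_iff.2 ⟨i, e.symm⟩)
    have h3 := eq_of_le_of_card_ge h2 (by rw [K.card_Z, Nat.card_zpowers, ho])
    exact h3 ▸ mem_zpowers _
  let X : Subgroup G := (K.Q ⊓ centralizer ({L.x⁻¹ * K.z * L.x} : Set G)).map (MulAut.conj L.x).toMonoidHom
  have hX : Nat.card X = 81 := by
    rw [card_map_of_injective (MulAut.conj L.x).injective]; exact Conj.card_cent hy hy'
  obtain ⟨v, hv, hvD⟩ : ∃ v ∈ X, v ∉ L.D := by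
    by_contra h
    push Not at h
    have := card_le_of_le (show X ≤ L.D from h)
    rw [hX, L.card_D] at this
    omega
  have hvQu : v ∈ L.Qu := map_mono inf_le_left hv
  have hvz : v * K.z = K.z * v := by
    obtain ⟨y, hy, rfl⟩ := hv
    have h := mem_centralizer_singleton_iff.1 hy.2
    simpa [mul_assoc] using congrArg (fun t => L.x * t * L.x⁻¹) h
  have hvQ : v ∉ K.Q := fun h => hvD ⟨L.mem_CQ.2 ⟨h, L.Qu_comm hvQu⟩, hvQu⟩
  have hv3 : v ^ 3 = 1 := by
    obtain ⟨y, hy, rfl⟩ := hvQu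
    rw [← map_pow, K.Q_cube y hy, map_one]
  have hs : K.img v hvz * K.img v hvz * K.img v hvz = 1 := by
    rw [← K.img_mul hvz hvz, ← K.img_mul (K.comm_mul hvz hvz) hvz, K.img_eq_one, ← pow_three', hv3]
    exact one_mem _
  have hs1 : K.img v hvz ≠ 1 := fun e => hvQ ((K.img_eq_one hvz).1 e)
  obtain ⟨h, hh | hh⟩ := to_low _ hs hs1
  · exact ⟨⟨K.twist (MulAut.conj h), ⟨L.x, L.u, L.x_z, L.u_mem, L.u_out⟩, v, hvQu, hvz, hvQ, hh⟩, rfl, rfl, rfl⟩
  · exact ⟨⟨K.twist (θ.trans (MulAut.conj h)), ⟨L.x, L.u, L.x_z, L.u_mem, L.u_out⟩, v, hvQu, hvz, hvQ, hh⟩,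
      rfl, rfl, rfl⟩

end CfsgLib.L43Three.PrePf
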