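import Cfsg.Agent.Lib.L43Three.PreLine

/-!
S3373, piece Pre: the element of `C_{Q^x}(z)` acts quadratically and `u` spans an invariant plane.
-/

set_option autoImplicit false
set_option maxRecDepth 100000
set_option linter.unusedSectionVars false
set_option linter.style.haveILetI false

namespace CfsgLib.L43Three.PrePf

open Subgroup

universe u

variable {G : Type u} [Group G] [Finite G]

theorem Core.cm_pow_left (K : Core G) {q r : G} (hq : q ∈ K.Q) (hr : r ∈ K.Q) (n : ℕ) :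
    q ^ n * r * (q ^ n)⁻¹ * r⁻¹ = (q * r * q⁻¹ * r⁻¹) ^ n := by
  induction n with
  | zero => simp
  | succ n ih => rw [pow_succ, K.cm_mul_left (pow_mem hq n) hq hr, ih, ← pow_succ]

theorem Core.cm_pow_right (K : Core G) {q r : G} (hq : q ∈ K.Q) (hr : r ∈ K.Q) (n : ℕ) :
    q * r ^ n * q⁻¹ * (r ^ n)⁻¹ = (q * r * q⁻¹ * r⁻¹) ^ n := by
  induction n with
  | zero => simp
  | succ n ih => rw [pow_succ, K.cm_mul_right hq (pow_mem hr n) hr, ih, ← pow_succ]

theorem Core.cl_pow (K : Core G) {q : G} (hq : q ∈ K.Q) (n : ℕ) :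
    K.cl (q ^ n) (pow_mem hq n) = n • K.cl q hq := rfl

theorem Core.op_one (K : Core G) (h : (1 : G) * K.z = K.z * 1) (x : K.W) : K.op 1 h x = x :=
  K.op_Q (one_mem _) x

namespace Frame

variable (R : Frame G)

/-- The class of `u`. -/
def ub : R.K.W := R.K.cl R.L.u R.L.u_mem

/-- The operator of `v`. -/
def vOp : R.K.W →+ R.K.W := R.K.op R.v R.v_z

/-- `v - 1`. -/
def N : R.K.W →+ R.K.W := R.vOp - AddMonoidHom.id _

theorem N_apply (x : R.K.W) : R.N x = R.vOp x - x := rfl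

theorem v_u : R.v * R.L.u = R.L.u * R.v := R.L.Qu_comm R.v_Qu

theorem v_cube : R.v ^ 3 = 1 := by
  obtain ⟨y, hy, h⟩ := R.v_Qu
  rw [← h, ← map_pow, R.K.Q_cube y hy, map_one]

theorem N_cl {q : G} (hq : q ∈ R.K.Q) :
    R.N (R.K.cl q hq) = R.K.cl (R.v * q * R.v⁻¹ * q⁻¹) (mul_mem (R.K.conj_Q R.v_z hq) (inv_mem hq)) := by
  rw [N_apply, vOp, R.K.op_cl, sub_eq_add_neg, ← R.K.cl_inv, ← R.K.cl_mul]

theorem ub_ne : R.ub ≠ 0 := fun h => R.L.u_out ((R.K.cl_zero _).1 h)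

theorem N_ub : R.N R.ub = 0 := by
  rw [ub, N_cl, R.K.cl_zero, R.v_u, mul_inv_cancel_right, mul_inv_cancel]
  exact one_mem _

theorem comm_D {d : G} (hd : d ∈ R.L.D) : R.v * d * R.v⁻¹ * d⁻¹ ∈ zpowers R.L.u := by
  have h := R.K.cm_mem (R.L.mem_Qu.1 R.v_Qu) (R.L.mem_Qu.1 hd.2)
  obtain ⟨i, hi⟩ := mem_zpowers_iff.1 h
  refine mem_zpowers_iff.2 ⟨i, ?_⟩
  rw [← R.L.x_z, conj_zpow, hi]; group

theorem N_D {d : G} (hd : d ∈ R.L.D) : ∃ k : ℕ, R.N (R.K.cl d (R.L.D_le_Q hd)) = k • R.ub := by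
  have h := R.comm_D hd
  rw [← mem_powers_iff_mem_zpowers] at h
  obtain ⟨k, hk⟩ := h
  refine ⟨k, ?_⟩
  rw [N_cl, ub, ← R.K.cl_pow]
  exact (R.K.cl_eq _ _).2 (by rw [show R.v * d * R.v⁻¹ * d⁻¹ = R.L.u ^ k from hk.symm, inv_mul_cancel]; exact one_mem _)

theorem eq_one_of_UZ {x : G} (hu : x ∈ zpowers R.L.u) (hz : x ∈ zpowers R.K.z) : x = 1 := by
  rcases R.K.Z_cases hz with h | h | h
  · exact h
  all_goals
    exfalso
    haveI : Fact (Nat.Prime 3) := ⟨Nat.prime_three⟩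
    have hz' : R.K.z ∈ zpowers R.L.u := by
      first
      | exact h ▸ hu
      | (have h' := mul_mem hu hu
         rwa [h, ← mul_assoc, mul_assoc R.K.z R.K.z R.K.z,
           show R.K.z * (R.K.z * R.K.z) = 1 from by rw [← pow_three]; exact R.K.z_cube, one_mul] at h')
    refine R.L.u_out ?_
    rw [eq_of_le_of_card_ge (zpowers_le.2 hz') (by
      rw [R.K.card_Z, Nat.card_zpowers, orderOf_eq_prime R.L.u_cube R.L.u_ne])]
    exact mem_zpowers _

theorem D_moved : ∃ d, ∃ hd : d ∈ R.L.D, R.N (R.K.cl d (R.L.D_le_Q hd)) = R.ub := by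
  by_cases h : ∀ d ∈ R.L.D, R.v * d * R.v⁻¹ * d⁻¹ = 1
  · exfalso
    have hy : R.L.x⁻¹ * R.v * R.L.x ∈ R.K.Q := R.L.mem_Qu.1 R.v_Qu
    let A : Subgroup G := closure ((R.L.D : Set G) ∪ {R.v})
    have hA : A ≤ R.L.Qu := (closure_le _).2 (by
      rintro a (ha | rfl)
      · exact ha.2
      · exact R.v_Qu)
    have hab : IsMulCommutative A := isMulCommutative_closure (by
      rintro a (ha | rfl) b (hb | rfl)
      · exact R.L.D_comm a ha b hb
      · exact ((mul_inv_eq_iff_eq_mul.1 (mul_inv_eq_one.1 (h a ha)))).symm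
      · exact mul_inv_eq_iff_eq_mul.1 (mul_inv_eq_one.1 (h b hb))
      · rfl)
    let A' : Subgroup G := A.map (MulAut.conj R.L.x⁻¹).toMonoidHom
    have hA' : A' ≤ R.K.Q := by
      rintro a ⟨b, hb, rfl⟩
      simpa using R.L.mem_Qu.1 (hA hb)
    have hlt := R.K.abelian_small A' hA' (by
      rintro a ⟨a', ha', rfl⟩ b ⟨b', hb', rfl⟩
      rw [← map_mul, ← map_mul]
      exact congrArg _ (congrArg Subtype.val (hab.is_comm.comm ⟨a', ha'⟩ ⟨b', hb'⟩)))
    obtain ⟨n, hn⟩ := Conj.three_group hA'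
    rw [hn] at hlt
    rw [card_map_of_injective (MulAut.conj R.L.x⁻¹).injective] at hn
    have h27 : 27 < 3 ^ n := by
      rw [← R.L.card_D, ← hn]
      refine lt_of_le_of_ne (card_le_of_le fun a ha => subset_closure (Or.inl ha)) fun e => R.v_out ?_
      have := eq_of_le_of_card_ge (show R.L.D ≤ A from fun a ha => subset_closure (Or.inl ha)) e.ge
      exact R.L.D_le_Q (this.symm ▸ subset_closure (Or.inr rfl))
    have h3 : 3 < n := (Nat.pow_lt_pow_iff_right (by norm_num : 1 < 3)).1 (by norm_num; exact h27)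
    have h4 : n < 4 := (Nat.pow_lt_pow_iff_right (by norm_num : 1 < 3)).1 (by norm_num; exact hlt)
    omega
  push Not at h
  obtain ⟨d, hd, hne⟩ := h
  obtain ⟨k, hk⟩ := R.N_D hd
  have hk3 : k % 3 ≠ 0 := fun h0 => by
    refine hne (R.eq_one_of_UZ (R.comm_D hd) ?_)
    rw [← R.K.cl_zero (mul_mem (R.K.conj_Q R.v_z (R.L.D_le_Q hd)) (inv_mem (R.L.D_le_Q hd))), ← R.N_cl (R.L.D_le_Q hd), hk,
      ← Nat.div_add_mod k 3, h0, add_zero, mul_smul, R.K.three_smul]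
  refine ⟨d ^ k, pow_mem hd k, ?_⟩
  rw [R.K.cl_pow (R.L.D_le_Q hd), map_nsmul, hk, smul_smul, ← Nat.div_add_mod (k * k) 3,
    show k * k % 3 = 1 by rcases (show k % 3 = 1 ∨ k % 3 = 2 by omega) with e | e <;> simp [Nat.mul_mod, e],
    add_smul, mul_smul, R.K.three_smul, zero_add, one_smul]

theorem conj_CQ {q : G} (hq : q ∈ R.L.CQ) : R.v * q * R.v⁻¹ * q⁻¹ ∈ R.L.D := by
  obtain ⟨h1, h2⟩ := R.L.mem_CQ.1 hq
  refine ⟨R.L.mem_CQ.2 ⟨mul_mem (R.K.conj_Q R.v_z h1) (inv_mem h1), ?_⟩, ?_⟩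
  · exact (((show Commute R.v R.L.u from R.v_u).mul_left (show Commute q R.L.u from h2)).mul_left
      (show Commute R.v R.L.u from R.v_u).inv_left |>.mul_left (show Commute q R.L.u from h2).inv_left).eq
  · have := mul_mem R.v_Qu (R.L.conj_Qu h2 (inv_mem R.v_Qu))
    simpa [mul_assoc] using this

theorem N_sq_outside {f : G} (hf : f ∈ R.K.Q) (hfu : f * R.L.u ≠ R.L.u * f) :
    R.N (R.N (R.K.cl f hf)) = 0 := by
  obtain ⟨a, ha⟩ : ∃ a, a = R.v * f * R.v⁻¹ * f⁻¹ := ⟨_, rfl⟩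
  have haQ : a ∈ R.K.Q := ha ▸ mul_mem (R.K.conj_Q R.v_z hf) (inv_mem hf)
  have hau : a * R.L.u = R.L.u * a := by
    obtain ⟨w, hw, hwe⟩ : ∃ w ∈ zpowers R.K.z, f * R.L.u * f⁻¹ = w * R.L.u :=
      ⟨_, R.K.cm_mem hf R.L.u_mem, by group⟩
    have h1 : R.v * f * R.v⁻¹ * R.L.u * (R.v * f * R.v⁻¹)⁻¹ = w * R.L.u := by
      calc _ = R.v * f * (R.v⁻¹ * (R.L.u * R.v)) * f⁻¹ * R.v⁻¹ := by group
        _ = R.v * (f * R.L.u * f⁻¹) * R.v⁻¹ := by rw [← R.v_u]; group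
        _ = R.v * w * R.v⁻¹ * (R.v * R.L.u * R.v⁻¹) := by rw [hwe]; group
        _ = w * R.L.u := by rw [R.K.Z_conj R.v_z hw, R.v_u, mul_inv_cancel_right]
    rw [← mul_inv_eq_iff_eq_mul, ha]
    calc _ = R.v * f * R.v⁻¹ * (f⁻¹ * (R.L.u) * f) * (R.v * f * R.v⁻¹)⁻¹ := by group
      _ = R.v * f * R.v⁻¹ * (w⁻¹ * R.L.u) * (R.v * f * R.v⁻¹)⁻¹ := by
        congr 2
        have hfw := R.K.Z_central (R.K.Q_comm f hf) (inv_mem hw)
        calc f⁻¹ * R.L.u * f = f⁻¹ * (w⁻¹ * (f * R.L.u * f⁻¹)) * f := by rw [hwe, inv_mul_cancel_left]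
          _ = f⁻¹ * (w⁻¹ * f) * R.L.u := by group
          _ = f⁻¹ * (f * w⁻¹) * R.L.u := by rw [hfw]
          _ = w⁻¹ * R.L.u := by group
      _ = R.v * f * R.v⁻¹ * w⁻¹ * (R.v * f * R.v⁻¹)⁻¹ * (R.v * f * R.v⁻¹ * R.L.u * (R.v * f * R.v⁻¹)⁻¹) := by group
      _ = R.L.u := by
        rw [h1, R.K.Z_conj (R.K.Q_comm _ (R.K.conj_Q R.v_z hf)) (inv_mem hw), inv_mul_cancel_left]
  have haCQ : a ∈ R.L.CQ := R.L.mem_CQ.2 ⟨haQ, hau⟩
  obtain ⟨d, hd⟩ : ∃ d, d = R.v * a * R.v⁻¹ * a⁻¹ := ⟨_, rfl⟩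
  have hdD : d ∈ R.L.D := hd ▸ R.conj_CQ haCQ
  have hdQ := R.L.D_le_Q hdD
  have hNf : R.N (R.K.cl f hf) = R.K.cl a haQ := by rw [N_cl]; subst ha; rfl
  have hNa : R.N (R.K.cl a haQ) = R.K.cl d hdQ := by rw [N_cl]; subst hd; rfl
  rw [hNf, hNa]
  obtain ⟨k, hk⟩ := R.N_D hdD
  -- the cube of `v` is trivial
  have h3 : ∀ y, R.vOp (R.vOp (R.vOp y)) = y := by
    intro y
    rw [vOp, ← R.K.op_mul R.v_z R.v_z, ← R.K.op_mul (R.K.comm_mul R.v_z R.v_z) R.v_z]
    have : R.v * R.v * R.v ∈ R.K.Q := by rw [← pow_three', R.v_cube]; exact one_mem _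
    exact R.K.op_Q this y
  have hN : ∀ y, R.vOp y = y + R.N y := fun y => by rw [N_apply]; abel
  have he : R.N (R.K.cl d hdQ) = 0 := by
    have h := h3 (R.K.cl f hf)
    simp only [hN, map_add, hNf, hNa, hk, map_nsmul, R.N_ub, smul_zero, add_zero] at h
    rw [hk]
    linear_combination (norm := module) h - R.K.three_smul (R.K.cl a haQ) - R.K.three_smul (R.K.cl d hdQ)
  have hvd : R.v * d * R.v⁻¹ = d := mul_inv_eq_one.1 (R.eq_one_of_UZ (R.comm_D hdD) (by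
    rw [← R.K.cl_zero (mul_mem (R.K.conj_Q R.v_z hdQ) (inv_mem hdQ)), ← R.N_cl]; exact he))
  have hvf : R.v * f * R.v⁻¹ = a * f := by rw [ha]; group
  have hva : R.v * a * R.v⁻¹ = d * a := by rw [hd]; group
  have c1 := R.K.cm_conj R.v_z hf hdQ
  rw [hvf, hvd, R.K.cm_mul_left haQ hf hdQ] at c1
  have had : a * d * a⁻¹ * d⁻¹ = 1 := mul_eq_right.1 c1
  have c2 := R.K.cm_conj R.v_z hf haQ
  rw [hvf, hva, R.K.cm_mul_left haQ hf (mul_mem hdQ haQ), R.K.cm_mul_right haQ hdQ haQ, had,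
    R.K.cm_mul_right hf hdQ haQ, mul_inv_cancel_right, mul_inv_cancel, one_mul, one_mul] at c2
  have hfd : f * d = d * f := mul_inv_eq_iff_eq_mul.1 (mul_inv_eq_one.1 (mul_eq_right.1 c2))
  by_contra hne
  -- `D` is spanned by `d` and the two points
  let S : Subgroup G := R.L.D ⊓ centralizer ({f} : Set G)
  obtain ⟨δ, hδ, hNδ⟩ := R.D_moved
  let T : Subgroup G :=
    { carrier := {q | ∃ hq : q ∈ R.L.D, R.N (R.K.cl q (R.L.D_le_Q hq)) = 0}
      one_mem' := ⟨one_mem _, by rw [(R.K.cl_zero _).2 (one_mem _), map_zero]⟩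
      mul_mem' := fun ⟨ha, ha'⟩ ⟨hb, hb'⟩ => ⟨mul_mem ha hb, by
        rw [R.K.cl_mul (R.L.D_le_Q ha) (R.L.D_le_Q hb), map_add, ha', hb', add_zero]⟩
      inv_mem' := fun ⟨ha, ha'⟩ => ⟨inv_mem ha, by rw [R.K.cl_inv (R.L.D_le_Q ha), map_neg, ha', neg_zero]⟩ }
  have hTD : T ≤ R.L.D := fun q hq => hq.1
  let E : Subgroup G := zpowers R.K.z ⊔ zpowers R.L.u
  have hET : E ≤ T := sup_le
    (zpowers_le.2 ⟨R.L.z_mem_D, by rw [(R.K.cl_zero _).2 (mem_zpowers _), map_zero]⟩)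
    (zpowers_le.2 ⟨R.L.u_mem_D, R.N_ub⟩)
  have hE : 9 ≤ Nat.card E := by
    haveI : Fact (Nat.Prime 3) := ⟨Nat.prime_three⟩
    obtain ⟨n, hn⟩ := Conj.three_group ((hET.trans hTD).trans R.L.D_le_Q)
    have h3' : 3 < Nat.card E := by
      rw [← R.K.card_Z]
      refine lt_of_le_of_ne (card_le_of_le le_sup_left) fun e => R.L.u_out ?_
      exact (eq_of_le_of_card_ge le_sup_left e.ge).symm ▸ mem_sup_right (mem_zpowers _)
    rw [hn] at h3' ⊢
    have : 2 ≤ n := by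
      by_contra hlt
      interval_cases n <;> simp at h3'
    calc 9 = 3 ^ 2 := rfl
      _ ≤ 3 ^ n := Nat.pow_le_pow_right (by norm_num) this
  have hT9 : Nat.card T ≤ 9 := by
    obtain ⟨n, hn⟩ := Conj.three_group (hTD.trans R.L.D_le_Q)
    have hlt : Nat.card T < 27 := by
      rw [← R.L.card_D]
      refine lt_of_le_of_ne (card_le_of_le hTD) fun e => ?_
      have h0 : R.N (R.K.cl δ (R.L.D_le_Q hδ)) = 0 := ((eq_of_le_of_card_ge hTD e.ge).symm ▸ hδ : δ ∈ T).2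
      exact R.ub_ne (hNδ ▸ h0)
    rw [hn] at hlt ⊢
    have h3' : n < 3 := (Nat.pow_lt_pow_iff_right (by norm_num : 1 < 3)).1 (by norm_num; exact hlt)
    interval_cases n <;> norm_num
  have hdE : d ∈ E := (eq_of_le_of_card_ge hET (hT9.trans hE)).symm ▸ (⟨hdD, he⟩ : d ∈ T)
  let Z' : Subgroup G := E ⊓ centralizer ({f} : Set G)
  have hZ' : zpowers R.K.z ≤ Z' := zpowers_le.2
    ⟨mem_sup_left (mem_zpowers _), mem_centralizer_singleton_iff.2 (R.K.Q_comm f hf).symm⟩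
  have hdvd : Nat.card Z' ∣ Nat.card E := card_dvd_of_le inf_le_left
  have hEc : Nat.card E = 9 := le_antisymm ((card_le_of_le hET).trans hT9) hE
  have hlt' : Nat.card Z' < 9 := by
    rw [← hEc]
    refine lt_of_le_of_ne (card_le_of_le inf_le_left) fun e => hfu ?_
    have hZE : Z' = E := eq_of_le_of_card_ge inf_le_left e.ge
    have hu' : R.L.u ∈ Z' := by rw [hZE]; exact mem_sup_right (mem_zpowers _)
    exact (mem_centralizer_singleton_iff.1 hu'.2).symm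
  refine hne ((R.K.cl_zero hdQ).2 ?_)
  rw [eq_of_le_of_card_ge hZ' (by
    rw [R.K.card_Z]
    rw [hEc] at hdvd
    have : Nat.card Z' ≤ 9 := hlt'.le
    interval_cases h : Nat.card Z' <;> revert hdvd <;> norm_num)]
  exact ⟨hdE, mem_centralizer_singleton_iff.2 hfd.symm⟩

theorem N_sq (x : R.K.W) : R.N (R.N x) = 0 := by
  obtain ⟨q, hq, rfl⟩ := R.K.cl_surj x
  by_cases h : q * R.L.u = R.L.u * q
  · obtain ⟨f, hf, hfu⟩ : ∃ f ∈ R.K.Q, f * R.L.u ≠ R.L.u * f := by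
      by_contra hc
      push Not at hc
      exact R.L.u_out (R.K.Q_center _ R.L.u_mem fun r hr => (hc r hr).symm)
    have hqf : q * f * R.L.u ≠ R.L.u * (q * f) := fun e => hfu (mul_left_cancel (a := q) (by
      rw [← mul_assoc, e, ← mul_assoc, ← h, mul_assoc]))
    have := R.N_sq_outside (mul_mem hq hf) hqf
    rwa [R.K.cl_mul hq hf, map_add, map_add, R.N_sq_outside hf hfu, add_zero] at this
  · exact R.N_sq_outside hq h

/-- A lift of the upper transvection. -/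
theorem exists_g : ∃ (g : G) (hg : g * R.K.z = R.K.z * g),
    R.K.img (g * R.v * g⁻¹) (R.K.comm_mul (R.K.comm_mul hg R.v_z) (R.K.comm_inv hg)) = sUp := by
  obtain ⟨h, hh⟩ := up_conj
  obtain ⟨g, hg, rfl⟩ := R.K.exists_img h
  refine ⟨g, hg, ?_⟩
  rw [R.K.img_mul (R.K.comm_mul hg R.v_z) (R.K.comm_inv hg), R.K.img_mul hg R.v_z, R.K.img_inv hg, R.img_v, hh]

/-- The conjugating element. -/
noncomputable def g : G := R.exists_g.choose

theorem g_z : R.g * R.K.z = R.K.z * R.g := R.exists_g.choose_spec.choose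

/-- The conjugate of `v`. -/
noncomputable def v' : G := R.g * R.v * R.g⁻¹

theorem v'_z : R.v' * R.K.z = R.K.z * R.v' := R.K.comm_mul (R.K.comm_mul R.g_z R.v_z) (R.K.comm_inv R.g_z)

theorem img_v' : R.K.img R.v' R.v'_z = sUp := R.exists_g.choose_spec.choose_spec

/-- `v' - 1`. -/
noncomputable def N' : R.K.W →+ R.K.W := R.K.op R.v' R.v'_z - AddMonoidHom.id _

theorem N'_apply (x : R.K.W) : R.N' x = R.K.op R.v' R.v'_z x - x := rfl

theorem op_v (x : R.K.W) : R.K.op R.v R.v_z x = x + R.N x := by rw [N_apply, vOp]; abel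

theorem op_v' (x : R.K.W) : R.K.op R.v' R.v'_z x = x + R.N' x := by rw [N'_apply]; abel

theorem g_inv (x : R.K.W) : R.K.op R.g R.g_z (R.K.op R.g⁻¹ (R.K.comm_inv R.g_z) x) = x := by
  rw [← R.K.op_mul]
  exact R.K.op_Q (by rw [mul_inv_cancel]; exact one_mem _) x

theorem N'_sq (x : R.K.W) : R.N' (R.N' x) = 0 := by
  have hN' : ∀ x, R.N' x = R.K.op R.g R.g_z (R.N (R.K.op R.g⁻¹ (R.K.comm_inv R.g_z) x)) := fun x => by
    rw [N'_apply, N_apply, map_sub, R.g_inv, vOp, ← R.K.op_mul, ← R.K.op_mul (R.K.comm_mul R.g_z R.v_z)]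
    rfl
  have hinv : ∀ y, R.K.op R.g⁻¹ (R.K.comm_inv R.g_z) (R.K.op R.g R.g_z y) = y := fun y => by
    rw [← R.K.op_mul]
    exact R.K.op_Q (by rw [inv_mul_cancel]; exact one_mem _) y
  rw [hN', hN', hinv, R.N_sq, map_zero]

theorem op_words {c : G} (hc : c * R.K.z = R.K.z * c) (P : R.K.W → R.K.W → Prop) (X : R.K.W)
    (h1 : P X X) (hv : ∀ y, P X y → P X (R.K.op R.v R.v_z y)) (hv' : ∀ y, P X y → P X (R.K.op R.v' R.v'_z y)) :
    P X (R.K.op c hc X) := by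
  have key : ∀ A : S2, ∀ (c : G) (hc : c * R.K.z = R.K.z * c), R.K.img c hc = A →
      ∀ y, P X y → P X (R.K.op c hc y) := by
    have hmul : ∀ A B : S2,
        (∀ (c : G) (hc : c * R.K.z = R.K.z * c), R.K.img c hc = A → ∀ y, P X y → P X (R.K.op c hc y)) →
        (∀ (c : G) (hc : c * R.K.z = R.K.z * c), R.K.img c hc = B → ∀ y, P X y → P X (R.K.op c hc y)) →
        ∀ (c : G) (hc : c * R.K.z = R.K.z * c), R.K.img c hc = A * B → ∀ y, P X y → P X (R.K.op c hc y) := by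
      intro A B hA hB c hc e y hy
      obtain ⟨a, ha, rfl⟩ := R.K.exists_img A
      obtain ⟨b, hb, rfl⟩ := R.K.exists_img B
      rw [R.K.op_congr hc (R.K.comm_mul ha hb) (by rw [e, R.K.img_mul ha hb]), R.K.op_mul ha hb]
      exact hA a ha rfl _ (hB b hb rfl y hy)
    have hpow : ∀ A : S2,
        (∀ (c : G) (hc : c * R.K.z = R.K.z * c), R.K.img c hc = A → ∀ y, P X y → P X (R.K.op c hc y)) →
        ∀ n : ℕ, ∀ (c : G) (hc : c * R.K.z = R.K.z * c), R.K.img c hc = A ^ n → ∀ y, P X y → P X (R.K.op c hc y) := by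
      intro A hA n
      induction n with
      | zero =>
        intro c hc e y hy
        rw [R.K.op_Q ((R.K.img_eq_one hc).1 (by rw [e, pow_zero])) y]
        exact hy
      | succ n ih =>
        intro c hc e
        exact hmul _ _ ih hA c hc (by rw [e, pow_succ])
    have hL : ∀ (c : G) (hc : c * R.K.z = R.K.z * c), R.K.img c hc = sLow → ∀ y, P X y → P X (R.K.op c hc y) :=
      fun c hc e y hy => by rw [R.K.op_congr hc R.v_z (by rw [e, R.img_v])]; exact hv y hy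
    have hU : ∀ (c : G) (hc : c * R.K.z = R.K.z * c), R.K.img c hc = sUp → ∀ y, P X y → P X (R.K.op c hc y) :=
      fun c hc e y hy => by rw [R.K.op_congr hc R.v'_z (by rw [e, R.img_v'])]; exact hv' y hy
    intro A
    obtain ⟨a, b, c', d, e', rfl⟩ := words A
    exact hmul _ _ (hmul _ _ (hmul _ _ (hmul _ _ (hpow _ hL _) (hpow _ hU _)) (hpow _ hL _)) (hpow _ hU _)) (hpow _ hL _)
  exact key _ c hc rfl X h1

theorem common_fixed {y : R.K.W} (h : R.N y = 0) (h' : R.N' y = 0) : y = 0 := by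
  obtain ⟨q, hq, rfl⟩ := R.K.cl_surj y
  refine (R.K.cl_zero hq).2 (R.K.fix q hq fun c hc => ?_)
  have hfix : R.K.op c hc (R.K.cl q hq) = R.K.cl q hq := by
    refine R.op_words hc (fun a b => b = a) _ rfl ?_ ?_
    · intro y hy; rw [hy, R.op_v, h, add_zero]
    · intro y hy; rw [hy, R.op_v', h', add_zero]
  rw [← R.K.cl_zero (mul_mem (R.K.conj_Q hc hq) (inv_mem hq)), R.K.cl_mul (R.K.conj_Q hc hq) (inv_mem hq),
    R.K.cl_inv hq, ← R.K.op_cl hc hq, hfix, add_neg_cancel]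

theorem sep {P S : R.K.W} (hP : R.N P = 0) (hS : R.N S = 0) (h : P + R.N' S = 0) : P = 0 ∧ S = 0 := by
  have h1 : R.N' P = 0 := by
    have := congrArg R.N' h
    rwa [map_add, R.N'_sq, add_zero, map_zero] at this
  have hP0 := R.common_fixed hP h1
  refine ⟨hP0, R.common_fixed hS ?_⟩
  rwa [hP0, zero_add] at h

/-- The key relation. -/
theorem key {x : R.K.W} (hx : R.N x = 0) : R.N (R.N' x) = -x := by
  -- `v v'⁻¹` has order four
  have hzz : R.v * R.v'⁻¹ * R.K.z = R.K.z * (R.v * R.v'⁻¹) := R.K.comm_mul R.v_z (R.K.comm_inv R.v'_z)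
  have hinv' : ∀ y, R.K.op R.v'⁻¹ (R.K.comm_inv R.v'_z) y = y - R.N' y := fun y => by
    have hl : ∀ t, R.K.op R.v'⁻¹ (R.K.comm_inv R.v'_z) (R.K.op R.v' R.v'_z t) = t := fun t => by
      rw [← R.K.op_mul]; exact R.K.op_Q (by rw [inv_mul_cancel]; exact one_mem _) t
    have h := hl (y - R.N' y)
    rw [R.op_v', map_sub, R.N'_sq, sub_zero, sub_add_cancel] at h
    exact h
  let ζ : R.K.W → R.K.W := fun y => R.K.op (R.v * R.v'⁻¹) hzz y
  have hζ4 : ∀ y, ζ (ζ (ζ (ζ y))) = y := fun y => by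
    simp only [ζ]
    rw [← R.K.op_mul, ← R.K.op_mul, ← R.K.op_mul]
    refine R.K.op_Q ((R.K.img_eq_one (R.K.comm_mul (R.K.comm_mul (R.K.comm_mul hzz hzz) hzz) hzz)).1 ?_) y
    rw [R.K.img_mul (R.K.comm_mul (R.K.comm_mul hzz hzz) hzz) hzz, R.K.img_mul (R.K.comm_mul hzz hzz) hzz,
      R.K.img_mul hzz hzz, R.K.img_mul R.v_z (R.K.comm_inv R.v'_z), R.K.img_inv R.v'_z, R.img_v, R.img_v',
      mul_assoc (sLow * sUp⁻¹ * (sLow * sUp⁻¹)), low_up.2]
  -- `ζ` in the coordinates of the fixed space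
  let T : R.K.W →+ R.K.W := R.N.comp R.N'
  have hT : ∀ y, R.N (T y) = 0 := fun y => R.N_sq _
  have hζ : ∀ P S, R.N P = 0 → R.N S = 0 →
      ζ (P + R.N' S) = (P - T P + T S) + R.N' (S - P) := by
    intro P S hP hS
    show R.K.op (R.v * R.v'⁻¹) hzz _ = _
    rw [R.K.op_mul R.v_z (R.K.comm_inv R.v'_z), hinv', R.op_v]
    simp only [map_add, map_sub, R.N'_sq, hP, T, AddMonoidHom.comp_apply, map_zero]
    abel
  have hfixT : ∀ y, R.N (T y) = 0 := hT
  have h1 := hζ x 0 hx (map_zero _)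
  rw [map_zero, add_zero, map_zero, add_zero, zero_sub] at h1
  have f1 : R.N (x - T x) = 0 := by rw [map_sub, hx, hT, sub_zero]
  have g1 : R.N (-x) = 0 := by rw [map_neg, hx, neg_zero]
  have h2 := hζ _ _ f1 g1
  have f2 : R.N (x - T x - T (x - T x) + T (-x)) = 0 := by simp [map_add, map_sub, hx, hT]
  have g2 : R.N (-x - (x - T x)) = 0 := by simp [map_sub, map_neg, hx, hT]
  have h3 := hζ _ _ f2 g2
  have f3 : R.N (x - T x - T (x - T x) + T (-x) - T (x - T x - T (x - T x) + T (-x)) + T (-x - (x - T x))) = 0 := by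
    simp [map_add, map_sub, hx, hT]
  have g3 : R.N (-x - (x - T x) - (x - T x - T (x - T x) + T (-x))) = 0 := by
    simp [map_add, map_sub, map_neg, hx, hT]
  have h4 := hζ _ _ f3 g3
  have e4 := hζ4 x
  rw [h1, h2, h3, h4] at e4
  have e5 : ∀ A B, R.N A = 0 → R.N B = 0 → A + R.N' B = x → A - x = 0 ∧ B = 0 := fun A B hA hB h =>
    R.sep (by rw [map_sub, hA, hx, sub_zero]) hB (by rw [sub_add_eq_add_sub, h, sub_self])
  obtain ⟨eA, eB⟩ := e5 _ _ (by simp [map_add, map_sub, map_neg, hx, hT])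
    (by simp [map_add, map_sub, map_neg, hx, hT]) e4
  simp only [map_add, map_sub, map_neg] at eA eB
  have eB' := congrArg T eB
  simp only [map_add, map_sub, map_neg, map_zero] at eB'
  have eB'' := congrArg T eB'
  simp only [map_add, map_sub, map_neg, map_zero] at eB''
  show T x = -x
  have eA' := congrArg T eA
  simp only [map_add, map_sub, map_neg, map_zero] at eA'
  linear_combination (norm := (match_scalars <;> decide)) (1 : ZMod 3) • eA + (1 : ZMod 3) • eA' +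
    (2 : ZMod 3) • eB - (1 : ZMod 3) • eB''

end Frame

end CfsgLib.L43Three.PrePf
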