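import Cfsg.Agent.Lib.L43Three.PresentData
import Cfsg.Agent.Lib.Classical.PSLSimple

/-!
# The amalgam of the two parabolic subgroups (S3373, seat 4)
-/

set_option autoImplicit false
set_option maxRecDepth 100000
set_option synthInstance.maxSize 512

namespace CfsgLib.L43Three

open Matrix
open CfsgLib.J1Unique (PG pg pg_rel toG toG_pg presModel closure_pg wv)
open CfsgLib.PresCert

universe u

namespace Amalgam

theorem mk_eq_one {S : S4} (h : S.1 = 1 ∨ S.1 = -1) : mk S = 1 := by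
  refine (QuotientGroup.eq_one_iff S).2 (Subgroup.mem_center_iff.2 fun T => Subtype.ext ?_)
  rcases h with h | h <;> simp [h]

theorem rels_gL : ∀ w ∈ rels, (w.map gL).prod = 1 := by
  intro w hw
  rw [show w.map gL = (w.map gS).map mk by simp [gL, List.map_map, Function.comp_def],
    ← map_list_prod]
  refine mk_eq_one ?_
  have key : ∀ j : Fin 4, ((w.map gS).prod).1 *ᵥ Pi.single j 1 = vec (appW w (3 ^ j.val)) := by
    intro j
    rw [← (vec_basis j).1]
    exact (word_mulVec w (rels_lt w hw) _ (vec_basis j).2).2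
  rcases rels_fix w hw with h | h
  · left
    ext i j
    have := congrFun ((key j).trans (h j)) i
    simpa [Matrix.one_apply, Pi.single_apply, eq_comm] using this
  · right
    ext i j
    have := congrFun ((key j).trans (h j)) i
    simpa [Matrix.one_apply, Pi.single_apply, eq_comm] using this

theorem center_scalar {Z : S4} (h : Z ∈ Subgroup.center S4) :
    ∃ r : ZMod 3, r * r = 1 ∧ Z.1 = r • (1 : Matrix (Fin 4) (Fin 4) (ZMod 3)) := by
  obtain ⟨r, hr, e⟩ := Matrix.SpecialLinearGroup.mem_center_iff.1 h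
  refine ⟨r, ?_, by rw [← e]; ext i j; simp [Matrix.scalar, Matrix.diagonal, Matrix.one_apply]⟩
  have hd : ∀ r : ZMod 3, r ^ 4 = 1 → r * r = 1 := by decide
  exact hd r (by simpa using hr)

theorem mem_PS_of_mk {S : S4} (h : mk S ∈ P) : S ∈ PS := by
  obtain ⟨T, hT, e⟩ := h
  obtain ⟨r, hr, hZ⟩ := center_scalar (QuotientGroup.eq.1 e)
  have hS : S = T * (T⁻¹ * S) := by group
  rw [hS]
  refine mul_mem hT ?_
  show Matrix.mulVec (T⁻¹ * S).1 e0 = e0 ∨ Matrix.mulVec (T⁻¹ * S).1 e0 = -e0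
  rw [hZ, Matrix.smul_mulVec, Matrix.one_mulVec]
  have hd : ∀ r : ZMod 3, r * r = 1 → r = 1 ∨ r = -1 := by decide
  rcases hd r hr with rfl | rfl
  · left; simp
  · right; simp

theorem index_P : 40 ≤ P.index := by
  have he : vec 1 = e0 := by decide +kernel
  let f : Fin 40 → L4 ⧸ P := fun i => QuotientGroup.mk (mk ((ptW.getD i.1 []).map gS).prod)
  have hf : Function.Injective f := by
    intro i j e
    have hm := QuotientGroup.eq.1 e
    rw [← map_inv, ← map_mul] at hm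
    have hlt : ∀ k : Fin 40, ∀ x ∈ ptW.getD k.1 [], x < 7 := fun k x hx => by
      rw [List.getD_eq_getElem _ _ (ptW_facts.1.symm ▸ k.2)] at hx
      exact ptW_facts.2.1 _ (List.getElem_mem _) x hx
    have hi := (word_mulVec _ (hlt i) 1 (by norm_num)).2
    have hj := (word_mulVec _ (hlt j) 1 (by norm_num)).2
    set A := ((ptW.getD i.1 []).map gS).prod
    set B := ((ptW.getD j.1 []).map gS).prod
    have hB : B.1 = A.1 * (A⁻¹ * B).1 := by
      rw [← coe_mulS, mul_inv_cancel_left]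
    rw [hB, ← Matrix.mulVec_mulVec, he] at hj
    rw [he] at hi
    refine Fin.ext (ptW_facts.2.2 i i.2 j j.2 ?_)
    rcases mem_PS_of_mk hm with h | h
    · rw [h, hi] at hj
      exact Or.inl hj
    · rw [h, Matrix.mulVec_neg, hi] at hj
      exact Or.inr (neg_eq_iff_eq_neg.1 hj)
  simpa [Subgroup.index] using Nat.card_le_card_of_injective f hf

/-- membership in `P` -/
theorem mk_mem_P {S : S4} (h : S.1 *ᵥ e0 = e0 ∨ S.1 *ᵥ e0 = -e0) : mk S ∈ P := ⟨S, h, rfl⟩

/-- membership in `P'` -/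
theorem mk_mem_P' {S : S4} (h : f3 ᵥ* S.1 = f3 ∨ f3 ᵥ* S.1 = -f3) : mk S ∈ P' := ⟨S, h, rfl⟩

theorem gL_mem : (∀ i < 7, i ≠ 2 → gL i ∈ P) ∧ ∀ i < 7, i ≠ 6 → gL i ∈ P' :=
  ⟨fun i hi hne => mk_mem_P (by rw [gS_val hi]; exact (mem_M i hi).1 hne),
    fun i hi hne => mk_mem_P' (by rw [gS_val hi]; exact (mem_M i hi).2 hne)⟩

/-- The entries of a matrix commuting with an elementary transvection. -/
theorem comm_entries {n : Type*} [Fintype n] [DecidableEq n] {R : Type*} [CommRing R]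
    {S : Matrix n n R} {r c : n} (h : S * (1 + single r c 1) = (1 + single r c 1) * S) :
    (∀ k, k ≠ r → S k r = 0) ∧ (∀ l, l ≠ c → S c l = 0) ∧ S r r = S c c := by
  rw [Matrix.mul_add, Matrix.mul_one, Matrix.add_mul, Matrix.one_mul, add_right_inj] at h
  refine ⟨fun k hk => ?_, fun l hl => ?_, ?_⟩
  · simpa [mul_apply, single_apply, Ne.symm hk] using congrFun (congrFun h k) c
  · simpa [mul_apply, single_apply, Ne.symm hl] using (congrFun (congrFun h r) l).symm
  · simpa [mul_apply, single_apply] using congrFun (congrFun h r) c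

theorem cube_one {H : Type*} [Group H] {S y z : H} (hz : ∀ t, t * z = z * t) (h2 : z * z = 1)
    (e : S * y = z * (y * S)) (h3 : y * y * y = 1) : z = 1 := by
  have c : S * y * S⁻¹ = z * y := by rw [e]; group
  have e3 : S * (y * y * y) * S⁻¹ = (z * y) * (z * y) * (z * y) := by rw [← c]; group
  have e4 : (z * y) * (z * y) * (z * y) = z * z * z * (y * y * y) := by
    calc _ = z * (y * z) * y * (z * y) := by group
      _ = z * (z * y) * y * (z * y) := by rw [hz]
      _ = z * z * (y * y * z) * y := by group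
      _ = z * z * (z * (y * y)) * y := by rw [hz (y * y)]
      _ = _ := by group
  rw [h3, e4, h2, h3, one_mul, mul_one, mul_one, mul_inv_cancel] at e3
  exact e3.symm

theorem mk_eq_of_comm {S : S4} (h : ∀ k, mk S * mk (yv k) = mk (yv k) * mk S) : mk S = 1 := by
  have cen : ∀ k, ∃ z : S4, z ∈ Subgroup.center S4 ∧ S * yv k = z * (yv k * S) := fun k => by
    refine ⟨S * yv k * (yv k * S)⁻¹, (QuotientGroup.eq_one_iff _).1 ?_, by group⟩
    show mk (S * yv k * (yv k * S)⁻¹) = 1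
    rw [map_mul, map_inv, mul_inv_eq_one, map_mul, map_mul, h k]
  have exact4 : ∀ k : Fin 4, S.1 * (yv k.castSucc).1 = (yv k.castSucc).1 * S.1 := by
    intro k
    obtain ⟨z, hz, e⟩ := cen k.castSucc
    obtain ⟨r, hr, hzr⟩ := center_scalar hz
    have h2 : z * z = 1 := Subtype.ext (by
      rw [coe_mulS, hzr, Matrix.smul_mul, Matrix.one_mul, smul_smul, hr, one_smul]; rfl)
    have h3 : yv k.castSucc * yv k.castSucc * yv k.castSucc = 1 := Subtype.ext (y_cube k)
    have := cube_one (fun t => Subgroup.mem_center_iff.1 hz t) h2 e h3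
    rw [this, one_mul] at e
    exact congrArg Subtype.val e
  obtain ⟨f1, f2, f3', f4⟩ := y_single
  have c1 := exact4 0
  have c2 := exact4 1
  have c3 := exact4 2
  have c4 := exact4 3
  change S.1 * (qS 0 1 0 0 0).1 = (qS 0 1 0 0 0).1 * S.1 at c1
  change S.1 * (qS 0 0 1 0 0).1 = (qS 0 0 1 0 0).1 * S.1 at c2
  change S.1 * x23.1 = x23.1 * S.1 at c3
  change S.1 * (qS 0 0 0 1 0).1 = (qS 0 0 0 1 0).1 * S.1 at c4
  rw [f1] at c1; rw [f2] at c2; rw [f3'] at c3; rw [f4] at c4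
  obtain ⟨a1, b1, d1⟩ := comm_entries c1
  obtain ⟨a2, b2, d2⟩ := comm_entries c2
  obtain ⟨a3, -, d3⟩ := comm_entries c3
  obtain ⟨-, -, -⟩ := comm_entries c4
  obtain ⟨z, hz, e⟩ := cen 4
  obtain ⟨r, hr, hzr⟩ := center_scalar hz
  have e5 : S.1 * Matrix.diagonal ![1, 1, -1, -1] = r • (Matrix.diagonal ![1, 1, -1, -1] * S.1) := by
    have := congrArg Subtype.val e
    change S.1 * i0S.1 = z.1 * (i0S.1 * S.1) at this
    rw [hzr, Matrix.smul_mul, Matrix.one_mul] at this
    exact this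
  have e6 := fun i j => congrFun (congrFun e5 i) j
  simp only [Matrix.mul_diagonal, Matrix.smul_apply, Matrix.diagonal_mul, smul_eq_mul] at e6
  have hs : S.1 0 0 ≠ 0 := fun h0 => by
    have h' : ∀ i, S.1 i 0 = 0 := fun i => by
      by_cases hi : i = 0
      · rw [hi, h0]
      · exact a1 i hi
    have hd := S.2
    rw [Matrix.det_eq_zero_of_column_eq_zero 0 h'] at hd
    exact zero_ne_one hd
  have hr1 : r = 1 := by
    have := e6 0 0
    simp at this
    exact (mul_eq_right₀ hs).1 this.symm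
  subst hr1
  have h2 : ∀ x : ZMod 3, -x = x → x = 0 := by decide
  have q02 : S.1 0 2 = 0 := h2 _ (by simpa using e6 0 2)
  have q03 : S.1 0 3 = 0 := h2 _ (by simpa using e6 0 3)
  have q12 : S.1 1 2 = 0 := h2 _ (by simpa using e6 1 2)
  have q13 : S.1 1 3 = 0 := h2 _ (by simpa using e6 1 3)
  have hS : S.1 = S.1 0 0 • (1 : Matrix (Fin 4) (Fin 4) (ZMod 3)) := by
    ext i j
    fin_cases i <;> fin_cases j <;> simp <;>
      first
        | assumption
        | exact a1 _ (by decide)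
        | exact a3 _ (by decide)
        | exact b1 _ (by decide)
        | exact b2 _ (by decide)
        | exact d1.symm
        | exact d2.symm
        | exact d3.trans d1.symm
  refine (QuotientGroup.eq_one_iff S).2 (Subgroup.mem_center_iff.2 fun T => Subtype.ext ?_)
  rw [coe_mulS, coe_mulS, hS]
  simp

theorem closure_gL {R : Subgroup L4} (h : ∀ i < 7, gL i ∈ R) : R = ⊤ := by
  have key : R.comap mk = ⊤ := by
    refine Classical.eq_top_of_transvection_mem _ fun i j hij c => ?_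
    have base : ∀ (p : Fin 4 × Fin 4) (k : ℕ) (hp : p.1 ≠ p.2), k < 7 →
        (gS 0 * gS k).1 = Matrix.transvection p.1 p.2 1 →
        (SpecialLinearGroup.transvection hp (1 : ZMod 3)) ∈ R.comap mk := by
      intro p k hp hk e
      rw [show SpecialLinearGroup.transvection hp (1 : ZMod 3) = gS 0 * gS k from Subtype.ext e.symm,
        Subgroup.mem_comap, map_mul]
      exact mul_mem (h 0 (by norm_num)) (h k hk)
    have hb := hb_trans
    have com : ∀ (i k j : Fin 4) (hij : i ≠ j) (hik : i ≠ k) (hkj : k ≠ j),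
        SpecialLinearGroup.transvection hik (1 : ZMod 3) ∈ R.comap mk →
        SpecialLinearGroup.transvection hkj (1 : ZMod 3) ∈ R.comap mk →
        SpecialLinearGroup.transvection hij (1 : ZMod 3) ∈ R.comap mk := by
      intro i k j hij hik hkj h1 h2
      have e := Classical.commutator_transvection hij hik hkj (1 : ZMod 3) 1
      rw [mul_one] at e
      rw [← e, commutatorElement_def]
      exact mul_mem (mul_mem (mul_mem h1 h2) (inv_mem h1)) (inv_mem h2)
    have d01 := base (0, 1) 1 (by decide) (by norm_num) hb.1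
    have d10 := base (1, 0) 2 (by decide) (by norm_num) hb.2.1
    have d12 := base (1, 2) 3 (by decide) (by norm_num) hb.2.2.1
    have d21 := base (2, 1) 4 (by decide) (by norm_num) hb.2.2.2.1
    have d23 := base (2, 3) 5 (by decide) (by norm_num) hb.2.2.2.2.1
    have d32 := base (3, 2) 6 (by decide) (by norm_num) hb.2.2.2.2.2
    have d02 := com 0 1 2 (by decide) (by decide) (by decide) d01 d12
    have d20 := com 2 1 0 (by decide) (by decide) (by decide) d21 d10
    have d13 := com 1 2 3 (by decide) (by decide) (by decide) d12 d23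
    have d31 := com 3 2 1 (by decide) (by decide) (by decide) d32 d21
    have d03 := com 0 2 3 (by decide) (by decide) (by decide) d02 d23
    have d30 := com 3 2 0 (by decide) (by decide) (by decide) d32 d20
    have one : SpecialLinearGroup.transvection hij (1 : ZMod 3) ∈ R.comap mk := by
      fin_cases i <;> fin_cases j <;> first | exact absurd rfl hij | assumption
    have hc : c = 0 ∨ c = 1 ∨ c = 2 := by revert c; decide
    rcases hc with rfl | rfl | rfl
    · rw [show SpecialLinearGroup.transvection hij (0 : ZMod 3) = 1 from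
        Subtype.ext (Matrix.transvection_zero _ _)]
      exact one_mem _
    · exact one
    · rw [show SpecialLinearGroup.transvection hij (2 : ZMod 3) =
        SpecialLinearGroup.transvection hij 1 * SpecialLinearGroup.transvection hij 1 from
        Subtype.ext (by
          show Matrix.transvection i j 2 = Matrix.transvection i j 1 * Matrix.transvection i j 1
          rw [Matrix.transvection_mul_transvection_same _ _ hij]
          norm_num)]
      exact mul_mem one one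
  rw [eq_top_iff]
  intro x _
  obtain ⟨S, rfl⟩ := QuotientGroup.mk'_surjective _ x
  exact (key.symm ▸ Subgroup.mem_top S : S ∈ R.comap mk)

variable {G : Type u} [Group G] [Finite G] (B : Base G) (ι' : P' →* G)

/-- The letters in `G`. -/
noncomputable def gX (i : ℕ) : G :=
  if h : i < 7 ∧ i ≠ 2 then B.ι ⟨gL i, gL_mem.1 i h.1 h.2⟩
  else if h : i < 7 ∧ i ≠ 6 then ι' ⟨gL i, gL_mem.2 i h.1 h.2⟩ else 1

variable {B ι'}
  (hag : ∀ (x : L4) (h : x ∈ P) (h' : x ∈ P'), B.ι ⟨x, h⟩ = ι' ⟨x, h'⟩)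

include hag

theorem comm_mixed : Commute (ι' ⟨mk aS, mk_mem_P' n_facts.2.2.2.2.2.2.2.2.2.2.2.2.2.2⟩)
    (B.ι ⟨mk bS, mk_mem_P n_facts.2.2.2.2.2.2.2.2.2.2.2.2.2.1⟩) := by
  obtain ⟨f1, f2, f3', f4, f5, f6, i1, i2, ⟨hx1, hx2⟩, ⟨hq1, hq2⟩, ⟨ha01, ha02⟩, hn', hp, hb, ha⟩ :=
    n_facts
  have tr : ∀ {A B C D : S4}, A.1 * B.1 = C.1 * D.1 → mk A * mk B = mk C * mk D := fun h => by
    rw [← map_mul, ← map_mul]; exact congrArg mk (Subtype.ext h)
  set n : P' := ⟨mk nS, mk_mem_P' hn'⟩ with hn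
  set b : P := ⟨mk bS, mk_mem_P hb⟩ with hbdef
  set c := (ι' n)⁻¹ * B.ι b * ι' n with hc
  set q : P := ⟨mk (qS 0 2 0 0 0), mk_mem_P hq1⟩ with hqdef
  set p : P := ⟨mk pS, mk_mem_P hp⟩ with hpdef
  have hxq : B.ι ⟨mk x23, mk_mem_P hx1⟩ * ι' n = ι' n * B.ι q := by
    rw [hag _ _ (mk_mem_P' hx2), hqdef, hag _ _ (mk_mem_P' hq2), ← map_mul, ← map_mul]
    exact congrArg ι' (Subtype.ext (tr f5))
  have hbx : Commute (B.ι b) (B.ι ⟨mk x23, mk_mem_P hx1⟩) :=
    Commute.map (Subtype.ext (tr f6).symm : Commute b ⟨mk x23, mk_mem_P hx1⟩) B.ι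
  have hcq : Commute c (B.ι q) := by
    have hq' : B.ι q = (ι' n)⁻¹ * B.ι ⟨mk x23, mk_mem_P hx1⟩ * ι' n := by
      rw [mul_assoc, hxq, inv_mul_cancel_left]
    rw [hq', hc, Commute, SemiconjBy]
    calc _ = (ι' n)⁻¹ * (B.ι b * B.ι ⟨mk x23, mk_mem_P hx1⟩) * ι' n := by group
      _ = (ι' n)⁻¹ * (B.ι ⟨mk x23, mk_mem_P hx1⟩ * B.ι b) * ι' n := by rw [hbx.eq]
      _ = _ := by group
  obtain ⟨β, hβ⟩ : c ∈ B.ι.range := by
    have hz : (B.ι p)⁻¹ * B.ι q * B.ι p = B.ι zP := by
      rw [mul_assoc, ← map_mul, show q * p = p * zP from Subtype.ext (tr f4), map_mul,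
        inv_mul_cancel_left]
    have hd : Commute ((B.ι p)⁻¹ * c * B.ι p) (B.ι zP) := by
      rw [← hz, Commute, SemiconjBy]
      calc _ = (B.ι p)⁻¹ * (c * B.ι q) * B.ι p := by group
        _ = (B.ι p)⁻¹ * (B.ι q * c) * B.ι p := by rw [hcq.eq]
        _ = _ := by group
    have hm : (B.ι p)⁻¹ * c * B.ι p ∈ B.ι.range := B.norm_z (by
      refine Subgroup.centralizer_le_normalizer _ ?_
      rw [Subgroup.mem_centralizer_iff]
      rintro _ ⟨k, rfl⟩
      exact ((hd.zpow_right k).eq).symm)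
    have h := mul_mem (mul_mem (⟨p, rfl⟩ : B.ι p ∈ B.ι.range) hm) (inv_mem ⟨p, rfl⟩)
    rwa [show B.ι p * ((B.ι p)⁻¹ * c * B.ι p) * (B.ι p)⁻¹ = c by group] at h
  have hnI : (mk nS)⁻¹ = mk nI := inv_eq_of_mul_eq_one_left (by
    rw [← map_mul, ← map_one mk]; exact congrArg mk (Subtype.ext i1))
  have hbI : (mk bS)⁻¹ = mk bI := inv_eq_of_mul_eq_one_left (by
    rw [← map_mul, ← map_one mk]; exact congrArg mk (Subtype.ext i2))
  have hcomm : mk nS * mk bS = mk bS * mk nS := tr f3'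
  have hact : ∀ k, Commute ((mk bS)⁻¹ * (β : L4)) (mk (yv k)) := by
    intro k
    obtain ⟨⟨y1, y2⟩, ⟨z1, z2⟩, ⟨w1, w2⟩, v1, v2⟩ := y_facts k
    simp only [← coe_mulS] at z1 z2 w1 w2 v1 v2
    set y := yv k
    set Y : P := ⟨mk y, mk_mem_P y1⟩ with hY
    have e1 : ι' n * B.ι Y * (ι' n)⁻¹ = B.ι ⟨mk (nS * y * nI), mk_mem_P z1⟩ := by
      rw [hY, hag _ _ (mk_mem_P' z2), hag (mk y) (mk_mem_P y1) (mk_mem_P' y2), ← map_inv, ← map_mul,
        ← map_mul]
      refine congrArg ι' (Subtype.ext ?_)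
      show mk nS * mk y * (mk nS)⁻¹ = mk (nS * y * nI)
      rw [hnI, map_mul, map_mul]
    have e2 : B.ι b * B.ι ⟨mk (nS * y * nI), mk_mem_P z1⟩ * (B.ι b)⁻¹ =
        ι' ⟨mk (bS * (nS * y * nI) * bI), mk_mem_P' w2⟩ := by
      rw [← hag _ (mk_mem_P w1), ← map_inv, ← map_mul, ← map_mul]
      refine congrArg B.ι (Subtype.ext ?_)
      show mk bS * mk (nS * y * nI) * (mk bS)⁻¹ = mk (bS * (nS * y * nI) * bI)
      rw [hbI, map_mul mk (bS * (nS * y * nI)), map_mul mk bS]
    have e3 : (ι' n)⁻¹ * ι' ⟨mk (bS * (nS * y * nI) * bI), mk_mem_P' w2⟩ * ι' n =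
        B.ι ⟨mk (bS * y * bI), mk_mem_P v1⟩ := by
      rw [hag _ _ (mk_mem_P' v2), ← map_inv, ← map_mul, ← map_mul]
      refine congrArg ι' (Subtype.ext ?_)
      show (mk nS)⁻¹ * mk (bS * (nS * y * nI) * bI) * mk nS = mk (bS * y * bI)
      simp only [map_mul, ← hnI, ← hbI]
      calc _ = ((mk nS)⁻¹ * (mk bS * mk nS)) * mk y * ((mk bS * mk nS)⁻¹ * mk nS) := by group
        _ = ((mk nS)⁻¹ * (mk nS * mk bS)) * mk y * ((mk nS * mk bS)⁻¹ * mk nS) := by rw [hcomm]
        _ = _ := by group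
    have e4 : B.ι (β * Y * β⁻¹) = B.ι ⟨mk (bS * y * bI), mk_mem_P v1⟩ := by
      rw [← e3, ← e2, ← e1, map_mul, map_mul, map_inv, hβ, hc]
      group
    have e5 : (β : L4) * mk y * (β : L4)⁻¹ = mk bS * mk y * (mk bS)⁻¹ := by
      rw [hbI, ← map_mul, ← map_mul]
      exact congrArg Subtype.val (B.inj e4)
    show (mk bS)⁻¹ * (β : L4) * mk y = mk y * ((mk bS)⁻¹ * (β : L4))
    calc _ = (mk bS)⁻¹ * ((β : L4) * mk y * (β : L4)⁻¹) * (β : L4) := by group
      _ = (mk bS)⁻¹ * (mk bS * mk y * (mk bS)⁻¹) * (β : L4) := by rw [e5]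
      _ = _ := by group
  obtain ⟨S, hS⟩ := QuotientGroup.mk'_surjective _ ((mk bS)⁻¹ * (β : L4))
  have h1 := mk_eq_of_comm (S := S) fun k => by
    rw [show mk S = (mk bS)⁻¹ * (β : L4) from hS]
    exact (hact k).eq
  rw [show mk S = (mk bS)⁻¹ * (β : L4) from hS, inv_mul_eq_one] at h1
  have hβb : β = b := Subtype.ext h1.symm
  rw [hβb] at hβ
  have hnb : Commute (ι' n) (B.ι b) := by
    show ι' n * B.ι b = B.ι b * ι' n
    conv_lhs => rw [hβ, hc]
    group
  have hab : Commute (B.ι ⟨mk a0S, mk_mem_P ha01⟩) (B.ι b) :=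
    Commute.map (Subtype.ext (tr f2) : Commute (⟨mk a0S, mk_mem_P ha01⟩ : P) b) B.ι
  have e : ι' ⟨mk aS, mk_mem_P' ha⟩ = ι' n * B.ι ⟨mk a0S, mk_mem_P ha01⟩ * (ι' n)⁻¹ := by
    rw [eq_mul_inv_iff_mul_eq, hag _ _ (mk_mem_P' ha02), ← map_mul, ← map_mul]
    exact congrArg ι' (Subtype.ext (tr f1))
  rw [e]
  exact (hnb.mul_left hab).mul_left hnb.inv_left

theorem gX_P {i : ℕ} (hi : i < 7) (hne : i ≠ 2) : gX B ι' i = B.ι ⟨gL i, gL_mem.1 i hi hne⟩ := by
  rw [gX, dif_pos ⟨hi, hne⟩]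

theorem gX_P' {i : ℕ} (hi : i < 7) (hne : i ≠ 6) : gX B ι' i = ι' ⟨gL i, gL_mem.2 i hi hne⟩ := by
  by_cases h : i = 2
  · rw [gX, dif_neg (by simp [h]), dif_pos ⟨hi, hne⟩]
  · rw [gX_P hag hi h]
    exact hag _ _ _

theorem rels_gX : ∀ w ∈ rels, (w.map (gX B ι')).prod = 1 := by
  intro w hw
  have inP : ∀ v : List ℕ, (∀ x ∈ v, x < 7 ∧ x ≠ 2) → ∃ h : (v.map gL).prod ∈ P,
      B.ι ⟨_, h⟩ = (v.map (gX B ι')).prod := by
    intro v
    induction v with
    | nil => exact fun _ => ⟨one_mem _, map_one _⟩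
    | cons x v ih =>
      intro hv
      obtain ⟨h, e⟩ := ih fun y hy => hv y (List.mem_cons_of_mem _ hy)
      obtain ⟨hx, hx2⟩ := hv x (List.mem_cons_self ..)
      refine ⟨(mul_mem (gL_mem.1 x hx hx2) h : gL x * (v.map gL).prod ∈ P), ?_⟩
      show B.ι ⟨gL x * (v.map gL).prod, _⟩ = gX B ι' x * (v.map (gX B ι')).prod
      rw [gX_P hag hx hx2, ← e, ← map_mul]
      exact congrArg B.ι (Subtype.ext rfl)
  have inP' : ∀ v : List ℕ, (∀ x ∈ v, x < 7 ∧ x ≠ 6) → ∃ h : (v.map gL).prod ∈ P',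
      ι' ⟨_, h⟩ = (v.map (gX B ι')).prod := by
    intro v
    induction v with
    | nil => exact fun _ => ⟨one_mem _, map_one _⟩
    | cons x v ih =>
      intro hv
      obtain ⟨h, e⟩ := ih fun y hy => hv y (List.mem_cons_of_mem _ hy)
      obtain ⟨hx, hx2⟩ := hv x (List.mem_cons_self ..)
      refine ⟨(mul_mem (gL_mem.2 x hx hx2) h : gL x * (v.map gL).prod ∈ P'), ?_⟩
      show ι' ⟨gL x * (v.map gL).prod, _⟩ = gX B ι' x * (v.map (gX B ι')).prod
      rw [gX_P' hag hx hx2, ← e, ← map_mul]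
      exact congrArg ι' (Subtype.ext rfl)
  rcases rels_split w hw with h | h | rfl
  · obtain ⟨hm, e⟩ := inP w fun x hx => ⟨rels_lt w hw x hx, h x hx⟩
    rw [← e, ← map_one B.ι]
    exact congrArg B.ι (Subtype.ext (rels_gL w hw))
  · obtain ⟨hm, e⟩ := inP' w fun x hx => ⟨rels_lt w hw x hx, h x hx⟩
    rw [← e, ← map_one ι']
    exact congrArg ι' (Subtype.ext (rels_gL w hw))
  obtain ⟨hA, ea⟩ := inP' [2, 0] (by simp)
  obtain ⟨hA', ea'⟩ := inP' [0, 2] (by simp)
  obtain ⟨hB, eb⟩ := inP [6, 0] (by simp)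
  obtain ⟨hB', eb'⟩ := inP [0, 6] (by simp)
  have hc := comm_mixed hag
  have s0 : gS 0 * gS 0 = 1 ∧ gS 2 * gS 2 = 1 ∧ gS 6 * gS 6 = 1 :=
    ⟨Subtype.ext g_sq.1, Subtype.ext g_sq.2.1, Subtype.ext g_sq.2.2⟩
  have ha : ι' ⟨_, hA'⟩ = (ι' ⟨_, hA⟩)⁻¹ := by
    rw [← map_inv]
    refine congrArg ι' (Subtype.ext ?_)
    simp [gL, _root_.mul_inv_rev, ← map_inv, inv_eq_of_mul_eq_one_right s0.1, inv_eq_of_mul_eq_one_right s0.2.1]
  have hb : B.ι ⟨_, hB'⟩ = (B.ι ⟨_, hB⟩)⁻¹ := by
    rw [← map_inv]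
    refine congrArg B.ι (Subtype.ext ?_)
    simp [gL, _root_.mul_inv_rev, ← map_inv, inv_eq_of_mul_eq_one_right s0.1, inv_eq_of_mul_eq_one_right s0.2.2]
  have hc' : Commute (ι' ⟨_, hA⟩) (B.ι ⟨_, hB⟩) := by
    convert hc using 3 <;> simp [gL, aS, bS]
  rw [show ([2, 0, 6, 0, 0, 2, 0, 6] : List ℕ) = [2, 0] ++ [6, 0] ++ [0, 2] ++ [0, 6] from rfl]
  simp only [List.map_append, List.prod_append, ← ea, ← eb, ← ea', ← eb', ha, hb]
  rw [hc'.eq, mul_inv_cancel_right, mul_inv_cancel]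

theorem exists_hom : ∃ ι : L4 →* G, Function.Injective ι ∧ ∀ x : P, ι (x : L4) = B.ι x := by
  let PT := PG Top.cert.g rels
  let φL : PT →* L4 := toG _ _ gL facts.1 rels_gL
  let φG : PT →* G := toG _ _ (gX B ι') facts.1 (rels_gX hag)
  let φ : PT →* L4 × G := φL.prod φG
  let γ : P →* L4 × G := P.subtype.prod B.ι
  have hlt : ∀ i < 7, i < Top.cert.g := fun i hi => facts.2.2.2.1.symm ▸ hi
  have hφ : ∀ i < 7, φ (pg _ _ i) = (gL i, gX B ι' i) := fun i hi =>
    Prod.ext (toG_pg _ _ _ (hlt i hi)) (toG_pg _ _ _ (hlt i hi))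
  set K := γ.range.comap φ with hK
  have hsub : ∀ r ∈ Top.cert.subs, wv (pg Top.cert.g rels) r ∈ K := by
    intro r hr
    obtain ⟨x, hx, hx2, rfl⟩ : ∃ x, x < 7 ∧ x ≠ 2 ∧ r = [x] := by
      rcases facts.2.2.1 r hr with rfl | rfl | rfl | rfl | rfl | rfl <;> exact ⟨_, by norm_num, by norm_num, rfl⟩
    refine ⟨⟨gL x, gL_mem.1 x hx hx2⟩, ?_⟩
    simp only [wv, List.map_cons, List.map_nil, List.prod_cons, List.prod_nil, mul_one, hφ x hx,
      gX_P hag hx hx2]
    rfl
  obtain ⟨hi, hfi⟩ := Cert.index_le (presModel Top.cert facts.1 facts.2.1 K hsub) Top.valid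
  have hKi : K.index ≤ 40 := facts.2.2.2.2 ▸ hi
  rw [hK, Subgroup.index_comap] at hKi
  set R := φ.range with hR
  have hR1 : Nat.card R ≤ 40 * Nat.card P := by
    have h1 := (γ.range.subgroupOf R).card_mul_index
    have h2 : Nat.card (γ.range.subgroupOf R) ≤ Nat.card P := by
      refine le_trans (Nat.card_le_card_of_injective (fun x => (⟨(x.1 : L4 × G), x.2⟩ : γ.range))
        fun a b e => Subtype.ext (Subtype.ext (congrArg Subtype.val e :))) ?_
      exact Nat.card_le_card_of_surjective γ.rangeRestrict γ.rangeRestrict_surjective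
    rw [← h1, mul_comm 40]
    exact Nat.mul_le_mul h2 hKi
  have hP : 40 * Nat.card P ≤ Nat.card L4 := by
    rw [← P.card_mul_index, mul_comm]
    exact Nat.mul_le_mul le_rfl index_P
  let π : R →* L4 := (MonoidHom.fst L4 G).comp R.subtype
  have hπ : Function.Surjective π := by
    rw [← MonoidHom.range_eq_top]
    refine closure_gL fun i hi => ⟨⟨_, pg _ _ i, rfl⟩, ?_⟩
    show (φ (pg _ _ i)).1 = gL i
    rw [hφ i hi]
  have hbij : Function.Bijective π := (Nat.bijective_iff_surjective_and_card π).2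
    ⟨hπ, le_antisymm (hR1.trans hP) (Nat.card_le_card_of_surjective _ hπ)⟩
  let ι : L4 →* G := ((MonoidHom.snd L4 G).comp R.subtype).comp (MulEquiv.ofBijective π hbij).symm.toMonoidHom
  have hι : ∀ q : PT, ι (φL q) = φG q := by
    intro q
    have e : (MulEquiv.ofBijective π hbij).symm (φL q) = ⟨φ q, q, rfl⟩ := by
      rw [MulEquiv.symm_apply_eq]; rfl
    show ((MulEquiv.ofBijective π hbij).symm (φL q) : L4 × G).2 = _
    rw [e]; rfl
  have hagree : ∀ x : P, ι (x : L4) = B.ι x := by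
    intro x
    obtain ⟨q, hq⟩ : ∃ q, φL q = x := by
      obtain ⟨⟨_, q, rfl⟩, e⟩ := hπ x
      exact ⟨q, e⟩
    have h40 : P.index ≤ 40 := by
      have hc : Nat.card P * P.index ≤ 40 * Nat.card P := by
        rw [P.card_mul_index, ← Nat.card_eq_of_bijective π hbij]
        exact hR1
      rw [mul_comm 40] at hc
      exact Nat.le_of_mul_le_mul_left hc Nat.card_pos
    -- agreement on a subgroup of index two would already bound the range by half
    let D : Subgroup P := (MonoidHom.eqLocus (ι.comp P.subtype) B.ι)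
    suffices D = ⊤ from (this ▸ Subgroup.mem_top x : x ∈ D)
    by_contra hD
    have hS : γ.range.subgroupOf R ≤ (D.map γ).subgroupOf R := by
      rintro ⟨_, q', rfl⟩ ⟨y, hy⟩
      refine ⟨y, ?_, hy⟩
      have h1 : φL q' = y := (congrArg Prod.fst hy).symm
      have h2 : φG q' = B.ι y := (congrArg Prod.snd hy).symm
      show ι (y : L4) = B.ι y
      rw [← h2, ← h1, hι]
    have hlt2 : 2 * Nat.card D ≤ Nat.card P := by
      rw [← D.card_mul_index, mul_comm]
      exact Nat.mul_le_mul le_rfl (Nat.two_le_iff _ |>.2 ⟨Subgroup.index_ne_zero_of_finite, by simpa using hD⟩)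
    have hcard : Nat.card (γ.range.subgroupOf R) ≤ Nat.card D := by
      refine le_trans (Subgroup.card_le_of_le hS) (le_trans (Nat.card_le_card_of_injective
        (fun x => (⟨(x.1 : L4 × G), x.2⟩ : D.map γ)) fun a b e => Subtype.ext (Subtype.ext
          (congrArg Subtype.val e :))) ?_)
      exact Nat.card_le_card_of_surjective (γ.subgroupMap D) (MonoidHom.subgroupMap_surjective γ D)
    have h1 := (γ.range.subgroupOf R).card_mul_index
    have h2 : Nat.card R ≤ 40 * Nat.card D := by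
      rw [← h1, mul_comm 40]
      exact Nat.mul_le_mul hcard hKi
    rw [Nat.card_eq_of_bijective π hbij] at h2
    have : 0 < Nat.card P := Nat.card_pos
    omega
  refine ⟨ι, ?_, hagree⟩
  rw [← MonoidHom.ker_eq_bot_iff]
  haveI : IsSimpleGroup L4 := Classical.isSimpleGroup_PSL_of_three_le (by simp)
  refine ι.normal_ker.eq_bot_or_eq_top.resolve_right fun h => ?_
  have h1 : B.ι zP = B.ι 1 := by
    rw [map_one, ← hagree]
    exact MonoidHom.mem_ker.1 (h ▸ Subgroup.mem_top _)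
  have h2 := congrArg Subtype.val (B.inj h1)
  have hz : mk (qS 0 0 1 0 0) = 1 := h2
  obtain ⟨r, -, hr⟩ := center_scalar ((QuotientGroup.eq_one_iff _).1 hz)
  have := congrFun (congrFun hr 0) 3
  simp [qS, qM] at this

end Amalgam

/-- The amalgam of the two parabolic subgroups is `PSL₄(3)`. -/
theorem present : StmtPresent.{u} := fun B ι' _ hag => Amalgam.exists_hom hag

end CfsgLib.L43Three
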