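import Cfsg.Agent.Lib.L43Three.Defs
import Cfsg.Agent.Lib.L43Three.Pres.TopCert
import Cfsg.Agent.Lib.J1Unique.Pres

/-!
# The finite facts for the amalgam (S3373, seat 4)
-/

set_option autoImplicit false
set_option maxRecDepth 100000
set_option synthInstance.maxSize 512

namespace CfsgLib.L43Three

open Matrix
open CfsgLib.J1Unique (PG pg pg_rel toG toG_pg presModel closure_pg wv)
open CfsgLib.PresCert

universe u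

namespace Amalgam

/-- The matrices of the letters. -/
def gM : List (Matrix (Fin 4) (Fin 4) (ZMod 3)) := [
  !![2, 0, 0, 0; 0, 1, 0, 0; 0, 0, 2, 0; 0, 0, 0, 1],
  !![2, 2, 0, 0; 0, 1, 0, 0; 0, 0, 2, 0; 0, 0, 0, 1],
  !![2, 0, 0, 0; 1, 1, 0, 0; 0, 0, 2, 0; 0, 0, 0, 1],
  !![2, 0, 0, 0; 0, 1, 1, 0; 0, 0, 2, 0; 0, 0, 0, 1],
  !![2, 0, 0, 0; 0, 1, 0, 0; 0, 2, 2, 0; 0, 0, 0, 1],
  !![2, 0, 0, 0; 0, 1, 0, 0; 0, 0, 2, 2; 0, 0, 0, 1],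
  !![2, 0, 0, 0; 0, 1, 0, 0; 0, 0, 2, 0; 0, 0, 1, 1]]

theorem det_gM : ∀ i : Fin 7, (gM.getD i.1 1).det = 1 := by decide +kernel

theorem det_getD (i : ℕ) : (gM.getD i 1).det = 1 := by
  by_cases h : i < 7
  · exact det_gM ⟨i, h⟩
  · rw [List.getD_eq_default _ _ (show gM.length ≤ i from Nat.le_of_not_lt h), det_one]

/-- A letter in `SL₄(3)`. -/
def gS (i : ℕ) : S4 := ⟨gM.getD i 1, det_getD i⟩

/-- A letter in `PSL₄(3)`. -/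
def gL (i : ℕ) : L4 := mk (gS i)

/-- The action of the letters on vectors. -/
def tabT : List (List ℕ) := [[0, 2, 1, 3, 5, 4, 6, 8, 7, 18, 20, 19, 21, 23, 22, 24, 26, 25, 9, 11, 10, 12, 14, 13, 15, 17, 16, 27, 29, 28, 30, 32, 31, 33, 35, 34, 45, 47, 46, 48, 50, 49, 51, 53, 52, 36, 38, 37, 39, 41, 40, 42, 44, 43, 54, 56, 55, 57, 59, 58, 60, 62, 61, 72, 74, 73, 75, 77, 76, 78, 80, 79, 63, 65, 64, 66, 68, 67, 69, 71, 70], [0, 2, 1, 5, 4, 3, 7, 6, 8, 18, 20, 19, 23, 22, 21, 25, 24, 26, 9, 11, 10, 14, 13, 12, 16, 15, 17, 27, 29, 28, 32, 31, 30, 34, 33, 35, 45, 47, 46, 50, 49, 48, 52, 51, 53, 36, 38, 37, 41, 40, 39, 43, 42, 44, 54, 56, 55, 59, 58, 57, 61, 60, 62, 72, 74, 73, 77, 76, 75, 79, 78, 80, 63, 65, 64, 68, 67, 66, 70, 69, 71], [0, 5, 7, 3, 8, 1, 6, 2, 4, 18, 23, 25, 21, 26, 19, 24, 20, 22, 9, 14, 16, 12,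 17, 10, 15, 11, 13, 27, 32, 34, 30, 35, 28, 33, 29, 31, 45, 50, 52, 48, 53, 46, 51, 47, 49, 36, 41, 43, 39, 44, 37, 42, 38, 40, 54, 59, 61, 57, 62, 55, 60, 56, 58, 72, 77, 79, 75, 80, 73, 78, 74, 76, 63, 68, 70, 66, 71, 64, 69, 65, 67], [0, 2, 1, 3, 5, 4, 6, 8, 7, 21, 23, 22, 24, 26, 25, 18, 20, 19, 15, 17, 16, 9, 11, 10, 12, 14, 13, 27, 29, 28, 30, 32, 31, 33, 35, 34, 48, 50, 49, 51, 53, 52, 45, 47, 46, 42, 44, 43, 36, 38, 37, 39, 41, 40, 54, 56, 55, 57, 59, 58, 60, 62, 61, 75, 77, 76, 78, 80, 79, 72, 74, 73, 69, 71, 70, 63, 65, 64, 66, 68, 67], [0, 2, 1, 21, 23, 22, 15, 17, 16, 18, 20, 19, 12, 14, 13, 6, 8, 7, 9, 11, 10, 3, 5, 4, 24, 26, 25, 27, 29, 28, 48, 50, 49, 42, 44, 43, 45, 47, 46, 39, 41, 40, 33, 35, 34, 36, 38, 37, 30, 32, 31, 51, 53, 52, 54, 56, 55, 75, 77, 76, 69, 71, 70, 72, 74, 73, 66, 68,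 67, 60, 62, 61, 63, 65, 64, 57, 59, 58, 78, 80, 79], [0, 2, 1, 3, 5, 4, 6, 8, 7, 18, 20, 19, 21, 23, 22, 24, 26, 25, 9, 11, 10, 12, 14, 13, 15, 17, 16, 45, 47, 46, 48, 50, 49, 51, 53, 52, 36, 38, 37, 39, 41, 40, 42, 44, 43, 27, 29, 28, 30, 32, 31, 33, 35, 34, 63, 65, 64, 66, 68, 67, 69, 71, 70, 54, 56, 55, 57, 59, 58, 60, 62, 61, 72, 74, 73, 75, 77, 76, 78, 80, 79], [0, 2, 1, 3, 5, 4, 6, 8, 7, 45, 47, 46, 48, 50, 49, 51, 53, 52, 63, 65, 64, 66, 68, 67, 69, 71, 70, 27, 29, 28, 30, 32, 31, 33, 35, 34, 72, 74, 73, 75, 77, 76, 78, 80, 79, 9, 11, 10, 12, 14, 13, 15, 17, 16, 54, 56, 55, 57, 59, 58, 60, 62, 61, 18, 20, 19, 21, 23, 22, 24, 26, 25, 36, 38, 37, 39, 41, 40, 42, 44, 43]]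

/-- Words moving the first point to all points. -/
def ptW : List (List ℕ) := [[], [1, 2], [0, 2], [2], [3, 4, 1, 2], [2, 4, 0, 2], [3, 4, 2], [1, 4, 0, 2], [1, 4, 2], [0, 4, 2], [4, 1, 2], [4, 0, 2], [4, 2], [5, 6, 3, 4, 1, 2], [5, 6, 2, 4, 0, 2], [5, 6, 3, 4, 2], [4, 6, 1, 4, 0, 2], [4, 6, 1, 4, 2], [4, 6, 0, 4, 2], [5, 6, 4, 1, 2], [5, 6, 4, 0, 2], [5, 6, 4, 2], [3, 6, 1, 4, 0, 2], [2, 6, 1, 4, 2], [2, 6, 4, 2], [3, 6, 4, 1, 2], [2, 6, 4, 0, 2], [3, 6, 4, 2], [1, 6, 4, 2], [0, 6, 4, 0, 2], [0, 6, 4, 2], [6, 3, 4, 1, 2], [6, 3, 4, 2], [6, 2, 4, 0, 2], [6, 1, 4, 0, 2], [6, 0, 4, 2], [6, 1, 4, 2], [6, 4, 1, 2], [6, 4, 2], [6, 4, 0, 2]]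

/-- A vector from its code. -/
def vec (n : ℕ) : Fin 4 → ZMod 3 := fun k => ((n / 3 ^ k.val : ℕ) : ZMod 3)

/-- The action of a word on a code. -/
def appW (w : List ℕ) (v : ℕ) : ℕ := w.foldr (fun x u => (tabT.getD x []).getD u 0) v

theorem tab_spec : ∀ i < 7, ∀ v < 81, (tabT.getD i []).getD v 0 < 81 ∧
    (gM.getD i 1) *ᵥ vec v = vec ((tabT.getD i []).getD v 0) := by
  decide +kernel

theorem gS_val {i : ℕ} (_hi : i < 7) : (gS i).1 = gM.getD i 1 := rfl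

theorem coe_mulS (A B : S4) : (A * B).1 = A.1 * B.1 := rfl

theorem word_mulVec : ∀ (w : List ℕ), (∀ x ∈ w, x < 7) → ∀ v < 81, appW w v < 81 ∧
    ((w.map gS).prod).1 *ᵥ vec v = vec (appW w v)
  | [], _, v, hv => ⟨hv, by simp [appW]⟩
  | x :: w, h, v, hv => by
    obtain ⟨h1, h2⟩ := word_mulVec w (fun y hy => h y (List.mem_cons_of_mem _ hy)) v hv
    obtain ⟨h3, h4⟩ := tab_spec x (h x (List.mem_cons_self ..)) _ h1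
    refine ⟨h3, ?_⟩
    rw [List.map_cons, List.prod_cons, coe_mulS, ← Matrix.mulVec_mulVec, h2,
      gS_val (h x (List.mem_cons_self ..)), h4]
    rfl

/-- The relators. -/
noncomputable abbrev rels : List (List ℕ) := Top.cert.rels

theorem facts : (∀ w ∈ rels, ∀ x ∈ w, x < Top.cert.g) ∧
    (∀ x < Top.cert.g, Top.cert.iv x < Top.cert.g ∧
      ([x, Top.cert.iv x] ∈ rels ∨ [Top.cert.iv x, x] ∈ rels)) ∧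
    (∀ r ∈ Top.cert.subs, r = [0] ∨ r = [1] ∨ r = [3] ∨ r = [4] ∨ r = [5] ∨ r = [6]) ∧
    Top.cert.g = 7 ∧ Top.cert.n = 40 := by
  decide +kernel

theorem rels_lt : ∀ w ∈ rels, ∀ x ∈ w, x < 7 := facts.2.2.2.1 ▸ facts.1

theorem rels_fix : ∀ w ∈ rels, (∀ j : Fin 4, vec (appW w (3 ^ j.val)) = Pi.single j 1) ∨
    ∀ j : Fin 4, vec (appW w (3 ^ j.val)) = -Pi.single j 1 := by
  decide +kernel

theorem vec_basis : ∀ j : Fin 4, vec (3 ^ j.val) = Pi.single j 1 ∧ 3 ^ j.val < 81 := by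
  decide +kernel

theorem ptW_facts : ptW.length = 40 ∧ (∀ w ∈ ptW, ∀ x ∈ w, x < 7) ∧
    ∀ i < 40, ∀ j < 40, (vec (appW (ptW.getD i []) 1) = vec (appW (ptW.getD j []) 1) ∨
      vec (appW (ptW.getD i []) 1) = -vec (appW (ptW.getD j []) 1)) → i = j := by
  decide +kernel

theorem mem_M : ∀ i < 7, (i ≠ 2 → (gM.getD i 1) *ᵥ e0 = e0 ∨ (gM.getD i 1) *ᵥ e0 = -e0) ∧
    (i ≠ 6 → f3 ᵥ* (gM.getD i 1) = f3 ∨ f3 ᵥ* (gM.getD i 1) = -f3) := by decide +kernel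

theorem rels_split : ∀ w ∈ rels, (∀ x ∈ w, x ≠ 2) ∨ (∀ x ∈ w, x ≠ 6) ∨
    w = [2, 0, 6, 0, 0, 2, 0, 6] := by
  decide +kernel

/-- `n₁₂` -/
def nS : S4 := ⟨!![0, 1, 0, 0; 2, 0, 0, 0; 0, 0, 1, 0; 0, 0, 0, 1], by decide +kernel⟩
/-- its inverse -/
def nI : S4 := ⟨!![0, 2, 0, 0; 1, 0, 0, 0; 0, 0, 1, 0; 0, 0, 0, 1], by decide +kernel⟩
/-- `n₃₄` -/
def pS : S4 := ⟨!![1, 0, 0, 0; 0, 1, 0, 0; 0, 0, 0, 2; 0, 0, 1, 0], by decide +kernel⟩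
/-- `x₂₃` -/
def x23 : S4 := ⟨!![1, 0, 0, 0; 0, 1, 1, 0; 0, 0, 1, 0; 0, 0, 0, 1], by decide +kernel⟩
/-- `x₁₂` or its inverse -/
def a0S : S4 := ⟨!![1, 1, 0, 0; 0, 1, 0, 0; 0, 0, 1, 0; 0, 0, 0, 1], by decide +kernel⟩
/-- the element of the hyperplane stabilizer -/
def aS : S4 := gS 2 * gS 0
/-- the element of the point stabilizer -/
def bS : S4 := gS 6 * gS 0
/-- its inverse -/
def bI : S4 := gS 0 * gS 6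

/-- the elements that determine an element of `PSL₄(3)` up to the centre -/
def yv : Fin 5 → S4 := ![qS 0 1 0 0 0, qS 0 0 1 0 0, x23, qS 0 0 0 1 0, i0S]

/-- membership in both parabolic subgroups -/
abbrev Both (S : Matrix (Fin 4) (Fin 4) (ZMod 3)) : Prop :=
  (S *ᵥ e0 = e0 ∨ S *ᵥ e0 = -e0) ∧ (f3 ᵥ* S = f3 ∨ f3 ᵥ* S = -f3)

theorem y_facts : ∀ k : Fin 5, Both (yv k).1 ∧ Both ((nS.1 * (yv k).1) * nI.1) ∧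
    Both ((bS.1 * ((nS.1 * (yv k).1) * nI.1)) * bI.1) ∧ Both ((bS.1 * (yv k).1) * bI.1) := by
  decide +kernel

theorem n_facts : aS.1 * nS.1 = nS.1 * a0S.1 ∧ a0S.1 * bS.1 = bS.1 * a0S.1 ∧
    nS.1 * bS.1 = bS.1 * nS.1 ∧ (qS 0 2 0 0 0).1 * pS.1 = pS.1 * (qS 0 0 1 0 0).1 ∧
    x23.1 * nS.1 = nS.1 * (qS 0 2 0 0 0).1 ∧ x23.1 * bS.1 = bS.1 * x23.1 ∧
    nI.1 * nS.1 = 1 ∧ bI.1 * bS.1 = 1 ∧ Both x23.1 ∧ Both (qS 0 2 0 0 0).1 ∧ Both a0S.1 ∧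
    (f3 ᵥ* nS.1 = f3 ∨ f3 ᵥ* nS.1 = -f3) ∧ (pS.1 *ᵥ e0 = e0 ∨ pS.1 *ᵥ e0 = -e0) ∧
    (bS.1 *ᵥ e0 = e0 ∨ bS.1 *ᵥ e0 = -e0) ∧ (f3 ᵥ* aS.1 = f3 ∨ f3 ᵥ* aS.1 = -f3) := by
  decide +kernel

theorem y_single : (qS 0 1 0 0 0).1 = 1 + Matrix.single 0 2 1 ∧ (qS 0 0 1 0 0).1 = 1 + Matrix.single 0 3 1 ∧
    x23.1 = 1 + Matrix.single 1 2 1 ∧ (qS 0 0 0 1 0).1 = 1 + Matrix.single 1 3 1 := by
  decide +kernel

theorem y_cube : ∀ k : Fin 4, (yv k.castSucc).1 * (yv k.castSucc).1 * (yv k.castSucc).1 = 1 := by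
  decide +kernel

theorem hb_trans : (gS 0 * gS 1).1 = Matrix.transvection 0 1 1 ∧ (gS 0 * gS 2).1 = Matrix.transvection 1 0 1 ∧
    (gS 0 * gS 3).1 = Matrix.transvection 1 2 1 ∧ (gS 0 * gS 4).1 = Matrix.transvection 2 1 1 ∧
    (gS 0 * gS 5).1 = Matrix.transvection 2 3 1 ∧ (gS 0 * gS 6).1 = Matrix.transvection 3 2 1 := by
  decide +kernel

theorem g_sq : (gS 0).1 * (gS 0).1 = 1 ∧ (gS 2).1 * (gS 2).1 = 1 ∧ (gS 6).1 * (gS 6).1 = 1 := by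
  decide +kernel

end Amalgam

end CfsgLib.L43Three
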