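import Cfsg.Agent.Lib.L43Three.Defs
import Cfsg.Agent.Lib.ANineThree.LocalThree

/-!
The centralizer of two Jordan blocks of size two acts on nine points with kernel generated by the
element and the scalars (S3373): a matrix commuting with it is a pair `(A, B)` of two by two matrices,
and `(A, B)` moves the point `(i, c)` by the action of `A` on the three elliptic lines and the translation
`B A⁻¹`.
-/

set_option autoImplicit false
set_option maxRecDepth 100000
set_option maxHeartbeats 1000000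
set_option synthInstance.maxSize 2000
set_option synthInstance.maxHeartbeats 200000

namespace CfsgLib.L43Three.WBlock

open Equiv Subgroup CfsgLib.ANineThree

/-- Two by two matrices. -/
abbrev T2 : Type := ZMod 3 × ZMod 3 × ZMod 3 × ZMod 3

/-- Product. -/
def tm : T2 → T2 → T2 := fun (a, b, c, d) (a', b', c', d') =>
  (a * a' + b * c', a * b' + b * d', c * a' + d * c', c * b' + d * d')
/-- Sum. -/
def ta : T2 → T2 → T2 := fun (a, b, c, d) (a', b', c', d') => (a + a', b + b', c + c', d + d')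
/-- Determinant. -/
def td : T2 → ZMod 3 := fun (a, b, c, d) => a * d - b * c
/-- Inverse, as the determinant is a sign. -/
def ti : T2 → T2 := fun (a, b, c, d) =>
  ((a * d - b * c) * d, -((a * d - b * c) * b), -((a * d - b * c) * c), (a * d - b * c) * a)
/-- Trace. -/
def tt : T2 → ZMod 3 := fun (a, _, _, d) => a + d
/-- The identity. -/
def t1 : T2 := (1, 0, 0, 1)
/-- Zero. -/
def t0 : T2 := (0, 0, 0, 0)
/-- Negation. -/
def tn : T2 → T2 := fun (a, b, c, d) => (-a, -b, -c, -d)

theorem tm_assoc (x y z : T2) : tm (tm x y) z = tm x (tm y z) := by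
  obtain ⟨a, b, c, d⟩ := x; obtain ⟨a', b', c', d'⟩ := y; obtain ⟨p, q, r, s⟩ := z
  simp only [tm, Prod.mk.injEq]
  refine ⟨?_, ?_, ?_, ?_⟩ <;> ring

theorem tm_ta (x y z : T2) : tm x (ta y z) = ta (tm x y) (tm x z) := by
  obtain ⟨a, b, c, d⟩ := x; obtain ⟨a', b', c', d'⟩ := y; obtain ⟨p, q, r, s⟩ := z
  simp only [tm, ta, Prod.mk.injEq]
  refine ⟨?_, ?_, ?_, ?_⟩ <;> ring

theorem ta_tm (x y z : T2) : tm (ta y z) x = ta (tm y x) (tm z x) := by
  obtain ⟨a, b, c, d⟩ := x; obtain ⟨a', b', c', d'⟩ := y; obtain ⟨p, q, r, s⟩ := z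
  simp only [tm, ta, Prod.mk.injEq]
  refine ⟨?_, ?_, ?_, ?_⟩ <;> ring

theorem td_tm (x y : T2) : td (tm x y) = td x * td y := by
  obtain ⟨a, b, c, d⟩ := x; obtain ⟨a', b', c', d'⟩ := y
  simp only [tm, td]
  ring

theorem ti_tm (x y : T2) : ti (tm x y) = tm (ti y) (ti x) := by
  obtain ⟨a, b, c, d⟩ := x; obtain ⟨a', b', c', d'⟩ := y
  simp only [tm, ti, Prod.mk.injEq]
  refine ⟨?_, ?_, ?_, ?_⟩ <;> ring

theorem tt_ta (x y z : T2) : tt (tm x (ta y z)) = tt (tm x y) + tt (tm x z) := by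
  obtain ⟨a, b, c, d⟩ := x; obtain ⟨a', b', c', d'⟩ := y; obtain ⟨p, q, r, s⟩ := z
  simp only [tm, ta, tt]
  ring

theorem t1_tm (x : T2) : tm t1 x = x ∧ tm x t1 = x := by
  obtain ⟨a, b, c, d⟩ := x
  simp [tm, t1]

theorem unit_facts : ∀ x : T2, td x ≠ 0 → tm x (ti x) = t1 ∧ tm (ti x) x = t1 ∧ td (ti x) ≠ 0 := by
  decide +kernel

/-- The three elliptic lines. -/
def E : Fin 3 → T2 := ![(0, 1, 2, 0), (1, 1, 1, 2), (1, 2, 2, 2)]

/-- Conjugation. -/
def cj (A X : T2) : T2 := tm (tm A X) (ti A)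

/-- The image of a line and the sign. -/
def piE (A : T2) (i : Fin 3) : Fin 3 × ZMod 3 :=
  if tt (tm (E 0) (cj A (E i))) ≠ 0 then (0, tt (tm (E 0) (cj A (E i))))
  else if tt (tm (E 1) (cj A (E i))) ≠ 0 then (1, tt (tm (E 1) (cj A (E i))))
  else (2, tt (tm (E 2) (cj A (E i))))

theorem piE_mul : ∀ A : T2, td A ≠ 0 → ∀ A' : T2, td A' ≠ 0 → ∀ i,
    piE (tm A A') i = ((piE A (piE A' i).1).1, (piE A (piE A' i).1).2 * (piE A' i).2) := by
  decide +kernel

theorem coord_cj : ∀ A : T2, td A ≠ 0 → ∀ i t,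
    tt (tm (E (piE A i).1) (cj A t)) = (piE A i).2 * tt (tm (E i) t) := by decide +kernel

/-- Pairs. -/
abbrev PW : Type := T2 × T2

/-- Product of pairs. -/
def pm (p q : PW) : PW := (tm p.1 q.1, ta (tm p.1 q.2) (tm p.2 q.1))

/-- The translation part. -/
def tr' (p : PW) : T2 := tm p.2 (ti p.1)

/-- The moved point. -/
def act (p : PW) (x : Fin 3 × ZMod 3) : Fin 3 × ZMod 3 :=
  ((piE p.1 x.1).1, (piE p.1 x.1).2 * x.2 + tt (tm (E (piE p.1 x.1).1) (tr' p)))

theorem tr'_pm (p q : PW) (hq : td q.1 ≠ 0) : tr' (pm p q) = ta (cj p.1 (tr' q)) (tr' p) := by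
  simp only [tr', pm, cj, ti_tm, ta_tm, ← tm_assoc]
  congr 1
  rw [tm_assoc p.2 q.1, (unit_facts _ hq).1, (t1_tm _).2]

theorem act_pm (p q : PW) (hp : td p.1 ≠ 0) (hq : td q.1 ≠ 0) (x : Fin 3 × ZMod 3) :
    act (pm p q) x = act p (act q x) := by
  simp only [act, tr'_pm p q hq]
  rw [show (pm p q).1 = tm p.1 q.1 from rfl, piE_mul _ hp _ hq]
  refine Prod.ext rfl ?_
  show _ + tt (tm (E (piE p.1 (piE q.1 x.1).1).1) (ta (cj p.1 (tr' q)) (tr' p))) = _
  rw [tt_ta, coord_cj _ hp]
  ring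

theorem act_one : ∀ x, act (t1, t0) x = x := by decide +kernel

/-! ### the matrices -/

/-- The matrix of a pair. -/
def toM (p : PW) : Matrix (Fin 4) (Fin 4) (ZMod 3) :=
  !![p.1.1, p.2.1, p.1.2.1, p.2.2.1; 0, p.1.1, 0, p.1.2.1;
    p.1.2.2.1, p.2.2.2.1, p.1.2.2.2, p.2.2.2.2; 0, p.1.2.2.1, 0, p.1.2.2.2]

/-- The pair of a matrix. -/
def blk (g : Matrix (Fin 4) (Fin 4) (ZMod 3)) : PW :=
  ((g 0 0, g 0 2, g 2 0, g 2 2), (g 0 1, g 0 3, g 2 1, g 2 3))

theorem blk_toM (p : PW) : blk (toM p) = p := rfl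

theorem toM_pm (p q : PW) : toM p * toM q = toM (pm p q) := by
  ext i j
  fin_cases i <;> fin_cases j <;>
    (simp [Matrix.mul_apply, Fin.sum_univ_four, toM, pm, tm, ta] <;> ring)

theorem toM_det (p : PW) : (toM p).det = td p.1 * td p.1 := by
  simp [Matrix.det_succ_row_zero, Fin.sum_univ_succ, Fin.succAbove, toM, td]
  ring

/-- Two Jordan blocks of size two. -/
def wS : S4 := qS 1 0 0 0 1

theorem mk_wS : mk wS = wpL := rfl

/-- The centralizer. -/
def CS : Subgroup S4 := centralizer {wS}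

theorem mem_CS {g : S4} : g ∈ CS ↔ g * wS = wS * g := mem_centralizer_singleton_iff

theorem wS_toM : wS.1 = toM (t1, t1) := by decide +kernel

theorem eq_toM {g : S4} (h : g ∈ CS) : g.1 = toM (blk g.1) := by
  have e := congrArg Subtype.val (mem_CS.1 h)
  rw [Matrix.SpecialLinearGroup.coe_mul, Matrix.SpecialLinearGroup.coe_mul, wS_toM] at e
  have key : ∀ i j, (g.1 * toM (t1, t1)) i j = (toM (t1, t1) * g.1) i j := fun i j => by rw [e]
  have a := key 0 1; have b := key 0 3; have c := key 2 1; have d := key 2 3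
  have a' := key 1 1; have b' := key 1 3; have c' := key 3 1; have d' := key 3 3
  have a'' := key 0 0; have b'' := key 0 2; have c'' := key 2 0; have d'' := key 2 2
  simp [Matrix.mul_apply, Fin.sum_univ_four, toM, t1] at a b c d a' b' c' d' a'' b'' c'' d''
  have e11 : g.1 1 1 = g.1 0 0 := by linear_combination -a
  have e13 : g.1 1 3 = g.1 0 2 := by linear_combination -b
  have e31 : g.1 3 1 = g.1 2 0 := by linear_combination -c
  have e33 : g.1 3 3 = g.1 2 2 := by linear_combination -d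
  ext i j
  fin_cases i <;> fin_cases j <;> simp [toM, blk, e11, e13, e31, e33, a', b', c', d']

theorem of_toM {g : S4} {p : PW} (h : g.1 = toM p) : g ∈ CS := by
  refine mem_CS.2 (Subtype.ext ?_)
  rw [Matrix.SpecialLinearGroup.coe_mul, Matrix.SpecialLinearGroup.coe_mul, h, wS_toM, toM_pm, toM_pm]
  congr 1
  obtain ⟨A, B⟩ := p
  simp only [pm, (t1_tm _).1, (t1_tm _).2]
  obtain ⟨a, b, c, d⟩ := A; obtain ⟨a', b', c', d'⟩ := B
  simp only [ta, Prod.mk.injEq, true_and]
  refine ⟨?_, ?_, ?_, ?_⟩ <;> ring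

/-- The pair of an element of the centralizer. -/
def pw (g : CS) : PW := blk (g : S4).1

theorem pw_mul (g h : CS) : pw (g * h) = pm (pw g) (pw h) := by
  unfold pw
  rw [Subgroup.coe_mul, Matrix.SpecialLinearGroup.coe_mul, eq_toM g.2, eq_toM h.2, toM_pm, blk_toM,
    blk_toM, blk_toM]

theorem pw_one : pw 1 = (t1, t0) := by decide +kernel

theorem pw_det (g : CS) : td (pw g).1 ≠ 0 := by
  intro h
  have e := (g : S4).2
  rw [eq_toM g.2, toM_det] at e
  rw [show (blk (g : S4).1).1 = (pw g).1 from rfl, h, mul_zero] at e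
  exact zero_ne_one e

instance : MulAction CS (Fin 3 × ZMod 3) where
  smul g x := act (pw g) x
  one_smul x := by show act (pw 1) x = x; rw [pw_one, act_one]
  mul_smul g h x := by
    show act (pw (g * h)) x = act (pw g) (act (pw h) x)
    rw [pw_mul, act_pm _ _ (pw_det g) (pw_det h)]

/-- Nine points. -/
abbrev e9' : Fin 3 × ZMod 3 ≃ Fin 9 := finProdFinEquiv

/-- The action on nine points. -/
def f : CS →* P9 := e9'.permCongrHom.toMonoidHom.comp (MulAction.toPermHom CS (Fin 3 × ZMod 3))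

theorem f_apply (g : CS) (x : Fin 3 × ZMod 3) : f g (e9' x) = e9' (act (pw g) x) := by
  show e9' (act (pw g) (e9'.symm (e9' x))) = _
  rw [Equiv.symm_apply_apply]

theorem f_ext {g : CS} {σ : P9} (h : ∀ x, σ (e9' x) = e9' (act (pw g) x)) : f g = σ := by
  refine Equiv.ext fun k => ?_
  obtain ⟨x, rfl⟩ := e9'.surjective k
  rw [f_apply, h]

theorem piE_blocks : ∀ A : T2, td A ≠ 0 → ∀ i j, (piE A i).1 = (piE A j).1 → i = j := by
  decide +kernel

theorem f_blocks (g : CS) (i j : Fin 9) :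
    (f g i).1 / 3 = (f g j).1 / 3 ↔ i.1 / 3 = j.1 / 3 := by
  obtain ⟨x, rfl⟩ := e9'.surjective i
  obtain ⟨y, rfl⟩ := e9'.surjective j
  have key : ∀ u : Fin 3 × ZMod 3, (e9' u : Fin 9).1 / 3 = u.1.1 := by decide +kernel
  rw [f_apply, f_apply, key, key, key, key, ← Fin.ext_iff, ← Fin.ext_iff]
  exact ⟨piE_blocks _ (pw_det g) _ _, fun h => by simp [act, h]⟩

/-- The permutation of a pair. -/
def perm (p : PW) (hp : td p.1 ≠ 0) : P9 :=
  e9'.permCongr
    { toFun := act p
      invFun := act (ti p.1, tn (tm (tm (ti p.1) p.2) (ti p.1)))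
      left_inv := fun x => by
        rw [← act_pm _ _ (unit_facts _ hp).2.2 hp]
        refine (congrArg (fun r => act r x) ?_).trans (act_one x)
        simp only [pm, (unit_facts _ hp).2.1]
        refine Prod.ext rfl ?_
        obtain ⟨a, b, c, d⟩ := tm (ti p.1) p.2
        have : tm (tn (tm (a, b, c, d) (ti p.1))) p.1 = tn (a, b, c, d) := by
          rw [show tn (tm (a, b, c, d) (ti p.1)) = tm (tn (a, b, c, d)) (ti p.1) by
            obtain ⟨p', q', r', s'⟩ := ti p.1
            simp only [tn, tm, Prod.mk.injEq]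
            refine ⟨?_, ?_, ?_, ?_⟩ <;> ring]
          rw [tm_assoc, (unit_facts _ hp).2.1, (t1_tm _).2]
        rw [this]
        simp [ta, tn, t0]
      right_inv := fun x => by
        rw [← act_pm _ _ hp (unit_facts _ hp).2.2]
        refine (congrArg (fun r => act r x) ?_).trans (act_one x)
        simp only [pm, (unit_facts _ hp).1]
        refine Prod.ext rfl ?_
        rw [show tm p.1 (tn (tm (tm (ti p.1) p.2) (ti p.1))) = tn (tm p.1 (tm (tm (ti p.1) p.2) (ti p.1))) by
          obtain ⟨a, b, c, d⟩ := p.1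
          obtain ⟨p', q', r', s'⟩ := tm (tm (ti (a, b, c, d)) p.2) (ti (a, b, c, d))
          simp only [tn, tm, Prod.mk.injEq]
          refine ⟨?_, ?_, ?_, ?_⟩ <;> ring,
          ← tm_assoc, ← tm_assoc, (unit_facts _ hp).1, (t1_tm _).1]
        obtain ⟨a, b, c, d⟩ := tm p.2 (ti p.1)
        simp [ta, tn, t0] }

theorem sign_mono : ∀ A : T2, ∀ h : td A ≠ 0, Perm.sign (perm (A, t0) h) = 1 := by decide +kernel

theorem td_t1 : td t1 ≠ 0 := by decide

theorem sign_transl : ∀ t : T2, Perm.sign (perm (t1, t) td_t1) = 1 := by decide +kernel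

theorem f_mem (g : CS) : f g ∈ Hm := by
  refine mem_Hm.2 ⟨?_, f_blocks g⟩
  have hp := pw_det g
  have e : f g = perm (t1, tr' (pw g)) td_t1 * perm ((pw g).1, t0) hp := by
    refine f_ext fun x => ?_
    simp only [Perm.mul_apply, perm, Equiv.permCongr_apply, Equiv.symm_apply_apply, Equiv.coe_fn_mk]
    rw [← act_pm (t1, tr' (pw g)) ((pw g).1, t0) td_t1 hp]
    refine congrArg (fun r => e9' (act r x)) ?_
    simp only [pm, (t1_tm _).1, tr', tm_assoc, (unit_facts _ hp).2.1, (t1_tm _).2]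
    obtain ⟨⟨a, b, c, d⟩, a', b', c', d'⟩ := pw g
    simp [ta, t0]
  rw [e, map_mul, sign_mono, sign_transl, one_mul]

/-- The homomorphism onto the stabilizer of the blocks. -/
def fH : CS →* Hm := f.codRestrict Hm f_mem

theorem kernel_mono : ∀ A : T2, td A ≠ 0 → (∀ i, piE A i = (i, 1)) → A = t1 ∨ A = tn t1 := by
  decide +kernel

theorem kernel_transl : ∀ t : T2, (∀ i, tt (tm (E i) t) = 0) → ∃ k : Fin 3,
    t = (((k : ℕ) : ZMod 3), 0, 0, ((k : ℕ) : ZMod 3)) := by decide +kernel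

theorem scalar_sign {r : ZMod 3} (h : r ^ Fintype.card (Fin 4) = 1) : r = 1 ∨ r = -1 := by
  revert r; decide +kernel

theorem center_shift : ∀ k : Fin 3,
    Matrix.scalar (Fin 4) (1 : ZMod 3) =
        (toM (t1, tm (((k : ℕ) : ZMod 3), 0, 0, ((k : ℕ) : ZMod 3)) t1)).adjugate *
          toM (t1, t1) ^ k.val ∧
    Matrix.scalar (Fin 4) (-1 : ZMod 3) =
        (toM (tn t1, tm (((k : ℕ) : ZMod 3), 0, 0, ((k : ℕ) : ZMod 3)) (tn t1))).adjugate *
          toM (t1, t1) ^ k.val := by decide +kernel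

/-- The scalar `-1`. -/
def negS : S4 := ⟨toM (tn t1, t0), by rw [toM_det]; rfl⟩

theorem center_one : (1 : S4).1 = Matrix.scalar (Fin 4) (1 : ZMod 3) := by decide +kernel

theorem center_neg : negS.1 = Matrix.scalar (Fin 4) (-1 : ZMod 3) := by decide +kernel

theorem fH_eq_one {g : CS} : fH g = 1 ↔ mk (g : S4) ∈ zpowers wpL := by
  have hz : ∀ z : S4, z ∈ center S4 → z.1 = toM (t1, t0) ∨ z.1 = toM (tn t1, t0) := by
    intro z hz
    obtain ⟨r, hr, e⟩ := Matrix.SpecialLinearGroup.mem_center_iff.1 hz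
    have : r = 1 ∨ r = -1 := scalar_sign hr
    rcases this with rfl | rfl
    · refine Or.inl ?_; rw [← e]; decide +kernel
    · refine Or.inr ?_; rw [← e]; decide +kernel
  constructor
  · intro h
    have hx : ∀ x, act (pw g) x = x := fun x => e9'.injective (by
      rw [← f_apply, show f g = 1 from congrArg Subtype.val h]; rfl)
    have h1 : ∀ i, (piE (pw g).1 i).1 = i := fun i => congrArg Prod.fst (hx (i, 0))
    have hc : ∀ i, tt (tm (E i) (tr' (pw g))) = 0 := fun i => by
      have := congrArg Prod.snd (hx (i, 0))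
      simpa [act, h1 i] using this
    have h2 : ∀ i, (piE (pw g).1 i).2 = 1 := fun i => by
      have := congrArg Prod.snd (hx (i, 1))
      simpa [act, h1 i, hc i] using this
    obtain ⟨k, hk⟩ := kernel_transl _ hc
    have hA := kernel_mono _ (pw_det g) fun i => Prod.ext (h1 i) (h2 i)
    have hB : (pw g).2 = tm (((k : ℕ) : ZMod 3), 0, 0, ((k : ℕ) : ZMod 3)) (pw g).1 := by
      rw [← hk, tr', tm_assoc, (unit_facts _ (pw_det g)).2.1, (t1_tm _).2]
    have key : ∀ k : Fin 3, mk (g : S4) = mk (wS ^ k.val) → mk (g : S4) ∈ zpowers wpL := fun k e => by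
      rw [e, map_pow, mk_wS]; exact pow_mem (mem_zpowers _) _
    refine key k (QuotientGroup.eq.2 ?_)
    refine Matrix.SpecialLinearGroup.mem_center_iff.2 ?_
    have hg : (g : S4).1 = toM (pw g) := eq_toM g.2
    rw [Matrix.SpecialLinearGroup.coe_mul, Matrix.SpecialLinearGroup.coe_inv, hg,
      Matrix.SpecialLinearGroup.coe_pow, wS_toM]
    rw [show pw g = ((pw g).1, (pw g).2) from rfl, hB]
    rcases hA with e | e <;> rw [e]
    · exact ⟨1, by decide +kernel, (center_shift k).1⟩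
    · exact ⟨-1, by decide +kernel, (center_shift k).2⟩
  · intro h
    obtain ⟨j, hj⟩ := mem_zpowers_iff.1 h
    have hw : (wS : S4) ∈ CS := mem_CS.2 rfl
    have h1 : fH ⟨wS, hw⟩ = 1 := Subtype.ext (f_ext (g := ⟨wS, hw⟩) (σ := 1) fun x => by
      show e9' x = e9' (act (blk wS.1) x)
      refine congrArg e9' ?_
      revert x; decide +kernel)
    have h2 : ∀ z : CS, (z : S4) ∈ center S4 → fH z = 1 := fun z hz' =>
      Subtype.ext (f_ext (g := z) (σ := 1) fun x => by
        show e9' x = e9' (act (blk (z : S4).1) x)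
        refine congrArg e9' ?_
        rcases hz _ hz' with e | e <;> rw [e, blk_toM] <;> revert x <;> decide +kernel)
    have e : g = ⟨wS, hw⟩ ^ j * ((⟨wS, hw⟩ ^ j)⁻¹ * g) := by group
    rw [e, map_mul, map_zpow, h1, one_zpow, one_mul]
    refine h2 _ ((QuotientGroup.eq_one_iff _).1 ?_)
    show mk _ = 1
    rw [Subgroup.coe_mul, Subgroup.coe_inv, map_mul, map_inv, Subgroup.coe_zpow, map_zpow, mk_wS, hj,
      inv_mul_cancel]

/-! ### the order -/

/-- An element of the centralizer from a pair. -/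
def ofPW (p : PW) (hp : td p.1 ≠ 0) : CS :=
  ⟨⟨toM p, by rw [toM_det]; revert hp; generalize td p.1 = d; revert d; decide⟩, of_toM rfl⟩

theorem pw_ofPW (p : PW) (hp : td p.1 ≠ 0) : pw (ofPW p hp) = p := blk_toM p

theorem card_units : Fintype.card {A : T2 // td A ≠ 0} = 48 := by decide +kernel

theorem fH_surjective : Function.Surjective fH := by
  have h1 : 48 * 81 ≤ Nat.card CS := by
    refine le_trans (le_of_eq ?_) (Nat.card_le_card_of_injective
      (fun p : {A : T2 // td A ≠ 0} × T2 => ofPW (p.1.1, p.2) p.1.2) fun p q e => ?_)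
    · rw [Nat.card_prod, Nat.card_eq_fintype_card, card_units, Nat.card_eq_fintype_card]
      rfl
    · have := congrArg pw e
      simp only [pw_ofPW, Prod.mk.injEq] at this
      exact Prod.ext (Subtype.ext this.1) this.2
  have h2 : Nat.card fH.ker ≤ 6 := by
    let κ : Fin 3 × Fin 2 → S4 := fun p => wS ^ p.1.val * (if p.2 = 0 then 1 else negS)
    have hκ : ∀ g : fH.ker, ∃ p, κ p = ((g : CS) : S4) := by
      intro g
      obtain ⟨j, hj⟩ := mem_zpowers_iff.1 (fH_eq_one.1 g.2)
      have hj' : mk (wS ^ (j % 3).toNat) = mk ((g : CS) : S4) := by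
        rw [map_pow, mk_wS, ← zpow_natCast, Int.toNat_of_nonneg (Int.emod_nonneg _ (by norm_num)), ← hj]
        have h3 : wpL ^ (3 : ℤ) = 1 := by
          rw [show (3 : ℤ) = (3 : ℕ) from rfl, zpow_natCast, ← mk_wS, ← map_pow,
            show wS ^ 3 = 1 by decide +kernel, map_one]
        conv_rhs => rw [← Int.emod_add_mul_ediv j 3]
        rw [zpow_add, zpow_mul, h3, one_zpow, mul_one]
      obtain ⟨r, hr, e⟩ := Matrix.SpecialLinearGroup.mem_center_iff.1 (QuotientGroup.eq.1 hj')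
      have hr' : r = 1 ∨ r = -1 := scalar_sign hr
      refine ⟨(⟨(j % 3).toNat, by omega⟩, if r = 1 then 0 else 1), ?_⟩
      show wS ^ (j % 3).toNat * _ = _
      rw [← mul_inv_cancel_left (wS ^ (j % 3).toNat) ((g : CS) : S4)]
      congr 1
      refine Subtype.ext (Eq.trans ?_ e)
      rcases hr' with rfl | rfl
      · rw [if_pos rfl, if_pos rfl]
        exact center_one
      · rw [if_neg (show ¬ ((-1 : ZMod 3) = 1) by decide +kernel),
          if_neg (show ¬ ((1 : Fin 2) = 0) by decide)]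
        exact center_neg
    calc Nat.card fH.ker ≤ Nat.card (Set.range κ) :=
          Nat.card_le_card_of_injective (fun g => ⟨((g : CS) : S4), hκ g⟩) fun a b e =>
            Subtype.ext (Subtype.ext (congrArg (fun q : Set.range κ => (q : S4)) e))
      _ ≤ Nat.card (Fin 3 × Fin 2) :=
          Nat.card_le_card_of_surjective _ Set.rangeFactorization_surjective
      _ = 6 := by rw [Nat.card_prod, Nat.card_fin, Nat.card_fin]
  have h3 : Nat.card fH.range * Nat.card fH.ker = Nat.card CS := by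
    rw [← Nat.card_congr (QuotientGroup.quotientKerEquivRange fH).toEquiv,
      ← Subgroup.card_eq_card_quotient_mul_card_subgroup]
  refine MonoidHom.range_eq_top.1 ((Subgroup.card_eq_iff_eq_top _).1 (le_antisymm
    (Subgroup.card_le_card_group _) ?_))
  rw [LocalAux.card_Hm]
  nlinarith

end CfsgLib.L43Three.WBlock
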