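import Cfsg.Agent.Lib.L43Three.WBlock

/-!
Facts on the centralizer of two Jordan blocks of size two in `PSL₄(3)`: transvections in its translation
part, a Jordan block of size three in every coset of an element of order three outside it (S3373).
-/

set_option autoImplicit false
set_option maxRecDepth 100000
set_option maxHeartbeats 1000000
set_option synthInstance.maxSize 2000
set_option synthInstance.maxHeartbeats 200000

namespace CfsgLib.L43Three.WModel

open Equiv Subgroup CfsgLib.ANineThree CfsgLib.ANineThree.LocalAux WBlock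

/-- The translation with the sum of the three elliptic elements. -/
def u111 : CS := ofPW (t1, (2, 1, 2, 1)) td_t1

/-- The translations by matrices with zero second row. -/
def uPl (a b : ZMod 3) : CS := ofPW (t1, (a, b, 0, 0)) td_t1

/-- The plane of transvections in the model. -/
def plV (a b : ZMod 3) : Fin 3 × Fin 3 × Fin 3 := (-b, a + b, a - b)

theorem u111_act : ∀ x, (xH : P9) (e9' x) = e9' (act (t1, (2, 1, 2, 1)) x) := by decide +kernel

theorem uPl_act : ∀ a b x, jv (plV a b) (e9' x) = e9' (act (t1, (a, b, 0, 0)) x) := by decide +kernel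

theorem fH_u111 : fH u111 = xH := Subtype.ext (f_ext fun x => u111_act x)

theorem fH_uPl (a b : ZMod 3) : fH (uPl a b) = jH (plV a b) :=
  Subtype.ext (f_ext fun x => uPl_act a b x)

/-- A matrix taking `x₁₄` to `u111`. -/
def g111M : Matrix (Fin 4) (Fin 4) (ZMod 3) := !![1, 0, 0, 0; 0, 1, 0, 0; 1, 0, 1, 0; 0, 1, 0, 1]

/-- A matrix taking `x₁₄` to a transvection of the plane. -/
def gPlM (a b : ZMod 3) : Matrix (Fin 4) (Fin 4) (ZMod 3) :=
  if b = 0 then !![1, 0, 0, 0; 0, 0, 0, a; 0, 0, -a, 0; 0, 1, 0, 0]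
  else !![1, 0, 0, 0; 0, 1, 0, 0; 0, 0, b, 0; 0, -(a * b), 0, b]

theorem det_g111 : g111M.det = 1 := by decide +kernel

theorem det_gPl : ∀ a b : ZMod 3, (a ≠ 0 ∨ b ≠ 0) → (gPlM a b).det = 1 := by decide +kernel

theorem g111_eq : g111M * qM 0 0 1 0 0 = toM (t1, (2, 1, 2, 1)) * g111M := by decide +kernel

theorem gPl_eq : ∀ a b : ZMod 3, (a ≠ 0 ∨ b ≠ 0) →
    gPlM a b * qM 0 0 1 0 0 = toM (t1, (a, b, 0, 0)) * gPlM a b := by decide +kernel

theorem isConj_of_eq {g u : S4} (h : g * qS 0 0 1 0 0 = u * g) : IsConj zL (mk u) :=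
  isConj_iff.2 ⟨mk g, by
    show mk g * mk (qS 0 0 1 0 0) * (mk g)⁻¹ = mk u
    rw [← map_inv, ← map_mul, ← map_mul, h, mul_inv_cancel_right]⟩

theorem u111_conj : IsConj zL (mk (u111 : S4)) :=
  isConj_of_eq (g := ⟨g111M, det_g111⟩) (Subtype.ext g111_eq)

theorem uPl_conj (a b : ZMod 3) (h : a ≠ 0 ∨ b ≠ 0) : IsConj zL (mk (uPl a b : S4)) :=
  isConj_of_eq (g := ⟨gPlM a b, det_gPl a b h⟩) (Subtype.ext (gPl_eq a b h))

/-! ### pairs of cube one -/

/-- Scaled pair. -/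
def psc (s : ZMod 3) (p : PW) : PW :=
  ((s * p.1.1, s * p.1.2.1, s * p.1.2.2.1, s * p.1.2.2.2),
    (s * p.2.1, s * p.2.2.1, s * p.2.2.2.1, s * p.2.2.2.2))

/-- The square of the difference with the identity. -/
def psq (p : PW) : PW := pm (ta p.1 (tn t1), p.2) (ta p.1 (tn t1), p.2)

/-- The shifted pair. -/
def shift (k : ZMod 3) (p : PW) : PW :=
  (p.1, ta p.2 (k * p.1.1, k * p.1.2.1, k * p.1.2.2.1, k * p.1.2.2.2))

theorem find_j3 : ∀ A : T2, td A ≠ 0 → ¬ (∀ i, piE A i = (i, 1)) →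
    (∀ i, piE (tm A (tm A A)) i = (i, 1)) → ∀ B : T2,
    (∀ i, tt (tm (E i) (tr' (pm (A, B) (pm (A, B) (A, B))))) = 0) →
    ∃ (k : Fin 3) (s : Fin 2),
      let q := psc (if s = 0 then 1 else -1) (shift ((k : ℕ) : ZMod 3) (A, B))
      pm q (pm q q) = (t1, t0) ∧ psq q ≠ (t0, t0) := by decide +kernel

theorem mono_comm : ∀ A : T2, td A ≠ 0 → ¬ (∀ i, piE A i = (i, 1)) →
    (∀ i, piE (tm A (tm A A)) i = (i, 1)) → ∀ A' : T2, td A' ≠ 0 →
    (∀ i, piE (tm A A') i = piE (tm A' A) i) → ∀ i, piE (tm A' (tm A' A')) i = (i, 1) := by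
  decide +kernel

theorem act_triv {p : PW} (hx : ∀ x, act p x = x) :
    (∀ i, piE p.1 i = (i, 1)) ∧ ∀ i, tt (tm (E i) (tr' p)) = 0 := by
  have h1 : ∀ i, (piE p.1 i).1 = i := fun i => congrArg Prod.fst (hx (i, 0))
  have hc : ∀ i, tt (tm (E i) (tr' p)) = 0 := fun i => by
    have := congrArg Prod.snd (hx (i, 0))
    simpa [act, h1 i] using this
  refine ⟨fun i => Prod.ext (h1 i) ?_, hc⟩
  have := congrArg Prod.snd (hx (i, 1))
  simpa [act, h1 i, hc i] using this

theorem act_pw_of_eq {g g' : CS} (h : fH g = fH g') (x : Fin 3 × ZMod 3) :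
    act (pw g) x = act (pw g') x :=
  e9'.injective (by rw [← f_apply, ← f_apply, show f g = f g' from congrArg Subtype.val h])

theorem piE_of_act {p p' : PW} (h : ∀ x, act p x = act p' x) (i : Fin 3) :
    piE p.1 i = piE p'.1 i := by
  have h1 : (piE p.1 i).1 = (piE p'.1 i).1 := by
    have h0 := congrArg Prod.fst (h (i, 0))
    exact h0
  have e0 := congrArg Prod.snd (h (i, 0))
  have e1 := congrArg Prod.snd (h (i, 1))
  simp only [act, h1] at e0 e1
  refine Prod.ext h1 ?_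
  linear_combination e1 - e0

theorem act_one_fH {g : CS} (h : fH g = 1) (x : Fin 3 × ZMod 3) : act (pw g) x = x := by
  have := act_pw_of_eq (g' := 1) (h.trans (map_one fH).symm) x
  rwa [pw_one, act_one] at this

theorem not_triv {g : CS} (h3 : fH g ^ 3 = 1) (h : ¬ InJ (fH g)) :
    ¬ (∀ i, piE (pw g).1 i = (i, 1)) := fun ht => h ⟨by
      rw [← SubmonoidClass.coe_pow, h3]; rfl, fun k => by
    obtain ⟨⟨b, j⟩, rfl⟩ := e9'.surjective k
    have key : ∀ u : Fin 3 × ZMod 3, (e9' u : Fin 9).1 / 3 = u.1.1 := by decide +kernel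
    show (f g (e9' (b, j))).1 / 3 = _
    rw [f_apply, key, key]
    simp [act, ht b]⟩

theorem pw_cube (g : CS) : pw (g ^ 3) = pm (pw g) (pm (pw g) (pw g)) := by
  rw [show g ^ 3 = g * (g * g) by rw [pow_succ, pow_two, mul_assoc], pw_mul, pw_mul]

/-- An element of order three outside the translations is centralized only by three-elements. -/
theorem comm_pow_nine {g g' : CS} (h3 : fH g ^ 3 = 1) (h : ¬ InJ (fH g))
    (hc : fH g' * fH g = fH g * fH g') : fH g' ^ 9 = 1 := by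
  have hA3 := (act_triv fun x => act_one_fH (g := g ^ 3) (by rw [map_pow]; exact h3) x).1
  rw [pw_cube] at hA3
  have hcc : ∀ i, piE (tm (pw g).1 (pw g').1) i = piE (tm (pw g').1 (pw g).1) i := fun i => by
    have := piE_of_act (act_pw_of_eq (g := g * g') (g' := g' * g) (by rw [map_mul, map_mul, hc])) i
    rwa [pw_mul, pw_mul] at this
  have hmono : ∀ i, piE (pw (g' ^ 3)).1 i = (i, 1) := by
    rw [pw_cube]
    exact mono_comm _ (pw_det g) (not_triv h3 h) hA3 _ (pw_det g') hcc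
  rw [← map_pow, show g' ^ 9 = g' ^ 3 * (g' ^ 3 * g' ^ 3) by rw [← pow_add, ← pow_add]]
  refine Subtype.ext (f_ext (σ := 1) fun x => ?_)
  show e9' x = _
  refine congrArg e9' ?_
  rw [pw_mul, pw_mul, act_pm _ _ (pw_det _) (by rw [← pw_mul]; exact pw_det _),
    act_pm _ _ (pw_det _) (pw_det _)]
  obtain ⟨b, j⟩ := x
  simp only [act, hmono]
  refine Prod.ext rfl ?_
  show j = _
  have key : ∀ j t : ZMod 3, j = 1 * (1 * (1 * j + t) + t) + t := by decide
  exact key _ _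

/-! ### unipotent elements -/

theorem cube_sq {x : S4} {q : PW} (h : x.1 = toM q) (h3 : pm q (pm q q) = (t1, t0))
    (hq : psq q ≠ (t0, t0)) : x ^ 3 = 1 ∧ (x.1 - 1) ^ 2 ≠ 0 := by
  have h1 : toM (t1, t0) = 1 := by decide +kernel
  have h0 : toM (t0, t0) = 0 := by decide +kernel
  refine ⟨Subtype.ext ?_, fun h2 => hq ?_⟩
  · rw [Matrix.SpecialLinearGroup.coe_pow, Matrix.SpecialLinearGroup.coe_one, h, pow_succ, pow_two,
      mul_assoc, toM_pm, toM_pm, h3, h1]
  · have e : x.1 - 1 = toM (ta q.1 (tn t1), q.2) := by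
      rw [h]
      ext i j
      fin_cases i <;> fin_cases j <;> simp [toM, ta, tn, t1, sub_eq_add_neg]
    rw [e, pow_two, toM_pm] at h2
    have := congrArg blk (h2.trans h0.symm)
    rwa [blk_toM, blk_toM] at this

theorem center_sign {z : S4} (hz : z ∈ center S4) :
    z.1 = 1 ∨ z.1 = -1 := by
  obtain ⟨r, hr, e⟩ := Matrix.SpecialLinearGroup.mem_center_iff.1 hz
  rcases scalar_sign hr with rfl | rfl
  · exact Or.inl (by rw [← e, map_one])
  · exact Or.inr (by rw [← e, map_neg, map_one])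

theorem not_conj_square_zero {x y : S4} (hx : x ^ 3 = 1) (hx2 : (x.1 - 1) ^ 2 ≠ 0) (hy : y ^ 3 = 1)
    (hy2 : (y.1 - 1) ^ 2 = 0) : ¬ IsConj (mk y) (mk x) := fun h => by
  obtain ⟨k', hk⟩ := isConj_iff.1 h
  obtain ⟨k, rfl⟩ := QuotientGroup.mk'_surjective (center S4) k'
  rw [show QuotientGroup.mk' (center S4) k = mk k from rfl, ← map_inv, ← map_mul, ← map_mul] at hk
  have hz := QuotientGroup.eq.1 hk
  obtain ⟨c, hc⟩ : ∃ c, c = k * y * k⁻¹ := ⟨_, rfl⟩
  rw [← hc] at hz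
  have hc3 : c ^ 3 = 1 := by rw [hc, conj_pow, hy, mul_one, mul_inv_cancel]
  have hxc : x = c := by
    obtain ⟨z, hzdef⟩ : ∃ z, z = c⁻¹ * x := ⟨_, rfl⟩
    rw [← hzdef] at hz
    have hzx : x = c * z := by rw [hzdef, mul_inv_cancel_left]
    have hcomm : Commute c z := (Subgroup.mem_center_iff.1 hz c)
    have hz3 : z ^ 3 = 1 := by
      rw [hzx, hcomm.mul_pow, hc3, one_mul] at hx
      exact hx
    rcases center_sign hz with e | e
    · rw [hzx, show z = 1 from Subtype.ext e, mul_one]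
    · exfalso
      have e3 := congrArg Subtype.val hz3
      rw [Matrix.SpecialLinearGroup.coe_pow, Matrix.SpecialLinearGroup.coe_one, e] at e3
      exact absurd e3 (by decide +kernel)
  apply hx2
  rw [hxc, hc, Matrix.SpecialLinearGroup.coe_mul, Matrix.SpecialLinearGroup.coe_mul]
  have hinv : (k⁻¹ : S4).1 * k.1 = 1 := by
    rw [← Matrix.SpecialLinearGroup.coe_mul, inv_mul_cancel, Matrix.SpecialLinearGroup.coe_one]
  have hinv' : k.1 * (k⁻¹ : S4).1 = 1 := by
    rw [← Matrix.SpecialLinearGroup.coe_mul, mul_inv_cancel, Matrix.SpecialLinearGroup.coe_one]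
  have e : k.1 * y.1 * (k⁻¹ : S4).1 - 1 = k.1 * (y.1 - 1) * (k⁻¹ : S4).1 := by
    rw [mul_sub, sub_mul, mul_one, hinv']
  rw [e, pow_two,
    show k.1 * (y.1 - 1) * (k⁻¹ : S4).1 * (k.1 * (y.1 - 1) * (k⁻¹ : S4).1) =
      k.1 * (y.1 - 1) * ((k⁻¹ : S4).1 * k.1) * (y.1 - 1) * (k⁻¹ : S4).1 by
      simp only [mul_assoc],
    hinv, mul_one, mul_assoc k.1, ← pow_two, hy2, mul_zero, zero_mul]

theorem unip_facts : wS ^ 3 = 1 ∧ (wS.1 - 1) ^ 2 = 0 ∧ qS 1 0 0 0 2 ^ 3 = 1 ∧
    ((qS 1 0 0 0 2).1 - 1) ^ 2 = 0 := by decide +kernel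

/-- The coset of an element of order three outside the translations meets the class of a Jordan block
of size three or of `x₁₄`. -/
theorem exists_shift (hM : StmtModelThree) {g : CS} (h3 : fH g ^ 3 = 1) (h : ¬ InJ (fH g)) :
    ∃ i : ℕ, IsConj zL (mk ((g : S4) * wS ^ i)) ∨ IsConj j3L (mk ((g : S4) * wS ^ i)) := by
  obtain ⟨hA3, hc⟩ := act_triv fun x => act_one_fH (g := g ^ 3) (by rw [map_pow]; exact h3) x
  rw [pw_cube] at hA3 hc
  obtain ⟨k, s, hq, hq2⟩ := find_j3 _ (pw_det g) (not_triv h3 h) hA3 (pw g).2 hc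
  refine ⟨k.val, ?_⟩
  obtain ⟨r, hrdef⟩ : ∃ r : ZMod 3, r = if s = 0 then 1 else -1 := ⟨_, rfl⟩
  have hr : r = 1 ∨ r = -1 := by
    rw [hrdef]; fin_cases s
    · exact Or.inl rfl
    · exact Or.inr rfl
  rw [← hrdef] at hq hq2
  obtain ⟨z, hz, hzr⟩ : ∃ z ∈ center S4, z.1 = toM ((r, 0, 0, r), t0) := by
    rcases hr with rfl | rfl
    · exact ⟨1, one_mem _, by decide +kernel⟩
    · refine ⟨negS, Matrix.SpecialLinearGroup.mem_center_iff.2 ⟨-1, by decide +kernel, ?_⟩, rfl⟩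
      exact center_neg.symm
  obtain ⟨x, hx⟩ : ∃ x, x = z * ((g : S4) * wS ^ k.val) := ⟨_, rfl⟩
  have hmk : mk x = mk ((g : S4) * wS ^ k.val) := by
    rw [hx, map_mul mk z, show mk z = 1 from (QuotientGroup.eq_one_iff _).2 hz, one_mul]
  rw [← hmk]
  have hxv : x.1 = toM (psc r (shift ((k.val : ℕ) : ZMod 3) (pw g))) := by
    have hwk : ∀ k : Fin 3, wS.1 ^ k.val = toM (t1, (((k : ℕ) : ZMod 3), 0, 0, ((k : ℕ) : ZMod 3))) := by
      decide +kernel
    rw [hx, Matrix.SpecialLinearGroup.coe_mul, Matrix.SpecialLinearGroup.coe_mul,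
      Matrix.SpecialLinearGroup.coe_pow, hzr, hwk, eq_toM g.2, toM_pm, toM_pm]
    congr 1
    show _ = psc r (shift _ (pw g))
    rw [show blk (g : S4).1 = pw g from rfl]
    obtain ⟨⟨a, b, c, d⟩, a', b', c', d'⟩ := pw g
    simp only [pm, psc, shift, tm, ta, t0, t1, Prod.mk.injEq]
    refine ⟨⟨?_, ?_, ?_, ?_⟩, ?_, ?_, ?_, ?_⟩ <;> ring
  obtain ⟨hx3, hx2⟩ := cube_sq hxv hq hq2
  have ho : orderOf (mk x) = 3 := by
    haveI : Fact (Nat.Prime 3) := ⟨Nat.prime_three⟩
    refine orderOf_eq_prime (by rw [← map_pow, hx3, map_one]) fun e => ?_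
    refine not_conj_square_zero hx3 hx2 (one_pow 3) (y := 1) ?_ (by rw [map_one, e])
    rw [Matrix.SpecialLinearGroup.coe_one, sub_self, pow_two, mul_zero]
  rcases hM.1 _ ho with e | e | e | e
  · exact Or.inl e
  · exact absurd e (not_conj_square_zero hx3 hx2 unip_facts.1 unip_facts.2.1)
  · exact absurd e (not_conj_square_zero hx3 hx2 unip_facts.2.2.1 unip_facts.2.2.2)
  · exact Or.inr e

/-! ### exchanging the two classes -/

/-- `diag (1, 1, -1, 1)` -/
def DM : Matrix (Fin 4) (Fin 4) (ZMod 3) := Matrix.diagonal ![1, 1, -1, 1]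

theorem DM_facts : DM * DM = 1 ∧ DM.det * DM.det = 1 := by decide +kernel

/-- Conjugation by `diag (1, 1, -1, 1)`. -/
def θS : S4 →* S4 where
  toFun g := ⟨DM * g.1 * DM, by
    rw [Matrix.det_mul, Matrix.det_mul, g.2, mul_one, DM_facts.2]⟩
  map_one' := Subtype.ext (by
    show DM * (1 : S4).1 * DM = 1
    rw [Matrix.SpecialLinearGroup.coe_one, mul_one, DM_facts.1])
  map_mul' g h := Subtype.ext (by
    show DM * (g * h).1 * DM = DM * g.1 * DM * (DM * h.1 * DM)
    rw [Matrix.SpecialLinearGroup.coe_mul,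
      show DM * g.1 * DM * (DM * h.1 * DM) = DM * g.1 * (DM * DM) * h.1 * DM by simp only [mul_assoc],
      DM_facts.1, mul_one, ← mul_assoc])

theorem θS_invol (g : S4) : θS (θS g) = g := Subtype.ext (by
  show DM * (DM * g.1 * DM) * DM = g.1
  rw [← mul_assoc, ← mul_assoc, DM_facts.1, one_mul, mul_assoc, DM_facts.1, mul_one])

/-- The induced automorphism of `PSL₄(3)`. -/
def θ : L4 →* L4 := QuotientGroup.map (center S4) (center S4) θS fun g hg => by
  refine Subgroup.mem_comap.2 (Subgroup.mem_center_iff.2 fun h => ?_)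
  have := congrArg θS (Subgroup.mem_center_iff.1 hg (θS h))
  rwa [map_mul, map_mul, θS_invol] at this

theorem θ_mk (g : S4) : θ (mk g) = mk (θS g) := rfl

theorem θ_invol (x : L4) : θ (θ x) = x := by
  obtain ⟨g, rfl⟩ := QuotientGroup.mk'_surjective (center S4) x
  show θ (θ (mk g)) = mk g
  rw [θ_mk, θ_mk, θS_invol]

theorem θ_named : θ zL = zL ∧ θ j3L = j3L ∧ θ wpL = wmL := by
  have h : θS (qS 0 0 1 0 0) = qS 0 0 1 0 0 ∧ θS (qS 1 0 0 1 0) = qS 1 0 0 1 0 ∧
      θS (qS 1 0 0 0 1) = qS 1 0 0 0 2 := by decide +kernel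
  exact ⟨congrArg mk h.1, congrArg mk h.2.1, congrArg mk h.2.2⟩

end CfsgLib.L43Three.WModel
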